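import Cfsg.Agent.Solv.HaradaTools

/-!
# Harada's theorem on self-centralising elementary abelian subgroups of order eight, part I
-/

set_option autoImplicit false

open scoped commutatorElement Pointwise
open Subgroup

namespace Cfsg.Lib.Solv.PG

variable {G : Type*} [Group G]

theorem mul_mem_of_card_eq_two_mul [Finite G] {K M : Subgroup G} (hKM : K ≤ M)
    (h : Nat.card M = 2 * Nat.card K) {x y : G} (hx : x ∈ M) (hy : y ∈ M) (hxK : x ∉ K)
    (hyK : y ∉ K) : x * y ∈ K :=
  (mul_mem_iff_of_index_two (H := K.subgroupOf M) (relIndex_eq_of_card_eq_mul hKM h)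
    (a := ⟨x, hx⟩) (b := ⟨y, hy⟩)).mpr (iff_of_false hxK hyK)

theorem normal_of_le_center' {H : Subgroup G} (h : H ≤ center G) : H.Normal :=
  ⟨fun x hx g => by rwa [mem_center_iff.mp (h hx) g, mul_inv_cancel_right]⟩

theorem commutator_of_inverted {a w : G} (h : a * w * a⁻¹ = w⁻¹) : ⁅w, a⁆ = w * w := by
  rw [commutatorElement_def, mul_assoc, mul_assoc, ← mul_assoc a, ← conj_inv, h, inv_inv]

theorem commute_commutator_of_sq {a s : G} (ha : a ^ 2 = 1) (h : ⁅s, a⁆ ^ 2 = 1) :
    ⁅⁅s, a⁆, a⁆ = 1 :=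
  commutatorElement_eq_one_iff_mul_comm.mpr (mul_inv_eq_iff_eq_mul.mp
    ((inverted_commutator ha s).trans (inv_eq_self_of_sq h))).symm

theorem inv_mul_mem_cent {s t a : G} (h : ⁅s, a⁆ = ⁅t, a⁆) : ⁅t⁻¹ * s, a⁆ = 1 := by
  rw [commutatorElement_mul_left_eq_conj_mul, h]
  simp only [commutatorElement_def]; group

theorem secRank_quotient_of_card_eight [Finite G] (hG : IsPGroup 2 G) (U : Subgroup G) [U.Normal]
    [IsMulCommutative U] (hU : Nat.card U = 8) :
    SectionalPRankLE 2 2 (G ⧸ centralizer (U : Set G)) ∧ (centralizer (U : Set G)).index ≤ 8 := by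
  have : Fact (Nat.Prime 2) := ⟨Nat.prime_two⟩
  obtain ⟨V, hV, -, h1, h2⟩ := exists_normal_step_down hG (M := ⊥) (N := U)
    (bot_lt_iff_ne_bot.mpr (by rintro rfl; simp at hU))
  obtain ⟨w, hw, hwV⟩ := SetLike.exists_of_lt h1
  have h3 := sup_zpowers_eq_of_card_eq_prime_mul Nat.prime_two h1.le h2 hw hwV
  have h4 : ∀ g : G, ⁅g, w⁆ ∈ V := fun g => by
    rw [← commutatorElement_inv]
    exact inv_mem ((commutator_le_of_card_eq_prime_mul (isPGroup_top hG) (hG.to_subgroup U)
      le_normalizer_of_normal le_normalizer_of_normal h1.le h2).1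
        (commutator_mem_commutator hw (mem_top g)))
  refine ⟨secRank_quotient_centralizer hG V U (by omega) h3.symm h4, ?_⟩
  have h5 : centralizer (V : Set G) ⊓ centralizer ({w} : Set G) ≤ centralizer (U : Set G) := by
    rw [le_centralizer_iff, ← h3, sup_le_iff, zpowers_le]
    exact ⟨le_centralizer_iff.mp inf_le_left, fun g hg => mem_centralizer_singleton_iff.mp hg.2⟩
  have h6 := FT.BG4.relIndex_centralizer_le_card (H := ⊤) fun g _ => h4 g
  rw [relIndex_top_right] at h6
  exact ((index_antitone h5).trans index_inf_le).trans (Nat.mul_le_mul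
    (FT.BG4.index_centralizer_le hG V (by omega)) (h6.trans (show _ ≤ 4 by omega)))

theorem secRank_four_of_card_centralizer_eq [Finite G] (hG : IsPGroup 2 G) (U : Subgroup G)
    [U.Normal] [IsMulCommutative U] (hU : Nat.card U = 8)
    (hT : Nat.card (centralizer (U : Set G)) ≤ 8) : SectionalPRankLE 2 4 G := by
  have : Fact (Nat.Prime 2) := ⟨Nat.prime_two⟩
  have hC : centralizer (centralizer (U : Set G) : Set G) ≤ centralizer (U : Set G) :=
    centralizer_le (le_centralizer U)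
  refine secRank_four_of_small hG _ (by omega) hC (secRank_quotient_of_card_eight hG U hU).1
    fun H hH => ?_
  obtain ⟨x, hx, hxT⟩ := SetLike.not_le_iff_exists.mp (show ¬ H ≤ centralizer (U : Set G) from
    fun h => hH (by
      rw [(Subgroup.map_eq_bot_iff H).mpr (h.trans (QuotientGroup.ker_mk' _).ge)]; infer_instance))
  have h7 := prime_mul_card_le_of_lt (hG.to_subgroup _)
    (inf_lt_right.mpr fun h7 : centralizer (U : Set G) ≤ _ =>
      hxT (hC fun t ht => mem_centralizer_singleton_iff.mp (h7 ht)))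
  exact ⟨x, hx, by omega⟩

/-- `A` is a self-centralising `E₈` and `U` is a normal elementary abelian subgroup of largest
order, at least eight. -/
structure E8Setup (A U : Subgroup G) : Prop where
  sqA : ∀ a ∈ A, a ^ 2 = 1
  cardA : Nat.card A = 8
  centA : centralizer (A : Set G) ≤ A
  normalU : U.Normal
  sqU : ∀ u ∈ U, u ^ 2 = 1
  le_card : 8 ≤ Nat.card U
  max : ∀ V : Subgroup G, V.Normal → (∀ v ∈ V, v ^ 2 = 1) → Nat.card V ≤ Nat.card U

namespace E8Setup

variable {A U : Subgroup G} (h : E8Setup A U)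
include h

theorem commA {a b : G} (ha : a ∈ A) (hb : b ∈ A) : Commute a b := mul_comm_of_sq_eq_one h.sqA ha hb

theorem commU {a b : G} (ha : a ∈ U) (hb : b ∈ U) : Commute a b := mul_comm_of_sq_eq_one h.sqU ha hb

theorem le_cent : U ≤ centralizer (U : Set G) := fun _ ha _ hb => h.commU hb ha

section two

variable [Finite G] (hG : IsPGroup 2 G) (h2 : Nat.card (A ⊓ U : Subgroup G) = 2)
include hG h2

theorem le_center : A ⊓ U ≤ center G := by
  have : Fact (Nat.Prime 2) := ⟨Nat.prime_two⟩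
  have := h.normalU
  obtain ⟨z, hz, hz1, hz2⟩ := exists_mem_center_orderOf_eq hG U
    (by rintro rfl; simpa using h.le_card)
  rw [← eq_of_le_of_card_eq (zpowers_le.mpr (show z ∈ A ⊓ U from
    ⟨h.centA (center_le_centralizer _ hz1), hz⟩)) (by rw [Nat.card_zpowers, hz2, h2])]
  exact zpowers_le.mpr hz1

theorem exists_gen {a : G} (ha : a ∈ A) (haU : a ∉ U) :
    ∃ b ∈ A, ∀ c : G, ⁅c, a⁆ = 1 → ⁅c, b⁆ = 1 → c ∈ A := by
  have hZ := h.le_center hG h2
  have := normal_of_le_center' hZ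
  have h1 := card_sup_zpowers (K := A ⊓ U) Nat.prime_two (le_normalizer_of_normal (mem_top a))
    (fun h1 => haU h1.2) (h.sqA a ha ▸ one_mem _)
  have h3 : A ⊓ U ⊔ zpowers a ≤ A := sup_le inf_le_left (zpowers_le.mpr ha)
  obtain ⟨b, hb, hb1⟩ := SetLike.exists_of_lt (lt_of_le_of_ne h3 fun h4 => by
    rw [h4, h2, h.cardA] at h1; omega)
  refine ⟨b, hb, fun c h4 h5 => h.centA ?_⟩
  rw [← sup_zpowers_eq_of_card_eq_prime_mul Nat.prime_two h3 (by rw [h1, h2, h.cardA]) hb hb1,
    ← zpowers_le, le_centralizer_iff, sup_le_iff, sup_le_iff, zpowers_le, zpowers_le,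
    zpowers_eq_closure, centralizer_closure]
  exact ⟨⟨hZ.trans (center_le_centralizer _), mem_centralizer_singleton_iff.mpr
    (commutatorElement_eq_one_iff_mul_comm.mp h4).symm⟩, mem_centralizer_singleton_iff.mpr
    (commutatorElement_eq_one_iff_mul_comm.mp h5).symm⟩

theorem card_cent_inf_le {a : G} (ha : a ∈ A) (haU : a ∉ U) {X : Subgroup G}
    (hX : ∀ x ∈ X, ∀ b ∈ A, ⁅x, b⁆ ∈ U) :
    Nat.card (centralizer ({a} : Set G) ⊓ X : Subgroup G) ≤ 2 * Nat.card (A ⊓ X : Subgroup G) := by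
  obtain ⟨b, hb, h1⟩ := h.exists_gen hG h2 ha haU
  refine (card_le_mul_card_centralizer (H := centralizer {a} ⊓ X) (S := A ⊓ U) (v := b)
    fun x hx => ⟨h1 _ ?_
    (commute_commutator_of_sq (h.sqA b hb) (h.sqU _ (hX x hx.2 b hb))), hX x hx.2 b hb⟩).trans
    (Nat.mul_le_mul h2.le (card_le_of_le fun c hc =>
      ⟨h1 c (mem_cent_iff.mp hc.2.1) (mem_cent_iff.mp hc.1), hc.2.2⟩))
  have h3 : b ∈ centralizer ({a} : Set G) := mem_centralizer_singleton_iff.mpr (h.commA hb ha)
  exact mem_cent_iff.mp (mul_mem (mul_mem (mul_mem hx.1 h3) (inv_mem hx.1)) (inv_mem h3))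

theorem card_cent_le {a : G} (ha : a ∈ A) (haU : a ∉ U) :
    Nat.card (centralizer ({a} : Set G) ⊓ U : Subgroup G) ≤ 4 :=
  have := h.normalU
  (h.card_cent_inf_le hG h2 ha haU fun _ hx b _ => commutator_mem_left hx b).trans (by omega)

theorem inf_cent_le : A ⊓ centralizer (U : Set G) ≤ A ⊓ U := fun a ha => ⟨ha.1, by
  by_contra haU
  have h1 := h.card_cent_le hG h2 ha.1 haU
  have h3 := h.le_card
  rw [inf_eq_right.mpr fun u hu => mem_centralizer_singleton_iff.mpr (ha.2 u hu)] at h1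
  omega⟩

theorem card_le_eight_mul {X : Subgroup G} (hX : ∀ x ∈ X, ∀ b ∈ A, ⁅x, b⁆ ∈ U) :
    Nat.card X ≤ 8 * Nat.card (A ⊓ X : Subgroup G) := by
  obtain ⟨a, ha, haU⟩ := SetLike.not_le_iff_exists.mp (show ¬ A ≤ U from fun h1 => by
    rw [inf_eq_left.mpr h1, h.cardA] at h2; omega)
  have h1 := card_le_mul_card_centralizer (H := X) (S := centralizer {a} ⊓ U) (v := a) fun x hx =>
    ⟨mem_cent_iff.mpr (commute_commutator_of_sq (h.sqA a ha) (h.sqU _ (hX x hx a ha))), hX x hx a ha⟩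
  exact h1.trans ((Nat.mul_le_mul (h.card_cent_le hG h2 ha haU)
    (h.card_cent_inf_le hG h2 ha haU hX)).trans_eq (by ring))

theorem card_le_sixteen {X : Subgroup G} (hX : ∀ x ∈ X, ∀ b ∈ A, ⁅x, b⁆ ∈ U)
    (hXT : X ≤ centralizer (U : Set G)) : Nat.card X ≤ 16 := by
  have h1 := card_le_of_le ((inf_le_inf_left A hXT).trans (h.inf_cent_le hG h2))
  have h3 := h.card_le_eight_mul hG h2 hX
  omega

theorem mem_of_commutator_mem {a w : G} (ha : a ∈ A) (haU : a ∉ U) (hw : ∀ b ∈ A, ⁅w, b⁆ ∈ U)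
    (hwT : w ∈ centralizer (U : Set G)) (h1 : ⁅w, a⁆ ∈ A) : w ∈ U := by
  have : Fact (Nat.Prime 2) := ⟨Nat.prime_two⟩
  have := h.normalU
  have := normal_of_le_center' (h.le_center hG h2)
  by_contra hwU
  have hX : ∀ x ∈ U ⊔ zpowers w, ∀ b ∈ A, ⁅x, b⁆ ∈ U := fun x hx =>
    mem_cmod.mp (sup_le (le_cmod U A) (zpowers_le.mpr (mem_cmod.mpr hw)) hx)
  have hXT : U ⊔ zpowers w ≤ centralizer (U : Set G) := sup_le h.le_cent (zpowers_le.mpr hwT)
  have h3 := h.card_le_sixteen hG h2 hX hXT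
  have h4 := prime_mul_card_le_of_lt (hG.to_subgroup _) (lt_of_le_of_ne le_sup_left
    fun h4 => hwU (h4 ▸ mem_sup_right (mem_zpowers w)) : U < U ⊔ zpowers w)
  have h5 := h.le_card
  have h6 := card_le_mul_card_centralizer (H := U) (S := centralizer {a} ⊓ U) (v := a) fun x hx =>
    ⟨mem_cent_iff.mpr (commute_commutator_of_sq (h.sqA a ha) (h.sqU _ (commutator_mem_left hx a))),
      commutator_mem_left hx a⟩
  have h7 := h.card_cent_le hG h2 ha haU
  have h8 := card_dvd_of_le (inf_le_right : centralizer ({a} : Set G) ⊓ U ≤ U)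
  have h9 : Nat.card U = 2 * Nat.card (centralizer ({a} : Set G) ⊓ U : Subgroup G) := by
    have h9 : Nat.card U = 8 := by omega
    rw [h9] at h6 h8 ⊢
    generalize Nat.card (centralizer ({a} : Set G) ⊓ U : Subgroup G) = n at *
    interval_cases n <;> omega
  have h10 := (commutator_le_of_card_eq_prime_mul (hG.to_subgroup A) (hG.to_subgroup U)
    (le_normalizer_inf (le_trans (fun b hb => mem_centralizer_singleton_iff.mpr (h.commA hb ha))
      le_normalizer) le_normalizer_of_normal) le_normalizer_of_normal inf_le_right h9).1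
  have h11 : U ⊔ zpowers w ≤ cmod (A ⊓ U) {a} := sup_le (fun u hu => mem_cmod_singleton.mpr
    ⟨h.centA fun b hb => ?_, commutator_mem_left hu a⟩)
    (zpowers_le.mpr (mem_cmod_singleton.mpr ⟨h1, hw a ha⟩))
  · have h12 := card_le_mul_card_centralizer fun x hx => mem_cmod_singleton.mp (h11 hx)
    have h13 := h.card_cent_inf_le hG h2 ha haU hX
    have h14 := card_le_of_le ((inf_le_inf_left A hXT).trans (h.inf_cent_le hG h2))
    rw [h2] at h12
    omega
  · have h12 := inv_mem (h10 (commutator_mem_commutator hu hb))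
    rw [commutatorElement_inv] at h12
    rw [← mul_inv_eq_iff_eq_mul, conjugate_commutatorElement, (h.commA hb ha).eq,
      mul_inv_cancel_right, ← inv_mul_cancel_right (b * u * b⁻¹) u, ← commutatorElement_def,
      commutatorElement_mul_left_eq_conj_mul, mem_cent_iff.mp h12.1, mul_one,
      (h.commU h12.2 (commutator_mem_left hu a)).eq, mul_inv_cancel_right]

theorem mem_cmod_of {s : G} (hs : ∀ a ∈ A, ⁅s, a⁆ ∈ centralizer (U : Set G) ∧
    ∀ b ∈ A, ⁅⁅s, a⁆, b⁆ ∈ U) {a : G} (ha : a ∈ A) : ⁅s, a⁆ ∈ U := by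
  have := h.normalU
  by_cases haU : a ∈ U
  · exact commutator_mem_right haU s
  obtain ⟨h1, h3⟩ := hs a ha
  refine h.mem_of_commutator_mem hG h2 ha haU h3 h1 (h.centA fun b hb => ?_)
  rw [commutator_of_inverted (inverted_commutator (h.sqA a ha) s), eq_comm,
    ← commutatorElement_eq_one_iff_mul_comm,
    commutatorElement_mul_left_of_commute (h1 _ (h3 b hb)).symm (Commute.refl _), ← sq,
    h.sqU _ (h3 b hb)]

theorem secRank_of_card_two : SectionalPRankLE 2 4 G := by
  have : Fact (Nat.Prime 2) := ⟨Nat.prime_two⟩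
  have := h.normalU
  have := isMulCommutative_of_sq_eq_one h.sqU
  set T := centralizer (U : Set G) with hT
  have hAc : A ≤ cmod U A := fun a ha => mem_cmod.mpr fun b hb =>
    commutatorElement_eq_one_iff_commute.mpr (h.commA ha hb) ▸ one_mem U
  have h1 : T ≤ cmod U A := by
    by_contra h1
    obtain ⟨t, ht, ht1, -, -, h3⟩ := exists_step_elt (hG.to_subgroup A) (hG.to_subgroup T)
      (le_normalizer_inf (hAc.trans le_normalizer) le_normalizer_of_normal) le_normalizer_of_normal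
      (inf_lt_right.mpr h1)
    exact ht1 ⟨mem_cmod.mpr fun a ha => h.mem_cmod_of hG h2 (fun b hb =>
      ⟨(h3 b (mem_sup_left hb)).2, mem_cmod.mp (h3 b (mem_sup_left hb)).1⟩) ha, ht⟩
  have h3 := h.card_le_sixteen hG h2 (fun x hx => mem_cmod.mp (h1 hx)) le_rfl
  have h4 := h.le_card
  have h5 : Nat.card U ≤ Nat.card T := card_le_of_le h.le_cent
  by_cases h6 : Nat.card T ≤ 8
  · exact secRank_four_of_card_centralizer_eq hG U (by omega) h6
  have h7 : Nat.card T = 16 := by
    obtain ⟨n, hn⟩ := IsPGroup.exists_card_eq (hG.to_subgroup T)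
    have : 3 < n := (Nat.pow_lt_pow_iff_right one_lt_two).mp (by omega)
    have := Nat.pow_le_pow_right two_pos this
    omega
  have h8 : IsMulCommutative T := by
    rcases h.le_cent.eq_or_lt with h8 | h8
    · exact hT ▸ h8 ▸ this
    · obtain ⟨w, hw, hwU⟩ := SetLike.exists_of_lt h8
      have h9 : 2 * Nat.card U ≤ Nat.card T := prime_mul_card_le_of_lt (hG.to_subgroup _) h8
      rw [← sup_zpowers_eq_of_card_eq_prime_mul (K := T) Nat.prime_two h8.le (by omega) hw hwU]
      exact isMulCommutative_sup_zpowers hw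
  have h9 : T ⊓ A = A ⊓ U := le_antisymm (fun x hx => h.inf_cent_le hG h2 ⟨hx.2, hx.1⟩)
    fun x hx => ⟨h.le_cent hx.2, hx.1⟩
  have h10 : cmod T A ≤ T ⊔ A := by
    have h11 : cmod T A ≤ cmod U A := fun s hs => mem_cmod.mpr fun a ha => h.mem_cmod_of hG h2
      (fun b hb => ⟨mem_cmod.mp hs b hb, mem_cmod.mp (h1 (mem_cmod.mp hs b hb))⟩) ha
    have h12 := h.card_le_eight_mul hG h2 (X := cmod U A) fun x => mem_cmod.mp
    have h13 := card_sup_mul_card_inf (K := T) (H := A) le_normalizer_of_normal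
    rw [inf_eq_left.mpr hAc, h.cardA] at h12
    rw [h9, h2, h7, h.cardA] at h13
    exact h11.trans (eq_of_le_of_card_ge (sup_le h1 hAc) (by omega)).ge
  obtain ⟨x, hx⟩ := exists_card_centralizer_le (hG.to_quotient T)
    (B := A.map (QuotientGroup.mk' T)) (by
      have h11 := relIndex_mul_card_inf T A
      rw [h9, h2, h.cardA] at h11
      rw [← relIndex_ker, QuotientGroup.ker_mk']
      omega) fun x hx => by
    obtain ⟨x, rfl⟩ := QuotientGroup.mk'_surjective T x
    rw [← mem_comap, comap_map_eq, QuotientGroup.ker_mk', sup_comm]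
    exact h10 hx
  refine secRank_four_of_card_centralizer hG T h3 (centralizer_le h.le_cent) hx fun z hz h11 => ?_
  obtain ⟨t, ht, a, ha, rfl⟩ := (mem_sup_iff_of_le_normalizer le_normalizer_of_normal).mp
    (h10 (mem_cmod.mpr fun b _ => h11 b))
  have haU : a ∉ U := fun h12 => hz (mul_mem ht (h.le_cent h12))
  refine (card_le_of_le fun c hc => ?_).trans (h.card_cent_le hG h2 ha haU)
  have h12 : ⁅c, a⁆ = 1 := by
    have h13 := mem_centralizer_singleton_iff.mp hc.1
    rw [← mul_assoc, mul_comm_of_mem hc.2 ht, mul_assoc, mul_assoc, mul_right_inj] at h13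
    exact commutatorElement_eq_one_iff_mul_comm.mpr h13
  exact ⟨mem_cent_iff.mpr h12,
    h.mem_of_commutator_mem hG h2 ha haU (mem_cmod.mp (h1 hc.2)) hc.2 (h12 ▸ one_mem A)⟩

end two

end E8Setup

end Cfsg.Lib.Solv.PG
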