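import Cfsg.Prelude.Def_SylowChains
import Cfsg.Agent.Local.StronglyEmb
import Cfsg.Agent.Solv.CoprimeGen
import Cfsg.Agent.Solv.CyclicP
import Cfsg.Agent.S0016

/-!
The graph on Sylow `p`-subgroups (edges: nontrivial intersections) and strongly `p`-embedded
subgroups.
-/

set_option autoImplicit false

namespace Cfsg.Lib.Solv

open scoped Pointwise commutatorElement
open Cfsg.Lib.Local

variable {G : Type*} [Group G] {p : ℕ}

/-- Connectedness in the graph of Sylow `p`-subgroups. -/
def SylowConn (S T : Sylow p G) : Prop :=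
  Relation.ReflTransGen (fun S T : Sylow p G => (S : Subgroup G) ⊓ (T : Subgroup G) ≠ ⊥) S T

theorem SylowConn.refl (S : Sylow p G) : SylowConn S S := Relation.ReflTransGen.refl

theorem SylowConn.trans {S T U : Sylow p G} (h : SylowConn S T) (h' : SylowConn T U) :
    SylowConn S U := Relation.ReflTransGen.trans h h'

theorem SylowConn.single {S T : Sylow p G} (h : (S : Subgroup G) ⊓ (T : Subgroup G) ≠ ⊥) :
    SylowConn S T := Relation.ReflTransGen.single h

theorem SylowConn.symm {S T : Sylow p G} (h : SylowConn S T) : SylowConn T S := by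
  induction h with
  | refl => exact SylowConn.refl _
  | tail _ h ih => exact (SylowConn.single (by rwa [inf_comm])).trans ih

theorem SylowConn.smul {S T : Sylow p G} (h : SylowConn S T) (g : G) :
    SylowConn (g • S) (g • T) := by
  induction h with
  | refl => exact SylowConn.refl _
  | tail _ h ih =>
    refine ih.trans (SylowConn.single ?_)
    intro h0
    apply h
    rw [Sylow.coe_subgroup_smul, Sylow.coe_subgroup_smul, ← Subgroup.smul_inf] at h0
    simpa using congrArg (fun K : Subgroup G => (MulAut.conj g)⁻¹ • K) h0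

theorem SylowConn.exists_chain {S T : Sylow p G} (h : SylowConn S T) :
    ∃ (n : ℕ) (c : Fin (n + 1) → Sylow p G), c 0 = S ∧ c (Fin.last n) = T ∧
      ∀ i : Fin n, c i.castSucc ≠ c i.succ ∧
        (c i.castSucc : Subgroup G) ⊓ (c i.succ : Subgroup G) ≠ ⊥ := by
  induction h with
  | refl => exact ⟨0, fun _ => S, rfl, rfl, fun i => i.elim0⟩
  | @tail U V _ h ih =>
    obtain ⟨n, c, h0, h1, h2⟩ := ih
    by_cases hUV : U = V
    · exact ⟨n, c, h0, h1.trans hUV, h2⟩
    · refine ⟨n + 1, Fin.snoc (α := fun _ => Sylow p G) c V, ?_, by simp, ?_⟩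
      · rw [← h0]
        exact Fin.snoc_castSucc (α := fun _ => Sylow p G) V c 0
      · intro i
        refine Fin.lastCases ?_ (fun j => ?_) i
        · simp only [Fin.snoc_castSucc, Fin.succ_last, Fin.snoc_last, h1]
          exact ⟨hUV, h⟩
        · rw [Fin.snoc_castSucc, Fin.succ_castSucc, Fin.snoc_castSucc]
          exact h2 j

theorem sylowConn_of_chain {n : ℕ} (c : Fin (n + 1) → Sylow p G)
    (h : ∀ i : Fin n, (c i.castSucc : Subgroup G) ⊓ (c i.succ : Subgroup G) ≠ ⊥)
    (i : Fin (n + 1)) : SylowConn (c 0) (c i) := by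
  induction i using Fin.induction with
  | zero => exact SylowConn.refl _
  | succ i ih => exact ih.trans (SylowConn.single (h i))

theorem isSylowChainConnected_iff :
    IsSylowChainConnected p G ↔ ∀ S T : Sylow p G, SylowConn S T := by
  constructor
  · intro h S T
    obtain ⟨n, c, h0, h1, -, h2⟩ := h S T
    rw [← h0, ← h1]
    exact sylowConn_of_chain c (fun i => (h2 i).2) _
  · intro h S T
    by_cases hST : S = T
    · subst hST
      exact ⟨0, fun _ => S, rfl, rfl, fun _ => inf_le_left, fun i => i.elim0⟩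
    by_cases h0 : (S : Subgroup G) ⊓ (T : Subgroup G) = ⊥
    · obtain ⟨n, c, h1, h2, h3⟩ := (h S T).exists_chain
      exact ⟨n, c, h1, h2, fun _ => h0 ▸ bot_le, h3⟩
    · refine ⟨1, ![S, T], rfl, rfl, ?_, ?_⟩
      · intro i
        fin_cases i
        · exact inf_le_left
        · exact inf_le_right
      · intro i
        fin_cases i
        exact ⟨hST, h0⟩

/-- The stabiliser of the connected component of `S`. -/
def sylowConnStab (S : Sylow p G) : Subgroup G where
  carrier := {g | SylowConn S (g • S)}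
  one_mem' := by simpa using SylowConn.refl S
  mul_mem' := by
    intro a b ha hb
    have := SylowConn.smul hb a
    rw [smul_smul] at this
    exact SylowConn.trans ha this
  inv_mem' := by
    intro a ha
    have := SylowConn.smul ha a⁻¹
    rw [inv_smul_smul] at this
    exact this.symm

variable [Finite G] [hp : Fact p.Prime]

theorem not_isSylowChainConnected_iff_se :
    ¬ IsSylowChainConnected p G ↔ ∃ H : Subgroup G, SE p H := by
  rw [isSylowChainConnected_iff]
  constructor
  · intro h
    push Not at h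
    obtain ⟨S, T, hST⟩ := h
    obtain ⟨g, rfl⟩ := MulAction.exists_smul_eq G S T
    have hS : (S : Subgroup G) ≠ ⊥ := by
      intro h0
      apply hST
      have : g • S = S := by
        apply Sylow.ext
        rw [Sylow.coe_subgroup_smul, h0, Subgroup.smul_bot]
      rw [this]
      exact SylowConn.refl S
    refine ⟨sylowConnStab S, SE.of_normalizers ?_ S hS ?_⟩
    · intro h0
      have : g ∈ sylowConnStab S := h0 ▸ Subgroup.mem_top g
      exact hST this
    · intro A hA hA1 x hx
      refine SylowConn.single fun h0 => hA1 ?_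
      rw [eq_bot_iff, ← h0]
      refine le_inf hA fun a ha => ?_
      rw [Sylow.coe_subgroup_smul, mem_conj_smul]
      apply hA
      have := (Subgroup.mem_normalizer_iff.1 (inv_mem hx) a).1 ha
      simpa using this
  · rintro ⟨H, hH⟩ h
    obtain ⟨P, hP⟩ := hH.exists_sylow_le
    have key : ∀ Q : Sylow p G, SylowConn P Q → (Q : Subgroup G) ≤ H := by
      intro Q hQ
      induction hQ with
      | refl => exact hP
      | tail _ h ih =>
        refine hH.le_of_isPGroup (Sylow.isPGroup' _) fun h0 => h ?_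
        rw [eq_bot_iff, ← h0]
        exact le_inf inf_le_right (inf_le_left.trans ih)
    apply hH.ne_top
    rw [eq_top_iff]
    intro g _
    have hP1 : (P : Subgroup G) ≠ ⊥ :=
      P.ne_bot_of_dvd_card (hH.dvd.trans (Subgroup.card_subgroup_dvd_card H))
    obtain ⟨x, hx, hxo⟩ := exists_orderOf_eq_of_isPGroup P.isPGroup' hP1
    refine hH.mem_of_conj x (hP hx) hxo g (key (g • P) (h _ _) ?_)
    rw [Sylow.coe_subgroup_smul, mem_conj_smul]
    simpa [mul_assoc] using hx

/-- Frattini argument for a strongly `p`-embedded subgroup. -/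
theorem se_sup_eq_top {H N : Subgroup G} (hH : SE p H) [N.Normal] (hN : p ∣ Nat.card N) :
    H ⊔ N = ⊤ := by
  obtain ⟨P, hP⟩ := hH.exists_sylow_le
  obtain ⟨Q⟩ : Nonempty (Sylow p N) := inferInstance
  obtain ⟨R, hR⟩ := Q.exists_comap_subtype_eq
  obtain ⟨g, rfl⟩ := MulAction.exists_smul_eq G P R
  have h1 := Sylow.normalizer_sup_eq_top Q
  have hQ1 : (Q : Subgroup N).map N.subtype ≠ ⊥ := by
    rw [Ne, Subgroup.map_eq_bot_iff_of_injective _ N.subtype_injective]
    exact Q.ne_bot_of_dvd_card hN
  have hH' := hH.conj g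
  have h2 : Subgroup.normalizer (((Q : Subgroup N).map N.subtype : Subgroup G) : Set G) ≤
      H.map (MulAut.conj g).toMonoidHom := by
    refine hH'.normalizer_le_of_isPGroup ?_ (Q.isPGroup'.map _) hQ1
    rw [← hR]
    refine (Subgroup.map_comap_le _ _).trans ?_
    rw [Sylow.coe_subgroup_smul]
    exact Subgroup.map_mono hP
  have h3 : H.map (MulAut.conj g).toMonoidHom ⊔ N = ⊤ :=
    top_le_iff.1 (h1 ▸ sup_le_sup_right h2 N)
  have h4 : (H ⊔ N).map (MulAut.conj g).toMonoidHom = ⊤ := by
    rw [Subgroup.map_sup, ← h3]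
    congr 1
    exact Subgroup.Normal.conj_smul_eq_self g N
  rw [eq_top_iff]
  intro x _
  have : g * x * g⁻¹ ∈ (H ⊔ N).map (MulAut.conj g).toMonoidHom := h4 ▸ Subgroup.mem_top _
  rw [mem_map_conj] at this
  simpa [mul_assoc] using this

/-- A `p'`-subgroup normalised by a noncyclic abelian `p`-subgroup of a strongly `p`-embedded
subgroup `H` lies in `H`. -/
theorem se_le_of_noncyclic {H A K : Subgroup G} (hH : SE p H) [IsMulCommutative A]
    (hA : ¬ IsCyclic A) (hAp : IsPGroup p A) (hAH : A ≤ H)
    (hAK : A ≤ Subgroup.normalizer (K : Set G)) (hK : ¬ p ∣ Nat.card K) : K ≤ H := by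
  obtain ⟨n, hn⟩ := hAp.exists_card_eq
  refine Coprime.le_of_forall_centralizer_singleton hA hAK ?_ fun a ha h1 => ?_
  · rw [hn]
    exact ((Nat.Prime.coprime_iff_not_dvd hp.out).2 hK).pow_left n
  · refine inf_le_right.trans (hH.centralizer_le_of_dvd (hAH ha) ?_)
    obtain ⟨k, hk⟩ := (IsPGroup.iff_orderOf.1 hAp) ⟨a, ha⟩
    rw [← Subgroup.orderOf_coe] at hk
    have hk' : orderOf a = p ^ k := hk
    rw [hk']
    refine dvd_pow_self p ?_
    rintro rfl
    exact h1 (orderOf_eq_one_iff.1 (by simpa using hk'))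

omit [Finite G] hp in
theorem isMulCommutative_zpowers_sup {x y : G} (h : x * y = y * x) :
    IsMulCommutative (Subgroup.zpowers x ⊔ Subgroup.zpowers y : Subgroup G) := by
  have : (Subgroup.zpowers x ⊔ Subgroup.zpowers y : Subgroup G) = Subgroup.closure {x, y} := by
    rw [Subgroup.zpowers_eq_closure, Subgroup.zpowers_eq_closure, ← Subgroup.closure_union]
    rfl
  rw [this]
  refine Subgroup.isMulCommutative_closure ?_
  rintro a (rfl | rfl) b (rfl | rfl)
  · rfl
  · exact h
  · exact h.symm
  · rfl

/-- A finite `p`-group without noncyclic abelian subgroups is cyclic or generalised quaternion. -/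
theorem isCyclic_or_quaternion_of_forall_comm {P : Subgroup G} (hP : IsPGroup p P)
    (h : ∀ A : Subgroup G, A ≤ P → IsMulCommutative A → IsCyclic A) :
    IsCyclic P ∨ (p = 2 ∧ ∃ n : ℕ, Nonempty (P ≃* QuaternionGroup (2 ^ n))) := by
  refine Cfsg.Agent.S0016.result p hP fun A B hA hB => ?_
  have hP1 : P ≠ ⊥ := by
    rintro rfl
    have h1 : Nat.card A ∣ Nat.card (⊥ : Subgroup G) := Subgroup.card_subgroup_dvd_card A
    rw [hA, Subgroup.card_bot, Nat.dvd_one] at h1
    exact hp.out.ne_one h1
  obtain ⟨z, hz, hzo, hzc⟩ := exists_central_orderOf_eq hP hP1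
  have key : ∀ C : Subgroup P, Nat.card C = p → C.map P.subtype = Subgroup.zpowers z := by
    intro C hC
    have hC' : Nat.card (C.map P.subtype) = p := by
      rw [Subgroup.card_map_of_injective P.subtype_injective, hC]
    obtain ⟨x, hx, hxo⟩ := (dvd_card_iff_exists_orderOf (C.map P.subtype)).1 (by rw [hC'])
    have hxP : x ∈ P := Subgroup.map_subtype_le C hx
    have h1 : Subgroup.zpowers x = C.map P.subtype :=
      Subgroup.eq_of_le_of_card_ge (Subgroup.zpowers_le.2 hx) (by rw [hC', Nat.card_zpowers, hxo])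
    have h2 := h _ (sup_le (Subgroup.zpowers_le.2 hz) (Subgroup.zpowers_le.2 hxP))
      (isMulCommutative_zpowers_sup (hzc x hxP))
    rw [← h1]
    exact PG.eq_of_card_eq_of_isCyclic (A := Subgroup.zpowers z ⊔ Subgroup.zpowers x)
      le_sup_right le_sup_left (by rw [Nat.card_zpowers, Nat.card_zpowers, hxo, hzo])
  apply Subgroup.map_injective P.subtype_injective
  rw [key A hA, key B hB]

end Cfsg.Lib.Solv
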