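import Mathlib
import Cfsg.Agent.Solv.ActionTransport
import Cfsg.Agent.Solv.SectionAut
import Cfsg.Agent.Solv.MinNormal
import Cfsg.Agent.Solv.PGroupNormal

/-!
# Products of fixed point numbers for a `p`-group acting on a `p'`-group

`prod_card_fix_dvd`: `∏ₓ |C_K(x)| ^ p ∣ |K| ^ |A| * |C_K(A)| ^ ((p - 1) |A|)` (a consequence of the
Navarro-Rizo form of the Brauer-Wielandt formula).
-/

set_option autoImplicit false

namespace Cfsg.Lib.Solv.FixProd

open Subgroup Act Coprime

universe u

/-- Fixed point subgroups of commuting automorphisms with pairwise trivial intersections are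
independent. -/
theorem prod_card_le {K ι : Type*} [CommGroup K] [Finite K] (β : ι → MulAut K) (V : ι → Subgroup K)
    (hV : ∀ i v, v ∈ V i ↔ β i v = v) (hc : ∀ i j, β i * β j = β j * β i)
    (hd : ∀ i j, i ≠ j → ∀ v ∈ V i, v ∈ V j → v = 1) (s : Finset ι) :
    ∏ i ∈ s, Nat.card (V i) ≤ Nat.card K := by
  classical
  have hinv : ∀ i j, ∀ v ∈ V j, β i v ∈ V j := fun i j v hv => by
    rw [hV, ← MulAut.mul_apply, ← hc, MulAut.mul_apply, (hV j v).1 hv]
  have hinv' : ∀ (s : Finset ι) i, ∀ v ∈ ⨆ k ∈ s, V k, β i v ∈ ⨆ k ∈ s, V k := fun s i v hv => by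
    have : (⨆ k ∈ s, V k) ≤ (⨆ k ∈ s, V k).comap (β i).toMonoidHom :=
      iSup₂_le fun k hk v hv => (le_iSup₂ (f := fun k (_ : k ∈ s) => V k) k hk) (hinv i k v hv)
    exact this hv
  have h1 : ∀ (s : Finset ι) j, j ∉ s → ∀ v ∈ V j, v ∈ (⨆ k ∈ s, V k) → v = 1 := by
    intro s
    induction s using Finset.induction_on with
    | empty => intro j _ v _ hv; simpa using hv
    | insert i s hi ih =>
      intro j hj v hv hv'
      rw [Finset.iSup_insert, mem_sup] at hv'
      obtain ⟨a, ha, w, hw, rfl⟩ := hv'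
      rw [Finset.mem_insert, not_or] at hj
      have e : (a * w)⁻¹ * β i (a * w) = w⁻¹ * β i w := by
        rw [map_mul, (hV i a).1 ha, mul_inv_rev, mul_assoc, inv_mul_cancel_left]
      have e2 := ih j hj.2 _ (mul_mem (inv_mem hv) (hinv i j _ hv))
        (e ▸ mul_mem (inv_mem hw) (hinv' s i w hw))
      exact hd j i hj.1 _ hv ((hV i _).2 (inv_mul_eq_one.1 e2).symm)
  have h2 : ∀ s : Finset ι, ∏ i ∈ s, Nat.card (V i) = Nat.card (⨆ k ∈ s, V k : Subgroup K) := by
    intro s
    induction s using Finset.induction_on with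
    | empty => simp
    | insert i s hi ih =>
      rw [Finset.prod_insert hi, Finset.iSup_insert, ih,
        ← card_sup_mul_card_inf_of_normal (V i) (⨆ k ∈ s, V k),
        (eq_bot_iff_forall (V i ⊓ ⨆ k ∈ s, V k)).2 fun v hv => h1 s i hi v hv.1 hv.2, card_bot, mul_one]
  rw [h2]
  exact card_le_card_group _

variable {A : Type*} [Group A] {p : ℕ} [hp : Fact p.Prime]

omit hp in
theorem card_fix_restrict {K : Type*} [Group K] (φ : A →* MulAut K) (N : Subgroup K)
    (h : ∀ a, ∀ x ∈ N, φ a x ∈ N) (B : Subgroup A) :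
    Nat.card (fix (restrictAut φ N h) B) = Nat.card (N ⊓ fix φ B : Subgroup K) := by
  rw [← card_map_subtype]
  congr 2
  ext x
  constructor
  · rintro ⟨x, hx, rfl⟩
    exact ⟨x.2, fun b hb => congrArg Subtype.val (hx b hb)⟩
  · rintro ⟨h1, h2⟩
    exact ⟨⟨x, h1⟩, fun b hb => Subtype.ext (h2 b hb), rfl⟩

theorem card_fix_eq [Finite A] (hA : IsPGroup p A) {K : Type*} [Group K] [Finite K]
    (hK : (Nat.card K).Coprime p) (φ : A →* MulAut K) (N : Subgroup K) [N.Normal]
    (h : ∀ a, ∀ x ∈ N, φ a x ∈ N) (B : Subgroup A) :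
    Nat.card (fix φ B) =
      Nat.card (fix (restrictAut φ N h) B) * Nat.card (fix (quotAut φ N h) B) := by
  have e : (fix φ B).map (QuotientGroup.mk' N) = fix (quotAut φ N h) B := by
    ext x
    constructor
    · rintro ⟨x, hx, rfl⟩ b hb
      exact congrArg QuotientGroup.mk (hx b hb)
    · obtain ⟨x, rfl⟩ := QuotientGroup.mk_surjective x
      intro hx
      obtain ⟨k, hk⟩ := IsPGroup.iff_card.1 (hA.to_subgroup B)
      obtain ⟨y, hy, hxy⟩ := exists_mul_mem_fix (φ := φ) (B := B) (H := N)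
        (fun b _ => h b) (by
          rw [hk]; exact ((hK.coprime_dvd_left (card_subgroup_dvd_card N)).symm).pow_left k)
        (Or.inl (isSolvable_of_isPGroup (hA.to_subgroup B))) (g := x)
        (fun b hb => QuotientGroup.eq.1 (hx b hb).symm)
      exact ⟨_, hxy, by simp [hy]⟩
  rw [card_fix_restrict, ← e, card_map_mk', ← PG.relIndex_mul_card_inf N, mul_comm]

theorem le_of_isPGroup [Fintype A] (hA : IsPGroup p A) {q : ℕ} [hq : Fact q.Prime] (K : Type u)
    [Group K] [Finite K] : IsPGroup q K → (Nat.card K).Coprime p → ∀ φ : A →* MulAut K,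
      ∏ x : A, Nat.card (fix φ (zpowers x)) ^ p ≤
        Nat.card K ^ Nat.card A * Nat.card (fix φ ⊤) ^ ((p - 1) * Nat.card A) := by
  refine card_induction (P := fun K _ _ => IsPGroup q K → (Nat.card K).Coprime p →
    ∀ φ : A →* MulAut K, ∏ x : A, Nat.card (fix φ (zpowers x)) ^ p ≤
        Nat.card K ^ Nat.card A * Nat.card (fix φ ⊤) ^ ((p - 1) * Nat.card A)) ?_ K
  intro K _ _ ih hK hcop φ
  by_cases hN : ∃ N : Subgroup K, N.Normal ∧ (∀ a, ∀ x ∈ N, φ a x ∈ N) ∧ N ≠ ⊥ ∧ N ≠ ⊤
  · obtain ⟨N, _, h, h0, h1⟩ := hN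
    have e1 := ih N (card_lt_of_ne_top h1) (hK.to_subgroup N)
      (hcop.coprime_dvd_left (card_subgroup_dvd_card N)) (restrictAut φ N h)
    have e2 := ih (K ⧸ N) (card_quotient_lt h0) (hK.to_quotient N)
      (hcop.coprime_dvd_left (card_quotient_dvd_card N)) (quotAut φ N h)
    simp only [card_fix_eq hA hcop φ N h, mul_pow, Finset.prod_mul_distrib]
    refine (Nat.mul_le_mul e1 e2).trans_eq ?_
    rw [card_eq_card_quotient_mul_card_subgroup N]
    ring
  by_cases hφ : φ.range = ⊥
  · have h1 : ∀ B, fix φ B = ⊤ := fun B => eq_top_iff.2 fun x _ b _ => by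
      rw [mem_bot.1 (hφ.le ⟨b, rfl⟩ : φ b ∈ ⊥)]; rfl
    simp only [h1, card_top, Finset.prod_const, Finset.card_univ, ← Nat.card_eq_fintype_card,
      ← pow_mul, ← pow_add]
    obtain ⟨r, hr⟩ := Nat.exists_eq_add_of_le' hp.out.one_lt.le
    rw [hr, Nat.add_sub_cancel, add_mul, one_mul, add_comm]
  push Not at hN
  have hnt : Nontrivial K := by
    by_contra h
    have := not_nontrivial_iff_subsingleton.1 h
    exact hφ (eq_bot_iff.2 fun b _ => MulEquiv.ext fun x => Subsingleton.elim _ _)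
  have hZ : center K = ⊤ := hN _ inferInstance
    (fun a x hx => characteristic_iff_le_comap.1 inferInstance (φ a) hx) hK.bot_lt_center.ne'
  letI : CommGroup K := { ‹Group K› with
    mul_comm := fun a b => mem_center_iff.1 (hZ ▸ mem_top b) a }
  obtain ⟨⟨_, z, rfl⟩, -, hz, hzp⟩ := PG.exists_mem_center_orderOf_eq
    ((hA.of_surjective _ φ.rangeRestrict_surjective)) ⊤ (fun h => hφ (by
      rw [← map_subtype_inj, Subgroup.map_bot, ← MonoidHom.range_eq_map, range_subtype] at h
      exact h))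
  have hzc : ∀ a, Commute (φ a) (φ z) := fun a =>
    congrArg Subtype.val (mem_center_iff.1 hz ⟨φ a, a, rfl⟩)
  have hzo : orderOf (φ z) = p := by rw [← hzp, ← orderOf_coe]
  have hfix : ∀ k, ¬ p ∣ k → ∀ v, (φ z ^ k) v = v → v = 1 := fun k hk v hv => by
    by_contra h1
    have h2 := hN (fix φ (zpowers (z ^ k))) inferInstance (fun a x hx => by
      rw [mem_fix_zpowers, map_pow] at hx ⊢
      rw [← MulAut.mul_apply, ← ((hzc a).pow_right k).eq, MulAut.mul_apply, hx])
      (fun e => h1 (mem_bot.1 (e.le (mem_fix_zpowers.2 (by rwa [map_pow])))))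
    refine hk (hzo ▸ orderOf_dvd_of_pow_eq_one (MulEquiv.ext fun x => ?_))
    rw [← map_pow]
    exact mem_fix_zpowers.1 (h2.ge (mem_top x))
  have h1 : ∀ x : A, ∏ i : Fin p, Nat.card (fix φ (zpowers (x * z ^ (i : ℕ)))) ≤ Nat.card K := by
    intro x
    have hd : ∀ i j : Fin p, i < j → ∀ v ∈ fix φ (zpowers (x * z ^ (i : ℕ))),
        v ∈ fix φ (zpowers (x * z ^ (j : ℕ))) → v = 1 := fun i j hij v hi hj => by
      obtain ⟨k, hk⟩ := Nat.exists_eq_add_of_lt hij
      rw [mem_fix_zpowers] at hi hj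
      refine hfix (k + 1) (Nat.not_dvd_of_pos_of_lt k.succ_pos (by omega)) v ?_
      rw [hk, add_assoc, pow_add, ← mul_assoc, map_mul, MulAut.mul_apply, map_pow] at hj
      exact (φ _).injective (hj.trans hi.symm)
    refine prod_card_le (fun i : Fin p => φ (x * z ^ (i : ℕ))) _ (fun i v => mem_fix_zpowers)
      (fun i j => ?_) (fun i j hij v hi hj => ?_) _
    · simp only [map_mul, map_pow]
      exact (((Commute.refl _).mul_right ((hzc x).pow_right _)).mul_left
        (((hzc x).symm.pow_left _).mul_right ((Commute.refl _).pow_pow _ _))).eq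
    · rcases lt_or_gt_of_ne hij with h | h
      · exact hd i j h v hi hj
      · exact hd j i h v hj hi
  calc _ = ∏ x : A, ∏ i : Fin p, Nat.card (fix φ (zpowers (x * z ^ (i : ℕ)))) := by
        rw [Finset.prod_comm, Finset.prod_pow]
        simp only [fun i : Fin p => Fintype.prod_equiv (Equiv.mulRight (z ^ (i : ℕ)))
          (fun x => Nat.card (fix φ (zpowers (x * z ^ (i : ℕ)))))
          (fun x => Nat.card (fix φ (zpowers x))) (fun _ => rfl)]
        simp
    _ ≤ ∏ _x : A, Nat.card K := Finset.prod_le_prod' fun x _ => h1 x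
    _ ≤ _ := by
        rw [Finset.prod_const, Finset.card_univ, ← Nat.card_eq_fintype_card]
        exact Nat.le_mul_of_pos_right _ (pow_pos Nat.card_pos _)

theorem factorization_card_inf {K : Type*} [Group K] [Finite K] {q : ℕ} {S H : Subgroup K}
    (h : ¬ q ∣ S.relIndex H) :
    (Nat.card (S ⊓ H : Subgroup K)).factorization q = (Nat.card H).factorization q := by
  rw [← PG.relIndex_mul_card_inf S H, Nat.factorization_mul (a := S.relIndex H) index_ne_zero_of_finite Nat.card_pos.ne',
    Finsupp.add_apply, Nat.factorization_eq_zero_of_not_dvd h, zero_add]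

theorem prod_card_fix_dvd [Fintype A] (hA : IsPGroup p A) {K : Type*} [Group K] [Finite K]
    (hcop : (Nat.card K).Coprime p) (φ : A →* MulAut K) :
    ∏ x : A, Nat.card (fix φ (zpowers x)) ^ p ∣
      Nat.card K ^ Nat.card A * Nat.card (fix φ ⊤) ^ ((p - 1) * Nat.card A) := by
  have h0 : ∀ (K : Type _) [Group K] [Finite K] (φ : A →* MulAut K) (q : ℕ),
      (∏ x : A, Nat.card (fix φ (zpowers x)) ^ p).factorization q =
        ∑ x : A, p * (Nat.card (fix φ (zpowers x))).factorization q ∧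
      (Nat.card K ^ Nat.card A * Nat.card (fix φ ⊤) ^ ((p - 1) * Nat.card A)).factorization q =
        Nat.card A * (Nat.card K).factorization q +
          (p - 1) * Nat.card A * (Nat.card (fix φ ⊤)).factorization q := fun K _ _ φ q => by
    rw [Nat.factorization_prod fun x _ => pow_ne_zero _ Nat.card_pos.ne', Finsupp.finsetSum_apply,
      Nat.factorization_mul (pow_ne_zero _ Nat.card_pos.ne') (pow_ne_zero _ Nat.card_pos.ne')]
    simp
  rw [← Nat.factorization_prime_le_iff_dvd (Finset.prod_ne_zero_iff.2 fun x _ =>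
    pow_ne_zero _ Nat.card_pos.ne') (mul_ne_zero (pow_ne_zero _ Nat.card_pos.ne')
    (pow_ne_zero _ Nat.card_pos.ne'))]
  intro q hq
  haveI := Fact.mk hq
  have hc : ∀ B : Subgroup A, (Nat.card B).Coprime (Nat.card (⊤ : Subgroup K)) := fun B => by
    obtain ⟨k, hk⟩ := IsPGroup.iff_card.1 (hA.to_subgroup B)
    rw [hk, card_top]; exact hcop.symm.pow_left k
  have hs : ∀ B : Subgroup A, Group.IsSolvable B ∨ Group.IsSolvable (⊤ : Subgroup K) := fun B =>
    Or.inl (isSolvable_of_isPGroup (hA.to_subgroup B))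
  obtain ⟨S, -, hS, hi, hinv⟩ := Act.exists_invariant_sylow (φ := φ) (inv_top ⊤) (hc ⊤) (hs ⊤) q
  have h : ∀ a, ∀ x ∈ S, φ a x ∈ S := fun a => hinv a (mem_top a)
  have h1 : ∀ B : Subgroup A, (Nat.card (fix (restrictAut φ S h) B)).factorization q =
      (Nat.card (fix φ B)).factorization q := fun B => by
    rw [card_fix_restrict]
    refine factorization_card_inf ?_
    have := not_dvd_relIndex_centralizer (R_le_normalizer_L_top (φ := φ) B) (hcop_LR (hc B))
      (hsolv_LR (hs B)) (L_le_L.2 le_top) (isPGroup_L.2 hS) (by rwa [relIndex_L])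
      (R_le_normalizer_L.2 fun b _ => h b)
    rwa [L_top_inf_centralizer_R, relIndex_L] at this
  have h2 := le_of_isPGroup hA S hS (hcop.coprime_dvd_left (card_subgroup_dvd_card S))
    (restrictAut φ S h)
  have h3 : ∀ H : Subgroup S, Nat.card H = q ^ (Nat.card H).factorization q := fun H => by
    obtain ⟨k, hk⟩ := IsPGroup.iff_card.1 (hS.to_subgroup H)
    rw [hk, hq.factorization_pow, Finsupp.single_eq_same]
  have h4 := factorization_card_inf hi
  rw [inf_top_eq, card_top] at h4
  rw [← card_top (G := S), h3 ⊤, h3 (fix _ ⊤), card_top, h4, h1,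
    Finset.prod_congr rfl fun x _ => by rw [h3 (fix _ (zpowers x)), h1, ← pow_mul],
    Finset.prod_pow_eq_pow_sum, ← pow_mul, ← pow_mul, ← pow_add,
    Nat.pow_le_pow_iff_right hq.one_lt] at h2
  rw [(h0 K φ q).1, (h0 K φ q).2]
  simpa only [mul_comm] using h2

end Cfsg.Lib.Solv.FixProd
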