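import Cfsg.Agent.Solv.Hall
import Cfsg.Agent.Solv.PSolvable
import Mathlib.GroupTheory.Nilpotent

/-!
# Hall subgroups of π-separable groups

`D_π` for π-separable groups under the hypothesis that one of two coprime groups is solvable
(a consequence of the odd order theorem), and unconditionally for `p`-solvable and π-solvable
groups.
-/

set_option autoImplicit false

open Pointwise

namespace Cfsg.Lib.Solv

universe u

/-- A π-separable group satisfies `D_π` as soon as of any π-group and π'-group one is solvable. -/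
theorem hallD_of_hasPiSeries {π : Set ℕ}
    (hs : ∀ (A B : Type u) [Group A] [Finite A] [Group B] [Finite B], IsPiNum π (Nat.card A) →
      IsPiNum πᶜ (Nat.card B) → Group.IsSolvable A ∨ Group.IsSolvable B)
    (G : Type u) [Group G] [Finite G] (h : HasPiSeries {π, πᶜ} G) : HallD π G := by
  refine HasPiSeries.induction (P := fun G _ _ => HallD π G) ?_ ?_ G h
  · exact fun G _ _ _ => hallD_of_subsingleton
  · rintro G _ _ N _ - - ⟨σ, hσ | hσ, hN⟩ ih
    · subst hσ
      exact ih.of_quotient_pi hN
    · rw [Set.mem_singleton_iff] at hσ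
      subst hσ
      exact ih.of_quotient_compl hN fun K hK => hs K N hK hN

/-- Under the odd order theorem (as a hypothesis) every π-separable group satisfies `D_π`. -/
theorem hallD_of_hasPiSeries_of_odd_solvable {π : Set ℕ}
    (hFT : ∀ (A : Type u) [Group A] [Finite A], Odd (Nat.card A) → Group.IsSolvable A)
    (G : Type u) [Group G] [Finite G] (h : HasPiSeries {π, πᶜ} G) : HallD π G := by
  refine hallD_of_hasPiSeries (fun A B _ _ _ _ hA hB => ?_) G h
  by_cases h2 : 2 ∈ π
  · refine Or.inr (hFT B ?_)
    rw [← Nat.not_even_iff_odd, even_iff_two_dvd]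
    exact fun hd => hB 2 Nat.prime_two hd h2
  · refine Or.inl (hFT A ?_)
    rw [← Nat.not_even_iff_odd, even_iff_two_dvd]
    exact fun hd => h2 (hA 2 Nat.prime_two hd)

/-- A `p`-solvable group satisfies `D_{p'}`. -/
theorem hallD_compl_of_isPSolvable {p : ℕ} [Fact p.Prime] {G : Type u} [Group G] [Finite G]
    (h : IsPSolvable p G) : HallD {p}ᶜ G := by
  refine hallD_of_hasPiSeries (fun A B _ _ _ _ _ hB => Or.inr ?_) G
    (IsPSolvable.hasPiSeries h).compl
  rw [compl_compl] at hB
  have := (isPGroup_iff_isPiNum.mpr hB).isNilpotent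
  infer_instance

/-- The family of prime sets defining π-solvability. -/
def piSolvableFamily (π : Set ℕ) : Set (Set ℕ) :=
  {σ | (∃ p ∈ π, p.Prime ∧ σ = {p}) ∨ σ = πᶜ}

/-- A π-group with a π-solvable series is solvable. -/
theorem isSolvable_of_hasPiSeries_of_isPiNum {π : Set ℕ} (G : Type u) [Group G] [Finite G]
    (h : HasPiSeries (piSolvableFamily π) G) (hG : IsPiNum π (Nat.card G)) :
    Group.IsSolvable G := by
  revert hG
  refine HasPiSeries.induction
    (P := fun G _ _ => IsPiNum π (Nat.card G) → Group.IsSolvable G) ?_ ?_ G h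
  · exact fun G _ _ _ _ => inferInstance
  · rintro G _ _ N _ hN0 - ⟨σ, ⟨p, -, hp, rfl⟩ | rfl, hN⟩ ih hG
    · have := Fact.mk hp
      have := (isPGroup_iff_isPiNum.mpr hN).isNilpotent
      exact (Group.isSolvable_iff_subgroup_quotient N).mpr
        ⟨inferInstance, ih (hG.of_dvd N.card_quotient_dvd_card)⟩
    · exact absurd (Subgroup.card_eq_one.mp
        ((hG.of_dvd N.card_subgroup_dvd_card).eq_one hN)) hN0

/-- A π-solvable group satisfies `D_π`. -/
theorem hallD_of_piSolvable {π : Set ℕ} (G : Type u) [Group G] [Finite G]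
    (h : HasPiSeries (piSolvableFamily π) G) : HallD π G := by
  refine HasPiSeries.induction (P := fun G _ _ => HallD π G) ?_ ?_ G h
  · exact fun G _ _ _ => hallD_of_subsingleton
  · rintro G _ _ N _ - hG ⟨σ, ⟨p, hpπ, hp, rfl⟩ | rfl, hN⟩ ih
    · exact ih.of_quotient_pi (hN.mono (Set.singleton_subset_iff.mpr hpπ))
    · exact ih.of_quotient_compl hN fun K hK =>
        Or.inl (isSolvable_of_hasPiSeries_of_isPiNum K (hG.subgroup K) hK)

/-- A π-solvable group satisfies `D_{π'}`. -/
theorem hallD_compl_of_piSolvable {π : Set ℕ} (G : Type u) [Group G] [Finite G]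
    (h : HasPiSeries (piSolvableFamily π) G) : HallD πᶜ G := by
  refine HasPiSeries.induction (P := fun G _ _ => HallD πᶜ G) ?_ ?_ G h
  · exact fun G _ _ _ => hallD_of_subsingleton
  · rintro G _ _ N _ - hG ⟨σ, ⟨p, hpπ, hp, rfl⟩ | rfl, hN⟩ ih
    · have := Fact.mk hp
      have := (isPGroup_iff_isPiNum.mpr hN).isNilpotent
      refine ih.of_quotient_compl ?_ fun K _ => Or.inr inferInstance
      rw [compl_compl]
      exact hN.mono (Set.singleton_subset_iff.mpr hpπ)
    · exact ih.of_quotient_pi hN

end Cfsg.Lib.Solv
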