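import Cfsg.Agent.Solv.KegelWielandtA
import Cfsg.Agent.Solv.FrobeniusComplement
import Cfsg.Agent.Solv.CoprimeSylow
import Cfsg.Agent.Trans.Frobenius
import Cfsg.Agent.S0560

/-!
# The Kegel–Wielandt theorem, part B

A finite group that is the product of two nilpotent subgroups is solvable.
-/

set_option autoImplicit false

open Pointwise Subgroup

namespace Cfsg.Lib.Solv.KW

variable {G : Type*} [Group G]

theorem isPGroup_zpowers_of_orderOf {z : G} {p : ℕ} (hz : orderOf z = p) :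
    IsPGroup p (zpowers z) :=
  IsPGroup.of_card (n := 1) (by rw [Nat.card_zpowers, hz, pow_one])

theorem ZZ_le_centralizer {A X : Subgroup G} (h : X ≤ A) : ZZ A ≤ centralizer (X : Set G) :=
  inf_le_right.trans (centralizer_le h)

theorem conj_mem_ZZ {A : Subgroup G} {z : G} (hz : z ∈ ZZ A) (g : G) :
    g * z * g⁻¹ ∈ ZZ (MulAut.conj g • A) := by
  refine ⟨conj_mem_conj_smul g hz.1, ?_⟩
  rw [← conj_smul_centralizer]
  exact conj_mem_conj_smul g hz.2

namespace Hyp

variable [Finite G] {A B : Subgroup G}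

omit [Finite G] in
theorem fac_of_le (h : Hyp A B) {M : Subgroup G} (hA : A ≤ M) : Fac A B M := by
  intro g hg
  obtain ⟨a, ha, b, hb, rfl⟩ := h.fac g
  exact ⟨a, ⟨hA ha, ha⟩, b, ⟨(M.mul_mem_cancel_left (hA ha)).mp hg, hb⟩, rfl⟩

/-- The centraliser of a nontrivial central element of `A` is `A`. -/
theorem centralizer_le (h : Hyp A B) {a : G} (ha : a ∈ ZZ A) (ha1 : a ≠ 1) :
    centralizer ({a} : Set G) ≤ A := by
  intro g hg
  have hA : A ≤ centralizer ({a} : Set G) := fun x hx =>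
    mem_centralizer_singleton_iff.mpr (ha.2 x hx)
  obtain ⟨x, hx, b, hb, rfl⟩ := h.fac_of_le hA g hg
  by_cases hb1 : b = 1
  · rw [hb1, mul_one]; exact hx.2
  obtain ⟨z, hz, hz1⟩ := exists_mem_ZZ_ne_one h.nilB h.symm.ne_bot
  exact absurd (h.eq_top_of_mem ha ha1 hz hz1 (M := centralizer ({b} : Set G))
    (mem_centralizer_singleton_iff.mpr (mem_centralizer_singleton_iff.mp hb.1).symm)
    (mem_centralizer_singleton_iff.mpr (hz.2 b hb.2).symm)) (h.centralizer_ne_top hb1)

theorem syl_le_of_mem (h : Hyp A B) {A' : Subgroup G} (hA' : Group.IsNilpotent A') {z : G}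
    (hz : z ∈ ZZ A) {p : ℕ} (hp : p.Prime) (ho : orderOf z = p) (hz' : z ∈ A') {s : ℕ}
    (hs : s.Prime) (hsp : s ≠ p) : syl s A' ≤ A := by
  have h1 := syl_le_centralizer hA' hp hs hsp (isPGroup_zpowers_of_orderOf ho) (zpowers_le.mpr hz')
  refine h1.trans (le_trans (Subgroup.centralizer_le ?_) (h.centralizer_le hz ?_))
  · exact Set.singleton_subset_iff.mpr (mem_zpowers z)
  · exact fun h1 => hp.one_lt.ne' (by rw [← ho, h1, orderOf_one])

/-- A conjugate of `A` meeting `Z(A)` nontrivially is `A`. -/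
theorem eq_of_mem (h : Hyp A B) {A' : Subgroup G} (h' : Hyp A' B) {z : G} (hz : z ∈ ZZ A)
    (hz1 : z ≠ 1) (hz' : z ∈ A') : A' = A := by
  have hc : Nat.card A' = Nat.card A := by
    have h1 := A.card_mul_index
    rw [h.index_eq, ← A'.card_mul_index, h'.index_eq] at h1
    exact (Nat.eq_of_mul_eq_mul_right Nat.card_pos h1).symm
  obtain ⟨n, p, hp, ho⟩ := exists_pow_prime_order hz1
  replace hz : z ^ n ∈ ZZ A := pow_mem hz n
  replace hz' : z ^ n ∈ A' := pow_mem hz' n
  generalize z ^ n = y at *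
  obtain ⟨r, hr, hrp, hrA⟩ := h'.exists_prime_ne p
  have := Fact.mk hr
  obtain ⟨w, hw, hwo⟩ := exists_mem_ZZ_orderOf h'.nilA hr hrA
  have hwA : w ∈ A := h.syl_le_of_mem h'.nilA hz hp ho hz' hr hrp
    ((mem_map_pCore_iff_of_isNilpotent h'.nilA).mpr ⟨hw.1, 1, by simpa using hwo⟩)
  have h1 : syl p A ≤ A' := h'.syl_le_of_mem h.nilA hw hr hwo hwA hp hrp.symm
  have h2 : A'.relIndex A = A.relIndex A' := by
    have e1 := card_inf_mul_relIndex A' A
    have e2 := card_inf_mul_relIndex A A'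
    rw [inf_comm, hc, ← e1] at e2
    exact (Nat.eq_of_mul_eq_mul_left Nat.card_pos e2).symm
  have h3 : A'.relIndex A = 1 := by
    by_contra h4
    obtain ⟨s, hs, hd⟩ := Nat.exists_prime_and_dvd h4
    have := Fact.mk hs
    by_cases hsp : s = p
    · subst hsp
      exact not_dvd_relIndex_syl h.nilA (hd.trans (relIndex_dvd_of_le_left A h1))
    · rw [h2] at hd
      exact not_dvd_relIndex_syl h'.nilA (hd.trans (relIndex_dvd_of_le_left A'
        (h.syl_le_of_mem h'.nilA hz hp ho hz' hs hsp)))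
  exact (eq_of_le_of_card_ge (relIndex_eq_one.mp h3) hc.le).symm

theorem normalizer_eq_top_of_le (h : Hyp A B) {X : Subgroup G} (hX : X ≤ A) {b : G}
    (hb : b ∈ ZZ B) (hb1 : b ≠ 1) (hbX : b ∈ normalizer (X : Set G)) :
    normalizer (X : Set G) = ⊤ := by
  obtain ⟨a, ha, ha1⟩ := exists_mem_ZZ_ne_one h.nilA h.ne_bot
  exact h.eq_top_of_mem ha ha1 hb hb1 (centralizer_le_normalizer _ (ZZ_le_centralizer hX ha)) hbX

/-- A proper factorised subgroup meeting `Z(B)` normalises `B`. -/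
theorem le_normalizer_of_fac (h : Hyp A B) {M : Subgroup G} (hM : M ≠ ⊤) (hf : Fac A B M) {z : G}
    (hz : z ∈ ZZ B) (hz1 : z ≠ 1) (hzM : z ∈ M) : M ≤ normalizer (B : Set G) := by
  have := h.solvable_of_fac hM hf
  have hF : fittingSubgroup M ≤ B.subgroupOf M := by
    refine fitting_le_of_forall_pCore_le fun r hr => ?_
    refine map_le_iff_le_comap.mp (show syl r M ≤ B from ?_)
    have hN : M ≤ normalizer (syl r M : Set G) := le_normalizer_syl r M
    by_cases hrB : r ∣ Nat.card B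
    · exact h.symm.le_of_normalized_pgroup hf.symm (syl_le r M) hN hr.out
        (isPGroup_map_pCore r M) (h.symm.not_dvd hr.out hrB)
    · have hA := h.le_of_normalized_pgroup hf (syl_le r M) hN hr.out (isPGroup_map_pCore r M) hrB
      by_cases h0 : syl r M = ⊥
      · exact h0.le.trans bot_le
      exact absurd (h.normalizer_eq_top_of_le hA hz hz1 (hN hzM))
        (h.normalizer_ne_top_of_isPGroup h0 hr.out (isPGroup_map_pCore r M))
  have hzF : (⟨z, hzM⟩ : M) ∈ fittingSubgroup M :=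
    centralizer_fitting_le M fun x hx => Subtype.ext (hz.2 x (hF hx))
  intro m hm
  have h1 : m * z * m⁻¹ ∈ B := hF ((fitting_normal M).conj_mem _ hzF ⟨m, hm⟩)
  rw [mem_normalizer_iff_conj_smul_eq]
  exact ((h.symm.conj_left m).eq_of_mem h.symm (conj_mem_ZZ hz m) (by simpa using hz1) h1).symm

theorem zpowers_eq_of_orderOf (h : Hyp A B) {q : ℕ} (hq : q.Prime) {x y : G} (hx : x ∈ B)
    (hx' : x ∈ normalizer (A : Set G)) (hy : y ∈ B) (hy' : y ∈ normalizer (A : Set G))
    (hxo : orderOf x = q) (hyo : orderOf y = q) : zpowers x = zpowers y := by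
  have := Fact.mk hq
  have hnil : Group.IsNilpotent (B ⊓ normalizer (A : Set G) : Subgroup G) :=
    isNilpotent_of_le inf_le_left h.nilB
  obtain ⟨a, ha, ha1⟩ := exists_mem_ZZ_ne_one h.nilA h.ne_bot
  refine Fpf.eq_of_card_eq_prime (K := ZZ A) (H := B ⊓ normalizer (A : Set G))
    (le_normalizer_inf_centralizer inf_le_right inf_le_right)
    (fun h0 => ha1 (by rwa [h0, mem_bot] at ha)) (fun b hb hb1 => ?_) (syl_le q _)
    (isPGroup_map_pCore q _)
    (le_map_pCore_of_isNilpotent hnil (isPGroup_zpowers_of_orderOf hxo) (zpowers_le.mpr ⟨hx, hx'⟩))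
    (le_map_pCore_of_isNilpotent hnil (isPGroup_zpowers_of_orderOf hyo) (zpowers_le.mpr ⟨hy, hy'⟩))
    (by rw [Nat.card_zpowers, hxo]) (by rw [Nat.card_zpowers, hyo])
  rw [eq_bot_iff]
  intro c hc
  by_contra hc1
  have h1 : b ∈ A ⊓ B := ⟨h.centralizer_le hc.1 hc1
    (mem_centralizer_singleton_iff.mpr (mem_centralizer_singleton_iff.mp hc.2).symm), hb.1⟩
  rw [h.inf_eq_bot] at h1
  exact hb1 h1

theorem normalizer_zpowers_le (h : Hyp A B) {q : ℕ} (hq : q.Prime) {y : G} (hy : y ∈ B)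
    (hy' : y ∈ normalizer (A : Set G)) (hyo : orderOf y = q) :
    normalizer (zpowers y : Set G) ≤ normalizer (B : Set G) := by
  have hy1 : y ≠ 1 := fun h1 => hq.one_lt.ne' (by rw [← hyo, h1, orderOf_one])
  obtain ⟨z, hz, hz1⟩ := exists_mem_ZZ_ne_one h.nilB h.symm.ne_bot
  refine h.le_normalizer_of_fac (h.normalizer_zpowers_ne_top hy1) (fun g hg => ?_) hz hz1
    (centralizer_le_normalizer _ (ZZ_le_centralizer (zpowers_le.mpr hy) hz))
  obtain ⟨a, ha, b, hb, rfl⟩ := h.fac g
  have h1 : a⁻¹ * y * a⁻¹⁻¹ ∈ B := by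
    have h2 := inv_conj_mem_of_mem_normalizer hg (mem_zpowers y)
    have h3 := B.mul_mem (B.mul_mem hb (zpowers_le.mpr hy h2)) (B.inv_mem hb)
    convert h3 using 1
    group
  have h2 : a⁻¹ * y * a⁻¹⁻¹ ∈ normalizer (A : Set G) :=
    mul_mem (mul_mem (inv_mem (le_normalizer ha)) hy') (inv_mem (inv_mem (le_normalizer ha)))
  have h3 := h.zpowers_eq_of_orderOf hq h1 h2 hy hy'
    (by rw [← hyo]; exact (MulAut.conj a⁻¹).orderOf_eq y) hyo
  rw [← conj_smul_zpowers, ← mem_normalizer_iff_conj_smul_eq, inv_mem_iff] at h3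
  exact ⟨a, ⟨h3, ha⟩, b, ⟨(mul_mem_cancel_left h3).mp hg, hb⟩, rfl⟩

theorem centralizer_le_normalizer_of_mem (h : Hyp A B) {y : G} (hy : y ∈ B)
    (hy' : y ∈ normalizer (A : Set G)) (hy1 : y ≠ 1) :
    centralizer ({y} : Set G) ≤ normalizer (B : Set G) := by
  obtain ⟨n, q, hq, ho⟩ := exists_pow_prime_order hy1
  refine le_trans ?_ (h.normalizer_zpowers_le hq (pow_mem hy n) (pow_mem hy' n) ho)
  refine le_trans ?_ (centralizer_le_normalizer _)
  rw [← le_centralizer_iff, zpowers_le]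
  exact pow_mem (show y ∈ centralizer _ from fun x hx => mem_centralizer_singleton_iff.mp hx) n

theorem mem_of_mem_normalizer (h : Hyp A B) {x : G} (hx : x ∈ normalizer (A : Set G))
    (hc : (orderOf x).Coprime (Nat.card B)) : x ∈ A := by
  have hxN : zpowers x ≤ normalizer (A : Set G) := zpowers_le.mpr hx
  have h1 : (zpowers x).subgroupOf (normalizer (A : Set G)) ≤ A.subgroupOf _ :=
    le_of_coprime_card_index (by
      rw [card_subgroupOf_of_le hxN, Nat.card_zpowers]
      exact hc.coprime_dvd_right (h.relIndex_dvd (h.fac_of_le le_normalizer)))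
  exact h1 (show (⟨x, hx⟩ : normalizer (A : Set G)) ∈ (zpowers x).subgroupOf _ from mem_zpowers x)

theorem exists_le_conj (h : Hyp A B) {q : ℕ} (hq : q.Prime) (hqB : q ∣ Nat.card B)
    {Q : Subgroup G} (hQ : IsPGroup q Q) : ∃ g : G, Q ≤ MulAut.conj g • B := by
  have := Fact.mk hq
  exact exists_le_conj_of_not_dvd_index hQ (h.symm.index_eq ▸ h.symm.not_dvd hq hqB)

/-- An element centralising a nontrivial element of `A ⊓ A'` and normalising `A` lies in `A`. -/
theorem mem_of_centralizes (h : Hyp A B) (g : G) (hne : MulAut.conj g • A ≠ A) {u c : G}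
    (hu : u ∈ A) (hu' : u ∈ MulAut.conj g • A) (hu1 : u ≠ 1) (hc : c * u = u * c)
    (hcN : c ∈ normalizer (A : Set G)) : c ∈ A := by
  refine h.mem_of_mem_normalizer hcN (Nat.coprime_of_dvd fun q hq hqc hqB => hne ?_)
  obtain ⟨n, hn⟩ := exists_pow_orderOf_prime hqc
  obtain ⟨k, hk⟩ := h.exists_le_conj hq hqB (isPGroup_zpowers_of_orderOf hn)
  have h1 := (h.conj_right k).centralizer_le_normalizer_of_mem (hk (mem_zpowers _))
    (pow_mem hcN n) (fun h1 => hq.one_lt.ne' (by rw [← hn, h1, orderOf_one]))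
    (mem_centralizer_singleton_iff.mpr ((show Commute c u from hc).pow_left n).symm.eq)
  have h2 := (h.conj_right k).symm.centralizer_le_normalizer_of_mem hu h1 hu1
  obtain ⟨z, hz, hz1⟩ := exists_mem_ZZ_ne_one (h.conj_left g).nilA (h.conj_left g).ne_bot
  have h3 : z ∈ A := h.mem_of_mem_normalizer
    (h2 (mem_centralizer_singleton_iff.mpr (hz.2 u hu').symm))
    ((h.conj_left g).cop.coprime_dvd_left (orderOf_dvd_natCard _ hz.1))
  exact ((h.conj_left g).eq_of_mem h hz hz1 h3).symm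

theorem exists_sylow_le (h : Hyp A B) {C : Subgroup G} (hZ : ZZ A ≤ C) {p : ℕ} [hp : Fact p.Prime]
    (hpA : p ∣ Nat.card A) : ∃ P : Sylow p C, (P : Subgroup C) ≤ A.subgroupOf C := by
  obtain ⟨z, hz, ho⟩ := exists_mem_ZZ_orderOf h.nilA hp.out hpA
  obtain ⟨R, hzR, hRC, hR, hi⟩ := Coprime.exists_le_sylow_ambient (zpowers_le.mpr (hZ hz))
    (isPGroup_zpowers_of_orderOf ho)
  obtain ⟨k, hk⟩ := h.symm.exists_le_conj hp.out hpA hR
  rw [h.eq_of_mem (h.conj_left k) hz (fun h1 => hp.out.one_lt.ne' (by rw [← ho, h1, orderOf_one]))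
    (hk (hzR (mem_zpowers z)))] at hk
  obtain ⟨P, rfl⟩ := Coprime.exists_sylow_map_eq hRC hR hi
  exact ⟨P, map_le_iff_le_comap.mp hk⟩

theorem false_of_card_le (h : Hyp A B) (hle : Nat.card B ≤ Nat.card A) : False := by
  classical
  have hAtop : A ≠ ⊤ := h.ne_top_of_isSolvable (have := h.nilA; inferInstance)
  obtain ⟨g0, hg0⟩ : ∃ g : G, MulAut.conj g • A ≠ A := by
    by_contra hcon
    push Not at hcon
    exact h.normalizer_ne_top h.ne_bot hAtop
      (eq_top_iff.mpr fun g _ => mem_normalizer_iff_conj_smul_eq.mpr (hcon g))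
  obtain ⟨g, hg, hmax⟩ := Set.exists_max_image {g : G | MulAut.conj g • A ≠ A}
    (fun g => Nat.card (A ⊓ MulAut.conj g • A : Subgroup G)) (Set.toFinite _) ⟨g0, hg0⟩
  set U := A ⊓ MulAut.conj g • A with hU
  have hU0 : U ≠ ⊥ := by
    intro h0
    have h1 := card_mul_card_le_of_le (le_top : A ≤ ⊤) (le_top : MulAut.conj g • A ≤ ⊤)
    rw [← hU, h0, card_bot, mul_one, card_top, card_conj_smul, ← A.card_mul_index,
      h.index_eq] at h1
    have h2 : Nat.card A = Nat.card B := le_antisymm (Nat.le_of_mul_le_mul_left h1 Nat.card_pos) hle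
    have h3 := h.cop
    rw [← h2, Nat.coprime_self] at h3
    exact h.ne_bot (card_eq_one.mp h3)
  obtain ⟨⟨u, hu⟩, hu1⟩ := ne_bot_iff_exists_ne_one.mp hU0
  replace hu1 : u ≠ 1 := fun h1 => hu1 (Subtype.ext h1)
  set C := centralizer (U : Set G) with hC
  have hZ : ZZ A ≤ C := ZZ_le_centralizer inf_le_left
  -- the order of `C` is prime to that of `B`
  have hcop : ∀ q : ℕ, q.Prime → q ∣ Nat.card C → ¬ q ∣ Nat.card B := by
    intro q hq hqC hqB
    obtain ⟨p, hp, hpA⟩ := Nat.exists_prime_and_dvd (fun h1 => h.ne_bot (card_eq_one.mp h1))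
    have := Fact.mk hp
    have := Fact.mk hq
    obtain ⟨P, hP⟩ := h.exists_sylow_le hZ hpA
    have hnil : Group.IsNilpotent (A.subgroupOf C) := by
      rw [← isNilpotent_map_subtype_iff, subgroupOf_map_subtype]
      exact isNilpotent_of_le inf_le_left h.nilA
    obtain ⟨P', N, hN, hNP⟩ := Trans.hasNormalPComplement_of_controls_fusion P _ hP
      (hasNormalPComplement_of_isNilpotent p) (fun x hx c hy => by
        by_cases hyU : ((c * x * c⁻¹ : C) : G) ∈ U
        · refine ⟨1, one_mem _, Subtype.ext ?_⟩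
          have h1 := c.2 _ hyU
          simp only [coe_mul, coe_inv, mul_assoc, inv_mul_cancel, mul_one, mul_right_inj] at h1
          simp only [one_mul, inv_one, mul_one, coe_mul, coe_inv, mul_assoc]
          exact h1
        · refine ⟨c, h.mem_of_centralizes g hg hu.1 hu.2 hu1 (c.2 u hu).symm ?_, rfl⟩
          rw [mem_normalizer_iff_conj_smul_eq]
          by_contra hc
          have h1 : U ≤ A ⊓ MulAut.conj (c : G) • A := fun v hv => ⟨hv.1,
            mem_conj_smul.mpr (by rw [mul_assoc, c.2 v hv, inv_mul_cancel_left]; exact hv.1)⟩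
          rw [eq_of_le_of_card_ge h1 (hmax c hc)] at hyU
          exact hyU ⟨hP hy, conj_mem_conj_smul (c : G) (hP hx)⟩)
    obtain ⟨z, hz, ho⟩ := exists_mem_ZZ_orderOf h.nilA hp hpA
    have hNc : ¬ p ∣ Nat.card N := hNP.index_eq_card ▸ P'.not_dvd_index
    obtain ⟨Q, hQN, hQ, hi, hzQ⟩ := Coprime.exists_invariant_sylow' (A := zpowers z)
      (K := N.map C.subtype) ((zpowers_le.mpr (hZ hz)).trans (le_normalizer_map_subtype N))
      (by rw [Nat.card_zpowers, ho, card_map_subtype]; exact (hp.coprime_iff_not_dvd).mpr hNc)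
      (Or.inl (Group.isSolvable_of_comm fun a b => mul_comm' a b)) q
    have hQ0 : Q ≠ ⊥ := by
      rintro rfl
      rw [relIndex_bot_left, card_map_subtype] at hi
      rw [← hNP.card_mul_card] at hqC
      obtain ⟨n, hn⟩ := IsPGroup.iff_card.mp P'.isPGroup'
      refine hi (((Nat.Prime.dvd_mul hq).mp hqC).resolve_right fun h1 => ?_)
      rw [hn] at h1
      obtain rfl := (Nat.prime_dvd_prime_iff_eq hq hp).mp (hq.dvd_of_dvd_pow h1)
      exact h.not_dvd hq hpA hqB
    obtain ⟨k, hk⟩ := h.exists_le_conj hq hqB hQ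
    exact h.normalizer_ne_top_of_isPGroup hQ0 hq hQ ((h.conj_right k).symm.normalizer_eq_top_of_le
      hk hz (fun h1 => hp.one_lt.ne' (by rw [← ho, h1, orderOf_one])) (hzQ (mem_zpowers z)))
  have hCA : C ≤ A := by
    rw [← relIndex_eq_one]
    by_contra h4
    obtain ⟨s, hs, hd⟩ := Nat.exists_prime_and_dvd h4
    have := Fact.mk hs
    have hsC : s ∣ Nat.card C := hd.trans (relIndex_dvd_card A C)
    have hsA : s ∣ Nat.card A := by
      have h1 := hsC.trans (card_subgroup_dvd_card C)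
      rw [← A.card_mul_index, h.index_eq] at h1
      exact ((Nat.Prime.dvd_mul hs).mp h1).resolve_right (hcop s hs hsC)
    obtain ⟨P, hP⟩ := h.exists_sylow_le hZ hsA
    exact P.not_dvd_index (hd.trans (index_dvd_of_le hP))
  obtain ⟨z, hz, hz1⟩ := exists_mem_ZZ_ne_one (h.conj_left g).nilA (h.conj_left g).ne_bot
  exact hg ((h.conj_left g).eq_of_mem h hz hz1 (hCA (ZZ_le_centralizer inf_le_right hz))).symm

theorem false (h : Hyp A B) : False :=
  (le_total (Nat.card B) (Nat.card A)).elim h.false_of_card_le h.symm.false_of_card_le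

end Hyp

universe u

theorem commutator_le_pCore_aux (p : ℕ) (n : ℕ) : ∀ (G : Type u) [Group G] [Finite G]
    (X Y : Subgroup G), Nat.card G = n → (∀ g : G, ∃ S : Subgroup G, IsPGroup p S ∧
      (S : Set G) = (X : Set G) * ((MulAut.conj g • Y : Subgroup G) : Set G)) →
      ⁅X, Y⁆ ≤ pCore p G := by
  induction n using Nat.strong_induction_on with
  | _ n ih =>
  intro G _ _ X Y hn h
  have key : ∀ X Y : Subgroup G, (∀ g : G, ∃ S : Subgroup G, IsPGroup p S ∧
      (S : Set G) = (X : Set G) * ((MulAut.conj g • Y : Subgroup G) : Set G)) →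
      normalClosure (X : Set G) ⊔ Y ≠ ⊤ → ⁅X, Y⁆ ≤ pCore p G := by
    intro X Y h hne
    set N := normalClosure (X : Set G) with hN
    set H := N ⊔ Y with hH
    have hX : X ≤ H := le_normalClosure.trans le_sup_left
    have hY : Y ≤ H := le_sup_right
    have h1 := ih _ (hn ▸ card_lt_of_ne_top hne) H (X.subgroupOf H) (Y.subgroupOf H) rfl (fun g => by
      obtain ⟨S, hS, e⟩ := h g
      refine ⟨S.subgroupOf H, hS.comap_subtype, ?_⟩
      apply Set.image_injective.mpr H.subtype_injective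
      have hY' : MulAut.conj (g : G) • Y ≤ H := by
        rw [conj_smul_le_iff]
        exact fun y hy => H.mul_mem (H.mul_mem g.2 (hY hy)) (H.inv_mem g.2)
      rw [Set.image_mul, ← coe_map, ← coe_map, ← coe_map, map_subtype_conj_smul,
        map_subgroupOf_eq_of_le hX, map_subgroupOf_eq_of_le hY, map_subgroupOf_eq_of_le, e]
      rw [eq_sup_of_coe_eq_mul e]
      exact sup_le hX hY')
    have h2 : ⁅X, Y⁆ ≤ syl p H := by
      have h3 := map_mono (f := H.subtype) h1
      rwa [map_commutator, map_subgroupOf_eq_of_le hX, map_subgroupOf_eq_of_le hY] at h3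
    have h3 : ⁅X, Y⁆ ≤ N := (commutator_mono le_normalClosure le_top).trans (commutator_le_left _ _)
    refine (le_inf h2 h3).trans ((le_map_pCore inf_le_right (le_normalizer_inf
      (le_sup_left.trans (le_normalizer_syl p H)) le_normalizer)
      (isPGroup_map_pCore p H).to_inf_left).trans (map_pCore_le_of_normal N))
  by_cases h1 : normalClosure (X : Set G) ⊔ Y = ⊤
  swap
  · exact key X Y h h1
  by_cases h2 : X ⊔ normalClosure (Y : Set G) = ⊤
  · obtain ⟨S, hS, e⟩ := h 1
    rw [conj_one_smul, ← forall_mul_iff_coe_top.mp (kegel_forall_mul_of_permutable X Y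
      (fun x => (h x).imp fun _ hS => hS.2) h1 h2)] at e
    obtain rfl := SetLike.coe_injective e
    exact le_top.trans (le_pCore inferInstance hS)
  · rw [commutator_comm]
    refine key Y X (fun g => ?_) (by rwa [sup_comm])
    obtain ⟨S, hS, e⟩ := h g⁻¹
    refine ⟨_, isPGroup_conj_smul hS g, coe_eq_mul_symm ?_⟩
    rw [coe_conj_smul_eq_mul e g, conj_smul_conj_inv_smul]

/-- If `X` permutes with all conjugates of `Y`, with `p`-group products, then `[X,Y] ≤ O_p(G)`. -/
theorem commutator_le_pCore [Finite G] {p : ℕ} {X Y : Subgroup G}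
    (h : ∀ g : G, ∃ S : Subgroup G, IsPGroup p S ∧
      (S : Set G) = (X : Set G) * ((MulAut.conj g • Y : Subgroup G) : Set G)) :
    ⁅X, Y⁆ ≤ pCore p G := commutator_le_pCore_aux p _ G X Y rfl h

theorem exists_coe_eq_syl_mul_syl [Finite G] {A B : Subgroup G} (hA : Group.IsNilpotent A)
    (hB : Group.IsNilpotent B) (hAB : ∀ g : G, ∃ a ∈ A, ∃ b ∈ B, g = a * b) (p : ℕ)
    [Fact p.Prime] (x y : G) : ∃ S : Subgroup G, IsPGroup p S ∧ (S : Set G) =
      ((MulAut.conj x • syl p A : Subgroup G) : Set G) *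
        ((MulAut.conj y • syl p B : Subgroup G) : Set G) := by
  obtain ⟨P, Q, R, e⟩ := Cfsg.Agent.S0560.result A B hAB p
  rw [← pCore_eq_sylow_of_isNilpotent P, ← pCore_eq_sylow_of_isNilpotent Q] at e
  obtain ⟨g, e1, e2⟩ := exists_conj_pair_of_le_normalizer hAB (le_normalizer_syl p A)
    (le_normalizer_syl p B) x y
  exact ⟨_, isPGroup_conj_smul R.isPGroup' g, by rw [e1, e2]; exact coe_conj_smul_eq_mul e g⟩

/-- The Sylow `p`-subgroups of the two factors commute modulo `O_p(G)`. -/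
theorem commutator_syl_le [Finite G] {A B : Subgroup G} (hA : Group.IsNilpotent A)
    (hB : Group.IsNilpotent B) (hAB : ∀ g : G, ∃ a ∈ A, ∃ b ∈ B, g = a * b) (p : ℕ)
    [Fact p.Prime] : ⁅normalClosure (syl p A : Set G), normalClosure (syl p B : Set G)⁆ ≤
      pCore p G := by
  have h1 : ∀ x y : G, ⁅MulAut.conj x • syl p A, MulAut.conj y • syl p B⁆ ≤ pCore p G :=
    fun x y => commutator_le_pCore fun g => by
      rw [← conj_mul_smul]; exact exists_coe_eq_syl_mul_syl hA hB hAB p x _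
  let f := QuotientGroup.mk' (pCore p G)
  have h2 : ∀ X Y : Subgroup G, ⁅X, Y⁆ ≤ pCore p G ↔
      X ≤ (centralizer (Y.map f : Set (G ⧸ pCore p G))).comap f := fun X Y => by
    rw [← map_le_iff_le_comap, ← commutator_eq_bot_iff_le_centralizer, ← map_commutator,
      Subgroup.map_eq_bot_iff, QuotientGroup.ker_mk']
  have h3 : ∀ (X Y : Subgroup G), (∀ x : G, ⁅MulAut.conj x • X, Y⁆ ≤ pCore p G) →
      ⁅normalClosure (X : Set G), Y⁆ ≤ pCore p G := fun X Y hXY => by
    rw [h2, normalClosure, closure_le]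
    intro z hz
    obtain ⟨c, hc, hcz⟩ := Group.mem_conjugatesOfSet_iff.mp hz
    obtain ⟨g, rfl⟩ := isConj_iff.mp hcz
    exact (h2 _ _).mp (hXY g) (conj_mem_conj_smul g hc)
  refine h3 _ _ fun x => ?_
  rw [commutator_comm]
  exact h3 _ _ fun y => by rw [commutator_comm]; exact h1 x y

theorem isSolvable_of_normal' (N : Subgroup G) [N.Normal] (h1 : Group.IsSolvable N)
    (h2 : Group.IsSolvable (G ⧸ N)) : Group.IsSolvable G :=
  Group.isSolvable_of_ker_le_range N.subtype (QuotientGroup.mk' N) (by simp)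

theorem forall_mul_map {G' : Type*} [Group G'] {A B : Subgroup G} (f : G →* G')
    (hf : Function.Surjective f) (hAB : ∀ g : G, ∃ a ∈ A, ∃ b ∈ B, g = a * b) :
    ∀ g : G', ∃ a ∈ A.map f, ∃ b ∈ B.map f, g = a * b := by
  intro g
  obtain ⟨g, rfl⟩ := hf g
  obtain ⟨a, ha, b, hb, rfl⟩ := hAB g
  exact ⟨_, mem_map_of_mem f ha, _, mem_map_of_mem f hb, map_mul f a b⟩

theorem isNilpotent_subgroupOf {A M : Subgroup G} (hA : Group.IsNilpotent A) :
    Group.IsNilpotent (A.subgroupOf M) := by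
  rw [← isNilpotent_map_subtype_iff, subgroupOf_map_subtype]
  exact isNilpotent_of_le inf_le_left hA

theorem kegel_wielandt_aux (n : ℕ) : ∀ (G : Type u) [Group G] [Finite G] (A B : Subgroup G),
    Nat.card G = n → Group.IsNilpotent A → Group.IsNilpotent B →
      (∀ g : G, ∃ a ∈ A, ∃ b ∈ B, g = a * b) → Group.IsSolvable G := by
  induction n using Nat.strong_induction_on with
  | _ n ih =>
  intro G _ _ A B hn hA hB hAB
  by_contra hns
  have hq : ∀ (N : Subgroup G) [N.Normal], N ≠ ⊥ → Group.IsSolvable (G ⧸ N) := fun N _ hN =>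
    ih _ (hn ▸ card_quotient_lt_of_ne_bot N hN) _ _ _ rfl (isNilpotent_map _ _ hA)
      (isNilpotent_map _ _ hB) (forall_mul_map _ (QuotientGroup.mk'_surjective N) hAB)
  have hs : ∀ (N : Subgroup G) [N.Normal], Group.IsSolvable N → N = ⊥ := fun N _ hN => by
    by_contra h0
    exact hns (isSolvable_of_normal' N hN (hq N h0))
  have hsub : ∀ M A1 B1 : Subgroup G, M ≠ ⊤ → A1 ≤ M → B1 ≤ M → Group.IsNilpotent A1 →
      Group.IsNilpotent B1 → (∀ g ∈ M, ∃ a ∈ A1, ∃ b ∈ B1, g = a * b) → Group.IsSolvable M :=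
    fun M A1 B1 hM h1 h2 h3 h4 h5 => ih _ (hn ▸ card_lt_of_ne_top hM) M (A1.subgroupOf M)
      (B1.subgroupOf M) rfl (isNilpotent_subgroupOf h3) (isNilpotent_subgroupOf h4) fun g => by
        obtain ⟨a, ha, b, hb, e⟩ := h5 g g.2
        exact ⟨⟨a, h1 ha⟩, ha, ⟨b, h2 hb⟩, hb, Subtype.ext e⟩
  have hcop : (Nat.card A).Coprime (Nat.card B) := by
    refine Nat.coprime_of_dvd fun p hp hpA hpB => ?_
    have := Fact.mk hp
    have h1 := commutator_syl_le hA hB hAB p
    rw [hs (pCore p G) (have := (pCore_isPGroup p G).isNilpotent; inferInstance), le_bot_iff] at h1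
    obtain ⟨⟨k, hk⟩⟩ := hq (normalClosure (syl p A : Set G)) fun h0 =>
      syl_ne_bot hA hp hpA (le_bot_iff.mp (h0 ▸ le_normalClosure))
    obtain ⟨⟨l, hl⟩⟩ := hq (normalClosure (syl p B : Set G)) fun h0 =>
      syl_ne_bot hB hp hpB (le_bot_iff.mp (h0 ▸ le_normalClosure))
    have h2 : ∀ (N : Subgroup G) [N.Normal] (k : ℕ), derivedSeries (G ⧸ N) k = ⊥ →
        derivedSeries G k ≤ N := fun N _ k hk => by
      rw [← map_derivedSeries_eq (QuotientGroup.mk'_surjective N), Subgroup.map_eq_bot_iff,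
        QuotientGroup.ker_mk'] at hk
      exact hk
    refine hns ⟨k + l + 1, le_bot_iff.mp (h1 ▸ commutator_mono ?_ ?_)⟩
    · exact (derivedSeries_antitone G (Nat.le_add_right k l)).trans (h2 _ _ hk)
    · exact (derivedSeries_antitone G (Nat.le_add_left l k)).trans (h2 _ _ hl)
  have key : ∀ A B : Subgroup G, Group.IsNilpotent A → Group.IsNilpotent B →
      (∀ g : G, ∃ a ∈ A, ∃ b ∈ B, g = a * b) → ∀ (N : Subgroup G) [N.Normal], N ≠ ⊥ →
      N.index ∣ Nat.card A := fun A B hA hB hAB N _ hN => by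
    by_cases h1 : A ⊔ N = ⊤
    · rw [← relIndex_top_right, ← h1, relIndex_sup_right]
      exact relIndex_dvd_card N A
    · have := hsub (A ⊔ N) A ((A ⊔ N) ⊓ B) h1 le_sup_left inf_le_left hA
        (isNilpotent_of_le inf_le_right hB) fun g hg => by
          obtain ⟨a, ha, b, hb, rfl⟩ := hAB g
          exact ⟨a, ha, b, ⟨(mul_mem_cancel_left (mem_sup_left ha)).mp hg, hb⟩, rfl⟩
      exact absurd (hs N (Group.isSolvable_of_isSolvable_injective
        (inclusion_injective (le_sup_right : N ≤ A ⊔ N)))) hN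
  have hnt : Nontrivial G := by
    by_contra h0
    rw [not_nontrivial_iff_subsingleton] at h0
    exact hns inferInstance
  refine Hyp.false (A := A) (B := B) ⟨⟨fun N hN => ?_⟩, hns, hA, hB, hcop, hAB, hsub⟩
  rw [or_iff_not_imp_left, ← index_eq_one]
  exact fun h0 => Nat.eq_one_of_dvd_coprimes hcop (key A B hA hB hAB N h0)
    (key B A hB hA (forall_mul_symm hAB) N h0)

/-- The Kegel–Wielandt theorem. -/
theorem kegel_wielandt [Finite G] {A B : Subgroup G} (hA : Group.IsNilpotent A)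
    (hB : Group.IsNilpotent B) (hAB : ∀ g : G, ∃ a ∈ A, ∃ b ∈ B, g = a * b) :
    Group.IsSolvable G := kegel_wielandt_aux _ G A B rfl hA hB hAB

end Cfsg.Lib.Solv.KW
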