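import Cfsg.Agent.Solv.Kazarin
import Cfsg.Agent.Solv.NilpotentHall
import Cfsg.Agent.Solv.ElemLift
import Cfsg.Agent.Solv.Hall

/-!
# Consequences of Kazarin's theorem
-/

set_option autoImplicit false

open scoped commutatorElement Pointwise

namespace Cfsg.Lib.Solv.ClassSize

variable {G : Type*} [Group G] [Finite G]

theorem not_dvd_card_fitting_of_pCore_eq_bot {p : ℕ} [hp : Fact p.Prime] (hO : pCore p G = ⊥) :
    ¬ p ∣ Nat.card (fittingSubgroup G) := by
  refine not_dvd_card_of_forall_orderOf hp.out fun x hx hxo => ?_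
  have h1 := mem_pCore_of_mem_fitting (p := p) hx (k := 1) (by rw [hxo, pow_one])
  rw [hO, Subgroup.mem_bot] at h1
  rw [h1, orderOf_one] at hxo
  exact hp.out.one_lt.ne hxo

/-- If `O_p(G) = 1`, an element of `p`-power class size centralizes the Fitting subgroup. -/
theorem fitting_le_cent_of_pCore_eq_bot {p : ℕ} [hp : Fact p.Prime] (hO : pCore p G = ⊥)
    {x : G} {k : ℕ} (hk : (Subgroup.centralizer ({x} : Set G)).index ∣ p ^ k) :
    fittingSubgroup G ≤ Subgroup.centralizer ({x} : Set G) := by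
  have := fitting_normal G
  exact le_cent_of_coprime (Nat.Coprime.coprime_dvd_right hk (Nat.Coprime.pow_right _
    ((Nat.Prime.coprime_iff_not_dvd hp.out).2 (not_dvd_card_fitting_of_pCore_eq_bot hO)).symm))

theorem normalClosure_le_centralizer_fitting {p : ℕ} [hp : Fact p.Prime] (hO : pCore p G = ⊥)
    {x : G} {k : ℕ} (hk : (Subgroup.centralizer ({x} : Set G)).index ∣ p ^ k) :
    Subgroup.normalClosure ({x} : Set G) ≤ Subgroup.centralizer (fittingSubgroup G : Set G) := by
  have := fitting_normal G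
  exact Subgroup.normalClosure_le_normal (Set.singleton_subset_iff.2
    (le_cent_iff.1 (fitting_le_cent_of_pCore_eq_bot hO hk)))

theorem normalClosure_le_fitting {p : ℕ} [hp : Fact p.Prime] (hO : pCore p G = ⊥)
    {x : G} {k : ℕ} (hk : (Subgroup.centralizer ({x} : Set G)).index ∣ p ^ k) :
    Subgroup.normalClosure ({x} : Set G) ≤ fittingSubgroup G := by
  have := isSolvable_normalClosure hp.out hk
  exact le_fitting_of_isSolvable_of_le_centralizer _ (normalClosure_le_centralizer_fitting hO hk)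

/-- If `O_p(G) = 1`, an element of `p`-power class size lies in the Fitting subgroup. -/
theorem mem_fitting_of_pCore_eq_bot {p : ℕ} [hp : Fact p.Prime] (hO : pCore p G = ⊥)
    {x : G} {k : ℕ} (hk : (Subgroup.centralizer ({x} : Set G)).index ∣ p ^ k) :
    x ∈ fittingSubgroup G :=
  normalClosure_le_fitting hO hk (Subgroup.subset_normalClosure (Set.mem_singleton x))

/-- If `O_p(G) = 1`, two elements of `p`-power class size commute. -/
theorem commute_of_pCore_eq_bot {p : ℕ} [hp : Fact p.Prime] (hO : pCore p G = ⊥)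
    {x y : G} {k l : ℕ} (hk : (Subgroup.centralizer ({x} : Set G)).index ∣ p ^ k)
    (hl : (Subgroup.centralizer ({y} : Set G)).index ∣ p ^ l) : Commute x y :=
  mem_cent_iff_commute.1 (fitting_le_cent_of_pCore_eq_bot hO hl (mem_fitting_of_pCore_eq_bot hO hk))

/-- Two elements of `p`-power class size commute modulo `O_p(G)`. -/
theorem commutator_mem_pCore {p : ℕ} [hp : Fact p.Prime]
    {x y : G} {k l : ℕ} (hk : (Subgroup.centralizer ({x} : Set G)).index ∣ p ^ k)
    (hl : (Subgroup.centralizer ({y} : Set G)).index ∣ p ^ l) :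
    x * y * x⁻¹ * y⁻¹ ∈ pCore p G := by
  have := pCore_characteristic p G
  have h := commute_of_pCore_eq_bot (pCore_quotient_pCore p G)
    ((index_cent_mk_dvd (pCore p G) x).trans hk) ((index_cent_mk_dvd (pCore p G) y).trans hl)
  rw [← QuotientGroup.eq_one_iff]
  simp only [QuotientGroup.mk_mul, QuotientGroup.mk_inv]
  rw [h.eq]
  group

/-- If all `p`-regular elements have `p`-power class size there is an abelian `p`-complement. -/
theorem exists_abelian_complement {p : ℕ} [hp : Fact p.Prime]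
    (h : ∀ x : G, (orderOf x).Coprime p →
      ∃ k, (Subgroup.centralizer ({x} : Set G)).index = p ^ k) :
    ∃ H : Subgroup G, IsMulCommutative H ∧ ¬ p ∣ Nat.card H ∧ (∃ k : ℕ, H.index = p ^ k) ∧
      (pCore p G ⊔ H).Normal := by
  have := pCore_characteristic p G
  set O := pCore p G with hOdef
  have hO : pCore p (G ⧸ O) = ⊥ := pCore_quotient_pCore p G
  have hF := not_dvd_card_fitting_of_pCore_eq_bot hO
  have := fitting_normal (G ⧸ O)
  set L := (fittingSubgroup (G ⧸ O)).comap (QuotientGroup.mk' O) with hL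
  have hOL : O ≤ L := fun x hx => by
    rw [hL, Subgroup.mem_comap, QuotientGroup.mk'_apply, (QuotientGroup.eq_one_iff x).2 hx]
    exact Subgroup.one_mem _
  have hreg : ∀ x : G, (orderOf x).Coprime p → x ∈ L := by
    intro x hx
    obtain ⟨k, hk⟩ := h x hx
    exact mem_fitting_of_pCore_eq_bot hO ((index_cent_mk_dvd O x).trans hk.dvd)
  obtain ⟨a, ha⟩ : ∃ a, L.index = p ^ a := exists_index_eq_pow_of_forall_mem
    fun q hq hqp x k hk => hreg x (by
      rw [hk]
      exact Nat.Coprime.pow_left _ ((Nat.coprime_primes hq hp.out).2 hqp))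
  have hrel : O.relIndex L = Nat.card (fittingSubgroup (G ⧸ O)) := by
    rw [← card_map_mk', hL, Subgroup.map_comap_eq_self_of_surjective
      (QuotientGroup.mk'_surjective O)]
  obtain ⟨b, hb⟩ := (pCore_isPGroup p G).exists_card_eq
  have hco : (Nat.card (O.subgroupOf L)).Coprime (O.subgroupOf L).index := by
    rw [card_subgroupOf_of_le hOL, hb]
    show (p ^ b).Coprime (O.relIndex L)
    rw [hrel]
    exact Nat.Coprime.pow_left _ ((Nat.Prime.coprime_iff_not_dvd hp.out).2 hF)
  obtain ⟨K, hK⟩ := Subgroup.exists_right_complement'_of_coprime hco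
  have hKc : ¬ p ∣ Nat.card (K.map L.subtype) := by
    rw [card_map_subtype, ← hK.symm.index_eq_card]
    show ¬ p ∣ O.relIndex L
    rw [hrel]
    exact hF
  have hsup : O ⊔ K.map L.subtype = L := by
    have h1 := congrArg (Subgroup.map L.subtype) hK.sup_eq_top
    rwa [Subgroup.map_sup, Subgroup.subgroupOf_map_subtype, inf_eq_left.2 hOL,
      ← MonoidHom.range_eq_map, Subgroup.range_subtype] at h1
  refine ⟨K.map L.subtype, ⟨⟨fun x y => Subtype.ext ?_⟩⟩, hKc, ⟨b + a, ?_⟩, ?_⟩
  · have hreg' : ∀ z : K.map L.subtype, (orderOf (z : G)).Coprime p := fun z =>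
      Nat.Coprime.coprime_dvd_left (by rw [Subgroup.orderOf_coe]; exact orderOf_dvd_natCard z)
        ((Nat.Prime.coprime_iff_not_dvd hp.out).2 hKc).symm
    obtain ⟨k, hk⟩ := h x (hreg' x)
    obtain ⟨l, hl⟩ := h y (hreg' y)
    have h1 := commutator_mem_pCore hk.dvd hl.dvd
    have h2 : (x : G) * y * (x : G)⁻¹ * (y : G)⁻¹ ∈ O ⊓ K.map L.subtype :=
      ⟨h1, Subgroup.mul_mem _ (Subgroup.mul_mem _ (Subgroup.mul_mem _ x.2 y.2)
        (Subgroup.inv_mem _ x.2)) (Subgroup.inv_mem _ y.2)⟩
    rw [inf_eq_bot_of_isPGroup_of_coprime (pCore_isPGroup p G)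
      ((Nat.Prime.coprime_iff_not_dvd hp.out).2 hKc).symm, Subgroup.mem_bot] at h2
    show (x : G) * y = y * x
    calc (x : G) * y = (x * y * (x : G)⁻¹ * (y : G)⁻¹) * y * x := by group
      _ = y * x := by rw [h2, one_mul]
  · rw [Subgroup.index_map_subtype, hK.index_eq_card, card_subgroupOf_of_le hOL, hb, ha, pow_add]
  · rw [hsup]
    infer_instance

/-- An abelian subgroup of `p`-power index is normal modulo `O_p(G)` up to its `p`-part: every
`p`-regular element is conjugate into an abelian `p`-complement. -/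
theorem exists_conj_mem_of_abelian_complement {p : ℕ} [hp : Fact p.Prime] {H : Subgroup G}
    [IsMulCommutative H] (hH : ¬ p ∣ Nat.card H) {k : ℕ} (hk : H.index = p ^ k) :
    (pCore p G ⊔ H).Normal ∧ ∀ x : G, (orderOf x).Coprime p → ∃ g : G, g * x * g⁻¹ ∈ H := by
  have := pCore_characteristic p G
  set O := pCore p G with hOdef
  have hO : pCore p (G ⧸ O) = ⊥ := pCore_quotient_pCore p G
  have hF := not_dvd_card_fitting_of_pCore_eq_bot hO
  have := fitting_normal (G ⧸ O)
  have h1 : H.map (QuotientGroup.mk' O) ≤ fittingSubgroup (G ⧸ O) := by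
    rintro _ ⟨x, hx, rfl⟩
    have hle : H ≤ Subgroup.centralizer ({x} : Set G) :=
      le_cent_iff.2 (Subgroup.le_centralizer H hx)
    exact mem_fitting_of_pCore_eq_bot hO ((index_cent_mk_dvd O x).trans
      ((Subgroup.index_dvd_of_le hle).trans hk.dvd))
  have h2 : fittingSubgroup (G ⧸ O) ≤ H.map (QuotientGroup.mk' O) := by
    refine le_of_normal_of_coprime_card_index ?_
    refine Nat.Coprime.coprime_dvd_right
      ((Subgroup.index_map_dvd H (QuotientGroup.mk'_surjective O)).trans hk.dvd) ?_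
    exact Nat.Coprime.pow_right _ ((Nat.Prime.coprime_iff_not_dvd hp.out).2 hF).symm
  have h3 : O ⊔ H = (fittingSubgroup (G ⧸ O)).comap (QuotientGroup.mk' O) := by
    rw [← le_antisymm h1 h2, Subgroup.comap_map_eq, QuotientGroup.ker_mk', sup_comm]
  have hn : (O ⊔ H).Normal := by rw [h3]; infer_instance
  refine ⟨hn, fun x hx => ?_⟩
  have hxL : x ∈ O ⊔ H := mem_of_coprime_orderOf_index_of_normal
    (Nat.Coprime.coprime_dvd_right ((Subgroup.index_dvd_of_le le_sup_right).trans hk.dvd)
      (Nat.Coprime.pow_right _ hx))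
  obtain ⟨b, hb⟩ := (pCore_isPGroup p G).exists_card_eq
  obtain ⟨n, -, hn⟩ := exists_conj_le_of_le_sup (N := O) (H := H) (K := Subgroup.zpowers x)
    (by rw [Subgroup.normalizer_eq_top]; exact le_top)
    (inf_eq_bot_of_isPGroup_of_coprime (pCore_isPGroup p G)
      ((Nat.Prime.coprime_iff_not_dvd hp.out).2 hH).symm)
    (Subgroup.zpowers_le.2 hxL)
    (by rw [Nat.card_zpowers, hb]; exact Nat.Coprime.pow_right _ hx)
    (Or.inl (Coprime.isSolvable_zpowers x))
  exact ⟨n, hn (conj_mem_conj_smul n (Subgroup.mem_zpowers x))⟩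

theorem index_cent_eq_pow_of_abelian_complement {p : ℕ} [hp : Fact p.Prime] {H : Subgroup G}
    [IsMulCommutative H] (hH : ¬ p ∣ Nat.card H) {k : ℕ} (hk : H.index = p ^ k) {x : G}
    (hx : (orderOf x).Coprime p) : ∃ j, (Subgroup.centralizer ({x} : Set G)).index = p ^ j := by
  obtain ⟨g, hg⟩ := (exists_conj_mem_of_abelian_complement hH hk).2 x hx
  have hle : H ≤ Subgroup.centralizer ({g * x * g⁻¹} : Set G) :=
    le_cent_iff.2 (Subgroup.le_centralizer H hg)
  have h1 := (Subgroup.index_dvd_of_le hle).trans hk.dvd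
  rw [index_cent_conj] at h1
  obtain ⟨j, -, hj⟩ := (Nat.dvd_prime_pow hp.out).1 h1
  exact ⟨j, hj⟩

end Cfsg.Lib.Solv.ClassSize
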