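import Cfsg.Agent.Solv.CentralComm
import Cfsg.Agent.Solv.ActionTransport
import Cfsg.Agent.Solv.ElemAb
import Cfsg.Agent.Solv.CoprimeAbelian
import Cfsg.Agent.Fus.SylIn
import Cfsg.Agent.Char.OrbitCount

/-!
Normal subgroups with two class sizes containing a non-central Sylow subgroup are nilpotent
(in particular Itô's theorem).
-/

set_option autoImplicit false

namespace Cfsg.Lib.Solv.ClassSize

open Subgroup Cfsg.Lib.Fus
open scoped commutatorElement

variable {G : Type*} [Group G]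

/-- An elementary abelian group of automorphisms acting semiregularly off a proper subgroup
has prime order. -/
theorem relIndex_dvd_prime_of_semiregular [Finite G] {S Q U : Subgroup G} {q : ℕ}
    (hQ : Q ≤ normalizer (S : Set G)) (hcop : (Nat.card Q).Coprime (Nat.card S)) (hU : ¬ S ≤ U)
    (hcomm : ∀ a ∈ Q, ∀ b ∈ Q, ⁅a, b⁆ ∈ centralizer (S : Set G))
    (hexp : ∀ a ∈ Q, a ^ q ∈ centralizer (S : Set G))
    (hfix : ∀ a ∈ Q, a ∉ centralizer (S : Set G) → S ⊓ centralizer {a} ≤ U) :
    (centralizer (S : Set G)).relIndex Q ∣ q := by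
  let ψ := conjAutOf S Q hQ
  have hcard : (centralizer (S : Set G)).relIndex Q = Nat.card ψ.range := by
    rw [relIndex, ← ker_conjAutOf hQ, index_ker]
  have hB : IsMulCommutative ψ.range := ⟨⟨by
    rintro ⟨_, a, rfl⟩ ⟨_, b, rfl⟩
    refine Subtype.ext (commutatorElement_eq_one_iff_mul_comm.1 ?_)
    simp only
    rw [← map_commutatorElement]
    exact (mem_ker_conjAutOf hQ).2 (hcomm a a.2 b b.2)⟩⟩
  have hcyc : IsCyclic ψ.range := by
    by_contra hnc
    apply hU
    have h1 := Act.le_of_forall_fix_zpowers (φ := MonoidHom.id (MulAut S)) (H := ⊤)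
      (B := ψ.range) hnc (Act.inv_top _) (by
        rw [card_top]
        exact Nat.Coprime.coprime_dvd_left (card_range_dvd ψ) hcop) (U := U.subgroupOf S) (by
        rintro _ ⟨a, rfl⟩ ha s hs
        have h2 := (conjAutOf_apply_eq_self_iff hQ a s).1 
          ((Act.mem_fix_zpowers (φ := MonoidHom.id (MulAut S))).1 hs.2)
        exact hfix a a.2 (fun h => ha ((mem_ker_conjAutOf hQ).2 h)) ⟨s.2, mem_cent.2 h2.symm⟩)
    intro s hs
    exact h1 (mem_top (⟨s, hs⟩ : S))
  rw [hcard, ← IsCyclic.exponent_eq_card]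
  refine Monoid.exponent_dvd_of_forall_pow_eq_one ?_
  rintro ⟨_, a, rfl⟩
  refine Subtype.ext ?_
  change ψ a ^ q = 1
  rw [← map_pow]
  exact (mem_ker_conjAutOf hQ).2 (hexp a a.2)

theorem dvd_relIndex_of_normal [Finite G] {Z C : Subgroup G} [Z.Normal] {p k : ℕ} (hp : p.Prime)
    {x : G} (hxC : x ∈ C) (hx : orderOf x = p ^ k) (hxZ : x ∉ Z) : p ∣ Z.relIndex C := by
  by_contra h
  refine hxZ (mem_of_coprime_orderOf_index_of_normal (H := Z.subgroupOf C) (x := ⟨x, hxC⟩) ?_)
  rw [← Subgroup.orderOf_coe, hx]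
  exact Nat.Coprime.pow_left _ ((Nat.Prime.coprime_iff_not_dvd hp).2 h)

theorem exists_not_mem_of_dvd_relIndex [Finite G] {Z C : Subgroup G} {p : ℕ} (hp : p.Prime)
    (h : p ∣ Z.relIndex C) : ∃ x ∈ C, x ∉ Z ∧ ∃ k, orderOf x = p ^ k := by
  by_contra hcon
  push Not at hcon
  refine not_dvd_index_of_forall_mem hp (K := Z.subgroupOf C) (fun x k hk => ?_) h
  by_contra hx
  exact hcon x x.2 hx k (by rw [Subgroup.orderOf_coe, hk])

theorem relIndex_center_eq_of_index_eq [Finite G] {x y : G}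
    (h : (centralizer ({x} : Set G)).index = (centralizer ({y} : Set G)).index) :
    (center G).relIndex (centralizer {x}) = (center G).relIndex (centralizer {y}) := by
  have h1 := relIndex_mul_index (center_le_cent x)
  have h2 := relIndex_mul_index (center_le_cent y)
  rw [h, ← h2] at h1
  exact Nat.eq_of_mul_eq_mul_right (Nat.pos_of_ne_zero index_ne_zero_of_finite) h1

theorem exists_pow_not_mem_pow_mem {Z : Subgroup G} {p k : ℕ} {x : G} (hx : x ^ p ^ k ∈ Z)
    (hxZ : x ∉ Z) : ∃ j, x ^ p ^ j ∉ Z ∧ (x ^ p ^ j) ^ p ∈ Z := by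
  induction k with
  | zero => exact absurd (by simpa using hx) hxZ
  | succ k ih =>
    by_cases h : x ^ p ^ k ∈ Z
    · exact ih h
    · exact ⟨k, h, by rwa [← pow_mul, ← pow_succ]⟩

section Two

variable [Finite G] {N : Subgroup G} {m : ℕ}
  (h : ∀ x ∈ N, (centralizer ({x} : Set G)).index = 1 ∨ (centralizer ({x} : Set G)).index = m)

include h

omit [Finite G] in
theorem index_eq_of_two {x : G} (hx : x ∈ N) (hxZ : x ∉ center G) :
    (centralizer ({x} : Set G)).index = m :=
  (h x hx).resolve_left fun h => hxZ (index_cent_eq_one_iff.1 h)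

theorem cent_eq_of_two {x y : G} (hx : x ∈ N) (hy : y ∈ N) (hyZ : y ∉ center G)
    (hle : centralizer ({x} : Set G) ≤ centralizer {y}) :
    centralizer ({x} : Set G) = centralizer {y} := by
  refine cent_eq_of_le_of_index_le hle ?_
  have h1 := one_lt_index_cent hyZ
  have h2 := index_eq_of_two h hy hyZ
  rcases h x hx with h3 | h3 <;> omega

theorem cent_le_of_two {x y : G} (hx : x ∈ N) (hxZ : x ∉ center G) (hy : y ∈ N) (hc : Commute x y)
    (hcop : (orderOf x).Coprime (orderOf y)) : centralizer ({x} : Set G) ≤ centralizer {y} := by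
  have h1 := cent_mul_of_coprime hc hcop
  rw [← cent_eq_of_two h (mul_mem hx hy) hx hxZ (h1.le.trans inf_le_left), h1]
  exact inf_le_right

theorem cent_le_of_mixed {π : Set ℕ} {x y w : G} (hx : x ∈ N) (hxZ : x ∉ center G) (hy : y ∈ N)
    (hyZ : y ∉ center G) (hc : Commute x y) (hxπ : FT.PiElt πᶜ x) (hyπ : FT.PiElt π y)
    (hw : w ∈ N ⊓ centralizer {y}) : centralizer ({y} : Set G) ≤ centralizer {w} := by
  have hxy : centralizer ({x} : Set G) = centralizer {y} :=
    cent_eq_of_two h hx hy hyZ (cent_le_of_two h hx hxZ hy hc (FT.p_elt_coprime hyπ hxπ).symm)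
  have hwy : Commute w y := mem_cent_iff_commute.1 hw.2
  have hwx : Commute w x := mem_cent_iff_commute.1 (hxy.ge hw.2)
  rw [← FT.consttC π w]
  refine le_trans (le_inf ?_ ?_) (inf_cent_le_cent_mul _ _)
  · rw [← hxy]
    exact cent_le_of_two h hx hxZ (FT.groupX_constt π hw.1) (FT.commute_constt π hwx).symm
      (FT.p_elt_coprime (FT.p_elt_constt π w) hxπ).symm
  · exact cent_le_of_two h hy hyZ (FT.groupX_constt πᶜ hw.1) (FT.commute_constt πᶜ hwy).symm
      (FT.p_elt_coprime hyπ (FT.p_elt_constt πᶜ w))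

/-- A normal subgroup with two class sizes containing a non-central Sylow subgroup is
nilpotent. -/
theorem isNilpotent_of_two_sizes [hN : N.Normal] {r : ℕ} [hr : Fact r.Prime] (R : Sylow r G)
    (hR : ¬ (R : Subgroup G) ≤ center G) (hRN : (R : Subgroup G) ≤ N) : Group.IsNilpotent N := by
  by_contra hnil
  have hrN : ∀ (x : G) (k : ℕ), orderOf x = r ^ k → x ∈ N := fun x k hk =>
    mem_of_coprime_orderOf_index_of_normal (by
      rw [hk]
      exact ((sylow_index_coprime_pow R k).coprime_dvd_left (index_dvd_of_le hRN)).symm)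
  -- a non-central `q`-element of `N`
  obtain ⟨q, hq, hqr, y₀, hy₀N, hy₀Z, k₀, hk₀⟩ : ∃ q : ℕ, q.Prime ∧ q ≠ r ∧ ∃ y ∈ N,
      y ∉ center G ∧ ∃ k, orderOf y = q ^ k := by
    by_contra hcon
    push Not at hcon
    refine hnil (isNilpotent_of_forall_commute_of_prime_pow fun p q hp hq hpq k l x y hx hy => ?_)
    rw [← Subgroup.orderOf_coe] at hx hy
    by_cases hpr : p = r
    · have : (y : G) ∈ center G := by
        by_contra hyZ
        exact hcon q hq (hpr ▸ hpq.symm) y y.2 hyZ l hy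
      exact Subtype.ext (mem_center_iff.1 this x)
    · have : (x : G) ∈ center G := by
        by_contra hxZ
        exact hcon p hp hpr x x.2 hxZ k hx
      exact Subtype.ext (mem_center_iff.1 this y).symm
  have : Fact q.Prime := ⟨hq⟩
  obtain ⟨Q, hy₀Q⟩ := exists_sylow_mem_of_pow_eq_one (p := q) (k := k₀) (x := y₀)
    (by rw [← hk₀, pow_orderOf_eq_one])
  obtain ⟨y, hyN, hyZ, hyq, ⟨ky, hky⟩, hyQ⟩ : ∃ y ∈ N, y ∉ center G ∧ y ^ q ∈ center G ∧
      (∃ k, orderOf y = q ^ k) ∧ ∀ s ∈ (Q : Subgroup G), ⁅s, y⁆ ∈ center G := by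
    obtain ⟨y, hy, hyZ, hyc⟩ := PG.exists_not_mem_commutator_mem (S := (Q : Subgroup G))
      (N := (Q : Subgroup G) ⊓ N) (H := center G) Q.isPGroup'.isNilpotent inf_le_left
      (le_normalizer_inf le_normalizer (by rw [normalizer_eq_top]; exact le_top))
      fun hle => hy₀Z (hle ⟨hy₀Q, hy₀N⟩)
    obtain ⟨k, hk⟩ := exists_orderOf_eq_pow_of_mem Q.isPGroup' hy.1
    obtain ⟨j, hj1, hj2⟩ := exists_pow_not_mem_pow_mem (Z := center G) (p := q) (k := k) (x := y)
      (by rw [← hk, pow_orderOf_eq_one]; exact one_mem _) hyZ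
    refine ⟨y ^ q ^ j, pow_mem hy.2 _, hj1, hj2,
      exists_orderOf_eq_pow_of_mem Q.isPGroup' (pow_mem hy.1 _), fun s hs => ?_⟩
    have h1 : ⁅s, y⁆ ∈ center G := by
      rw [← commutatorElement_inv]
      exact inv_mem (hyc s hs).1
    rw [commutatorElement_pow_right_of_mem_center h1]
    exact pow_mem h1 _
  -- a non-central `r`-element commuting with `y`
  obtain ⟨x, hxC, hxZ, kx, hkx⟩ : ∃ x ∈ centralizer ({y} : Set G), x ∉ center G ∧
      ∃ k, orderOf x = r ^ k := by
    obtain ⟨x₀, hx₀R, hx₀Z⟩ := SetLike.not_le_iff_exists.1 hR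
    obtain ⟨k, hk⟩ := exists_orderOf_eq_pow_of_mem R.isPGroup' hx₀R
    refine exists_not_mem_of_dvd_relIndex hr.out ?_
    rw [relIndex_center_eq_of_index_eq ((index_eq_of_two h hyN hyZ).trans
      (index_eq_of_two h (hRN hx₀R) hx₀Z).symm)]
    exact dvd_relIndex_of_normal hr.out (self_mem_cent x₀) hk hx₀Z
  have hxN := hrN x kx hkx
  have hF : ∀ w ∈ N ⊓ centralizer {y}, centralizer ({y} : Set G) ≤ centralizer {w} :=
    fun w hw => cent_le_of_mixed h (π := {q}) hxN hxZ hyN hyZ (mem_cent_iff_commute.1 hxC)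
      (FT.piElt_iff.2 (hkx ▸ IsPiNum.prime_pow hr.out (by simpa using hqr.symm) _))
      (FT.piElt_iff.2 (hky ▸ IsPiNum.prime_pow hq (Set.mem_singleton q) _)) hw
  have hF' : ∀ w ∈ N ⊓ centralizer {y}, w ∉ center G →
      centralizer ({y} : Set G) = centralizer {w} :=
    fun w hw hwZ => cent_eq_of_two h hyN hw.1 hwZ (hF w hw)
  set C := centralizer ({y} : Set G) with hC
  set F := N ⊓ C with hFdef
  -- `|F : Z|` divides `m`
  have hfm : (center G).relIndex F ∣ m := by
    have hne : F.subgroupOf N ≠ ⊤ := by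
      intro htop
      have hle : N ≤ F := subgroupOf_eq_top.1 htop
      have : IsMulCommutative N := PG.isMulCommutative_of_forall fun a ha b hb =>
        mem_cent.1 (hF b (hle hb) (hle ha).2)
      exact hnil (by open scoped IsMulCommutative in infer_instance)
    obtain ⟨u, hu⟩ : ∃ u : N, ∀ g : N, (g : G) * u * (g : G)⁻¹ ∉ F := by
      by_contra hcon
      push Not at hcon
      exact hne (eq_top_of_forall_exists_conj_mem hcon)
    have huZ : (u : G) ∉ center G := fun huZ => hu 1 (by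
      rw [OneMemClass.coe_one, one_mul, inv_one, mul_one]
      exact ⟨u.2, center_le_cent y huZ⟩)
    have h1 := Char.relIndex_dvd_card_of_centralizer (center G) F
      {g : G | ∃ n ∈ N, n * u * n⁻¹ = g} (by
        rintro g hg _ ⟨n, hn, rfl⟩
        exact ⟨g * n, mul_mem hg.1 hn, by group⟩) (by
        rintro _ ⟨n, hn, rfl⟩ g hg
        refine ⟨fun hgn => ?_, fun hgZ => by rw [← mem_center_iff.1 hgZ]; group⟩
        by_contra hgZ
        refine hu ⟨n, hn⟩ (mem_inf.2 ⟨mul_mem (mul_mem hn u.2) (inv_mem hn), ?_⟩)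
        rw [hF' g hg hgZ, mem_cent_comm]
        exact mem_cent_iff_conj.2 hgn)
    refine h1.trans ?_
    rw [← index_eq_of_two h u.2 huZ]
    exact (card_orbit_eq_relIndex N (u : G)).dvd.trans (relIndex_dvd_index_of_normal_right _ N)
  have hyF : y ∈ F := ⟨hyN, self_mem_cent y⟩
  have hm : C.index = m := index_eq_of_two h hyN hyZ
  have hrm : r ∣ C.index :=
    hm ▸ (dvd_relIndex_of_normal hr.out (⟨hxN, hxC⟩ : x ∈ F) hkx hxZ).trans hfm
  have hqm : q ∣ C.index := hm ▸ (dvd_relIndex_of_normal hq hyF hky hyZ).trans hfm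
  -- the Sylow `r`-subgroup `S` of `C`
  obtain ⟨S, hS, hxS⟩ := exists_sylIn_ge (zpowers_le.2 hxC)
    (isPGroup_zpowers_of_pow_eq_one (p := r) (k := kx) (by rw [← hkx, pow_orderOf_eq_one]))
  replace hxS : x ∈ S := hxS (mem_zpowers x)
  have hSF : S ≤ F := fun s hs => by
    obtain ⟨k, hk⟩ := exists_orderOf_eq_pow_of_mem hS.pgroup hs
    exact ⟨hrN s k hk, hS.le hs⟩
  have hCS : centralizer (S : Set G) = C := by
    refine le_antisymm ?_ fun c hc => mem_centralizer_iff.2 fun s hs =>
      (mem_cent.1 (hF s (hSF hs) hc)).symm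
    rw [hF' x (hSF hxS) hxZ]
    exact centralizer_le (Set.singleton_subset_iff.2 hxS)
  have hSc : IsMulCommutative S := PG.isMulCommutative_of_forall fun a ha b hb =>
    mem_cent.1 (hF b (hSF hb) (hS.le ha))
  have hNS : ∀ g ∈ normalizer (C : Set G), g ∈ normalizer (S : Set G) := by
    intro g hg
    refine mem_normalizer_of_conj_mem fun s hs => ?_
    have h1 : g * s * g⁻¹ ∈ C := conj_mem_of_mem_normalizer hg (hS.le hs)
    obtain ⟨k, hk⟩ := exists_orderOf_eq_pow_of_mem hS.pgroup hs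
    refine hS.le_of_normalizes (zpowers_le.2 h1) (isPGroup_zpowers_of_pow_eq_one (k := k) ?_)
      ((zpowers_le.2 (hCS.ge h1)).trans (centralizer_le_normalizer _)) (mem_zpowers _)
    rw [conj_pow, ← hk, pow_orderOf_eq_one]
    simp
  obtain ⟨R', hR'⟩ := hS.pgroup.exists_le_sylow
  obtain ⟨u, huR, huS, huS'⟩ := exists_mem_normalizer_of_lt R'.isPGroup'
    (lt_of_le_of_ne hR' fun he => not_dvd_index_of_sylow_le R' (he ▸ hS.le) hrm)
  have huC : u ∉ C := fun huC => huS' (hS.le_of_normalizes (zpowers_le.2 huC)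
    (R'.isPGroup'.to_le (zpowers_le.2 huR)) (zpowers_le.2 huS) (mem_zpowers u))
  -- the subgroup `D`
  let D : Subgroup G :=
    (centralizer ({(y : G ⧸ center G)} : Set (G ⧸ center G))).comap (QuotientGroup.mk' _)
  have hD : ∀ {g : G}, g ∈ D ↔ ⁅g, y⁆ ∈ center G := mem_comap_cent_iff _
  have hQD : (Q : Subgroup G) ≤ D := fun s hs => hD.2 (hyQ s hs)
  have hDC : D ≤ normalizer (C : Set G) := fun g hg => by
    rw [mem_normalizer_iff_conj_smul_eq, hC, conj_smul_centralizer_singleton,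
      show g * y * g⁻¹ = y * ⁅g, y⁆ by
        rw [mem_center_iff.1 (hD.1 hg) y, commutatorElement_def]; group]
    exact cent_mul_center (hD.1 hg)
  have hDS : D ≤ normalizer (S : Set G) := fun g hg => hNS g (hDC hg)
  have hDq : ∀ g ∈ D, ⁅g, y⁆ ^ q = 1 := fun g hg => by
    rw [← commutatorElement_pow_right_of_mem_center (hD.1 hg),
      commutatorElement_eq_one_iff_mul_comm]
    exact mem_center_iff.1 hyq g
  have hcop : (Nat.card (Q : Subgroup G)).Coprime (Nat.card S) :=
    IsPGroup.coprime_card_of_ne q r hqr _ _ Q.isPGroup' hS.pgroup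
  have hQq : C.relIndex Q ∣ q := by
    rw [← hCS]
    refine relIndex_dvd_prime_of_semiregular (U := center G) (hQD.trans hDS) hcop
      (fun hle => hxZ (hle hxS)) (fun a ha b hb => ?_) (fun a ha => ?_) fun a _ haC s hs => ?_
    · have h1 : (⁅(⟨a, hQD ha⟩ : D), (⟨b, hQD hb⟩ : D)⁆ : D) ∈
          (commHom y D fun g hg => hD.1 hg).ker := by
        rw [MonoidHom.mem_ker, map_commutatorElement, commutatorElement_eq_one_iff_mul_comm]
        exact mem_center_iff.1 (hD.1 (hQD hb)) _
      rw [ker_commHom] at h1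
      exact hCS.ge h1
    · rw [hCS, hC, mem_cent, ← commutatorElement_eq_one_iff_mul_comm,
        commutatorElement_pow_left_of_mem_center (hyQ a ha)]
      exact hDq a (hQD ha)
    · by_contra hsZ
      exact haC (by rw [hCS, hF' s (hSF hs.1) hsZ, mem_cent_comm]; exact hs.2)
  have hq2 : ¬ q * q ∣ (center G).relIndex F := by
    intro h2
    have h3 : m ∣ q * (Q : Subgroup G).index := by
      rw [← hm]
      refine (index_dvd_of_le (inf_le_left : C ⊓ Q ≤ C)).trans ?_
      rw [← relIndex_mul_index (inf_le_right : C ⊓ Q ≤ Q), inf_relIndex_right]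
      exact Nat.mul_dvd_mul_right hQq _
    exact Q.not_dvd_index (Nat.dvd_of_mul_dvd_mul_left hq.pos (h2.trans (hfm.trans h3)))
  -- `u` normalizes `D`
  have huD : u ∈ normalizer (D : Set G) := by
    have huC' : u ∈ normalizer (C : Set G) := hCS ▸ normalizer_le_normalizer_centralizer S huS
    have h1 : u⁻¹ * y * u ∈ F :=
      ⟨by simpa using hN.conj_mem y hyN u⁻¹, inv_conj_mem_of_mem_normalizer huC' hyF.2⟩
    have hn : ∀ {a : G}, a ∈ normalizer (center G : Set G) := by
      intro a; rw [normalizer_eq_top]; exact mem_top a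
    have h2 : u⁻¹ * y * u ∈ center G ⊔ zpowers y := by
      by_contra h2
      apply hq2
      have h3 := PG.card_sup_zpowers hq hn hyZ hyq
      have h4 := PG.card_sup_zpowers hq (K := center G ⊔ zpowers y) (x := u⁻¹ * y * u)
        (centralizer_le_normalizer _ (le_cent_iff.1 (sup_le (center_le_cent _)
          (zpowers_le.2 (mem_cent_comm.1 h1.2))))) h2 (mem_sup_left (by
            have := (inferInstance : (center G).Normal).conj_mem _ hyq u⁻¹
            rw [← conj_pow] at this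
            simpa using this))
      have h5 : center G ⊔ zpowers y ⊔ zpowers (u⁻¹ * y * u) ≤ center G ⊔ F :=
        sup_le (sup_le_sup_left (zpowers_le.2 hyF) _) ((zpowers_le.2 h1).trans le_sup_right)
      have h6 := card_dvd_of_le h5
      rw [h4, h3, ← relIndex_mul_card_of_le (le_sup_left : center G ≤ center G ⊔ F),
        relIndex_sup_left, ← mul_assoc] at h6
      exact Nat.dvd_of_mul_dvd_mul_right Nat.card_pos h6
    refine mem_normalizer_of_conj_mem fun g hg => hD.2 ?_
    have h3 : ⁅g, u⁻¹ * y * u⁆ ∈ center G := by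
      obtain ⟨z, hz, n, hzn⟩ := (PG.mem_sup_zpowers_iff hn).1 h2
      rw [hzn, commutator_mem_center_iff, QuotientGroup.mk_mul, (QuotientGroup.eq_one_iff z).2 hz,
        one_mul, QuotientGroup.mk_zpow]
      exact (commutator_mem_center_iff.1 (hD.1 hg)).zpow_right n
    have h4 := (inferInstance : (center G).Normal).conj_mem _ h3 u
    rwa [conjugate_commutatorElement, show u * (u⁻¹ * y * u) * u⁻¹ = y by group] at h4
  have hV : ⁅S, D⁆ ≤ ⁅S, (Q : Subgroup G)⁆ := by
    obtain ⟨k, hk⟩ : ∃ k, C.relIndex D = q ^ k := by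
      rw [hC, relIndex, ← ker_commHom y D fun g hg => hD.1 hg, index_ker]
      refine IsPGroup.iff_card.1 ?_
      rintro ⟨_, g, rfl⟩
      exact ⟨1, Subtype.ext (by simpa using hDq g g.2)⟩
    rw [commutator_le]
    intro s hs d hd
    obtain ⟨a, ha, c, hc, rfl⟩ := forall_mul_of_coprime_relIndex (A := (Q : Subgroup G)) (B := C)
      (by rw [hk]
          exact (sylow_index_coprime_pow Q k).coprime_dvd_left (relIndex_dvd_index_of_le hQD)) hd
    have h1 : c * s⁻¹ = s⁻¹ * c := (mem_centralizer_iff.1 (hCS.ge hc.1) _ (inv_mem hs)).symm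
    have h2 : ⁅s, a * c⁆ = ⁅s, a⁆ := by
      calc ⁅s, a * c⁆ = s * a * (c * s⁻¹) * c⁻¹ * a⁻¹ := by rw [commutatorElement_def]; group
        _ = _ := by rw [h1, commutatorElement_def]; group
    rw [h2]
    exact commutator_mem_commutator hs ha.1
  have hVS : ⁅S, D⁆ ≤ S := commutator_le_left_of_le_normalizer hDS
  have hV0 : ⁅S, D⁆ ≠ ⊥ := fun h0 => by
    rw [commutator_eq_bot_iff_le_centralizer', hCS] at h0
    exact not_dvd_index_of_sylow_le Q (hQD.trans h0) hqm
  have hfix := PG.inf_centralizer_ne_bot_of_isNilpotent (S := ⁅S, D⁆ ⊔ zpowers u) (N := ⁅S, D⁆)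
    (R'.isPGroup'.to_le (sup_le (hVS.trans hR') (zpowers_le.2 huR))).isNilpotent le_sup_left
    (sup_le le_normalizer (le_normalizer_commutator (zpowers_le.2 huS) (zpowers_le.2 huD))) hV0
  obtain ⟨⟨v, hvV, hvC⟩, hv1⟩ := ne_bot_iff_exists_ne_one.1 hfix
  by_cases hvZ : v ∈ center G
  · have h1 : v ∈ S ⊓ centralizer ((Q : Subgroup G) : Set G) ⊓ ⁅S, (Q : Subgroup G)⁆ :=
      ⟨⟨hVS hvV, center_le_centralizer _ hvZ⟩, hV hvV⟩
    rw [Coprime.centralizer_inf_commutator_eq_bot (hQD.trans hDS) hcop, mem_bot] at h1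
    exact hv1 (Subtype.ext h1)
  · apply huC
    rw [hF' v (hSF (hVS hvV)) hvZ, mem_cent]
    exact mem_centralizer_iff.1 hvC u (mem_sup_right (mem_zpowers u))

end Two

end Cfsg.Lib.Solv.ClassSize
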