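import Cfsg.Agent.Solv.ClassSize
import Cfsg.Agent.Solv.ElemLift
import Cfsg.Agent.FT.Constt

/-!
Counting conjugacy classes (of `π`-elements) through commuting pairs.
-/

set_option autoImplicit false

namespace Cfsg.Lib.Solv.ClassNum

open Cfsg.Lib.FT Cfsg.Lib.Solv.ClassSize Subgroup

universe u

variable {G : Type*} [Group G]

theorem card_pairs_eq_sum {α β : Type*} [Fintype α] [Finite β] (R : α → β → Prop) :
    Nat.card {p : α × β // R p.1 p.2} = ∑ a, Nat.card {b // R a b} := by
  rw [Nat.card_congr (Equiv.subtypeProdEquivSigmaSubtype R), Nat.card_sigma]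

theorem card_pairs_eq_sum_filter {α β : Type*} [Fintype α] [Finite β] (P : α → Prop)
    [DecidablePred P] (R : α → β → Prop) :
    Nat.card {p : α × β // P p.1 ∧ R p.1 p.2} = ∑ a with P a, Nat.card {b // R a b} := by
  rw [card_pairs_eq_sum (fun a b => P a ∧ R a b), Finset.sum_filter]
  refine Finset.sum_congr rfl fun a _ => ?_
  split_ifs with h
  · simp [h]
  · simp [h]

theorem card_cent_of_isConj {x y : G} [Finite G] (h : IsConj x y) :
    Nat.card (centralizer ({x} : Set G)) = Nat.card (centralizer ({y} : Set G)) := by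
  have h1 := (centralizer ({x} : Set G)).card_mul_index
  have h2 := (centralizer ({y} : Set G)).card_mul_index
  rw [index_cent_of_isConj h, ← h2] at h1
  exact Nat.eq_of_mul_eq_mul_right (Nat.pos_of_ne_zero index_ne_zero_of_finite) h1

/-- The sum of the centralizer orders over a union of classes. -/
theorem sum_card_cent [Fintype G] (Q : ConjClasses G → Prop)
    [DecidablePred fun x : G => Q (ConjClasses.mk x)] :
    ∑ x with Q (ConjClasses.mk x), Nat.card (centralizer ({x} : Set G)) =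
      Nat.card {C // Q C} * Nat.card G := by
  classical
  have := Fintype.ofFinite (ConjClasses G)
  rw [← Finset.sum_fiberwise_of_maps_to (s := Finset.univ.filter fun x => Q (ConjClasses.mk x))
    (t := Finset.univ.filter Q) (g := ConjClasses.mk) (by simp),
    Finset.sum_const_nat (m := Nat.card G), Nat.subtype_card (Finset.univ.filter Q) (by simp)]
  intro C hC
  obtain ⟨a, rfl⟩ := ConjClasses.exists_rep C
  have hQ : Q (ConjClasses.mk a) := by simpa using hC
  rw [Finset.sum_const_nat (m := Nat.card (centralizer ({a} : Set G)))]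
  · rw [← (centralizer ({a} : Set G)).index_mul_card, ← card_carrier_mk]
    congr 1
    refine (Nat.subtype_card _ fun x => ?_).symm
    simp only [Finset.mem_filter, Finset.mem_univ, true_and, ConjClasses.mem_carrier_iff_mk_eq]
    exact ⟨fun h => h.2, fun h => ⟨h ▸ hQ, h⟩⟩
  · intro x hx
    simp only [Finset.mem_filter, Finset.mem_univ, true_and] at hx
    exact card_cent_of_isConj (ConjClasses.mk_eq_mk_iff_isConj.1 hx.2)

theorem sum_card_cent_univ (G : Type*) [Group G] [Fintype G] :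
    ∑ x : G, Nat.card (centralizer ({x} : Set G)) = Nat.card (ConjClasses G) * Nat.card G := by
  classical
  have := sum_card_cent (G := G) (fun _ => True)
  simpa using this

/-- The number of conjugacy classes of `π`-elements. -/
noncomputable def kPi (π : Set ℕ) (G : Type*) [Group G] : ℕ :=
  Nat.card {C : ConjClasses G //
    ∀ q : ℕ, q.Prime → (∃ g : G, ConjClasses.mk g = C ∧ q ∣ orderOf g) → q ∈ π}

theorem orderOf_eq_of_isConj {x y : G} (h : IsConj x y) : orderOf x = orderOf y := by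
  obtain ⟨g, rfl⟩ := isConj_iff.1 h
  exact ((MulAut.conj g).orderOf_eq x).symm

theorem kPi_pred_iff {π : Set ℕ} (x : G) :
    (∀ q : ℕ, q.Prime → (∃ g : G, ConjClasses.mk g = ConjClasses.mk x ∧ q ∣ orderOf g) → q ∈ π) ↔
      PiElt π x := by
  rw [piElt_iff]
  constructor
  · intro h q hq hqx
    exact h q hq ⟨x, rfl, hqx⟩
  · rintro h q hq ⟨g, hg, hqg⟩
    exact h q hq (orderOf_eq_of_isConj (ConjClasses.mk_eq_mk_iff_isConj.1 hg) ▸ hqg)

theorem kPi_eq_of_iff {π : Set ℕ} {Q : ConjClasses G → Prop}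
    (h : ∀ x : G, Q (ConjClasses.mk x) ↔ PiElt π x) : kPi π G = Nat.card {C // Q C} := by
  refine Nat.card_congr (Equiv.subtypeEquivRight fun C => ?_)
  obtain ⟨a, rfl⟩ := ConjClasses.exists_rep C
  rw [kPi_pred_iff, h]

theorem kPi_univ (G : Type*) [Group G] : kPi Set.univ G = Nat.card (ConjClasses G) := by
  rw [kPi_eq_of_iff (Q := fun _ => True) fun x => by simp [piElt_iff, IsPiNum]]
  simp

theorem sum_card_cent_pi [Fintype G] (π : Set ℕ) [DecidablePred fun x : G => PiElt π x] :
    ∑ x with PiElt π x, Nat.card (centralizer ({x} : Set G)) = kPi π G * Nat.card G := by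
  classical
  rw [kPi, ← sum_card_cent]
  exact Finset.sum_congr (Finset.filter_congr fun x _ => (kPi_pred_iff x).symm) fun _ _ => rfl

theorem card_pairs_pi [Finite G] (π : Set ℕ) :
    Nat.card {p : G × G // PiElt π p.1 ∧ p.2 ∈ centralizer ({p.1} : Set G)} =
      kPi π G * Nat.card G := by
  classical
  have := Fintype.ofFinite G
  rw [← sum_card_cent_pi,
    card_pairs_eq_sum_filter (fun x : G => PiElt π x) (fun x y => y ∈ centralizer ({x} : Set G))]

theorem kPi_mono [Finite G] {π σ : Set ℕ}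
    (h : ∀ q : ℕ, q.Prime → q ∣ Nat.card G → q ∈ π → q ∈ σ) : kPi π G ≤ kPi σ G := by
  refine Nat.card_le_card_of_injective
    (fun C => ⟨C.1, fun q hq hex => h q hq ?_ (C.2 q hq hex)⟩) fun a b hab => ?_
  · obtain ⟨g, -, hg⟩ := hex
    exact hg.trans (orderOf_dvd_natCard g)
  · exact Subtype.ext (by simpa using hab)

/-- The part of a coset of `N` inside a subgroup `C` has at most `|C ⊓ N|` elements. -/
theorem card_coset_inter_le [Finite G] (N C : Subgroup G) [N.Normal] (a : G ⧸ N) :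
    Nat.card {y : G // (y : G ⧸ N) = a ∧ y ∈ C} ≤ Nat.card (C ⊓ N : Subgroup G) := by
  rcases isEmpty_or_nonempty {y : G // (y : G ⧸ N) = a ∧ y ∈ C} with h | ⟨⟨y₀, hy₀, hy₀C⟩⟩
  · simp
  · refine Nat.card_le_card_of_injective (fun y => ⟨y₀⁻¹ * y.1, C.mul_mem (C.inv_mem hy₀C) y.2.2,
      QuotientGroup.eq.1 (hy₀.trans y.2.1.symm)⟩) fun y z h => ?_
    exact Subtype.ext (mul_left_cancel (congrArg Subtype.val h))

theorem card_eq_card_map_mul [Finite G] {H : Type*} [Group H] (f : G →* H) (C : Subgroup G) :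
    Nat.card C = Nat.card (C.map f) * Nat.card (C ⊓ f.ker : Subgroup G) := by
  rw [← relIndex_ker, inf_comm, relIndex_mul_card_inf]

theorem card_cent_le_mul [Finite G] (N : Subgroup G) [N.Normal] (y : G) :
    Nat.card (centralizer ({y} : Set G)) ≤
      Nat.card (centralizer ({(y : G ⧸ N)} : Set (G ⧸ N))) *
        Nat.card (centralizer ({y} : Set G) ⊓ N : Subgroup G) := by
  rw [card_eq_card_map_mul (QuotientGroup.mk' N), QuotientGroup.ker_mk']
  exact Nat.mul_le_mul_right _ (card_le_of_le (map_cent_le _ y))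

theorem card_cent_subtype (N : Subgroup G) (n : N) :
    Nat.card (centralizer ({n} : Set N)) =
      Nat.card (centralizer ({(n : G)} : Set G) ⊓ N : Subgroup G) := by
  rw [cent_subtype, ← inf_subgroupOf_right]
  exact Nat.card_congr (subgroupOfEquivOfLe inf_le_right).toEquiv

theorem piElt_coe {π : Set ℕ} {N : Subgroup G} (n : N) : PiElt π (n : G) ↔ PiElt π n := by
  rw [piElt_iff, piElt_iff, Subgroup.orderOf_coe]

theorem piElt_map {π : Set ℕ} {H : Type*} [Group H] (f : G →* H) {x : G} (hx : PiElt π x) :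
    PiElt π (f x) := by
  rw [piElt_iff] at hx ⊢
  exact hx.of_dvd (orderOf_map_dvd f x)

/-- Commuting pairs `(y, n)`, `y` a `π`-element in a fixed coset of `N` and `n ∈ N`. -/
theorem sum_coset_le [Fintype G] (π : Set ℕ) (N : Subgroup G) [N.Normal] (a : G ⧸ N)
    [DecidablePred fun y : G => PiElt π y ∧ (y : G ⧸ N) = a] :
    ∑ y ∈ Finset.univ.filter fun y : G => PiElt π y ∧ (y : G ⧸ N) = a,
      Nat.card (centralizer ({y} : Set G) ⊓ N : Subgroup G) ≤ kPi π N * Nat.card N := by
  classical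
  rw [← sum_card_cent_pi]
  have h1 := card_pairs_eq_sum_filter (fun y : G => PiElt π y ∧ (y : G ⧸ N) = a)
    (fun y n => n ∈ centralizer ({y} : Set G) ⊓ N)
  have h2 := card_pairs_eq_sum_filter (fun n : N => PiElt π n)
    (fun n (y : G) => (y : G ⧸ N) = a ∧ y ∈ centralizer ({(n : G)} : Set G))
  calc _ = _ := h1.symm
    _ ≤ _ := ?_
    _ = _ := h2
    _ ≤ _ := Finset.sum_le_sum fun n _ => by
      rw [card_cent_subtype]; exact card_coset_inter_le N _ a
  refine Nat.card_le_card_of_injective (fun p =>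
    ⟨(⟨constt π p.1.2, groupX_constt π p.2.2.2⟩, p.1.1 * constt πᶜ p.1.2), ?_, ?_, ?_⟩) ?_
  · rw [← piElt_coe]
    exact p_elt_constt π _
  · simp only [QuotientGroup.mk_mul]
    rw [p.2.1.2, (QuotientGroup.eq_one_iff _).2 (groupX_constt πᶜ p.2.2.2), mul_one]
  · refine mul_mem ?_ ?_
    · rw [mem_cent_iff_commute]
      exact (commute_constt π (mem_cent_iff_commute.1 p.2.2.1)).symm
    · rw [mem_cent_iff_commute]
      exact commute_constt_constt _ _ (Commute.refl _)
  · rintro ⟨⟨y, n⟩, ⟨hy, hya⟩, hn, hnN⟩ ⟨⟨z, m⟩, ⟨hz, hza⟩, hm, hmN⟩ h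
    simp only [Subtype.mk.injEq, Prod.mk.injEq] at h ⊢
    obtain ⟨h1, h2⟩ := h
    have c1 : Commute y (constt πᶜ n) := (commute_constt πᶜ (mem_cent_iff_commute.1 hn)).symm
    have c2 : Commute z (constt πᶜ m) := (commute_constt πᶜ (mem_cent_iff_commute.1 hm)).symm
    have e1 : y = z := by
      rw [← constt_mul_of_commute c1 hy (p_elt_constt _ _), h2,
        constt_mul_of_commute c2 hz (p_elt_constt _ _)]
    subst e1
    refine ⟨rfl, ?_⟩
    rw [← consttC π n, ← consttC π m, h1, mul_left_cancel h2]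

/-- `k_π(G) ≤ k_π(N) k_π(G/N)`. -/
theorem kPi_le_mul [Finite G] (π : Set ℕ) (N : Subgroup G) [N.Normal] :
    kPi π G ≤ kPi π N * kPi π (G ⧸ N) := by
  classical
  have := Fintype.ofFinite G
  have := Fintype.ofFinite (G ⧸ N)
  refine Nat.le_of_mul_le_mul_right ?_ (Nat.card_pos (α := G))
  rw [← sum_card_cent_pi,
    ← Finset.sum_fiberwise_of_maps_to (s := Finset.univ.filter fun x : G => PiElt π x)
      (t := Finset.univ.filter fun a : G ⧸ N => PiElt π a) (g := fun x => (x : G ⧸ N))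
      (fun x hx => by
        simp only [Finset.mem_filter, Finset.mem_univ, true_and] at hx ⊢
        exact piElt_map (QuotientGroup.mk' N) hx)]
  calc _ ≤ ∑ a : G ⧸ N with PiElt π a,
        Nat.card (centralizer ({a} : Set (G ⧸ N))) * (kPi π N * Nat.card N) := by
        refine Finset.sum_le_sum fun a _ => ?_
        refine le_trans ?_ (Nat.mul_le_mul_left _ (sum_coset_le π N a))
        rw [Finset.mul_sum, Finset.filter_filter]
        refine Finset.sum_le_sum fun y hy => ?_
        simp only [Finset.mem_filter, Finset.mem_univ, true_and] at hy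
        rw [← hy.2]
        exact card_cent_le_mul N y
    _ = _ := by
        rw [← Finset.sum_mul, sum_card_cent_pi, card_eq_card_quotient_mul_card_subgroup N]
        ring

theorem card_conjClasses_le_mul [Finite G] (N : Subgroup G) [N.Normal] :
    Nat.card (ConjClasses G) ≤ Nat.card (ConjClasses N) * Nat.card (ConjClasses (G ⧸ N)) := by
  simpa only [kPi_univ] using kPi_le_mul Set.univ N

theorem kPi_singleton_le [Finite G] {p : ℕ} [Fact p.Prime] (P : Sylow p G) :
    kPi {p} G ≤ Nat.card P := by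
  refine Nat.card_le_card_of_surjective (α := (P : Subgroup G))
    (fun x => ⟨ConjClasses.mk (x : G), (kPi_pred_iff _).2
      (p_elt_singleton_iff.2 (P.isPGroup'.to_le (zpowers_le.2 x.2)))⟩) ?_
  rintro ⟨C, hC⟩
  obtain ⟨a, rfl⟩ := ConjClasses.exists_rep C
  obtain ⟨Q, hQ⟩ := (p_elt_singleton_iff.1 ((kPi_pred_iff _).1 hC)).exists_le_sylow
  obtain ⟨g, rfl⟩ := MulAction.exists_smul_eq G P Q
  have ha := hQ (mem_zpowers a)
  rw [Sylow.coe_subgroup_smul, mem_pointwise_smul_iff_inv_smul_mem] at ha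
  refine ⟨⟨_, ha⟩, Subtype.ext ?_⟩
  simp only
  rw [ConjClasses.mk_eq_mk_iff_isConj, isConj_iff]
  exact ⟨g, by simp [mul_assoc]⟩

theorem kPi_empty_le [Finite G] : kPi ∅ G ≤ 1 := by
  refine Finite.card_le_one_iff_subsingleton.2 ⟨?_⟩
  have key : ∀ x : G, PiElt ∅ x → x = 1 := fun x hx =>
    p_elt_eq_one hx (by simp [piElt_iff, IsPiNum])
  rintro ⟨C, hC⟩ ⟨D, hD⟩
  obtain ⟨a, rfl⟩ := ConjClasses.exists_rep C
  obtain ⟨b, rfl⟩ := ConjClasses.exists_rep D
  refine Subtype.ext ?_
  simp only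
  rw [key a ((kPi_pred_iff _).1 hC), key b ((kPi_pred_iff _).1 hD)]

/-- Splitting `π`-elements into their `σ`- and `σᶜ`-parts. -/
theorem kPi_le_mul_of_forall [Finite G] (π σ τ : Set ℕ) (h : ∀ q ∈ π, q ∉ σ → q ∈ τ) (m : ℕ)
    (hm : ∀ x : G, PiElt σ x → kPi τ (centralizer ({x} : Set G)) ≤ m) :
    kPi π G ≤ kPi σ G * m := by
  classical
  have := Fintype.ofFinite G
  refine Nat.le_of_mul_le_mul_right ?_ (Nat.card_pos (α := G))
  rw [← card_pairs_pi]
  have h2 := card_pairs_eq_sum_filter (fun x : G => PiElt σ x)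
    (fun x (w : G × G) => w.1 ∈ centralizer ({x} : Set G) ∧ w.2 ∈ centralizer ({x} : Set G) ∧
      PiElt τ w.1 ∧ w.2 ∈ centralizer ({w.1} : Set G))
  calc _ ≤ _ := ?_
    _ = _ := h2
    _ ≤ ∑ x with PiElt σ x, Nat.card (centralizer ({x} : Set G)) * m := ?_
    _ = _ := by rw [← Finset.sum_mul, sum_card_cent_pi]; ring
  · refine Nat.card_le_card_of_injective (fun p =>
      ⟨(constt σ p.1.1, constt σᶜ p.1.1, p.1.2), p_elt_constt _ _, ?_, ?_, ?_, ?_⟩) ?_
    · rw [mem_cent_iff_commute]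
      exact commute_constt_constt _ _ (Commute.refl _)
    · exact cent1_le_cent1_constt σ _ p.2.2
    · have h3 := piElt_iff.1 (p_elt_constt σᶜ p.1.1)
      have h4 := piElt_iff.1 (p_elt_of_mem_zpowers p.2.1 (cycle_constt σᶜ p.1.1))
      exact piElt_iff.2 fun q hq hqd => h q (h4 q hq hqd) (h3 q hq hqd)
    · exact cent1_le_cent1_constt σᶜ _ p.2.2
    · rintro ⟨⟨y, g⟩, _⟩ ⟨⟨z, g'⟩, _⟩ h'
      simp only [Subtype.mk.injEq, Prod.mk.injEq] at h' ⊢
      exact ⟨by rw [← consttC σ y, ← consttC σ z, h'.1, h'.2.1], h'.2.2⟩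
  · refine Finset.sum_le_sum fun x hx => ?_
    simp only [Finset.mem_filter, Finset.mem_univ, true_and] at hx
    refine le_trans ?_ (Nat.mul_le_mul_left _ (hm x hx))
    rw [mul_comm, ← card_pairs_pi]
    refine Nat.card_le_card_of_injective (fun w =>
      ⟨(⟨w.1.1, w.2.1⟩, ⟨w.1.2, w.2.2.1⟩), (piElt_coe _).1 w.2.2.2.1, ?_⟩) ?_
    · rw [ClassSize.mem_cent]
      exact Subtype.ext (ClassSize.mem_cent.1 w.2.2.2.2)
    · rintro ⟨⟨y, g⟩, _⟩ ⟨⟨z, g'⟩, _⟩ h'
      simpa using h'

theorem kPi_finset_le (s : Finset ℕ) : ∀ (G : Type u) [Group G] [Finite G],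
    (∀ q ∈ s, q.Prime) → kPi (s : Set ℕ) G ≤ partn (s : Set ℕ) (Nat.card G) := by
  classical
  induction s using Finset.induction_on with
  | empty =>
    intro G _ _ _
    rw [Finset.coe_empty]
    exact kPi_empty_le.trans (part_gt0 _ _)
  | insert p s hps ih =>
    intro G _ _ hs
    have hp : p.Prime := hs p (Finset.mem_insert_self _ _)
    have : Fact p.Prime := ⟨hp⟩
    have hG : Nat.card G ≠ 0 := Nat.card_pos.ne'
    obtain ⟨P⟩ : Nonempty (Sylow p G) := inferInstance
    have h1 := kPi_le_mul_of_forall (G := G) ((insert p s : Finset ℕ) : Set ℕ) {p} (s : Set ℕ)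
      (fun q hq hqp => by simpa [show q ≠ p from hqp] using hq) (partn (s : Set ℕ) (Nat.card G))
      fun x _ => (ih _ fun q hq => hs q (Finset.mem_insert_of_mem hq)).trans
        (Nat.le_of_dvd (part_gt0 _ _) (partn_dvd _ hG (card_subgroup_dvd_card _)))
    refine h1.trans ((Nat.mul_le_mul_right _ (kPi_singleton_le P)).trans ?_)
    refine Nat.le_of_dvd (part_gt0 _ _) (pnat_dvd_partn hG ?_ ?_)
    · refine IsPiNum.mul (isPiNum_card_of_isPGroup (p := p) (by simp) P.isPGroup') ?_
      exact (part_pnat _ _).mono (by simp)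
    · refine Nat.Coprime.mul_dvd_of_dvd_of_dvd ?_ (card_subgroup_dvd_card _) (dvdn_part _ _)
      exact (isPiNum_card_of_isPGroup (π := {p}) (p := p) rfl P.isPGroup').coprime_of_disjoint
        (part_pnat _ _) (by simpa using hps)

/-- `k_π(G) ≤ |G|_π`. -/
theorem kPi_le_partn [Finite G] (π : Set ℕ) : kPi π G ≤ partn π (Nat.card G) := by
  classical
  have hG : Nat.card G ≠ 0 := Nat.card_pos.ne'
  have h1 := kPi_finset_le ((Nat.card G).primeFactors.filter (· ∈ π)) G
    fun q hq => Nat.prime_of_mem_primeFactors (Finset.mem_filter.1 hq).1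
  refine (kPi_mono fun q hq hqG hqπ => ?_).trans (h1.trans ?_)
  · simp [hq, hqG, hqπ, hG]
  · refine Nat.le_of_dvd (part_gt0 _ _) (sub_partn_dvd (fun q hq => ?_) hG)
    simp only [Finset.coe_filter, Set.mem_ofPred_eq] at hq
    exact hq.2

end Cfsg.Lib.Solv.ClassNum
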