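import Cfsg.Agent.Solv.PLength
import Cfsg.Agent.Solv.PConstrained
import Cfsg.Agent.Solv.CoprimeFixed
import Cfsg.Agent.Solv.MinNormal

/-! Groups whose elements of order `p` cannot be separated by characteristic subgroups. -/

set_option autoImplicit false

namespace Cfsg.Lib.Solv

open Subgroup

variable {G : Type*} [Group G] [Finite G] {p : ℕ} [hp : Fact p.Prime]

omit [Finite G] in
/-- An element of order `p` lifts over a normal `p'`-subgroup. -/
theorem exists_orderOf_eq_lift (N : Subgroup G) [N.Normal] (hN : (Nat.card N).Coprime p)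
    {x : G ⧸ N} (hx : orderOf x = p) : ∃ g : G, orderOf g = p ∧ (g : G ⧸ N) = x := by
  obtain ⟨g, rfl⟩ := QuotientGroup.mk_surjective x
  obtain ⟨e, -, he⟩ := Nat.exists_mul_mod_eq_of_coprime 1 hN hp.out.ne_zero
  have h1 : ((g ^ (Nat.card N * e) : G) : G ⧸ N) = g := by
    rw [QuotientGroup.mk_pow, ← pow_mod_orderOf, hx, he, ← hx, pow_mod_orderOf, pow_one]
  refine ⟨_, orderOf_eq_prime ?_ fun h => ?_, h1⟩
  · have h2 : g ^ p ∈ N := by
      rw [← QuotientGroup.eq_one_iff, QuotientGroup.mk_pow, ← hx, pow_orderOf_eq_one]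
    rw [← pow_mul, mul_comm, pow_mul, pow_mul,
      orderOf_dvd_iff_pow_eq_one.1 (N.orderOf_dvd_natCard h2), one_pow]
  · rw [h, QuotientGroup.mk_one] at h1
    rw [← h1, orderOf_one] at hx
    exact hp.out.one_lt.ne hx

variable (p G) in
/-- A complement `Q` to `O_p(G)` in `O_{p,p'}(G)`, with the Frattini argument. -/
theorem exists_complement_pCore_frattini : ∃ Q : Subgroup G, (Nat.card Q).Coprime p ∧
    Q.map (QuotientGroup.mk' (pCore p G)) = pPrimeCore p (G ⧸ pCore p G) ∧
    normalizer (Q : Set G) ⊔ pCore p G = ⊤ := by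
  let M := (pPrimeCore p (G ⧸ pCore p G)).comap (QuotientGroup.mk' (pCore p G))
  have hle : pCore p G ≤ M := fun x hx => by
    rw [mem_comap, QuotientGroup.mk'_apply, (QuotientGroup.eq_one_iff x).2 hx]; exact one_mem _
  have h1 : ((pCore p G).subgroupOf M).index = Nat.card (pPrimeCore p (G ⧸ pCore p G)) := by
    refine Nat.eq_of_mul_eq_mul_right (Nat.card_pos (α := pCore p G)) ?_
    rw [← card_comap_mk', ← relIndex, relIndex_mul_card_of_le hle]
  have hP := pCore_isPGroup p G
  obtain ⟨H, hH⟩ := exists_right_complement'_of_coprime (N := (pCore p G).subgroupOf M) (by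
    rw [h1]
    exact (coprime_card_of_isPGroup hP.comap_subtype (coprime_card_pPrimeCore p _)))
  have h2 : (Nat.card (H.map M.subtype)).Coprime p := by
    rw [card_subtype, ← hH.symm.index_eq_card, h1]; exact coprime_card_pPrimeCore p _
  have h3 : (H.map M.subtype).map (QuotientGroup.mk' (pCore p G)) =
      pPrimeCore p (G ⧸ pCore p G) := by
    have h4 := congrArg (fun X => (X.map M.subtype).map (QuotientGroup.mk' (pCore p G)))
      hH.sup_eq_top
    simp only [Subgroup.map_sup, map_subgroupOf_eq_of_le hle] at h4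
    rwa [(Subgroup.map_eq_bot_iff _).2 (QuotientGroup.ker_mk' _).ge, bot_sup_eq, ← MonoidHom.range_eq_map,
      range_subtype, map_comap_eq_self_of_surjective (QuotientGroup.mk'_surjective _)] at h4
  refine ⟨_, h2, h3, ?_⟩
  have h4 := comap_normalizer_map_of_coprime (QuotientGroup.mk' (pCore p G))
    (A := H.map M.subtype)
    (by rw [QuotientGroup.ker_mk']; exact (coprime_card_of_isPGroup hP h2).symm)
    (Or.inr (by rw [QuotientGroup.ker_mk']; exact isSolvable_of_isPGroup hP))
  rwa [h3, normalizer_eq_top_iff.2 inferInstance, comap_top, QuotientGroup.ker_mk', eq_comm] at h4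

/-- Characteristic subgroups do not separate the elements of order `p`. -/
def OrderPInsep (p : ℕ) (G : Type*) [Group G] : Prop :=
  ∀ K : Subgroup G, K.Characteristic → ∀ x ∈ K, orderOf x = p → ∀ y, orderOf y = p → y ∈ K

theorem OrderPInsep.quotient (h : OrderPInsep p G) : OrderPInsep p (G ⧸ pPrimeCore p G) := by
  intro K hK x hx hxp y hyp
  obtain ⟨x, h1, rfl⟩ := exists_orderOf_eq_lift _ (coprime_card_pPrimeCore p G) hxp
  obtain ⟨y, h2, rfl⟩ := exists_orderOf_eq_lift _ (coprime_card_pPrimeCore p G) hyp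
  exact h _ (Characteristic.comap_quotient_mk hK) x hx h1 y h2

theorem OrderPInsep.mem_center (h : OrderPInsep p G) {y : G} (hy : orderOf y = p) :
    y ∈ centralizer (pCore p G : Set G) := by
  have hP := pCore_isPGroup p G
  by_cases h0 : pCore p G = ⊥
  · simp [h0, mem_centralizer_iff]
  have := (nontrivial_iff_ne_bot _).2 h0
  obtain ⟨x, hx⟩ := exists_prime_orderOf_dvd_card' p
    ((hP.to_subgroup (center _)).card_eq_or_dvd.resolve_left
      (mt card_eq_one.1 hP.bot_lt_center.ne'))
  refine h (centralizer (pCore p G : Set G)) inferInstance x.1.1 (fun g hg => congrArg Subtype.val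
    (mem_center_iff.1 x.2 ⟨g, hg⟩)) ?_ y hy
  rw [orderOf_coe, orderOf_coe, hx]

/-- Either the Sylow `p`-subgroup is normal, or `O_{p,p'}(G)` centralizes all elements of
order `p`. -/
theorem OrderPInsep.index_coprime_or (h : OrderPInsep p G)
    (hC : centralizer (pCore p G : Set G) ≤ pCore p G) {Q : Subgroup G}
    (h1 : (Nat.card Q).Coprime p)
    (h2 : Q.map (QuotientGroup.mk' (pCore p G)) = pPrimeCore p (G ⧸ pCore p G))
    (h3 : normalizer (Q : Set G) ⊔ pCore p G = ⊤) :
    (pCore p G).index.Coprime p ∨ ∀ y, orderOf y = p → y ∈ centralizer (Q : Set G) := by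
  refine or_iff_not_imp_left.2 fun h4 y hy => ?_
  rw [Nat.coprime_comm, hp.out.coprime_iff_not_dvd, not_not, ← relIndex_top_right, ← h3,
    relIndex_sup_right] at h4
  obtain ⟨⟨x, hx⟩, hx'⟩ := exists_prime_orderOf_dvd_card' p (h4.trans (relIndex_dvd_card _ _))
  rw [← orderOf_coe] at hx'
  have h5 := h.mem_center hx'
  have h6 : x ∈ centralizer (Q : Set G) := fun q hq => by
    have h7 : x * q * x⁻¹ * q⁻¹ ∈ pCore p G ⊓ Q :=
      ⟨by
        simpa [mul_assoc] using
          mul_mem (hC h5) (Normal.conj_mem inferInstance _ (inv_mem (hC h5)) q),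
        Q.mul_mem ((mem_normalizer_iff.1 hx q).1 hq) (Q.inv_mem hq)⟩
    rw [inf_eq_bot_of_isPGroup_of_coprime (pCore_isPGroup p G) h1, mem_bot, mul_inv_eq_one,
      mul_inv_eq_iff_eq_mul] at h7
    exact h7.symm
  have h7 : (Q ⊔ pCore p G).Characteristic := by
    have := Characteristic.comap_quotient_mk (pPrimeCore_characteristic p (G ⧸ pCore p G))
    rwa [← h2, comap_map_eq, QuotientGroup.ker_mk'] at this
  refine centralizer_le (SetLike.coe_subset_coe.2 le_sup_left)
    (h (centralizer ((Q ⊔ pCore p G : Subgroup G) : Set G)) inferInstance x ?_ hx' y hy)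
  exact le_centralizer_iff.1 (sup_le (le_centralizer_iff.1 (zpowers_le.2 h6))
    (le_centralizer_iff.1 (zpowers_le.2 h5))) (mem_zpowers x)

theorem pLengthLE_one_of_index_coprime (h : (pCore p (G ⧸ pPrimeCore p G)).index.Coprime p) :
    PLengthLE p 1 G := by
  rw [pLengthLE_one_iff, pPrimePCore, index_comap_of_surjective _ (QuotientGroup.mk'_surjective _)]
  exact h

end Cfsg.Lib.Solv
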