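import Cfsg.Agent.Solv.HaradaE8b

/-!
# Harada's theorem on self-centralising elementary abelian subgroups of order eight, part III
-/

set_option autoImplicit false

open scoped commutatorElement Pointwise
open Subgroup

namespace Cfsg.Lib.Solv.PG

variable {G : Type*} [Group G]

/-- The elements of an abelian subgroup inverted by `a`. -/
def invSub (X : Subgroup G) [IsMulCommutative X] (a : G) : Subgroup G where
  carrier := {x | x ∈ X ∧ a * x * a⁻¹ = x⁻¹}
  one_mem' := ⟨one_mem X, by simp⟩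
  mul_mem' := fun {x y} hx hy => ⟨mul_mem hx.1 hy.1, by
    rw [← conj_mul, hx.2, hy.2, ← mul_inv_rev, mul_comm_of_mem hx.1 hy.1]⟩
  inv_mem' := fun {x} hx => ⟨inv_mem hx.1, by rw [← conj_inv, hx.2]⟩

namespace E8Setup

variable {A U : Subgroup G} (h : E8Setup A U) [Finite G] (hG : IsPGroup 2 G)
  (h4 : Nat.card (A ⊓ U : Subgroup G) = 4) {a : G} (ha : a ∈ A) (haU : a ∉ U)
include h h4 ha haU hG

theorem secRank_of_not_cyclic (h8 : Nat.card U = 8)
    (hnc : ∀ t, centralizer (U : Set G) ≠ U ⊔ zpowers t) : SectionalPRankLE 2 4 G := by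
  have : Fact (Nat.Prime 2) := ⟨Nat.prime_two⟩
  have := h.normalU
  set T := centralizer (U : Set G) with hT
  have hUT : U ≤ T := h.le_cent
  have haT : a ∉ T := h.not_mem_cent h4 ha haU
  have ha2 := h.sqA a ha
  have hconj : ∀ {x : G} (g : G), x ∈ T → g * x * g⁻¹ ∈ T := fun g hx =>
    Normal.conj_mem inferInstance _ hx g
  have hT16 : 16 < Nat.card T := by
    have h1 : U < T := lt_of_le_of_ne hUT fun h1 => hnc 1 (by simp [h1])
    obtain ⟨t, ht, htU⟩ := SetLike.exists_of_lt h1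
    have h2 := prime_mul_card_le_of_lt (hG.to_subgroup T) h1
    refine lt_of_le_of_ne (by omega) fun h3 => hnc t
      (sup_zpowers_eq_of_card_eq_prime_mul Nat.prime_two hUT (by omega) ht htU).symm
  set M := T ⊔ zpowers a with hM
  have hTM : T ≤ M := le_sup_left
  have haM : a ∈ M := mem_sup_right (mem_zpowers a)
  have hM2 : Nat.card M = 2 * Nat.card T :=
    card_sup_zpowers Nat.prime_two (le_normalizer_of_normal (mem_top a)) haT (ha2 ▸ one_mem T)
  have hMA : M ≤ centralizer ((A ⊓ U : Subgroup G) : Set G) :=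
    sup_le (centralizer_le inf_le_right) (zpowers_le.mpr fun b hb => h.commA hb.1 ha)
  obtain ⟨r, hrM, hr⟩ := exists_cyclic_mod hG (hUT.trans hTM) haM (by
    have h1 := card_le_mul_card_centralizer (H := cmod U {a} ⊓ M) fun x hx =>
      h.comm_mem h4 ha haU (mem_cmod_singleton.mp hx.1)
    have h2 := card_le_of_le (show centralizer {a} ⊓ (cmod U {a} ⊓ M) ≤ A from fun c hc =>
      h.mem_of_cent h4 ha haU (mem_cent_iff.mp hc.1) (hMA hc.2.2))
    rw [h4] at h1
    rw [h.cardA] at h2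
    omega)
  set R := U ⊔ zpowers r with hR
  have hUR : U ≤ R := le_sup_left
  have hrR : r ∈ R := mem_sup_right (mem_zpowers r)
  have hRM : R ≤ M := sup_le (hUT.trans hTM) (zpowers_le.mpr hrM)
  have hRmem : ∀ x ∈ R, ∃ u ∈ U, ∃ n : ℤ, x = u * r ^ n := fun x hx =>
    (mem_sup_zpowers_iff (le_normalizer_of_normal (mem_top r))).mp hx
  have hR2 : Nat.card M ≤ 2 * Nat.card R :=
    relIndex_mul_card hRM ▸ Nat.mul_le_mul_right _ hr
  have hrT : r ∉ T := fun h1 =>
    hnc r (eq_of_le_of_card_ge (sup_le hUT (zpowers_le.mpr h1)) (show _ ≤ Nat.card R by omega)).symm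
  set T0 := R ⊓ T with hT0
  have hT0c : IsMulCommutative T0 := isMulCommutative_of_forall fun x hx y hy => by
    obtain ⟨u, hu, n, rfl⟩ := hRmem x hx.1
    obtain ⟨v, hv, m, rfl⟩ := hRmem y hy.1
    exact ((show Commute u _ from hy.2 u hu).mul_left (Commute.mul_right (show Commute v _ from
      ((mul_mem_cancel_left (hUT hu)).mp hx.2) v hv).symm (Commute.zpow_zpow_self r n m))).eq
  have hT02 : Nat.card T ≤ 2 * Nat.card T0 :=
    relIndex_mul_card_inf R T ▸ Nat.mul_le_mul_right _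
      ((relIndex_le_of_le_right hTM index_ne_zero_of_finite).trans hr)
  have hMR : M ≤ normalizer (R : Set G) := by
    rcases hRM.eq_or_lt with h1 | h1
    · exact h1 ▸ le_normalizer
    · exact le_normalizer_of_card_eq_prime_mul (hG.to_subgroup M) hRM
        (le_antisymm hR2 (prime_mul_card_le_of_lt (hG.to_subgroup M) h1))
  have hMT0 : M ≤ normalizer (T0 : Set G) := le_normalizer_inf hMR le_normalizer_of_normal
  obtain ⟨t, ht, htU, -, ht2, ht3⟩ := exists_step_elt (hG.to_subgroup M) (hG.to_subgroup T0)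
    le_normalizer_of_normal hMT0 (lt_of_le_of_ne (le_inf hUR hUT) fun h1 : U = T0 => by
      rw [← h1] at hT02; omega)
  have hRT : ∀ x ∈ R, x ^ 2 = 1 → x ∈ T := fun x hx h1 => by
    have h2 : ∀ y ∈ R, QuotientGroup.mk' U y ∈ zpowers (QuotientGroup.mk' U r) := fun y hy => by
      obtain ⟨u, hu, n, rfl⟩ := hRmem y hy
      rw [map_mul, show QuotientGroup.mk' U u = 1 from (QuotientGroup.eq_one_iff u).mpr hu, one_mul,
        map_zpow]
      exact zpow_mem (mem_zpowers _) n
    have h3 := mem_of_pow_card_eq_one (zpowers_le.mpr (h2 t ht.1)) (h2 x hx) (by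
      rw [Nat.card_zpowers, orderOf_eq_prime (p := 2) (x := QuotientGroup.mk' U t) ((QuotientGroup.eq_one_iff _).mpr ht2)
        fun h3 => htU ((QuotientGroup.eq_one_iff _).mp h3), ← map_pow, h1, map_one])
    rw [← MonoidHom.map_zpowers, ← mem_comap, comap_map_eq, QuotientGroup.ker_mk'] at h3
    exact sup_le (zpowers_le.mpr ht.2) hUT h3
  have haR : a ∉ R := fun h1 => haT (hRT a h1 ha2)
  have hR2' : Nat.card M = 2 * Nat.card R := le_antisymm hR2 (prime_mul_card_le_of_lt
    (hG.to_subgroup M) (lt_of_le_of_ne hRM fun h1 => haR (h1 ▸ haM)))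
  have hy : a * r ∈ T := mul_mem_of_card_eq_two_mul hTM hM2 haM hrM haT hrT
  have hyR : a * r ∉ T0 := fun h1 => haR ((mul_mem_cancel_right hrR).mp h1.1)
  have hT02' : Nat.card T = 2 * Nat.card T0 := le_antisymm hT02 (prime_mul_card_le_of_lt
    (hG.to_subgroup T) (lt_of_le_of_ne inf_le_right fun h1 : T0 = T => hyR (h1 ▸ hy)))
  obtain ⟨u, hu, hu1⟩ := h.exists_not_cent h4 ha haU
  have hinv : ∀ s : G, ⁅s, a⁆ ∈ T → ⁅s, a⁆ ∈ invSub T0 a := fun s hs => by
    refine ⟨⟨?_, hs⟩, inverted_commutator ha2 s⟩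
    have h1 : s * a * s⁻¹ = ⁅s, a⁆ * a := by rw [commutatorElement_def, inv_mul_cancel_right]
    exact mul_mem_of_card_eq_two_mul hRM hR2' (h1 ▸ mul_mem (hTM hs) haM) (inv_mem haM)
      (fun h2 => haT ((mul_mem_cancel_left hs).mp (h1 ▸ hRT _ h2 (by
        rw [conj_pow, ha2, mul_one, mul_inv_cancel])))) fun h2 => haR (inv_mem_iff.mp h2)
  have hI : 2 * Nat.card (invSub T0 a) ≤ Nat.card T0 := prime_mul_card_le_of_lt (hG.to_subgroup T0)
    (lt_of_le_of_ne (fun _ hx => hx.1) fun h1 => hu1 (by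
      rw [commutator_of_inverted (h1.ge ⟨hUR hu, hUT hu⟩).2, ← sq, h.sqU u hu]))
  have hcU : ∀ v ∈ U, ⁅v, a⁆ = 1 ∨ ⁅v, a⁆ = ⁅u, a⁆ := fun v hv => or_iff_not_imp_left.mpr fun h1 => by
    have h2 := mul_mem_of_card_eq_two_mul (inf_le_right : A ⊓ U ≤ U) (by rw [h4, h8]) hv (inv_mem hu)
      (fun h2 => h1 (commutatorElement_eq_one_iff_commute.mpr (h.commA h2.1 ha)))
      fun h2 => hu1 (commutatorElement_eq_one_iff_commute.mpr (h.commA (inv_mem_iff.mp h2).1 ha))
    rw [← inv_mul_cancel_right v u, commutatorElement_mul_left_eq_conj_mul,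
      commutatorElement_eq_one_iff_commute.mpr (h.commA h2.1 ha), mul_one,
      (h.commU h2.2 (commutator_mem_left hu a)).eq, mul_inv_cancel_right]
  have hta : ⁅t, a⁆ ∈ U := ht3 a (mem_sup_left haM)
  have hMtop : M = ⊤ := by
    by_contra h1
    obtain ⟨s, hs, hsM⟩ := SetLike.exists_of_lt (lt_inf_normalizer (isPGroup_top hG)
      (lt_top_iff_ne_top.mpr h1))
    have h2 : ⁅s, a⁆ ∈ T := mul_mem_of_card_eq_two_mul hTM hM2
      ((mem_normalizer_iff.mp hs.2 a).mp haM) (inv_mem haM)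
      (fun h2 => haT (by simpa [mul_assoc] using hconj s⁻¹ h2)) fun h2 => haT (inv_mem_iff.mp h2)
    obtain ⟨τ, hτ, h3⟩ := exists_commutator_eq (H := T)
      (fun x hx => hinv x (commutator_mem_left hx a))
      (by rw [h.cent_inf_eq h4 ha haU hUT le_rfl, h4]; omega) (hinv s h2)
    have h5 := inv_mul_mem_cent h3.symm
    refine hsM ((mul_mem_cancel_left (inv_mem (hTM hτ))).mp ?_)
    generalize τ⁻¹ * s = g at h5
    have h6 : ∀ x, g * ⁅x, a⁆ * g⁻¹ = ⁅g * x * g⁻¹, a⁆ := fun x => by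
      rw [conjugate_commutatorElement, commutatorElement_eq_one_iff_mul_comm.mp h5,
        mul_inv_cancel_right]
    have h7 : g * ⁅u, a⁆ * g⁻¹ = ⁅u, a⁆ := h6 u ▸ (hcU _ (this.conj_mem u hu g)).resolve_left
      (by simpa [← h6] using hu1)
    -- the second fixed point
    have h9 : ⁅t, r⁆ = 1 ∨ ⁅t, r⁆ = ⁅u, a⁆ := by
      obtain ⟨v, hv, n, h9⟩ := hRmem t ht.1
      have h10 : ⁅t, r⁆ = ⁅v, a⁆ := by
        have h10 : Commute v (a * r) := hy v hv
        calc ⁅t, r⁆ = v * (a⁻¹ * (a * r * v⁻¹ * (a * r)⁻¹) * a) := by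
              rw [h9, commutatorElement_def]; group
          _ = ⁅v, a⁆ := by
              rw [← h10.inv_left.eq, mul_inv_cancel_right, commutatorElement_def,
                inv_eq_self_of_sq ha2, ← mul_assoc, ← mul_assoc]
      exact h10 ▸ hcU v hv
    have h10 : ⁅t, a⁆ ≠ 1 ∧ ⁅t, a⁆ ≠ ⁅u, a⁆ := ⟨fun h10 =>
      htU (h.mem_inf_of_cent h4 ha haU h10 ht.2).2, fun h10 =>
        htU ((mul_mem_cancel_left (inv_mem hu)).mp (h.mem_inf_of_cent h4 ha haU
          (inv_mul_mem_cent h10) (mul_mem (inv_mem (hUT hu)) ht.2)).2)⟩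
    have hA1 := h.comm_mem h4 ha haU hta
    have hA2 := h.comm_mem h4 ha haU (commutator_mem_left hu a)
    have hA3 : ⁅t, r⁆ ∈ A ⊓ U := h9.elim (· ▸ one_mem _) (· ▸ hA2)
    have h11 : ⁅t, a * r⁆ = ⁅t, a⁆ * ⁅t, r⁆ :=
      commutatorElement_mul_right_of_commute (h.commA ha hA3.1)
    have h12 : ⁅t, a * r⁆ ≠ 1 ∧ ⁅u, a⁆ ≠ ⁅t, a * r⁆ := by
      have h12 := inv_eq_self_of_sq (h.sqU _ hA2.2)
      rcases h9 with h9 | h9 <;> rw [h11, h9]
      · exact ⟨by simpa using h10.1, by simpa using h10.2.symm⟩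
      · exact ⟨fun h13 => h10.2 ((eq_inv_of_mul_eq_one_left h13).trans h12), by simpa using h10.1⟩
    have h13 : ∀ y ∈ T, y ∉ T0 → ⁅t, y⁆ = ⁅t, a * r⁆ := fun y hy1 hy2 => by
      have h13 := mul_mem_of_card_eq_two_mul inf_le_right hT02' hy1 (inv_mem hy) hy2
        fun h13 => hyR (inv_mem_iff.mp h13)
      rw [← inv_mul_cancel_right y (a * r), commutatorElement_mul_right_of_commute
        (show Commute _ _ from h13.2 _ (h11 ▸ mul_mem hA1.2 hA3.2)).symm,
        commutatorElement_eq_one_iff_mul_comm.mpr (mul_comm_of_mem ht h13), one_mul]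
    have h14 : g * ⁅t, a * r⁆ * g⁻¹ = ⁅t, a * r⁆ := by
      have h14 : U ⊔ zpowers t = cmod U {a} ⊓ T := eq_of_le_of_card_ge
        (sup_le (le_inf (le_cmod U _) hUT) (zpowers_le.mpr ⟨mem_cmod_singleton.mpr hta, ht.2⟩)) (by
          rw [card_sup_zpowers Nat.prime_two (le_normalizer_of_normal (mem_top _)) htU ht2, h8]
          exact h.card_le_sixteen' h4 ha haU (le_inf (le_cmod U _) hUT) inf_le_right
            fun x hx => mem_cmod_singleton.mp hx.1)
      have h15 : g * t * g⁻¹ * t⁻¹ ∈ U := mul_mem_of_card_eq_two_mul le_sup_left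
        (card_sup_zpowers Nat.prime_two (le_normalizer_of_normal (mem_top _)) htU ht2)
        (h14.ge ⟨mem_cmod_singleton.mpr (h6 t ▸ this.conj_mem _ hta g), hconj g ht.2⟩)
        (inv_mem (mem_sup_right (mem_zpowers t)))
        (fun h15 => htU (by simpa [mul_assoc] using this.conj_mem _ h15 g⁻¹))
        fun h15 => htU (inv_mem_iff.mp h15)
      have h16 := hconj g hy
      have h17 : g * ⁅t, a * r⁆ * g⁻¹ = ⁅t, g * (a * r) * g⁻¹⁆ := by
        rw [conjugate_commutatorElement, ← inv_mul_cancel_right (g * t * g⁻¹) t,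
          commutatorElement_mul_left_eq_conj_mul, commutatorElement_eq_one_iff_mul_comm.mpr
            (h16 _ h15), mul_one, commutator_mem_left ht.2 _ _ h15, mul_inv_cancel_right]
      refine h17.trans (h13 _ h16 fun h18 => h12.1 ?_)
      rw [commutatorElement_eq_one_iff_mul_comm.mpr (mul_comm_of_mem ht h18)] at h17
      simpa using h17
    refine (h.sup_eq h4 ha haU).ge.trans (sup_le_sup_right (inf_le_right.trans hUT) _)
      (h.mem_of_cent h4 ha haU h5 fun c hc => ?_)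
    rw [mul_inv_eq_iff_eq_mul] at h7 h14
    rcases mem_four h4.le hA2 (h11 ▸ mul_mem hA1 hA3) hc hu1 h12.1 h12.2 (h.sqU _ hA2.2) with
      rfl | rfl | rfl | rfl
    exacts [by simp, h7.symm, h14.symm, by rw [mul_assoc, ← h14, ← mul_assoc, ← h7, mul_assoc]]
  have hRn : R.Normal := normal_of_top_le_normalizer (hMtop ▸ hMR)
  have hΩ := h.max (omegaOne 2 T0) inferInstance (isElementaryAbelian_omegaOne T0).2
  refine secRank_of_index_le (a := 3) (b := 1) R (secRank_subgroup_iff.mpr fun H K hH h1 h2 => ?_)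
    (by rwa [hMtop, relIndex_top_right] at hr)
  by_cases hHT : H ≤ T
  · have : IsMulCommutative H := isMulCommutative_of_forall fun x hx y hy =>
      mul_comm_of_mem (A := T0) ⟨hH hx, hHT hx⟩ ⟨hH hy, hHT hy⟩
    exact (relIndex_le_card_omegaOne h2).trans
      ((card_le_of_le (omegaOne_mono (le_inf hH hHT))).trans (hΩ.trans_eq h8))
  rw [← inf_relIndex_right, relIndex_eq_mul_of_normal U inf_le_right
    (le_inf h1 (commutator_le_self H))]
  have h3 : ∀ x ∈ H.map (QuotientGroup.mk' U), x ^ 2 ∈ (K ⊓ H).map (QuotientGroup.mk' U) := by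
    rintro _ ⟨x, hx, rfl⟩; exact ⟨_, ⟨h2 x hx, pow_mem hx 2⟩, map_pow _ x 2⟩
  have h5 := secRank_subgroup_iff.mp (secRank_of_isCyclic (G := zpowers (QuotientGroup.mk' U r))
    two_pos) _ _ ((map_mono hH).trans (by
      rw [hR, Subgroup.map_sup, (Subgroup.map_eq_bot_iff U).mpr (QuotientGroup.ker_mk' U).ge,
        bot_sup_eq, MonoidHom.map_zpowers])) (commutator_le_of_sq_mem h3) h3
  obtain ⟨x, hx, hxT⟩ := SetLike.not_le_iff_exists.mp hHT
  have h6 := relIndex_le_card_centralizer' (V := U ⊓ H) (K := K ⊓ H) (x := x) fun y hy =>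
    have h6 := commutator_mem_commutator hy.2 hx
    ⟨⟨h1 h6, commutator_le_self H h6⟩, commutator_mem_left hy.1 x, commutator_le_self H h6⟩
  have h7 := prime_mul_card_le_of_lt (hG.to_subgroup U) (lt_of_le_of_ne (inf_le_right.trans
    inf_le_left : centralizer {x} ⊓ (U ⊓ H) ≤ U) fun h7 => hxT fun v hv =>
      mem_centralizer_singleton_iff.mp (h7.ge hv).1)
  exact (Nat.mul_le_mul (show _ ≤ 4 by omega) h5).trans_eq rfl

end E8Setup

/-- Harada's theorem: a `2`-group with a self-centralising `E₈` has sectional rank at most four. -/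
theorem secRank_four_of_selfCentralizing [Finite G] (hG : IsPGroup 2 G) {A : Subgroup G}
    (hA : ∀ a ∈ A, a ^ 2 = 1) (hA8 : Nat.card A = 8) (hC : centralizer (A : Set G) ≤ A) :
    SectionalPRankLE 2 4 G := by
  have : Fact (Nat.Prime 2) := ⟨Nat.prime_two⟩
  obtain ⟨U, ⟨hU, hU2⟩, hmax⟩ := Set.Finite.exists_maximalFor (fun V : Subgroup G => Nat.card V)
    {V | V.Normal ∧ ∀ v ∈ V, v ^ 2 = 1} (Set.toFinite _) ⟨⊥, inferInstance, by simp⟩
  have hmax' : ∀ V : Subgroup G, V.Normal → (∀ v ∈ V, v ^ 2 = 1) → Nat.card V ≤ Nat.card U :=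
    fun V h1 h2 => (le_total _ _).elim (hmax ⟨h1, h2⟩) id
  by_cases h4 : Nat.card U ≤ 4
  · exact secRank_four_of_normal_rank hG fun V h1 h2 => (hmax' V h1 h2).trans h4
  obtain ⟨n, hn⟩ := IsPGroup.exists_card_eq (hG.to_subgroup U)
  have h8 : 8 ≤ Nat.card U := by
    have : 2 < n := (Nat.pow_lt_pow_iff_right one_lt_two).mp (by omega)
    have := Nat.pow_le_pow_right two_pos this
    omega
  have h : E8Setup A U := ⟨hA, hA8, hC, hU, hU2, h8, hmax'⟩
  have := isMulCommutative_of_sq_eq_one hU2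
  by_cases hAU : A ≤ U
  · have h1 := (card_le_of_le ((centralizer_le hAU).trans hC)).trans_eq hA8
    exact secRank_four_of_card_centralizer_eq hG U
      (le_antisymm ((card_le_of_le h.le_cent).trans h1) h8) h1
  obtain ⟨a, ha, haU⟩ := SetLike.not_le_iff_exists.mp hAU
  have h1 := prime_mul_card_le_of_lt (hG.to_subgroup A) (inf_lt_left.mpr hAU)
  have h2 : A ⊓ U ≠ ⊥ := fun h2 => inf_center_ne_bot U (hG := hG.isNilpotent)
    (by rintro rfl; simp at h8) (le_bot_iff.mp (h2 ▸ le_inf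
      (inf_le_right.trans ((center_le_centralizer _).trans hC)) inf_le_left))
  have h3 := (one_lt_card_iff_ne_bot _).mpr h2
  have h5 := card_dvd_of_le (inf_le_left : A ⊓ U ≤ A)
  rw [hA8] at h1 h5
  obtain h6 | h6 : Nat.card (A ⊓ U : Subgroup G) = 2 ∨ Nat.card (A ⊓ U : Subgroup G) = 4 := by
    generalize Nat.card (A ⊓ U : Subgroup G) = m at *
    have : m ≤ 4 := by omega
    interval_cases m <;> omega
  · exact h.secRank_of_card_two hG h6
  by_cases h16 : 16 ≤ Nat.card U
  · exact h.secRank_of_sixteen hG h6 ha haU h16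
  have h7 : Nat.card U = 8 := by
    have : n < 4 := (Nat.pow_lt_pow_iff_right one_lt_two).mp (by omega)
    have := Nat.pow_le_pow_right two_pos (Nat.le_of_lt_succ this)
    omega
  by_cases h9 : ∃ t, centralizer (U : Set G) = U ⊔ zpowers t
  · exact h.secRank_of_cyclic hG h6 ha haU h7 h9.choose_spec
  · exact h.secRank_of_not_cyclic hG h6 ha haU h7 (not_exists.mp h9)

end Cfsg.Lib.Solv.PG
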