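import Cfsg.Agent.Char.DegBasic
import Cfsg.Agent.Char.FrobChar
import Cfsg.Agent.Local.NormalFour

/-!
Groups whose average character degree is at most two.
-/

set_option autoImplicit false

namespace Cfsg.Lib.Solv.Avg

open Cfsg.Lib.Char Cfsg.Lib.Char.Deg Finset

variable {G : Type*} [Group G] [Finite G]

/-- The average degree of the irreducible characters is at most two. -/
def Sad (G : Type*) [Group G] [Finite G] : Prop :=
  ∑ χ : IrrCharacter G, ((charDegree (χ : G → ℂ) : ℤ) - 2) ≤ 0

theorem sad_of_finsum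
    (h : (∑ᶠ χ : IrrCharacter G, charDegree (χ : G → ℂ)) ≤ 2 * Nat.card (IrrCharacter G)) :
    Sad G := by
  rw [finsum_eq_sum_of_fintype, Nat.card_eq_fintype_card] at h
  rw [Sad, sum_sub_distrib, sum_const, card_univ, ← Nat.cast_sum]
  simp only [nsmul_eq_mul]
  omega

/-- The non-linear irreducible characters. -/
noncomputable def nonlin (G : Type*) [Group G] [Finite G] : Finset (IrrCharacter G) :=
  univ.filter fun χ => charDegree (χ : G → ℂ) ≠ 1

theorem mem_nonlin {χ : IrrCharacter G} : χ ∈ nonlin G ↔ charDegree (χ : G → ℂ) ≠ 1 := by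
  simp [nonlin]

theorem two_le_of_mem_nonlin {χ : IrrCharacter G} (h : χ ∈ nonlin G) :
    (2 : ℤ) ≤ charDegree (χ : G → ℂ) := by
  have h1 := mem_nonlin.1 h
  have h2 := deg_pos χ.2
  omega

theorem sum_eq_add_nonlin (f : ℕ → ℤ) : ∑ χ : IrrCharacter G, f (charDegree (χ : G → ℂ)) =
    (commutator G).index * f 1 + ∑ χ ∈ nonlin G, f (charDegree (χ : G → ℂ)) := by
  rw [← sum_filter_add_sum_filter_not univ (fun χ : IrrCharacter G => charDegree (χ : G → ℂ) = 1)]
  congr 1
  rw [sum_congr rfl (g := fun _ => f 1) fun χ hχ => by rw [(mem_filter.1 hχ).2], sum_const,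
    nsmul_eq_mul, ← card_linear_irr, Nat.card_eq_fintype_card, Fintype.card_subtype]
  congr 3
  ext χ
  simp only [mem_filter, mem_univ, true_and]
  exact deg_eq_one_iff χ.2.isCharacter

theorem Sad.sum_nonlin_le (h : Sad G) :
    ∑ χ ∈ nonlin G, ((charDegree (χ : G → ℂ) : ℤ) - 2) ≤ (commutator G).index := by
  have := sum_eq_add_nonlin (G := G) fun d => (d : ℤ) - 2
  rw [Sad, this] at h
  simp only [Nat.cast_one] at h
  omega

theorem Sad.sum_le (h : Sad G) {S : Finset (IrrCharacter G)} (hS : S ⊆ nonlin G) :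
    ∑ χ ∈ S, ((charDegree (χ : G → ℂ) : ℤ) - 2) ≤ (commutator G).index :=
  (sum_le_sum_of_subset_of_nonneg hS fun χ hχ _ => by
    have := two_le_of_mem_nonlin hχ
    omega).trans h.sum_nonlin_le

theorem Sad.deg_le (h : Sad G) {χ : IrrCharacter G} (hχ : χ ∈ nonlin G) :
    (charDegree (χ : G → ℂ) : ℤ) - 2 ≤ (commutator G).index := by
  simpa using h.sum_le (singleton_subset_iff.2 hχ)

theorem sum_nonlin_sq : ∑ χ ∈ nonlin G, (charDegree (χ : G → ℂ) : ℤ) ^ 2 =
    Nat.card G - (commutator G).index := by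
  have h1 := sum_eq_add_nonlin (G := G) fun d => (d : ℤ) ^ 2
  have h2 := congrArg (Nat.cast (R := ℤ)) (sum_deg_sq G)
  push_cast at h1 h2
  omega

theorem card_nonlin : (#(nonlin G) : ℤ) = Nat.card (ConjClasses G) - (commutator G).index := by
  have h1 := sum_eq_add_nonlin (G := G) fun _ => 1
  rw [← card_irr_eq_card_conjClasses, Nat.card_eq_fintype_card]
  simp only [sum_const, card_univ, nsmul_eq_mul, mul_one] at h1
  omega

/-- The property passes to quotients. -/
theorem Sad.quotient (h : Sad G) (N : Subgroup G) [N.Normal] : Sad (G ⧸ N) := by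
  classical
  let r : (G →* ℂˣ) →* (N →* ℂˣ) := MonoidHom.compHom' N.subtype
  have : Finite (G →* ℂˣ) := Finite.of_equiv _ (linearEquivIrr G).symm
  have := Fintype.ofFinite r.range
  choose σ hσ using fun μ : r.range => μ.2
  let Φ : r.range × IrrCharacter (G ⧸ N) → IrrCharacter G := fun x =>
    ⟨(fun g : G => (x.2 : G ⧸ N → ℂ) g) * fun g => (σ x.1 g : ℂ),
      x.2.2.inflate.mul_monoidHom (σ x.1)⟩
  have hΦ : ∀ x g, (Φ x : G → ℂ) g = σ x.1 g * (x.2 : G ⧸ N → ℂ) g := fun _ _ => mul_comm _ _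
  have hdeg : ∀ x, charDegree (Φ x : G → ℂ) = charDegree (x.2 : G ⧸ N → ℂ) := fun x =>
    deg_congr (by simp [hΦ])
  have hinj : Function.Injective Φ := by
    rintro ⟨μ, ψ⟩ ⟨μ', ψ'⟩ e
    have e1 : ∀ g : G, (σ μ g : ℂ) * (ψ : G ⧸ N → ℂ) g = σ μ' g * (ψ' : G ⧸ N → ℂ) g :=
      fun g => (hΦ (μ, ψ) g).symm.trans (e ▸ hΦ (μ', ψ') g)
    have e2 : (ψ : G ⧸ N → ℂ) 1 = (ψ' : G ⧸ N → ℂ) 1 := by simpa using e1 1
    obtain rfl : μ = μ' := by
      apply Subtype.ext
      rw [← hσ, ← hσ]
      ext n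
      have := e1 n
      rw [(QuotientGroup.eq_one_iff (n : G)).2 n.2, e2] at this
      exact mul_right_cancel₀ ψ'.2.apply_one_ne_zero this
    congr 1
    ext q
    obtain ⟨g, rfl⟩ := QuotientGroup.mk_surjective q
    exact mul_left_cancel₀ (Units.ne_zero _) (e1 g)
  have hlin : ∀ χ : IrrCharacter G, χ ∉ univ.image Φ → χ ∈ nonlin G := by
    intro χ hχ
    rw [mem_nonlin, Ne, deg_eq_one_iff χ.2.isCharacter]
    intro h1
    obtain ⟨lam, hl⟩ := χ.2.isCharacter.exists_monoidHom_of_apply_one (by exact_mod_cast h1)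
    let μ : r.range := ⟨r lam, lam, rfl⟩
    let ν : G ⧸ N →* ℂˣ := QuotientGroup.lift N ((σ μ)⁻¹ * lam) fun n hn => by
      have : σ μ n = lam n := DFunLike.congr_fun (hσ μ) ⟨n, hn⟩
      simp [MonoidHom.mem_ker, this]
    refine hχ (mem_image.2 ⟨(μ, ⟨_, isIrrCharacter_monoidHom ν⟩), mem_univ _, ?_⟩)
    ext g
    rw [hΦ, hl]
    simp [ν]
  have h1 : ∑ χ ∈ univ.image Φ, ((charDegree (χ : G → ℂ) : ℤ) - 2) ≤ 0 :=
    (sum_le_sum_of_subset_of_nonneg (subset_univ _) fun χ _ hχ => by
      have := two_le_of_mem_nonlin (hlin χ hχ)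
      omega).trans h
  rw [sum_image hinj.injOn, Fintype.sum_prod_type] at h1
  simp only [hdeg, sum_const, card_univ, nsmul_eq_mul] at h1
  have h2 : (0 : ℤ) < Fintype.card r.range := by exact_mod_cast Fintype.card_pos
  exact nonpos_of_mul_nonpos_right h1 h2 |>.trans le_rfl

theorem Sad.of_equiv (h : Sad G) {H : Type*} [Group H] [Finite H] (e : G ≃* H) : Sad H := by
  let Φ : IrrCharacter H ≃ IrrCharacter G :=
    { toFun := fun χ => ⟨fun g => (χ : H → ℂ) (e g), χ.2.comp_equiv e⟩
      invFun := fun χ => ⟨fun g => (χ : G → ℂ) (e.symm g), χ.2.comp_equiv e.symm⟩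
      left_inv := fun χ => by ext; simp
      right_inv := fun χ => by ext; simp }
  rw [Sad, ← Φ.sum_comp] at h
  refine le_of_eq_of_le (sum_congr rfl fun χ _ => ?_) h
  rw [deg_congr (χ := (χ : H → ℂ)) (φ := (Φ χ : G → ℂ)) (by simp [Φ])]

theorem Sad.of_surjective (h : Sad G) {H : Type*} [Group H] [Finite H] (f : G →* H)
    (hf : Function.Surjective f) : Sad H :=
  (h.quotient f.ker).of_equiv (QuotientGroup.quotientKerEquivOfSurjective f hf)

/-- The bound for a group with an abelian normal subgroup of odd index. -/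
theorem Sad.card_commutator_le (h : Sad G) (A : Subgroup G) [A.Normal]
    (hA : ∀ a ∈ A, ∀ b ∈ A, a * b = b * a) (hodd : Odd A.index) :
    ((Nat.card (commutator G) : ℤ) - 1) * (A.index - 2) ≤ A.index ^ 2 := by
  set b := A.index
  have h1 : ∀ χ ∈ nonlin G, ((b : ℤ) - 2) * (charDegree (χ : G → ℂ) : ℤ) ^ 2 ≤
      b ^ 2 * ((charDegree (χ : G → ℂ) : ℤ) - 2) := by
    intro χ hχ
    obtain ⟨k, hk⟩ : charDegree (χ : G → ℂ) ∣ b := ito χ.2 A hA
    have h2 := mem_nonlin.1 hχ
    set d := charDegree (χ : G → ℂ)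
    rw [hk, Nat.odd_mul] at hodd
    obtain ⟨⟨d', hd⟩, k', hk'⟩ := hodd
    have h3 : (3 : ℤ) ≤ d := by omega
    rcases Nat.eq_zero_or_pos k' with rfl | h4
    · rw [hk, hk']
      push_cast
      nlinarith
    · have h5 : (3 : ℤ) * d ≤ b := by
        rw [hk]
        push_cast
        nlinarith [show (3 : ℤ) ≤ k by omega]
      have h6 : (4 : ℤ) ≤ (b - 2) * (d - 2) := by nlinarith
      nlinarith [mul_nonneg (show (0 : ℤ) ≤ b - d by omega) (sub_nonneg.2 h6)]
  have h2 := sum_le_sum h1
  rw [← mul_sum, ← mul_sum, sum_nonlin_sq, ← (commutator G).card_mul_index] at h2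
  have h3 := h.sum_nonlin_le
  have h4 : (0 : ℤ) < (commutator G).index := by
    exact_mod_cast Nat.pos_of_ne_zero Subgroup.index_ne_zero_of_finite
  refine le_of_mul_le_mul_right ?_ h4
  push_cast at h2
  nlinarith [sq_nonneg (b : ℤ)]

/-- The bound for a Frobenius group whose complement has order at least five. -/
theorem Sad.card_le_of_frobenius (h : Sad G) (U : Subgroup G) [U.Normal]
    (hF : ∀ g : G, g ∉ U → ∀ n ∈ U, n * g = g * n → n = 1) (h5 : 5 ≤ U.index) :
    Nat.card U ≤ U.index + 1 := by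
  classical
  have := Fintype.ofFinite G
  have hU : U ≤ commutator G := by
    obtain ⟨g, hg⟩ : ∃ g, g ∉ U := by
      by_contra h
      push Not at h
      rw [(Subgroup.eq_top_iff' U).2 h, Subgroup.index_top] at h5
      omega
    intro m hm
    obtain ⟨k, -, hk⟩ := exists_conj_eq_mul_left_of_fpf (hF g hg) hm
    rw [← mul_inv_eq_iff_eq_mul] at hk
    exact hk ▸ Subgroup.commutator_mem_commutator (Subgroup.mem_top k) (Subgroup.mem_top g)
  have h1 : ((commutator G).index : ℤ) ≤ U.index := by exact_mod_cast Subgroup.index_antitone hU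
  set S := univ.filter (fun χ : IrrCharacter G => ¬ U ≤ charKer (χ : G → ℂ))
  have hS : S ⊆ nonlin G := fun χ hχ => mem_nonlin.2 fun h1 =>
    (mem_filter.1 hχ).2 (hU.trans ((commutator_le_charKer_iff χ.2).2 h1))
  have hd : ∀ χ ∈ S, charDegree (χ : G → ℂ) = U.index := by
    intro χ hχ
    obtain ⟨θ, hθ, -, e⟩ := exists_eq_indFun_of_frobenius hF χ.2 (mem_filter.1 hχ).2
    have h2 := h.deg_le (hS hχ)
    have h3 := deg_pos hθ
    rw [e, deg_indFun U hθ.isCharacter] at h2 ⊢
    rcases (show charDegree θ = 1 ∨ 2 ≤ charDegree θ by omega) with h4 | h4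
    · rw [h4, mul_one]
    · have := Nat.mul_le_mul_left U.index h4
      omega
  have h2 := h.sum_le hS
  rw [sum_congr rfl fun χ hχ => by rw [hd χ hχ], sum_const, nsmul_eq_mul] at h2
  have h3 : (#S : ℤ) ≤ 1 := by
    by_contra h3
    have : (5 : ℤ) ≤ U.index := by exact_mod_cast h5
    nlinarith
  have h4 := sum_irr_not_ker_degree_sq U
  rw [sum_congr rfl fun χ hχ => by rw [← cast_deg_irr χ.2, hd χ hχ], sum_const, nsmul_eq_mul,
    ← U.card_mul_index] at h4
  have h6 : (#S : ℤ) * (U.index : ℤ) ^ 2 = Nat.card U * U.index - U.index := by exact_mod_cast h4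
  have h7 : (0 : ℤ) < U.index := by omega
  have h8 : (Nat.card U : ℤ) ≤ U.index + 1 := by
    refine le_of_mul_le_mul_right ?_ h7
    nlinarith
  exact_mod_cast h8

/-- A bound for the order in terms of the numbers of classes and of linear characters. -/
theorem Sad.card_le (h : Sad G) : Nat.card G ≤
    4 * Nat.card (ConjClasses G) + (commutator G).index ^ 2 + (commutator G).index := by
  have h1 : ∀ χ ∈ nonlin G, (charDegree (χ : G → ℂ) : ℤ) ^ 2 ≤
      ((commutator G).index + 4) * ((charDegree (χ : G → ℂ) : ℤ) - 2) + 4 := by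
    intro χ hχ
    have h2 := h.deg_le hχ
    have h3 := two_le_of_mem_nonlin hχ
    nlinarith
  have h2 := sum_le_sum h1
  rw [sum_add_distrib, ← mul_sum, sum_nonlin_sq, sum_const, nsmul_eq_mul, card_nonlin] at h2
  have h3 := h.sum_nonlin_le
  have h4 : (0 : ℤ) ≤ (commutator G).index := Nat.cast_nonneg _
  zify
  nlinarith

/-- A perfect group of average character degree at most two is trivial. -/
theorem Sad.subsingleton (h : Sad G) (hG : commutator G = ⊤) : Subsingleton G := by
  have h1 := h.sum_nonlin_le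
  have h2 := sum_nonlin_sq (G := G)
  have h3 := fun χ => h.deg_le (χ := χ)
  rw [hG, Subgroup.index_top, Nat.cast_one] at h1 h2 h3
  have h4 : (4 : ℤ) ∣ ∑ χ ∈ nonlin G, ((charDegree (χ : G → ℂ) : ℤ) ^ 2 -
      ((charDegree (χ : G → ℂ) : ℤ) - 2)) := dvd_sum fun χ hχ => by
    have h5 := h3 χ hχ
    have h6 := two_le_of_mem_nonlin hχ
    rcases (show (charDegree (χ : G → ℂ) : ℤ) = 2 ∨ (charDegree (χ : G → ℂ) : ℤ) = 3 by omega)
      with e | e <;> rw [e] <;> norm_num
  rw [sum_sub_distrib, h2] at h4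
  have h0 : ∀ χ ∈ nonlin G, 0 ≤ (charDegree (χ : G → ℂ) : ℤ) - 2 := fun χ hχ => by
    have := two_le_of_mem_nonlin hχ
    omega
  have h5 := sum_nonneg h0
  rcases h5.eq_or_lt with h6 | h6
  · rcases (nonlin G).eq_empty_or_nonempty with e | ⟨χ, hχ⟩
    · rw [e, sum_empty] at h2
      exact (Nat.card_eq_one_iff_unique.1 (by omega)).1
    · have h7 := (sum_eq_zero_iff_of_nonneg h0).1 h6.symm χ hχ
      have h8 := deg_dvd_card χ.2
      rw [show charDegree (χ : G → ℂ) = 2 by omega] at h8
      omega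
  · obtain ⟨u, hu⟩ := exists_prime_orderOf_dvd_card' (G := G) 2 (by omega)
    obtain ⟨M, hM, huM⟩ := Local.exists_index_two_not_mem_of_index_mod_four (⊥ : Subgroup G)
      (by rw [Subgroup.index_bot]; omega) u (hu ▸ pow_orderOf_eq_one u) fun g hg => by
        rw [Subgroup.mem_bot, mul_inv_eq_one, mul_eq_left] at hg
        simp [hg] at hu
    have := M.normal_of_index_eq_two hM
    have h7 : IsCyclic (G ⧸ M) := isCyclic_of_prime_card (p := 2) hM
    refine absurd ?_ huM
    have h8 : commutator G ≤ M := by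
      rw [← QuotientGroup.ker_mk' M]
      let := h7.commGroup
      exact Abelianization.commutator_subset_ker (QuotientGroup.mk' M)
    exact h8 (hG ▸ Subgroup.mem_top u)

/-- Every proper subgroup has average character degree at most two. -/
def AllSad (G : Type*) [Group G] [Finite G] : Prop := ∀ H : Subgroup G, H ≠ ⊤ → Sad H

theorem AllSad.of_surjective (h : AllSad G) {H : Type*} [Group H] [Finite H] (f : G →* H)
    (hf : Function.Surjective f) : AllSad H := fun K hK =>
  (h (K.comap f) fun e => hK (Subgroup.comap_injective hf (by rw [e, Subgroup.comap_top]))).of_surjective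
    (f.subgroupComap K) (f.subgroupComap_surjective_of_surjective K hf)

theorem AllSad.isSolvable (h : AllSad G) {H : Subgroup G} (hH : H ≠ ⊤) : Group.IsSolvable H := by
  induction H using (wellFounded_lt (α := Subgroup G)).induction with
  | _ H ih =>
  by_cases h1 : commutator H = ⊤
  · have := (h H hH).subsingleton h1
    infer_instance
  · have h2 : (commutator H).map H.subtype < H := by
      refine lt_of_le_of_ne (Subgroup.map_subtype_le _) fun e => h1 ?_
      apply Subgroup.map_injective H.subtype_injective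
      rw [e, ← MonoidHom.range_eq_map, Subgroup.range_subtype]
    have := ih _ h2 (ne_top_of_lt h2)
    have : Group.IsSolvable (commutator H) := Group.isSolvable_of_surjective
      (f := ((commutator H).equivMapOfInjective _ H.subtype_injective).symm.toMonoidHom)
      (MulEquiv.surjective _)
    have : Group.IsSolvable (H ⧸ commutator H) :=
      Group.isSolvable_of_comm fun a b => mul_comm (G := Abelianization H) a b
    exact Group.isSolvable_of_ker_le_range (commutator H).subtype (QuotientGroup.mk' (commutator H))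
      (by simp)

end Cfsg.Lib.Solv.Avg
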