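import Cfsg.Agent.Solv.BHM
import Cfsg.Agent.Solv.CoprimeAbelian

/-!
More on products of classes of coprime sizes.
-/

set_option autoImplicit false

namespace Cfsg.Lib.Solv.ClassSize

open Subgroup Cfsg.Lib.FT
open scoped commutatorElement Pointwise

variable {G : Type*} [Group G]

theorem ncard_conj_eq_relIndex (N : Subgroup G) (c : G) :
    {y : G | ∃ n ∈ N, n * c * n⁻¹ = y}.ncard = (centralizer ({c} : Set G)).relIndex N := by
  let _ : MulAction N G := MulAction.compHom _ (MulAut.conj.comp N.subtype)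
  have h1 := MulAction.index_stabilizer N c
  have h2 : MulAction.stabilizer N c = (centralizer ({c} : Set G)).subgroupOf N := by
    ext a
    rw [MulAction.mem_stabilizer_iff, mem_subgroupOf, mem_cent_iff_conj]
    rfl
  have h3 : MulAction.orbit N c = {y : G | ∃ n ∈ N, n * c * n⁻¹ = y} := by
    ext y
    exact ⟨fun ⟨a, e⟩ => ⟨a, a.2, e⟩, fun ⟨a, ha, e⟩ => ⟨⟨a, ha⟩, e⟩⟩
  rw [← h3, ← h1, h2, relIndex]

theorem relIndex_cent_lt_card [Finite G] {E B : Subgroup G} (hE : E ≤ normalizer (B : Set G))
    {e : G} (he : e ∈ B) (he1 : e ≠ 1) : (centralizer ({e} : Set G)).relIndex E < Nat.card B := by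
  rw [← ncard_conj_eq_relIndex]
  refine Set.ncard_lt_ncard (t := (B : Set G)) ⟨?_, fun h => ?_⟩
  · rintro _ ⟨g, hg, rfl⟩
    exact Coprime.conj_mem hE hg he
  · obtain ⟨g, -, hg⟩ := h B.one_mem
    exact he1 (by simpa using hg)

theorem eq_of_le_of_index_le [Finite G] {H K : Subgroup G} (h : H ≤ K) (hi : H.index ≤ K.index) :
    H = K := by
  refine le_antisymm h (relIndex_eq_one.1 ?_)
  have h1 := relIndex_mul_index h
  have h2 : 0 < K.index := Nat.pos_of_ne_zero index_ne_zero_of_finite
  have h3 : 0 < H.relIndex K := Nat.pos_of_ne_zero index_ne_zero_of_finite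
  nlinarith

theorem cent_le_of_index_le [Finite G] {z u : G} (hc : Commute z u)
    (hcop : (orderOf z).Coprime (orderOf u))
    (h : (centralizer ({z * u} : Set G)).index ≤ (centralizer ({z} : Set G)).index) :
    centralizer ({z} : Set G) ≤ centralizer {u} := by
  rw [cent_mul_of_coprime hc hcop] at h
  exact inf_eq_left.1 (eq_of_le_of_index_le inf_le_left h)

/-- If the class of `u * d` is not larger than that of `d`, of size prime to the class size of
`u`, then the class of `d` is a union of cosets of a normal subgroup containing `[G, u]`. -/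
theorem exists_normal_of_index_mul_le [Finite G] {u d : G}
    (hcop : (centralizer ({u} : Set G)).index.Coprime (centralizer ({d} : Set G)).index)
    (h : (centralizer ({u * d} : Set G)).index ≤ (centralizer ({d} : Set G)).index) :
    ∃ K : Subgroup G, K.Normal ∧ Nat.card K ∣ (centralizer ({d} : Set G)).index ∧
      ∀ g : G, ⁅g, u⁆ ∈ K := by
  let K : Subgroup G :=
    { carrier := {k | ∀ z, IsConj d z ↔ IsConj d (k * z)}
      one_mem' := by simp
      mul_mem' := fun {a b} ha hb z => by rw [mul_assoc, ← ha, ← hb]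
      inv_mem' := fun {a} ha z => by rw [ha (a⁻¹ * z), mul_inv_cancel_left] }
  have hconj : ∀ g z : G, IsConj d (g * z * g⁻¹) ↔ IsConj d z := fun g z =>
    ⟨fun h => h.trans (isConj_iff.2 ⟨g, rfl⟩).symm, fun h => h.trans (isConj_iff.2 ⟨g, rfl⟩)⟩
  have hK : K.Normal := ⟨fun k hk g z => by
    rw [← hconj g⁻¹ z, hk, ← hconj g]
    congr! 1
    group⟩
  refine ⟨K, hK, ?_, fun g => ?_⟩
  · rw [← ncard_setOf_isConj]
    refine Count.dvd_cnt_of_dvd_index_stabilizer (A := K) (fun z => IsConj d z)
      (fun k z hz => (k.2 z).1 hz) fun z _ => ?_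
    have : MulAction.stabilizer K z = ⊥ := by
      rw [eq_bot_iff]
      intro k hk
      exact Subtype.ext (mul_eq_right.1 hk)
    rw [this, index_bot]
  · have key : ∀ u' : G, IsConj u u' → ∀ w, IsConj (u * d) w ↔ IsConj d (u'⁻¹ * w) := by
      intro u' hu' w
      have hd2 : (centralizer ({u'} : Set G)).index.Coprime (centralizer ({d} : Set G)).index := by
        rwa [← index_cent_of_isConj hu']
      have h1 : IsConj (u * d) (u' * d) := by
        obtain ⟨c, rfl⟩ := isConj_iff.1 hu'
        refine IsConj.trans (isConj_mul_of_coprime hcop (z := c⁻¹ * d * c⁻¹⁻¹)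
          (isConj_iff.2 ⟨c⁻¹, rfl⟩)) (isConj_iff.2 ⟨c, by group⟩)
      have h2 : (fun z => u' * z) '' {z | IsConj d z} = {w | IsConj (u' * d) w} := by
        refine Set.eq_of_subset_of_ncard_le ?_ ?_
        · rintro _ ⟨z, hz, rfl⟩
          exact isConj_mul_of_coprime hd2 hz
        · rw [Set.ncard_image_of_injective _ (mul_right_injective u'), ncard_setOf_isConj,
            ncard_setOf_isConj, ← index_cent_of_isConj h1]
          exact h
      constructor
      · intro hw
        obtain ⟨z, hz, rfl⟩ := h2.ge (h1.symm.trans hw)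
        simpa using hz
      · intro hw
        exact h1.trans (h2.le ⟨_, hw, by simp⟩)
    have h3 : u⁻¹ * (g * u * g⁻¹) ∈ K := fun z => by
      rw [mul_assoc u⁻¹, ← key u (IsConj.refl u), key _ (isConj_iff.2 ⟨g, rfl⟩),
        inv_mul_cancel_left]
    have h4 := hK.conj_mem _ h3 u
    rwa [mul_inv_cancel_left] at h4

/-- The decomposition of an abelian normal subgroup under a coprime commutator action. -/
theorem commutator_inf_centralizer_eq_bot_of_le [Finite G] {M A W : Subgroup G} [A.Normal]
    [IsMulCommutative A] (hA : ⁅M, W⁆ ≤ A) (hcop : (Nat.card W).Coprime (Nat.card A)) :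
    ⁅M, W⁆ ⊓ centralizer (W : Set G) = ⊥ := by
  have h1 := Coprime.commutator_le_of_mul_centralizer (A := W) (K := M)
    (X := A) fun g hg => Coprime.exists_mul_centralizer_of_commutator_le
      (Fpf.le_normalizer_of_normal' _ _) hcop
      (Or.inr (Coprime.isSolvable_of_isMulCommutative A)) hA hg
  rw [eq_bot_iff, ← Coprime.centralizer_inf_commutator_eq_bot (V := A)
    (Fpf.le_normalizer_of_normal' _ _) hcop]
  exact le_inf (inf_le_inf_right _ hA) (inf_le_left.trans h1)

theorem exists_pElt_not_mem [Finite G] {r : ℕ} (hr : r.Prime) {C D : Subgroup G}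
    (hC : ¬ r ∣ C.index) (hD : r ∣ D.index) : ∃ w ∈ C, w ∉ D ∧ ∃ k, orderOf w = r ^ k := by
  have := Fact.mk hr
  obtain ⟨R, hR⟩ := exists_sylow_le_of_not_dvd_index hC
  obtain ⟨w, hw, hwD⟩ := SetLike.not_le_iff_exists.1
    fun hle => not_dvd_index_of_sylow_le R hle hD
  exact ⟨w, hR hw, hwD, exists_orderOf_eq_pow_of_mem R.isPGroup' hw⟩

end Cfsg.Lib.Solv.ClassSize
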