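import Mathlib.GroupTheory.Solvable
import Mathlib.GroupTheory.Index
import Mathlib.GroupTheory.Sylow

/-! Reduction of solvability statements to simple groups and to minimal non-solvable groups. -/

set_option autoImplicit false

namespace Cfsg.Lib.Solv

open Subgroup

universe u

theorem card_lt_card_of_ne_top {G : Type*} [Group G] [Finite G] {N : Subgroup G} (h : N ≠ ⊤) :
    Nat.card N < Nat.card G := by
  rw [← N.card_mul_index]
  have h1 := N.index_ne_zero_of_finite
  have h2 : N.index ≠ 1 := fun h2 => h (index_eq_one.mp h2)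
  exact lt_mul_of_one_lt_right Nat.card_pos (by omega)

theorem card_quot_lt_card_of_ne_bot {G : Type*} [Group G] [Finite G] {N : Subgroup G} (h : N ≠ ⊥) :
    Nat.card (G ⧸ N) < Nat.card G := by
  rw [card_eq_card_quotient_mul_card_subgroup N]
  exact lt_mul_of_one_lt_right Nat.card_pos ((one_lt_card_iff_ne_bot _).mpr h)

/-- A property inherited by normal subgroups and quotients forces solvability as soon as it does so
for simple groups. -/
theorem isSolvable_of_simple (P : ∀ (G : Type u) [Group G], Prop)
    (hsub : ∀ (G : Type u) [Group G] [Finite G] (N : Subgroup G) [N.Normal], P G → P N)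
    (hquo : ∀ (G : Type u) [Group G] [Finite G] (N : Subgroup G) [N.Normal], P G → P (G ⧸ N))
    (hs : ∀ (G : Type u) [Group G] [Finite G] [IsSimpleGroup G], P G → Group.IsSolvable G)
    (G : Type u) [Group G] [Finite G] (h : P G) : Group.IsSolvable G := by
  induction hn : Nat.card G using Nat.strong_induction_on generalizing G with
  | _ n ih =>
  by_cases h1 : Nontrivial G
  swap
  · rw [not_nontrivial_iff_subsingleton] at h1
    exact Group.isSolvable_of_comm fun a b => Subsingleton.elim _ _
  by_cases h2 : ∀ N : Subgroup G, N.Normal → N = ⊥ ∨ N = ⊤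
  · haveI : IsSimpleGroup G := ⟨h2⟩
    exact hs G h
  push Not at h2
  obtain ⟨N, hN, hb, ht⟩ := h2
  exact (Group.isSolvable_iff_subgroup_quotient N).mpr
    ⟨ih _ (hn ▸ card_lt_card_of_ne_top ht) N (hsub G N h) rfl,
      ih _ (hn ▸ card_quot_lt_card_of_ne_bot hb) (G ⧸ N) (hquo G N h) rfl⟩

/-- A property inherited by subgroups and quotients forces solvability as soon as it does so for
simple groups all of whose proper subgroups are solvable. -/
theorem isSolvable_of_minimal_simple (P : ∀ (G : Type u) [Group G], Prop)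
    (hsub : ∀ (G : Type u) [Group G] [Finite G] (H : Subgroup G), P G → P H)
    (hquo : ∀ (G : Type u) [Group G] [Finite G] (N : Subgroup G) [N.Normal], P G → P (G ⧸ N))
    (hs : ∀ (G : Type u) [Group G] [Finite G] [IsSimpleGroup G],
      (∀ H : Subgroup G, H ≠ ⊤ → Group.IsSolvable H) → P G → Group.IsSolvable G)
    (G : Type u) [Group G] [Finite G] (h : P G) : Group.IsSolvable G := by
  induction hn : Nat.card G using Nat.strong_induction_on generalizing G with
  | _ n ih =>
  by_cases h1 : Nontrivial G
  swap
  · rw [not_nontrivial_iff_subsingleton] at h1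
    exact Group.isSolvable_of_comm fun a b => Subsingleton.elim _ _
  have h3 : ∀ H : Subgroup G, H ≠ ⊤ → Group.IsSolvable H := fun H hH =>
    ih _ (hn ▸ card_lt_card_of_ne_top hH) H (hsub G H h) rfl
  by_cases h2 : ∀ N : Subgroup G, N.Normal → N = ⊥ ∨ N = ⊤
  · haveI : IsSimpleGroup G := ⟨h2⟩
    exact hs G h3 h
  push Not at h2
  obtain ⟨N, hN, hb, ht⟩ := h2
  exact (Group.isSolvable_iff_subgroup_quotient N).mpr
    ⟨h3 N ht, ih _ (hn ▸ card_quot_lt_card_of_ne_bot hb) (G ⧸ N) (hquo G N h) rfl⟩

end Cfsg.Lib.Solv
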