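import Cfsg.Agent.Solv.CenterPow
import Cfsg.Agent.Solv.ElemLift
import Cfsg.Agent.Solv.SimpleReduce
import Cfsg.Agent.S0223
import Cfsg.Agent.Gate.S1169

/-! Camina-Herzog: if all 2-elements have odd class size, Sylow 2-subgroups are abelian
(from Goldschmidt's theorem on strongly closed abelian subgroups). -/

set_option autoImplicit false

namespace Cfsg.Lib.Solv

open Subgroup ClassSize
open scoped Pointwise

universe u

theorem comm_of_isPGroup_of_sylow {G : Type*} [Group G] {p : ℕ}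
    (h : ∀ T : Sylow p G, ∀ a ∈ (T : Subgroup G), ∀ b ∈ (T : Subgroup G), a * b = b * a)
    {U : Subgroup G} (hU : IsPGroup p U) {a b : G} (ha : a ∈ U) (hb : b ∈ U) : a * b = b * a := by
  obtain ⟨T, hT⟩ := hU.exists_le_sylow
  exact h T a (hT ha) b (hT hb)

theorem exists_sylow_mem_le_cent {G : Type*} [Group G] [Finite G] {p : ℕ} [Fact p.Prime] {x : G}
    {k : ℕ} (hx : orderOf x = p ^ k) (h : ¬ p ∣ (centralizer ({x} : Set G)).index) :
    ∃ Q : Sylow p G, x ∈ (Q : Subgroup G) ∧ (Q : Subgroup G) ≤ centralizer ({x} : Set G) := by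
  obtain ⟨Q, h1, h2⟩ := exists_sylow_le_ge_of_not_dvd_index h
    (isPGroup_zpowers_of_pow_eq_one (by rw [← hx, pow_orderOf_eq_one])) (zpowers_le_cent x)
  exact ⟨Q, h1 (mem_zpowers x), h2⟩

theorem caminaHerzog [Agent.Gate.S1169.{u}] (G : Type u) [Group G] [Finite G]
    (h : ∀ x : G, (∃ k : ℕ, orderOf x = 2 ^ k) → ¬ 2 ∣ (centralizer ({x} : Set G)).index)
    (T : Sylow 2 G) : ∀ a ∈ (T : Subgroup G), ∀ b ∈ (T : Subgroup G), a * b = b * a := by
  induction hn : Nat.card G using Nat.strong_induction_on generalizing G with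
  | _ n ih =>
  by_cases h1 : Nontrivial G
  swap
  · rw [not_nontrivial_iff_subsingleton] at h1
    exact fun a _ b _ => Subsingleton.elim _ _
  by_cases h2 : ∀ N : Subgroup G, N.Normal → N = ⊥ ∨ N = ⊤
  · haveI : IsSimpleGroup G := ⟨h2⟩
    classical
    have hex : ∃ e, ∀ x ∈ (T : Subgroup G), x ^ 2 ^ e = 1 := by
      obtain ⟨e, he⟩ := T.isPGroup'.exists_card_eq
      exact ⟨e, fun x hx => by
        simpa [he, Subtype.ext_iff] using pow_card_eq_one' (x := (⟨x, hx⟩ : (T : Subgroup G)))⟩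
    have he := Nat.find_spec hex
    have hmin := fun m => Nat.find_min hex (m := m)
    generalize Nat.find hex = e at he hmin
    rcases e with _ | e
    · intro a ha b hb
      rw [show a = 1 by simpa using he a ha]; simp
    have hx := hmin e (Nat.lt_succ_self e)
    push Not at hx
    obtain ⟨x, hxT, hx⟩ := hx
    obtain ⟨k, hk⟩ := exists_orderOf_eq_pow_of_mem T.isPGroup' hxT
    obtain ⟨Q, hxQ, hQ⟩ := exists_sylow_mem_le_cent hk (h x ⟨k, hk⟩)
    obtain ⟨g, rfl⟩ := MulAction.exists_smul_eq G Q T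
    have hA : g * x ^ 2 ^ e * g⁻¹ ∈ centerPow (2 ^ e) ((g • Q : Sylow 2 G) : Subgroup G) :=
      conj_mem_centerPow ⟨x, hxQ, fun y hy => mem_cent.mp (hQ hy), rfl⟩ g
    rcases Agent.Gate.S1169.out (g • Q) (centerPow (2 ^ e) ((g • Q : Sylow 2 G) : Subgroup G))
      (fun hb => hx (by rw [hb, mem_bot] at hA; simpa using hA))
      ⟨⟨fun a b => Subtype.ext ((centerPow_le _ _ b.2).2 a (centerPow_le _ _ a.2).1)⟩⟩
      (isStronglyClosed_centerPow _ fun y hy => by rw [← pow_succ']; exact he y hy) with hc | ⟨H, hH⟩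
    · exact fun a ha b hb => congrArg Subtype.val (hc.is_comm.comm ⟨a, ha⟩ ⟨b, hb⟩)
    have hC := ((Agent.S0223.result H hH.1 hH.2.1).mp hH).1
    obtain ⟨t, htH, ht⟩ := exists_mem_orderOf_eq_prime Nat.prime_two hH.2.1.two_dvd
    obtain ⟨R, hR⟩ := exists_sylow_le_of_not_dvd_index (h t ⟨1, by simpa using ht⟩)
    have hRH := hR.trans (hC t htH ht)
    have ihH := ih _ (hn ▸ card_lt_card_of_ne_top hH.1) H (fun y ⟨j, hj⟩ => ?_) (hn := rfl)
    · rw [← Subgroup.orderOf_coe] at hj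
      rcases j with _ | j
      · rw [show y = 1 from Subtype.ext (by simpa using hj), cent_eq_top_iff.mpr (one_mem _)]
        simp
      have hle : centralizer ({(y : G)} : Set G) ≤ H :=
        (cent_le_cent_pow _ (2 ^ j)).trans (hC _ (H.pow_mem y.2 _) (by
          rw [orderOf_pow_of_dvd (by positivity) (hj ▸ pow_dvd_pow 2 j.le_succ), hj, pow_succ]
          simp))
      rw [index_cent_subtype]
      exact fun hd => h y ⟨_, hj⟩ (hd.trans (Dvd.intro _ (relIndex_mul_index hle)))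
    · obtain ⟨c, hc⟩ := MulAction.exists_smul_eq G R (g • Q)
      rw [← hc]
      intro a' ha' b' hb'
      obtain ⟨a, ha, rfl⟩ := mem_conj_smul_iff_exists.mp ha'
      obtain ⟨b, hb, rfl⟩ := mem_conj_smul_iff_exists.mp hb'
      have := congrArg Subtype.val (comm_of_isPGroup_of_sylow ihH
        (R.isPGroup'.comap_of_injective _ H.subtype_injective) (a := ⟨a, hRH ha⟩)
        (b := ⟨b, hRH hb⟩) ha hb)
      calc c * a * c⁻¹ * (c * b * c⁻¹) = c * (a * b) * c⁻¹ := by group
        _ = _ := by rw [show a * b = b * a from this]; group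
  push Not at h2
  obtain ⟨N, hN, hb, ht⟩ := h2
  have ihN := ih _ (hn ▸ card_lt_card_of_ne_top ht) N (fun y ⟨j, hj⟩ hd =>
    h y ⟨j, by rwa [Subgroup.orderOf_coe]⟩ (hd.trans (index_cent_subtype_dvd_of_normal y)))
    (hn := rfl)
  have ihQ := ih _ (hn ▸ card_quot_lt_card_of_ne_bot hb) (G ⧸ N) (fun y ⟨j, hj⟩ hd => by
    obtain ⟨x, rfl, hx⟩ := exists_lift_prime_pow _ (QuotientGroup.mk'_surjective N)
      Nat.prime_two hj
    exact h x hx (hd.trans (index_cent_mk_dvd N x))) (hn := rfl)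
  have key : ∀ x ∈ (T : Subgroup G), ∃ z ∈ (T : Subgroup G), ∃ m ∈ N, m ∈ (T : Subgroup G) ∧
      (∀ y ∈ (T : Subgroup G), y * z = z * y) ∧ x = z * m := by
    intro x hx
    obtain ⟨k, hk⟩ := exists_orderOf_eq_pow_of_mem T.isPGroup' hx
    obtain ⟨Q, hxQ, hQ⟩ := exists_sylow_mem_le_cent hk (h x ⟨k, hk⟩)
    have hTK : (T : Subgroup G) ≤ (centralizer {QuotientGroup.mk' N x}).comap
        (QuotientGroup.mk' N) := fun y hy => mem_cent.mpr
      (comm_of_isPGroup_of_sylow ihQ (T.isPGroup'.map (QuotientGroup.mk' N))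
        (mem_map_of_mem _ hy) (mem_map_of_mem _ hx))
    have hQK := hQ.trans (cent_le_comap (QuotientGroup.mk' N) x)
    obtain ⟨c, hc, hc2⟩ := Coprime.exists_conj_eq_of_sylow hQK Q.isPGroup'
      (fun hd => Q.not_dvd_index (hd.trans (Dvd.intro _ (relIndex_mul_index hQK)))) hTK T.isPGroup'
      (fun hd => T.not_dvd_index (hd.trans (Dvd.intro _ (relIndex_mul_index hTK))))
    have hz : c * x * c⁻¹ ∈ (T : Subgroup G) := hc2 ▸ conj_mem_conj_smul c hxQ
    refine ⟨_, hz, (c * x * c⁻¹)⁻¹ * x, ?_, mul_mem (inv_mem hz) hx, fun y hy => ?_, by group⟩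
    · rw [← QuotientGroup.eq]
      have := mem_cent.mp hc
      simp only [QuotientGroup.mk'_apply] at this
      simp [this]
    · rw [← hc2] at hy
      obtain ⟨u, hu, rfl⟩ := mem_conj_smul_iff_exists.mp hy
      calc c * u * c⁻¹ * (c * x * c⁻¹) = c * (u * x) * c⁻¹ := by group
        _ = _ := by rw [mem_cent.mp (hQ hu)]; group
  intro a ha b hb
  obtain ⟨z, hz, m, hmN, hm, hzc, rfl⟩ := key a ha
  obtain ⟨z', hz', m', hmN', hm', hzc', rfl⟩ := key b hb
  have e : m * m' = m' * m := congrArg Subtype.val (comm_of_isPGroup_of_sylow ihN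
    (T.isPGroup'.comap_of_injective _ N.subtype_injective) (a := ⟨m, hmN⟩)
    (b := ⟨m', hmN'⟩) hm hm')
  exact Commute.mul_left (hzc _ hb).symm (Commute.mul_right (hzc' _ hm) e)

end Cfsg.Lib.Solv
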