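import Cfsg.Agent.Solv.KMSCore
import Cfsg.Agent.Solv.FrobeniusGroup
import Cfsg.Agent.Solv.NilpotentHall
import Cfsg.Agent.Solv.ThompsonWrap
import Cfsg.Agent.Solv.CoprimeSylow
import Cfsg.Agent.Solv.CoprimeAbelian
import Cfsg.Agent.Inst.S0108

/-!
# Frobenius groups of automorphisms with fixed-point-free kernel: nilpotency
-/

set_option autoImplicit false
set_option linter.unusedSectionVars false

namespace Cfsg.Lib.Solv.KMS

open Subgroup Cfsg.Lib.Trans Cfsg.Lib.Local QuotientGroup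
open scoped commutatorElement

universe u

variable {X : Type u} [Group X]

/-- `F H` is a Frobenius group acting on `G` with `C_G(F) = 1`. -/
structure Hyp (G F H : Subgroup X) : Prop where
  hF : F ≤ normalizer (G : Set X)
  hH : H ≤ normalizer (G : Set X)
  hHF : H ≤ normalizer (F : Set X)
  nil : Group.IsNilpotent F
  frob : ∀ h ∈ H, h ≠ 1 → F ⊓ centralizer {h} = ⊥
  disj : (F ⊔ H) ⊓ G = ⊥
  fpf : G ⊓ centralizer (F : Set X) = ⊥

/-- `O_{p'}(F)`. -/
abbrev pp (p : ℕ) (F : Subgroup X) : Subgroup X := (pPrimeCore p F).map F.subtype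

variable {G F H K N : Subgroup X} {p q : ℕ}

theorem mem_centralizer_of_conj_eq' {c : X} {A : Set X} (h : ∀ a ∈ A, a * c * a⁻¹ = c) :
    c ∈ centralizer A := mem_centralizer_iff.2 fun a ha => mul_inv_eq_iff_eq_mul.1 (h a ha)

theorem Hyp.sub (h : Hyp G F H) (hK : K ≤ G) (h1 : F ⊔ H ≤ normalizer (K : Set X)) : Hyp K F H :=
  ⟨le_sup_left.trans h1, le_sup_right.trans h1, h.hHF, h.nil, h.frob,
    le_bot_iff.1 (h.disj ▸ inf_le_inf_left _ hK), le_bot_iff.1 (h.fpf ▸ inf_le_inf_right _ hK)⟩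

theorem Hyp.shrink (h : Hyp G F H) (hK : K ≤ F) (h1 : H ≤ normalizer (K : Set X))
    (h2 : G ⊓ centralizer (K : Set X) = ⊥) : Hyp G K H :=
  ⟨hK.trans h.hF, h.hH, h1, isNilpotent_of_le hK h.nil, Fpf.fpf_mono h.frob hK le_rfl,
    le_bot_iff.1 (h.disj ▸ inf_le_inf_right _ (sup_le_sup_right hK _)), h2⟩

theorem Hyp.le_normalizer (h : Hyp G F H) : F ⊔ H ≤ normalizer (G : Set X) := sup_le h.hF h.hH

theorem Hyp.le_normalizer_F (h : Hyp G F H) : F ⊔ H ≤ normalizer (F : Set X) :=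
  sup_le Subgroup.le_normalizer h.hHF

theorem Hyp.le_normalizer_inf (h : Hyp G F H) (h1 : F ⊔ H ≤ normalizer (K : Set X)) :
    F ⊔ H ≤ normalizer ((G ⊓ centralizer (K : Set X) : Subgroup X) : Set X) :=
  (le_inf h.le_normalizer (h1.trans (normalizer_le_normalizer_centralizer K))).trans
    inf_normalizer_le_normalizer_inf

theorem Hyp.le_normalizer_pp (h : Hyp G F H) (p : ℕ) : F ⊔ H ≤ normalizer (pp p F : Set X) :=
  h.le_normalizer_F.trans (normalizer_le_normalizer_map_pPrimeCore p F)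

theorem Hyp.subgroupOf (h : Hyp G F H) {E : Subgroup X} (hF : F ≤ E) (hH : H ≤ E) :
    Hyp (G.subgroupOf E) (F.subgroupOf E) (H.subgroupOf E) := by
  refine ⟨fun x hx => le_normalizer_comap _ (h.hF hx), fun x hx => le_normalizer_comap _ (h.hH hx),
    fun x hx => le_normalizer_comap _ (h.hHF hx),
    Group.nilpotent_of_mulEquiv (_h := h.nil) (subgroupOfEquivOfLe hF).symm,
    Fpf.fpf_subgroupOf E h.frob, ?_, ?_⟩
  · rw [← subgroupOf_sup hF hH, eq_bot_iff]
    exact fun x hx => mem_bot.2 (Subtype.ext (mem_bot.1 (h.disj.le hx)))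
  · rw [eq_bot_iff]
    exact fun x hx => mem_bot.2 (Subtype.ext (mem_bot.1 (h.fpf.le ⟨hx.1, mem_centralizer_iff.2
      fun f hf => congrArg Subtype.val (mem_centralizer_iff.1 hx.2 ⟨f, hF hf⟩ hf)⟩)))

variable [Finite X] [hp : Fact p.Prime]

theorem exists_fixed {P D : Subgroup X} (hP : IsPGroup p P) (hn : P ≤ normalizer (D : Set X))
    (hd : p ∣ Nat.card D) : ∃ R ≤ D ⊓ centralizer (P : Set X), R ≠ ⊥ ∧ IsPGroup p R := by
  obtain ⟨T, hT, h1⟩ := exists_isSylowIn_ge hP (le_sup_right : P ≤ D ⊔ P)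
  have h2 := hT.inf_normal_of_le (sup_le Subgroup.le_normalizer hn) le_sup_left
  exact ⟨T ⊓ D ⊓ centralizer (P : Set X), inf_le_inf_right _ inf_le_right,
    PG.inf_centralizer_ne_bot hP h2.isPGroup ((le_inf (h1.trans Subgroup.le_normalizer) hn).trans
      inf_normalizer_le_normalizer_inf) (fun h => h2.eq_bot_iff.1 h hd),
    h2.isPGroup.to_le inf_le_left⟩

theorem Hyp.eq_bot (h : Hyp G F H) (p : ℕ) [Fact p.Prime] (hK : K ≤ G)
    (h1 : K ≤ centralizer (pCoreOf p F : Set X)) (h2 : K ≤ centralizer (pp p F : Set X)) :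
    K = ⊥ := by
  refine le_bot_iff.1 (h.fpf ▸ le_inf hK ?_)
  rw [le_centralizer_iff] at h1 h2 ⊢
  exact (map_pCore_sup_map_pPrimeCore_of_isNilpotent h.nil p).ge.trans (sup_le h1 h2)

theorem Hyp.not_dvd (h : Hyp G F H) (p : ℕ) [Fact p.Prime] :
    ¬ p ∣ Nat.card (G ⊓ centralizer (pp p F : Set X) : Subgroup X) := fun hd => by
  obtain ⟨R, h1, h2, -⟩ := exists_fixed (isPGroup_pCoreOf (p := p) F) ((pCoreOf_le F).trans
    (le_sup_left.trans (h.le_normalizer_inf (h.le_normalizer_pp p)))) hd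
  exact h2 (h.eq_bot p (h1.trans (inf_le_left.trans inf_le_left)) (h1.trans inf_le_right)
    (h1.trans (inf_le_left.trans inf_le_right)))

theorem Hyp.toPP (h : Hyp N F H) (hN : IsPGroup p N) : Hyp N (pp p F) H :=
  h.shrink (map_subtype_le _) (le_sup_right.trans (h.le_normalizer_pp p))
    (card_eq_one.1 ((hN.to_le inf_le_left).card_eq_or_dvd.resolve_right (h.not_dvd p)))

theorem coprime_pp (hN : IsPGroup p N) (F : Subgroup X) :
    (Nat.card N).Coprime (Nat.card (pp p F)) := by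
  obtain ⟨k, hk⟩ := hN.exists_card_eq
  exact hk ▸ (coprime_card_map_pPrimeCore p F).symm.pow_left k

theorem Hyp.map (h : Hyp G F H) [N.Normal] (hNG : N ≤ G) (hN : IsPGroup p N) :
    Hyp (G.map (mk' N)) (F.map (mk' N)) (H.map (mk' N)) := by
  refine ⟨(map_mono h.hF).trans (le_normalizer_map _), (map_mono h.hH).trans (le_normalizer_map _),
    (map_mono h.hHF).trans (le_normalizer_map _), isNilpotent_map _ _ h.nil,
    Fpf.fpf_map _ h.hHF h.frob, ?_, ?_⟩
  · rw [← Subgroup.map_sup, eq_bot_iff]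
    rintro _ ⟨⟨a, ha, rfl⟩, g, hg, he⟩
    have h1 : a ∈ G := by simpa using mul_mem hg (hNG (QuotientGroup.eq.1 he))
    rw [mem_bot.1 (h.disj.le ⟨ha, h1⟩), map_one]
    exact one_mem _
  rw [eq_bot_iff]
  rintro _ ⟨⟨g, hg, rfl⟩, hc⟩
  have key : ∀ f ∈ F, g⁻¹ * (f * g * f⁻¹) ∈ N := fun f hf => QuotientGroup.eq.1 (by
    rw [mk_mul, mk_mul, mk_inv, eq_mul_inv_iff_mul_eq]
    exact (mem_centralizer_iff.1 hc _ (mem_map_of_mem _ hf)).symm)
  have h1 := (h.sub hNG le_normalizer_of_normal).toPP hN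
  have := h1.nil
  obtain ⟨n, hn, h2⟩ := exists_centralizer_mem_coset N (pp p F) h1.hF (coprime_pp hN F).symm
    (Or.inl inferInstance) g fun f hf => key f (map_subtype_le _ hf)
  have h3 : g * n ∈ centralizer (F : Set X) := mem_centralizer_of_conj_eq' fun f hf => by
    rw [eq_comm, ← inv_mul_eq_one, ← mem_bot, ← h1.fpf]
    refine mem_inf.2 ⟨?_, mul_mem (inv_mem h2) (mem_normalizer_conj
      (normalizer_le_normalizer_centralizer _ (h.le_normalizer_pp p (mem_sup_left hf))) h2)⟩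
    have := mul_mem (mul_mem (inv_mem hn) (key f hf)) (‹N.Normal›.conj_mem n hn f)
    convert this using 1
    group
  have h4 : g * n = 1 := mem_bot.1 (h.fpf.le ⟨mul_mem hg (hNG hn), h3⟩)
  rw [mem_bot, mk'_apply, eq_one_iff, mul_eq_one_iff_eq_inv.1 h4]
  exact inv_mem hn

open scoped IsMulCommutative in
theorem Hyp.map_cent (h : Hyp G F H) [N.Normal] [IsMulCommutative N] (hNG : N ≤ G)
    (hN : IsPGroup p N) : G.map (mk' N) ⊓ centralizer (H.map (mk' N) : Set (X ⧸ N)) ≤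
      (G ⊓ centralizer (H : Set X)).map (mk' N) := by
  rintro _ ⟨⟨g, hg, rfl⟩, hc⟩
  have key : ∀ f ∈ H, g⁻¹ * (f * g * f⁻¹) ∈ N := fun f hf => QuotientGroup.eq.1 (by
    rw [mk_mul, mk_mul, mk_inv, eq_mul_inv_iff_mul_eq]
    exact (mem_centralizer_iff.1 hc _ (mem_map_of_mem _ hf)).symm)
  have h1 := (h.sub hNG le_normalizer_of_normal).toPP hN
  let _ : MulDistribMulAction X N := MulDistribMulAction.compHom N (MulAut.conjNormal (H := N))
  obtain ⟨n, hn⟩ := exists_cobound (V := N) h1.hHF h1.frob (fun v hv => Subtype.ext (mem_bot.1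
    (h1.fpf.le ⟨v.2, mem_centralizer_of_conj_eq' fun f hf => congrArg Subtype.val (hv f hf)⟩)))
    (coprime_pp hN F) (fun a => ⟨_, key a a.2⟩) fun a b => Subtype.ext (by
      change g⁻¹ * (a * b * g * (a * b : X)⁻¹) =
        g⁻¹ * (a * g * (a : X)⁻¹) * (a * (g⁻¹ * (b * g * (b : X)⁻¹)) * (a : X)⁻¹)
      group)
  refine ⟨g * n, ⟨mul_mem hg (hNG n.2), mem_centralizer_of_conj_eq' fun a ha => ?_⟩,
    by rw [map_mul, show mk' N (n : X) = 1 from (eq_one_iff _).2 n.2, mul_one]⟩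
  have h2 : g⁻¹ * (a * g * a⁻¹) * (a * n * a⁻¹) = n := congrArg Subtype.val (hn ⟨a, ha⟩)
  conv_rhs => rw [← h2]
  group

/-- The induction hypothesis. -/
def IH (n : ℕ) : Prop :=
  ∀ (X : Type u) [Group X] [Finite X] (G F H : Subgroup X), Hyp G F H →
    Group.IsNilpotent (G ⊓ centralizer (H : Set X) : Subgroup X) →
      Nat.card G + Nat.card F < n → Group.IsNilpotent G

theorem IH.sub (ih : IH.{u} (Nat.card G + Nat.card F)) (h : Hyp G F H)
    (hn : Group.IsNilpotent (G ⊓ centralizer (H : Set X) : Subgroup X)) (hK : K < G)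
    (h1 : F ⊔ H ≤ normalizer (K : Set X)) : Group.IsNilpotent K :=
  ih X K F H (h.sub hK.le h1) (isNilpotent_of_le (inf_le_inf_right _ hK.le) hn)
    (Nat.add_lt_add_right (Trans.card_lt_of_lt hK) _)

theorem IH.quot (ih : IH.{u} (Nat.card G + Nat.card F)) (h : Hyp G F H)
    (hn : Group.IsNilpotent (G ⊓ centralizer (H : Set X) : Subgroup X)) [N.Normal]
    [IsMulCommutative N] (hNG : N ≤ G) (hN : IsPGroup p N) (h0 : N ≠ ⊥) :
    Group.IsNilpotent (G.map (mk' N)) := by
  refine ih _ _ _ _ (h.map hNG hN)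
    (isNilpotent_of_le (h.map_cent hNG hN) (isNilpotent_map _ _ hn)) ?_
  have h1 := card_map_mk'_mul_card_inf N G
  rw [inf_eq_left.2 hNG] at h1
  have h2 : 1 < Nat.card N := (one_lt_card_iff_ne_bot N).2 h0
  have h3 : 0 < Nat.card (G.map (mk' N)) := Nat.card_pos
  have h4 : Nat.card (F.map (mk' N)) ≤ Nat.card F := Nat.le_of_dvd Nat.card_pos (card_map_dvd _ _)
  nlinarith

theorem Hyp.exists_sylow (h : Hyp G F H) [N.Normal] (hNG : N ≤ G) (hN : IsPGroup p N)
    [Fact q.Prime] (hq : IsPGroup q (G.map (mk' N))) :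
    ∃ Q : Subgroup X, IsSylowIn q Q G ∧ N ⊔ Q = G ∧ F ⊔ H ≤ normalizer (Q : Set X) := by
  have h1 := (h.sub hNG le_normalizer_of_normal).toPP hN
  have hsup : ∀ Q : Subgroup X, IsSylowIn q Q G → N ⊔ Q = G := fun Q hQ => by
    have h2 := (hQ.map (mk' N)).eq_of_le hq (map_mono hQ.le) le_rfl
    rw [map_eq_map_iff, ker_mk', sup_eq_left.2 hNG, sup_comm] at h2
    exact h2.symm
  have key : ∀ Q : Subgroup X, IsSylowIn q Q G → ∀ a ∈ normalizer (G : Set X),
      ∃ k ∈ N, cj k Q = cj a Q := fun Q hQ a ha => by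
    obtain ⟨g, hg, h2⟩ := (hQ.cj_of_mem_normalizer ha).exists_cj_eq hQ
    obtain ⟨k, hk, y, hy, rfl⟩ := exists_mul_of_mem_sup_of_le_normalizer
      le_normalizer_of_normal ((hsup Q hQ).ge hg)
    exact ⟨k, hk, by rw [← h2, cj_mul, cj_eq_of_mem hy]⟩
  let _ : MulAction X (Subgroup X) :=
    { smul := cj, one_smul := cj_one, mul_smul := cj_mul }
  have := h1.nil
  obtain ⟨Q, hQ⟩ := exists_isSylowIn (p := q) G
  obtain ⟨k, hk, h2⟩ := glauberman_exists_fixed N (pp p F) h1.hF (coprime_pp hN F).symm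
    (Or.inl inferInstance) Q fun a ha => key Q hQ a (h.hF (map_subtype_le _ ha))
  have h3 := hQ.cj_of_mem (hNG hk)
  refine ⟨_, h3, hsup _ h3, fun a ha => ?_⟩
  obtain ⟨k', hk', h4⟩ := key _ h3 a (h.le_normalizer ha)
  obtain ⟨c, hc, h5⟩ := glauberman_conj_fixed N (pp p F) h1.hF (coprime_pp hN F).symm
    (Or.inl inferInstance) (cj k Q) h2 hk' fun b hb => by
      change cj b (cj k' (cj k Q)) = cj k' (cj k Q)
      have h6 : cj (a⁻¹ * b * a) (cj k Q) = cj k Q :=
        h2 _ (mem_normalizer_conj' (h.le_normalizer_pp p ha) hb)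
      conv_rhs => rw [h4, ← h6]
      rw [h4, cj_cj, cj_cj a, ← mul_assoc, mul_inv_cancel_left]
  rw [h1.fpf, mem_bot] at hc
  rw [hc, one_smul] at h5
  exact cj_eq_self_iff.1 (h4.symm.trans h5.symm)

open scoped IsMulCommutative in
theorem step_Q (ih : IH.{u} (Nat.card G + Nat.card F)) (h : Hyp G F H)
    (hn : Group.IsNilpotent (G ⊓ centralizer (H : Set X) : Subgroup X))
    (htop : G ⊔ (F ⊔ H) = ⊤) [N.Normal] [IsMulCommutative N] (hNG : N ≤ G) (hN : IsPGroup p N)
    [hq' : Fact q.Prime] (hpq : p ≠ q) (hq : IsPGroup q (G.map (mk' N))) :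
    Group.IsNilpotent G := by
  obtain ⟨Q, hQ, hNQ, hFQ⟩ := h.exists_sylow hNG hN hq
  suffices hs : Q ≤ centralizer (N : Set X) from isNilpotent_of_map_mk'_of_le_centralizer
    (hNQ.ge.trans (sup_le (le_centralizer N) hs)) hq.isNilpotent
  by_cases hC : Q ⊓ centralizer (N : Set X) = ⊥
  · suffices Q = ⊥ from this ▸ bot_le
    by_contra h0
    have hU := PG.inf_centralizer_ne_bot hQ.isPGroup hQ.isPGroup Subgroup.le_normalizer h0
    have hUq : IsPGroup q (Q ⊓ centralizer (Q : Set X) : Subgroup X) :=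
      hQ.isPGroup.to_le inf_le_left
    have h1 := (h.sub (inf_le_left.trans hQ.le) ((h.sub hQ.le hFQ).le_normalizer_inf hFQ)).toPP hUq
    set U := Q ⊓ centralizer (Q : Set X)
    have : IsMulCommutative U := ⟨⟨fun a b => Subtype.ext (b.2.2 a a.2.1)⟩⟩
    have h2 : U ⊓ centralizer (H : Set X) ≠ ⊥ := fun h2 => hU (by
      rw [← h1.fpf, eq_comm, inf_eq_left]
      exact Fpf.le_centralizer_of_frobenius h1.hF h1.hH h1.hHF h1.frob (coprime_pp hUq F) h2)
    obtain ⟨⟨u, hu⟩, hu1⟩ := (ne_bot_iff_exists_ne_one).1 h2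
    let _ : MulDistribMulAction X N := MulDistribMulAction.compHom N (MulAut.conjNormal (H := N))
    have := h1.nil
    have hc : (Nat.card U).Coprime (Nat.card N) := IsPGroup.coprime_card_of_ne q p hpq.symm _ _ hUq hN
    have h3 := core (V := N) h1.hF h1.hH h1.hHF inferInstance h1.frob h1.fpf (coprime_pp hUq F) hc
      hu.1 hu.2 fun v hv => Subtype.ext (mul_inv_eq_iff_eq_mul.2 (mem_centralizer_iff.1
        (le_centralizer_of_coprime_of_isNilpotent (A := N ⊓ centralizer (H : Set X))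
          (B := U ⊓ centralizer (H : Set X)) hn (inf_le_inf_right _ hNG)
          (inf_le_inf_right _ (inf_le_left.trans hQ.le))
          ((hc.symm.coprime_dvd_left (card_dvd_of_le inf_le_left)).coprime_dvd_right
            (card_dvd_of_le inf_le_left))
          ⟨v.2, mem_centralizer_of_conj_eq' fun a ha => congrArg Subtype.val (hv a ha)⟩) u hu))
    exact hu1 (Subtype.ext (mem_bot.1 (hC.le ⟨hu.1.1, mem_centralizer_of_conj_eq fun v hv =>
      congrArg Subtype.val (h3 ⟨v, hv⟩)⟩)))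
  set C := Q ⊓ centralizer (N : Set X)
  have hCn : C.Normal := by
    rw [← normalizer_eq_top_iff, eq_top_iff, ← htop, ← hNQ]
    refine sup_le (sup_le ((le_centralizer_iff.1 inf_le_right).trans (centralizer_le_normalizer _))
      ?_) ((h.sub hQ.le hFQ).le_normalizer_inf le_normalizer_of_normal)
    exact (le_inf Subgroup.le_normalizer le_normalizer_of_normal).trans
      inf_normalizer_le_normalizer_inf
  have hCq : IsPGroup q C := hQ.isPGroup.to_le inf_le_left
  have hW := PG.inf_centralizer_ne_bot hCq hCq Subgroup.le_normalizer hC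
  set W := C ⊓ centralizer (C : Set X)
  have : IsMulCommutative W := ⟨⟨fun a b => Subtype.ext (b.2.2 a a.2.1)⟩⟩
  have hWq : IsPGroup q W := hCq.to_le inf_le_left
  have h1 := le_centralizer_of_coprime_of_isNilpotent
    (ih.quot h hn (N := W) (inf_le_left.trans (inf_le_left.trans hQ.le)) hWq hW)
    (map_mono hQ.le) (map_mono hNG)
    (IsPGroup.coprime_card_of_ne q p hpq.symm _ _ (hQ.isPGroup.map _) (hN.map _))
  rw [← commutator_eq_bot_iff_le_centralizer, ← map_commutator, Subgroup.map_eq_bot_iff, ker_mk'] at h1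
  rw [← commutator_eq_bot_iff_le_centralizer, eq_bot_iff,
    ← (IsPGroup.disjoint_of_ne q p hpq.symm _ _ hWq hN).eq_bot]
  exact le_inf h1 (commutator_le_right _ _)

theorem step_V (ih : IH.{u} (Nat.card G + Nat.card F)) (h : Hyp G F H)
    (hn : Group.IsNilpotent (G ⊓ centralizer (H : Set X) : Subgroup X))
    (htop : G ⊔ (F ⊔ H) = ⊤) [N.Normal] [IsMulCommutative N] (hNG : N ≤ G) (hN : IsPGroup p N)
    (h0 : N ≠ ⊥) : Group.IsNilpotent G := by
  have hG : G.Normal := by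
    rw [← normalizer_eq_top_iff, eq_top_iff, ← htop]
    exact sup_le Subgroup.le_normalizer h.le_normalizer
  have h1 := ih.quot h hn hNG hN h0
  by_contra hcon
  refine hcon (isNilpotent_of_forall_sylow_normal fun q _ P => ?_)
  have hGn : (G.map (mk' N)).Normal := hG.map _ (mk'_surjective N)
  have h2 : (pCoreOf q (G.map (mk' N))).Normal := normalizer_eq_top_iff.1
    (top_le_iff.1 (le_normalizer_of_normal.trans (normalizer_le_normalizer_pCoreOf _)))
  set M := (pCoreOf q (G.map (mk' N))).comap (mk' N)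
  have hMG : M ≤ G := by
    refine (comap_mono (pCoreOf_le _)).trans ?_
    rw [comap_map_eq, ker_mk', sup_eq_left.2 hNG]
  have h3 : M ≠ G := fun he => by
    have h4 : IsPGroup q (G.map (mk' N)) :=
      (isPGroup_pCoreOf _).to_le (map_le_iff_le_comap.2 he.ge)
    by_cases hpq : p = q
    · subst hpq
      have h5 := h4.comap_of_ker_isPGroup (mk' N) (by rwa [ker_mk'])
      exact hcon (h5.to_le (le_comap_map _ _)).isNilpotent
    · exact hcon (step_Q ih h hn htop hNG hN hpq h4)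
  have hP := isSylowIn_map_subtype P
  have h4 : (P : Subgroup G).map G.subtype ≤ pCoreOf q G :=
    (le_map_pCore_of_isNilpotent (ih.sub h hn (hMG.lt_of_ne h3) le_normalizer_of_normal)
      hP.isPGroup (map_le_iff_le_comap.1 (le_map_pCore_of_isNilpotent h1 (hP.isPGroup.map _)
        (map_mono hP.le)))).trans (pCoreOf_le_of_normal hMG le_normalizer_of_normal)
  have h5 := map_injective G.subtype_injective (le_antisymm h4 (pCoreOf_le_sylowIn hP))
  rw [h5]
  infer_instance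

omit hp in
theorem exists_pCoreOf_ne_bot (hK : Group.IsNilpotent K) (h0 : K ≠ ⊥) :
    ∃ p : ℕ, p.Prime ∧ p ∣ Nat.card K ∧ pCoreOf p K ≠ ⊥ := by
  obtain ⟨p, hp, h1⟩ := Nat.exists_prime_and_dvd (mt card_eq_one.1 h0)
  have := Fact.mk hp
  obtain ⟨T, hT⟩ := exists_isSylowIn (p := p) K
  exact ⟨p, hp, h1, fun h => hT.eq_bot_iff.1
    (le_bot_iff.1 (h ▸ le_map_pCore_of_isNilpotent hK hT.isPGroup hT.le)) h1⟩

omit hp in
theorem step_N (ih : IH.{u} (Nat.card G + Nat.card F)) (h : Hyp G F H)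
    (hn : Group.IsNilpotent (G ⊓ centralizer (H : Set X) : Subgroup X))
    (htop : G ⊔ (F ⊔ H) = ⊤) (hK : K < G) (h0 : K ≠ ⊥) (h1 : G ≤ normalizer (K : Set X))
    (h2 : F ⊔ H ≤ normalizer (K : Set X)) : Group.IsNilpotent G := by
  obtain ⟨p, hp, -, h3⟩ := exists_pCoreOf_ne_bot (ih.sub h hn hK h2) h0
  have := Fact.mk hp
  have : (pCoreOf p K).Normal := normalizer_eq_top_iff.1
    (top_le_iff.1 (htop.ge.trans ((sup_le h1 h2).trans (normalizer_le_normalizer_pCoreOf _))))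
  have hC := isPGroup_pCoreOf (p := p) K
  have hW := PG.inf_centralizer_ne_bot hC hC Subgroup.le_normalizer h3
  set W := pCoreOf p K ⊓ centralizer (pCoreOf p K : Set X)
  have : IsMulCommutative W := ⟨⟨fun a b => Subtype.ext (b.2.2 a a.2.1)⟩⟩
  exact step_V ih h hn htop (N := W) (inf_le_left.trans ((pCoreOf_le K).trans hK.le))
    (hC.to_le inf_le_left) hW

omit hp in
theorem exists_inv (ih : IH.{u} (Nat.card G + Nat.card F)) (h : Hyp G F H)
    (hn : Group.IsNilpotent (G ⊓ centralizer (H : Set X) : Subgroup X))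
    (hcon : ¬ Group.IsNilpotent G) : ∃ (p : ℕ) (P : Subgroup X), p.Prime ∧ p ≠ 2 ∧ P ≤ G ∧
      P ≠ ⊥ ∧ IsPGroup p P ∧ F ⊔ H ≤ normalizer (P : Set X) := by
  by_cases hc : (Nat.card F).Coprime (Nat.card G)
  · obtain ⟨p, hp, hp2, hd⟩ : ∃ p : ℕ, p.Prime ∧ p ≠ 2 ∧ p ∣ Nat.card G := by
      by_contra h2
      have : Fact (Nat.Prime 2) := ⟨Nat.prime_two⟩
      exact hcon (IsPGroup.of_card (p := 2) (Nat.eq_prime_pow_of_unique_prime_dvd Nat.card_pos.ne'
        fun {d} hd hdK => by_contra fun h' => h2 ⟨d, hd, h', hdK⟩)).isNilpotent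
    have := Fact.mk hp
    have := h.nil
    obtain ⟨P, h1, h2, h3, h4⟩ := Coprime.exists_invariant_sylow' h.hF hc (Or.inl inferInstance) p
    have hP : IsSylowIn p P G := ⟨h1, h2, h3⟩
    refine ⟨p, P, hp, hp2, h1, fun e => hP.eq_bot_iff.1 e hd, h2, fun a ha => ?_⟩
    have hP' := hP.cj_of_mem_normalizer (h.le_normalizer ha)
    obtain ⟨c, h5, h6⟩ := Coprime.invariant_sylow_conj' h.hF hc (Or.inl inferInstance) h1 h2 h3 h4
      hP'.le hP'.isPGroup hP'.not_dvd (by
        rw [← cj_normalizer, ← cj_eq_of_mem_normalizer (h.le_normalizer_F ha)]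
        exact cj_mono a h4)
    rw [h.fpf, mem_bot] at h5
    rw [h5, map_one, one_smul] at h6
    exact cj_eq_self_iff.1 h6.symm
  obtain ⟨r, hr, h1, h2⟩ := Nat.Prime.not_coprime_iff_dvd.1 hc
  have := Fact.mk hr
  have h3 : G ⊓ centralizer (pp r F : Set X) ≠ ⊥ := fun e =>
    hcon (ih X G _ H (h.shrink (map_subtype_le _) (le_sup_right.trans (h.le_normalizer_pp r)) e) hn
      (Nat.add_lt_add_left (Trans.card_lt_of_lt ((map_subtype_le _).lt_of_ne fun e' =>
        coprime_iff_not_dvd'.1 (coprime_card_map_pPrimeCore r F) (by rwa [e']))) _))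
  have key : ∀ (p : ℕ) (K : Subgroup X), p.Prime → p ≠ 2 → K ≤ G → pCoreOf p K ≠ ⊥ →
      F ⊔ H ≤ normalizer (K : Set X) → ∃ (p : ℕ) (P : Subgroup X), p.Prime ∧ p ≠ 2 ∧ P ≤ G ∧
      P ≠ ⊥ ∧ IsPGroup p P ∧ F ⊔ H ≤ normalizer (P : Set X) := fun p K hp hp2 hK h0 h4 =>
    have := Fact.mk hp
    ⟨p, _, hp, hp2, (pCoreOf_le K).trans hK, h0, isPGroup_pCoreOf K,
      h4.trans (normalizer_le_normalizer_pCoreOf _)⟩
  by_cases hr2 : r = 2
  · subst hr2
    have h4 := h.le_normalizer_inf (h.le_normalizer_pp 2)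
    obtain ⟨p, hp, h5, h6⟩ := exists_pCoreOf_ne_bot (ih.sub h hn (inf_le_left.lt_of_ne fun e =>
      h.not_dvd 2 (by rwa [e])) h4) h3
    exact key p _ hp (fun e => h.not_dvd 2 (e ▸ h5)) inf_le_left h6 h4
  · have h4 := h.le_normalizer_inf (h.le_normalizer_F.trans (normalizer_le_normalizer_pCoreOf (p := r) F))
    have h5 := ih.sub h hn (inf_le_left.lt_of_ne fun e => h3 (h.eq_bot r inf_le_left
      (inf_le_left.trans (inf_eq_left.1 e)) inf_le_right)) h4
    obtain ⟨R, h6, h7, h8⟩ := exists_fixed (isPGroup_pCoreOf (p := r) F)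
      ((pCoreOf_le F).trans h.hF) h2
    exact key r _ hr hr2 inf_le_left
      (fun e => h7 (le_bot_iff.1 (e ▸ le_map_pCore_of_isNilpotent h5 h8 h6))) h4

omit hp in
theorem step (ih : IH.{u} (Nat.card G + Nat.card F)) (h : Hyp G F H)
    (hn : Group.IsNilpotent (G ⊓ centralizer (H : Set X) : Subgroup X))
    (htop : G ⊔ (F ⊔ H) = ⊤) : Group.IsNilpotent G := by
  by_contra hcon
  obtain ⟨p, P₀, hp, hp2, h1, h2, h3, h4⟩ := exists_inv ih h hn hcon
  have := Fact.mk hp
  have key : ∀ W ≤ G, W ≠ ⊥ → IsPGroup p W → F ⊔ H ≤ normalizer (W : Set X) →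
      Group.IsNilpotent (G ⊓ normalizer (W : Set X) : Subgroup X) := fun W hW h0 hpW hF =>
    ih.sub h hn (inf_le_left.lt_of_ne fun e => hcon (step_N ih h hn htop
      (hW.lt_of_ne fun e' => hcon (e' ▸ hpW.isNilpotent)) h0 (inf_eq_left.1 e) hF))
      ((le_inf h.le_normalizer (hF.trans Subgroup.le_normalizer)).trans
        inf_normalizer_le_normalizer_inf)
  obtain ⟨P, ⟨h5, h6, h7, h8⟩, hmax⟩ := Finite.exists_le_maximal
    (p := fun P : Subgroup X => P ≤ G ∧ P ≠ ⊥ ∧ IsPGroup p P ∧ F ⊔ H ≤ normalizer (P : Set X))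
    ⟨h1, h2, h3, h4⟩ |>.imp fun _ hx => hx.2
  have hP : IsSylowIn p P G := by
    refine ⟨h5, h7, Coprime.not_dvd_relIndex_of_normalizer h5 h7 ?_⟩
    have h9 := key P h5 h6 h7 h8
    have h10 : P ≤ G ⊓ normalizer (P : Set X) := le_inf h5 Subgroup.le_normalizer
    have h11 := le_map_pCore_of_isNilpotent h9 h7 h10
    refine (isSylowIn_of_maximal h10 h7 fun Q hQ _ hQ' =>
      (le_map_pCore_of_isNilpotent h9 hQ hQ').trans (hmax ⟨(pCoreOf_le _).trans inf_le_left,
        fun e => h6 (le_bot_iff.1 (e ▸ h11)), isPGroup_pCoreOf _, ?_⟩ h11)).not_dvd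
    exact ((le_inf h.le_normalizer (h8.trans Subgroup.le_normalizer)).trans
      inf_normalizer_le_normalizer_inf).trans (normalizer_le_normalizer_pCoreOf _)
  have hc : HasNormalPComplement p G := by
    refine hasNormalPComplement_of_forall_invariant hp2 hP.toSylow fun W hW h0 hinv => ?_
    rw [hP.map_toSylow] at hW hinv
    have := key W (hW.trans h5) h0 (h7.to_le hW)
      (h8.trans (normalizer_le_normalizer_of_invariant hinv))
    exact hasNormalPComplement_of_isNilpotent p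
  have hd : ¬ p ∣ Nat.card ((pResidual p G).map G.subtype) := by
    rw [card_map_of_injective G.subtype_injective]
    exact hasNormalPComplement_iff_not_dvd.1 hc
  have hN : normalizer (G : Set X) ≤ normalizer (((pResidual p G).map G.subtype : Subgroup X) : Set X) :=
    normalizer_le_normalizer_resOf G
  refine hcon (step_N ih h hn htop ((map_subtype_le _).lt_of_ne fun e => ?_) (fun e => ?_)
    (Subgroup.le_normalizer.trans hN) (h.le_normalizer.trans hN))
  · exact h6 (hP.eq_bot_iff.2 (e ▸ hd))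
  · exact hcon (pResidual_eq_bot_iff.1
      ((map_eq_bot_iff_of_injective _ G.subtype_injective).1 e)).isNilpotent

omit hp in
theorem main (n : ℕ) : IH.{u} n := by
  induction n with
  | zero => exact fun _ _ _ _ _ _ _ _ h => absurd h (Nat.not_lt_zero _)
  | succ n ih =>
    intro X _ _ G F H h hn hlt
    have hG : G ≤ G ⊔ (F ⊔ H) := le_sup_left
    have hF : F ≤ G ⊔ (F ⊔ H) := le_sup_left.trans le_sup_right
    have hH : H ≤ G ⊔ (F ⊔ H) := le_sup_right.trans le_sup_right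
    set E := G ⊔ (F ⊔ H)
    refine Group.nilpotent_of_mulEquiv (_h := step ?_ (h.subgroupOf hF hH) ?_ ?_)
      (subgroupOfEquivOfLe hG)
    · rw [Nat.card_congr (subgroupOfEquivOfLe hG).toEquiv,
        Nat.card_congr (subgroupOfEquivOfLe hF).toEquiv]
      exact fun Y _ _ A B C h1 h2 h3 => ih Y A B C h1 h2 (by omega)
    · refine isNilpotent_of_le (K := (G ⊓ centralizer (H : Set X)).subgroupOf E) (fun x hx =>
        ⟨hx.1, mem_centralizer_iff.2 fun f hf =>
          congrArg Subtype.val (mem_centralizer_iff.1 hx.2 ⟨f, hH hf⟩ hf)⟩) ?_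
      exact Group.nilpotent_of_mulEquiv (_h := hn) (subgroupOfEquivOfLe (inf_le_left.trans hG)).symm
    · rw [← subgroupOf_sup hF hH, ← subgroupOf_sup hG le_sup_right, subgroupOf_self]

omit hp in
/-- Khukhro–Makarenko–Shumyatsky: `C_G(H)` nilpotent implies `G` nilpotent. -/
theorem Hyp.isNilpotent (h : Hyp G F H)
    (hn : Group.IsNilpotent (G ⊓ centralizer (H : Set X) : Subgroup X)) : Group.IsNilpotent G :=
  main _ X G F H h hn (Nat.lt_succ_self _)

end Cfsg.Lib.Solv.KMS
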