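import Cfsg.Agent.Solv.KhuMain
import Cfsg.Agent.Solv.PLength
import Cfsg.Agent.Solv.FpfThompson
import Cfsg.Agent.Gate.S4124

/-!
# Frobenius groups of automorphisms with fixed-point-free kernel: abstract actions
-/

set_option autoImplicit false
set_option linter.unusedSectionVars false

namespace Cfsg.Lib.Solv.KMS

open Subgroup Cfsg.Lib.Trans Cfsg.Lib.NF Cfsg.Lib.Solv.Act SemidirectProduct QuotientGroup

universe u v

theorem solv_of_fp [Cfsg.Agent.Gate.S4124.{u, u}] {X : Type u} [Group X] [Finite X]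
    {G A : Subgroup X} (h : Fp G A) : Group.IsSolvable G := by
  let ψ : A →* MulAut G := G.normalizerMonoidHom.comp (inclusion h.nrm)
  have := h.nil
  exact Cfsg.Agent.Gate.S4124.out (G := G) (A := ψ.range)
    (nilpotent_of_surjective ψ.rangeRestrict ψ.rangeRestrict_surjective) fun g hg =>
      Subtype.ext (h.eq_one g.2 (mem_centralizer_of_conj_eq' fun a ha =>
        congrArg Subtype.val (hg ⟨_, ⟨a, ha⟩, rfl⟩)))

variable {G : Type u} {A : Type v} [Group G] [Finite G] [Group A] [Finite A] {φ : A →* MulAut G}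
  {F H : Subgroup A} {N D : Subgroup G}

theorem normal_L [N.Normal] (h : Inv φ ⊤ N) : (L φ N).Normal :=
  normalizer_eq_top_iff.1 (eq_top_iff.2 (L_top_sup_R_top.ge.trans (sup_le
    (L_le_normalizer_L.2 le_normalizer_of_normal) (R_le_normalizer_L.2 h))))

theorem inv_char (N : Subgroup G) [h : N.Characteristic] : Inv φ ⊤ N := fun b _ _ hx =>
  characteristic_iff_le_comap.1 h (φ b) hx

theorem hyp_of [F.Normal] (hH : IsFrobeniusComplement H) (hk : frobeniusKernel H = (F : Set A))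
    (hN : Inv φ ⊤ N) (hf : ∀ g ∈ N, (∀ f ∈ F, φ f g = g) → g = 1) :
    Hyp (L φ N) (R φ F) (R φ H) := by
  obtain ⟨-, -, -, h1, -⟩ := Fpf.of_coe_eq hH hk
  have h2 : H ≤ normalizer (F : Set A) := le_normalizer_of_normal
  exact ⟨R_le_normalizer_L.2 fun b _ => hN b trivial, R_le_normalizer_L.2 fun b _ => hN b trivial,
    R_le_normalizer_R.2 h2,
    Group.nilpotent_of_mulEquiv (_h := Fpf.isNilpotent_kernel h2 hH.1 h1) (equivR F),
    Fpf.fpf_map _ h2 h1, by rw [← R_sup, inf_comm, L_inf_R], by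
      rw [L_inf_centralizer_R, L_eq_bot_iff, eq_bot_iff]
      exact fun g hg => hf g hg.1 hg.2⟩

theorem fp_of (hA : Group.IsNilpotent A) (hf : ∀ g : G, (∀ a, φ a g = g) → g = 1) :
    Fp (L φ ⊤) (R φ ⊤) :=
  ⟨R_le_normalizer_L_top _, Group.nilpotent_of_mulEquiv (equivR ⊤), by
    rw [Gold.Cs, L_top_inf_centralizer_R, L_eq_bot_iff, eq_bot_iff]
    exact fun g hg => hf g (mem_fix_top.1 hg)⟩

variable [Cfsg.Agent.Gate.S4124.{max u v, max u v}]

theorem mem_of_fp (hA : Group.IsNilpotent A) (hf : ∀ g : G, (∀ a, φ a g = g) → g = 1) [N.Normal]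
    (hN : Inv φ ⊤ N) {g : G} (hg : ∀ a, g⁻¹ * φ a g ∈ N) : g ∈ N := by
  have h := fp_of hA hf
  have := normal_L hN
  have h1 := (h.hyp.map' (N := L φ N) (map_mono le_top)
    (solv_le (solv_of_fp h) (map_mono le_top))).fpf.le
      ⟨mem_map_of_mem _ (inl_mem_L.2 (mem_top g)), mk_mem_centralizer.2 (by
        rintro _ ⟨a, -, rfl⟩
        rw [inr_conj_inl, ← map_inv, ← map_mul]
        exact inl_mem_L.2 (hg a))⟩
  exact inl_mem_L.1 ((eq_one_iff _).1 (mem_bot.1 h1))

theorem exists_lift (h : Hyp (L φ N) (R φ F) (R φ H)) [N.Normal] (hN : Inv φ ⊤ N) {g : G}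
    (hg : ∀ a ∈ H, g⁻¹ * φ a g ∈ N) : ∃ c ∈ fix φ H, c⁻¹ * g ∈ N := by
  have := normal_L hN
  obtain ⟨_, ⟨n, hn, rfl⟩, h1⟩ := h.lift (solv_of_fp (Fp.of_hyp h)) (g := inl g) (by
    rintro _ ⟨a, ha, rfl⟩
    rw [inr_conj_inl, ← map_inv, ← map_mul]
    exact inl_mem_L.2 (hg a ha))
  rw [← map_mul, inl_mem_centralizer_R] at h1
  exact ⟨g * n, h1, by simpa using hn⟩

variable (h : Hyp (L φ ⊤) (R φ F) (R φ H))
include h

theorem card_eq_fix : Nat.card G = Nat.card (fix φ H) ^ Nat.card H := by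
  have h1 := h.card_eq (solv_of_fp (Fp.of_hyp h))
  rwa [L_top_inf_centralizer_R, card_L_top, card_L, card_R] at h1

theorem eq_top_of_fix (h1 : Inv φ F N) (h2 : Inv φ H N) (h3 : fix φ H ≤ N) : N = ⊤ :=
  L_injective (h.le_of_cent (solv_of_fp (Fp.of_hyp h)) (map_mono le_top)
    (sup_le (R_le_normalizer_L.2 h1) (R_le_normalizer_L.2 h2))
    (by rw [L_top_inf_centralizer_R]; exact map_mono h3))

theorem existsUnique_sylow (ht : F ⊔ H = ⊤) (p : ℕ) [Fact p.Prime] :
    ∃! P : Sylow p G, Inv φ ⊤ (P : Subgroup G) := by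
  have hs := solv_of_fp (Fp.of_hyp h)
  obtain ⟨Q, hQ, h1⟩ := h.exists_sylow' hs p
  obtain ⟨Q, -, rfl⟩ := exists_L_eq hQ.le
  obtain ⟨P, rfl⟩ := IsSylowIn.exists_sylow_eq (T := Q)
    ⟨le_top, isPGroup_L.1 hQ.isPGroup, relIndex_L (φ := φ) Q ⊤ ▸ hQ.not_dvd⟩
  refine ⟨P, R_le_normalizer_L.1 (by rwa [← ht, R_sup]), fun P' h2 => Sylow.ext (L_injective
    ((Fp.of_hyp h).sylow_unique ((isSylowIn_top P').map inl) hQ
      (R_le_normalizer_L.2 fun b _ => h2 b trivial) (le_sup_left.trans h1)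
      (solv_le hs inf_le_left)))⟩

theorem exists_pi' {π : Set ℕ} [N.Normal] (hN : Inv φ ⊤ N) (h1 : D ≤ fix φ H)
    (h2 : fix φ H ≤ normalizer (D : Set G)) (h3 : IsPiNum π (N.relIndex D)) :
    ∃ K : Subgroup G, K.Normal ∧ IsPiNum π (N.relIndex K) ∧ D ≤ K := by
  have := normal_L hN
  obtain ⟨K, h4, h5, h6, h7⟩ := h.exists_pi (N := L φ N) (D := L φ D) (solv_of_fp (Fp.of_hyp h))
    (map_mono le_top) (by rw [L_top_inf_centralizer_R]; exact map_mono h1)
    (by rw [L_top_inf_centralizer_R]; exact L_le_normalizer_L.2 h2) (by rwa [relIndex_L])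
  obtain ⟨K, -, rfl⟩ := exists_L_eq h5
  exact ⟨K, normalizer_eq_top_iff.1
    (eq_top_iff.2 ((L_le_normalizer_L (φ := φ)).1 le_normalizer_of_normal)),
    relIndex_L (φ := φ) N K ▸ h6, L_le_L.1 h7⟩

theorem map_piCore_fix_le (π : Set ℕ) :
    (piCore π (fix φ H)).map (fix φ H).subtype ≤ piCore π G := by
  obtain ⟨K, h1, h2, h3⟩ := exists_pi' h (N := ⊥) (inv_bot _) (map_subtype_le (piCore π (fix φ H)))
    ((normal_subgroupOf_iff_le_normalizer (map_subtype_le _)).1 (by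
      rw [subgroupOf, comap_map_eq_self_of_injective (subtype_injective _)]
      infer_instance)) (by rw [relIndex_bot_left]; exact isPiNum_card_map_piCore π _)
  exact h3.trans (le_piCore h1 (by rwa [relIndex_bot_left] at h2))

theorem piCore_fix (π : Set ℕ) : piCore π (fix φ H) = (piCore π G).subgroupOf (fix φ H) :=
  le_antisymm (map_le_iff_le_comap.1 (map_piCore_fix_le h π)) (piCore_subgroupOf_le _)

theorem fitting_fix : fittingSubgroup (fix φ H) = (fittingSubgroup G).subgroupOf (fix φ H) := by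
  refine le_antisymm (map_le_iff_le_comap.1 (fittingOf_le_of_forall_pCore_le fun p _ => ?_))
    fun x hx => mem_fittingOf_iff.1 (fitting_inf_le_fittingOf _ ⟨hx, x.2⟩)
  rw [pCore_eq_piCore]
  exact (map_piCore_fix_le h _).trans ((pCore_eq_piCore p G).ge.trans (pCore_le_fitting p G))

theorem pLength_fix (p : ℕ) [Fact p.Prime] (k : ℕ) : PLengthLE p k G ↔ PLengthLE p k (fix φ H) := by
  refine ⟨fun h1 => h1.subgroup _, fun h1 => ?_⟩
  have key : ∀ n, (upperPSeries p (fix φ H) n).1.map (fix φ H).subtype ≤ (upperPSeries p G n).1 := by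
    intro n
    induction n with
    | zero => rw [upperPSeries_zero, Subgroup.map_bot]; exact bot_le
    | succ n ih =>
      obtain ⟨K, h2, h3, h4⟩ := exists_pi' h (inv_char (upperPSeries p G n).1)
        (map_subtype_le (upperPSeries p (fix φ H) (n + 1)).1)
        ((normal_subgroupOf_iff_le_normalizer (map_subtype_le _)).1 (by
          rw [subgroupOf, comap_map_eq_self_of_injective (subtype_injective _)]
          infer_instance))
        ((isPiNum_relIndex_upperPSeries n).of_dvd ((relIndex_dvd_of_le_left _ ih).trans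
          (relIndex_map_map_dvd _ _ _)))
      exact h4.trans ((le_upperPSeries_succ_iff h2).2 h3)
  have h2 := key (2 * k + 1)
  rw [h1, ← MonoidHom.range_eq_map, range_subtype] at h2
  exact eq_top_of_fix h (fun b _ => inv_char _ b trivial) (fun b _ => inv_char _ b trivial) h2

theorem fitLen_fix (n : ℕ) : FH.HasFitLen G n ↔ FH.HasFitLen (fix φ H) n := by
  rw [FH.hasFitLen_iff, FH.hasFitLen_subgroup_iff]
  refine ⟨fun h1 => le_bot_iff.1 (h1 ▸ FH.iter_mono n le_top), fun h1 => ?_⟩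
  refine (FH.iter_map_eq_bot_iff (inl (φ := φ)) inl_injective).1
    (fit_aux n _ _ _ _ h inferInstance (solv_of_fp (Fp.of_hyp h)) ?_)
  rwa [L_top_inf_centralizer_R, FH.iter_map_eq_bot_iff _ inl_injective]

theorem closure_fix_eq_top [F.Normal] :
    closure {x : G | ∃ f ∈ F, ∃ c ∈ fix φ H, x = φ f c} = ⊤ := by
  set S := {x : G | ∃ f ∈ F, ∃ c ∈ fix φ H, x = φ f c}
  have key : ∀ b : A, (∀ f ∈ F, ∀ c ∈ fix φ H, ∃ f' ∈ F, φ b (φ f c) = φ f' c) →
      closure S ≤ (closure S).comap (φ b).toMonoidHom := fun b hb => (closure_le _).2 (by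
    rintro _ ⟨f, hf, c, hc, rfl⟩
    obtain ⟨f', h1, h2⟩ := hb f hf c hc
    exact Subgroup.subset_closure (⟨f', h1, c, hc, h2⟩ : _ ∈ S))
  refine eq_top_of_fix h (fun b hb => key b fun f hf c _ => ⟨b * f, mul_mem hb hf, by simp⟩)
    (fun b hb => key b fun f hf c hc => ⟨b * f * b⁻¹, ‹F.Normal›.conj_mem f hf b, ?_⟩)
    fun c hc => Subgroup.subset_closure ⟨1, one_mem _, c, hc, by simp⟩
  rw [map_mul, map_mul, MulAut.mul_apply, MulAut.mul_apply, hc _ (inv_mem hb)]

end Cfsg.Lib.Solv.KMS
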