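import Cfsg.Agent.Fus.EssMax3
import Cfsg.Agent.Solv.HallPetresco

/-! Every `p`-group of maximal class has an element whose centralizer has order `p ^ 2`. -/

namespace Cfsg.Lib.Fus.Ess

open Subgroup Cfsg.Lib.Solv Cfsg.Lib.Trans
open scoped commutatorElement

universe u

variable {G : Type*} [Group G] {p m i : ℕ} {s t x : G}

/-- A `p`-group is not the union of `p` proper subgroups. -/
theorem exists_not_mem_of_card_le [Finite G] [hp : Fact p.Prime] (hG : IsPGroup p G) {ι : Type*}
    (S : Finset ι) (H : ι → Subgroup G) (hS : S.card ≤ p) (hH : ∀ i ∈ S, H i ≠ ⊤) :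
    ∃ x : G, ∀ i ∈ S, x ∉ H i := by
  classical
  by_contra hc
  push Not at hc
  have := Fintype.ofFinite G
  have h1 : (Finset.univ : Finset G).erase 1 ⊆
      S.biUnion fun i => (Finset.univ.filter (· ∈ H i)).erase 1 := by
    intro x hx
    obtain ⟨i, hi, hx'⟩ := hc x
    simp only [Finset.mem_erase, Finset.mem_biUnion, Finset.mem_filter, Finset.mem_univ,
      true_and, and_true] at hx ⊢
    exact ⟨i, hi, hx, hx'⟩
  obtain ⟨i0, hi0, -⟩ := hc 1
  have hd : p ∣ Nat.card G := by
    obtain ⟨n, hn⟩ := IsPGroup.iff_card.1 hG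
    rcases n with _ | n
    · exact absurd (eq_top_of_card_eq _ (Nat.eq_one_of_dvd_one
        ((pow_zero p ▸ hn) ▸ card_subgroup_dvd_card _) ▸ by rw [hn, pow_zero])) (hH i0 hi0)
    · exact hn ▸ dvd_pow_self p n.succ_ne_zero
  obtain ⟨c, hc⟩ := hd
  have h2 : ∀ i ∈ S, ((Finset.univ.filter (· ∈ H i)).erase (1 : G)).card ≤ c - 1 := by
    intro i hi
    rw [Finset.card_erase_of_mem (by simp [one_mem])]
    have h3 := prime_mul_card_le_card hG (hH i hi)
    rw [hc] at h3
    have h4 : (Finset.univ.filter (· ∈ H i)).card = Nat.card (H i) := by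
      rw [Nat.card_eq_fintype_card, Fintype.card_subtype]
    rw [h4]
    exact Nat.sub_le_sub_right (Nat.le_of_mul_le_mul_left h3 hp.out.pos) 1
  have h3 := (Finset.card_le_card h1).trans (Finset.card_biUnion_le_card_mul _ _ _ h2)
  rw [Finset.card_erase_of_mem (Finset.mem_univ _), Finset.card_univ, ← Nat.card_eq_fintype_card,
    hc] at h3
  have h4 : 0 < p * c := hc ▸ Nat.card_pos
  have h5 := hp.out.two_le
  have h6 : 0 < c := Nat.pos_of_mul_pos_left h4
  have h7 : S.card * (c - 1) ≤ p * (c - 1) := Nat.mul_le_mul_right _ hS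
  obtain ⟨c, rfl⟩ : ∃ d, c = d + 1 := ⟨c - 1, by omega⟩
  rw [Nat.add_sub_cancel] at h3 h7
  rw [mul_add, mul_one] at h3
  omega

theorem map_gam {G' : Type*} [Group G'] (f : G →* G') (hf : Function.Surjective f) (i : ℕ) :
    (gam G i).map f = gam G' i := by
  rw [gam, Subgroup.map_lowerCentralSeries, ← MonoidHom.range_eq_map,
    MonoidHom.range_eq_top.2 hf]

theorem mem_twoStep_quot {j : ℕ} (h : i + 2 ≤ j) :
    (t : G ⧸ gam G j) ∈ twoStep (G ⧸ gam G j) i ↔ t ∈ twoStep G i := by
  have hf := QuotientGroup.mk'_surjective (gam G j)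
  have key : ∀ y : G, ⁅(t : G ⧸ gam G j), (y : G ⧸ gam G j)⁆ ∈ gam (G ⧸ gam G j) (i + 2) ↔
      ⁅t, y⁆ ∈ gam G (i + 2) := by
    intro y
    rw [← map_gam _ hf]
    have e : ⁅(t : G ⧸ gam G j), (y : G ⧸ gam G j)⁆ = QuotientGroup.mk' (gam G j) ⁅t, y⁆ :=
      (map_commutatorElement (QuotientGroup.mk' (gam G j)) t y).symm
    rw [e, ← mem_comap, comap_map_eq, QuotientGroup.ker_mk', sup_eq_left.2 (gam_anti h)]
  rw [mem_twoStep, mem_twoStep]
  constructor
  · intro h1 y hy
    exact (key y).1 (h1 _ (map_gam _ hf i ▸ mem_map_of_mem _ hy))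
  · intro h1 y hy
    rw [← map_gam _ hf] at hy
    obtain ⟨y, hy, rfl⟩ := hy
    exact (key y).2 (h1 y hy)

variable [Finite G] [hp : Fact p.Prime]

theorem MC.quot (h : MC p (m + 1) G) : MC p m (G ⧸ gam G (m + 1)) := by
  have hf := QuotientGroup.mk'_surjective (gam G (m + 1))
  have h1 := card_eq_card_quotient_mul_card_subgroup (gam G (m + 1))
  rw [h.card, h.card_gam (by omega), show m + 1 + 1 - (m + 1) = 1 by omega, pow_one,
    show m + 1 + 2 = m + 2 + 1 by omega, pow_succ] at h1
  refine ⟨(Nat.eq_of_mul_eq_mul_right hp.out.pos h1).symm, ?_⟩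
  rw [← map_gam _ hf, Ne, Subgroup.map_eq_bot_iff, QuotientGroup.ker_mk']
  intro h2
  rcases m with _ | m
  · have := card_le_of_le h2
    rw [h.card_gam le_rfl] at this
    have e : gam G 0 = ⊤ := rfl
    rw [e, card_top, h.card, Nat.pow_le_pow_iff_right hp.out.one_lt] at this
    omega
  · obtain ⟨x, hx, hx'⟩ := h.exists_not_mem (i := m + 1) (by omega) (by omega)
    exact hx' (h2 hx)

theorem MC.twoStep_ne_top (h : MC p m G) (him : i + 1 ≤ m) : twoStep G i ≠ ⊤ := by
  intro e
  obtain ⟨x, hx, hx'⟩ := h.exists_not_mem (i := i + 1) (by omega) him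
  refine hx' ((?_ : gam G (i + 1) ≤ gam G (i + 1 + 1)) hx)
  refine Subgroup.commutator_le.2 fun a ha b _ => ?_
  rw [← commutatorElement_inv]
  exact inv_mem (mem_twoStep.1 (e ▸ mem_top b) a ha)

theorem Unif.twoStep_eq (h : Unif p m s) (hi : 1 ≤ i) (him : i + (p - 1) + 1 ≤ m) :
    twoStep G (i + (p - 1)) = twoStep G i := by
  have hp1 := hp.out.one_lt
  refine h.mc.eq_of_le (h.mc.card_twoStep hi) (fun t ht => ?_) (h.mc.twoStep_ne_top him)
  obtain ⟨x, hx, hx'⟩ := h.mc.exists_not_mem hi (by omega)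
  refine h.mc.mem_twoStep_of (by omega) (h.pow_mem hi hx) (h.pow_not_mem hi (by omega) hx hx') ?_
  have hc : ⁅t, x⁆ ∈ gam G (i + 2) := mem_twoStep.1 ht x hx
  set c := ⁅t, x⁆ with hcd
  have e1 : t * x * t⁻¹ = c * x := by rw [hcd]; group
  have e2 : ⁅t, x ^ p⁆ = (c * x) ^ p * (x ^ p)⁻¹ := by
    rw [← e1, conj_pow]; group
  have hK : ∀ j, 1 ≤ j → (closure ({c, x} : Set G)).lowerCentralSeries j ≤
      gam G (i + 2 + j) := by
    intro j hj
    have hle : closure ({c, x} : Set G) ≤ gam G i :=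
      closure_pair_le.2 ⟨gam_anti (by omega) hc, hx⟩
    induction j, hj using Nat.le_induction with
    | base =>
      refine commutator_closure_pair_le (normalizer_eq_top (gam G (i + 2 + 1)) ▸ le_top) ?_
      exact comm_mem_gam hc hx (by omega)
    | succ j hj ih =>
      exact commutator_le.2 fun a ha b hb => comm_mem_gam (ih ha) (hle hb) (by omega)
  have h1 := hall_petresco (left_mem_closure_pair c x) (right_mem_closure_pair c x) p
    (gam G (i + (p - 1) + 2)) (by
      intro j hj hjp d hd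
      have hd' := hK (j - 1) (by omega) hd
      rcases hjp.lt_or_eq with hlt | rfl
      · obtain ⟨r, hr⟩ := hp.out.dvd_choose_self (by omega) hlt
        rw [hr, pow_mul]
        exact Subgroup.pow_mem _ (gam_anti (by omega) (h.pow_mem (by omega) hd')) r
      · exact Subgroup.pow_mem _ (gam_anti (by omega) hd') _)
  have h2 : c ^ p ∈ gam G (i + (p - 1) + 2) := gam_anti (by omega) (h.pow_mem (by omega) hc)
  have e3 : (c * x) ^ p * (x ^ p)⁻¹ =
      c ^ p * (x ^ p * ((c ^ p * x ^ p)⁻¹ * (c * x) ^ p) * (x ^ p)⁻¹) := by group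
  rw [e2, e3]
  exact mul_mem h2 ((inferInstance : (gam G (i + (p - 1) + 2)).Normal).conj_mem _ h1 _)

theorem MC.exists_unif_aux (m : ℕ) : ∀ {G : Type u} [Group G] [Finite G], MC p m G →
    ∃ s : G, Unif p m s := by
  have hp1 := hp.out.one_lt
  induction m with
  | zero =>
    intro G _ _ h
    exact ⟨1, h.card, (card_le_card_group _).trans h.card.le⟩
  | succ m ih =>
    intro G _ _ h
    rcases m with _ | m
    · obtain ⟨s, hs⟩ : ∃ s : G, s ∉ center G := by
        by_contra hc
        push Not at hc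
        exact MaxClass.not_isMulCommutative h.ne le_rfl
          ⟨⟨fun a b => mem_center_iff.1 (hc b) a⟩⟩
      refine ⟨s, h.card, ?_⟩
      have h1 : centralizer ({s} : Set G) ≠ ⊤ := fun e => hs (mem_center_iff.2 fun g =>
        mem_centralizer_singleton_iff.1 (e ▸ mem_top g))
      have h2 := prime_mul_card_le_card h.pg h1
      rw [h.card, pow_succ'] at h2
      exact Nat.le_of_mul_le_mul_left h2 hp.out.pos
    obtain ⟨s, hs⟩ := ih h.quot
    have h1 : ∀ i, 1 ≤ i → i + (p - 1) + 1 ≤ m + 1 →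
        twoStep G (i + (p - 1)) = twoStep G i := by
      intro i hi him
      ext t
      rw [← mem_twoStep_quot (G := G) (j := m + 1 + 1) (by omega),
        ← mem_twoStep_quot (G := G) (i := i) (j := m + 1 + 1) (by omega), hs.twoStep_eq hi him]
    have h2 : ∀ i, 1 ≤ i → i ≤ m → ∃ j, 1 ≤ j ∧ j ≤ p - 1 ∧ j ≤ m ∧
        twoStep G i = twoStep G j := by
      intro i
      induction i using Nat.strong_induction_on with
      | _ i ih2 =>
        intro hi him
        by_cases hip : i ≤ p - 1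
        · exact ⟨i, hi, hip, him, rfl⟩
        · obtain ⟨j, hj1, hj2, hj3, hj4⟩ := ih2 (i - (p - 1)) (by omega) (by omega) (by omega)
          refine ⟨j, hj1, hj2, hj3, ?_⟩
          rw [← hj4, ← h1 (i - (p - 1)) (by omega) (by omega),
            show i - (p - 1) + (p - 1) = i by omega]
    classical
    obtain ⟨t, ht⟩ := exists_not_mem_of_card_le h.pg
      (insert (m + 1) (Finset.Icc 1 (min (p - 1) m))) (twoStep G)
      ((Finset.card_insert_le _ _).trans (by rw [Nat.card_Icc]; omega)) (by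
        intro i hi
        simp only [Finset.mem_insert, Finset.mem_Icc] at hi
        exact h.twoStep_ne_top (by omega))
    refine ⟨t, h.card, h.card_centralizer_le (by omega) fun i hi him => ?_⟩
    by_cases e : i = m + 1
    · exact ht i (e ▸ Finset.mem_insert_self _ _)
    · obtain ⟨j, hj1, hj2, hj3, hj4⟩ := h2 i hi (by omega)
      rw [hj4]
      exact ht j (Finset.mem_insert_of_mem (Finset.mem_Icc.2 ⟨hj1, by omega⟩))

/-- A `p`-group of maximal class has an element with centralizer of order `p ^ 2`. -/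
theorem MC.exists_unif (h : MC p m G) : ∃ s : G, Unif p m s := MC.exists_unif_aux m h

/-- The `p`-th powers in a `p`-group of maximal class. -/
theorem MC.pow_mem' (h : MC p m G) (hi : 1 ≤ i) (hx : x ∈ gam G i) :
    x ^ p ∈ gam G (i + (p - 1)) :=
  h.exists_unif.choose_spec.pow_mem hi hx

end Cfsg.Lib.Fus.Ess
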