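import Cfsg.Agent.Solv.QExt
import Cfsg.Prelude.Def_Classical
import Cfsg.Prelude.Def_KGroupFacts
import Cfsg.Agent.Class.Isom

/-!
# The standard extraspecial `2`-groups of plus and minus type as `QE β`; `Out = O(q)` (helper2)
-/

set_option autoImplicit false

open Subgroup

namespace Cfsg.Lib.QExt

open Trans.ES QE

/-- Cocycle for the plus type form. -/
def bPlus (n : ℕ) : LinearMap.BilinForm (ZMod 2) (Fin n ⊕ Fin n → ZMod 2) :=
  LinearMap.mk₂ (ZMod 2) (fun u v => ∑ i, u (.inl i) * v (.inr i))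
    (fun u u' v => by simp [add_mul, Finset.sum_add_distrib])
    (fun c u v => by simp [Finset.mul_sum, mul_assoc])
    (fun u v v' => by simp [mul_add, Finset.sum_add_distrib])
    (fun c u v => by simp [Finset.mul_sum, mul_left_comm])

theorem bPlus_apply (n : ℕ) (u v : Fin n ⊕ Fin n → ZMod 2) :
    bPlus n u v = ∑ i, u (.inl i) * v (.inr i) := rfl

/-- Cocycle for the minus type form. -/
def bMinus (m : ℕ) : LinearMap.BilinForm (ZMod 2) ((Fin m ⊕ Fin m) ⊕ Fin 2 → ZMod 2) :=
  LinearMap.mk₂ (ZMod 2) (fun u v => ∑ i, u (.inl (.inl i)) * v (.inl (.inr i)) +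
      (u (.inr 0) * v (.inr 0) + u (.inr 0) * v (.inr 1) + u (.inr 1) * v (.inr 1)))
    (fun u u' v => by simp only [Pi.add_apply, add_mul, Finset.sum_add_distrib]; ring)
    (fun c u v => by simp only [Pi.smul_apply, smul_eq_mul, mul_add, Finset.mul_sum, mul_assoc])
    (fun u v v' => by simp only [Pi.add_apply, mul_add, Finset.sum_add_distrib]; ring)
    (fun c u v => by simp only [Pi.smul_apply, smul_eq_mul, mul_add, Finset.mul_sum, mul_left_comm])

theorem bMinus_apply (m : ℕ) (u v : (Fin m ⊕ Fin m) ⊕ Fin 2 → ZMod 2) :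
    bMinus m u v = ∑ i, u (.inl (.inl i)) * v (.inl (.inr i)) +
      (u (.inr 0) * v (.inr 0) + u (.inr 0) * v (.inr 1) + u (.inr 1) * v (.inr 1)) := rfl

theorem bPlus_self (n : ℕ) (u : Fin n ⊕ Fin n → ZMod 2) :
    bPlus n u u = quadFormPlus n (ZMod 2) u := rfl

theorem bMinus_self (m : ℕ) (u : (Fin m ⊕ Fin m) ⊕ Fin 2 → ZMod 2) :
    bMinus m u u = quadFormMinus m (ZMod 2) 1 1 u := by
  rw [bMinus_apply, quadFormMinus]; ring

theorem nd_bPlus (n : ℕ) : ND (bPlus n) := by
  intro u hu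
  funext j
  rcases j with j | j
  · simpa [bPlus_apply, Pi.single_apply] using hu (Pi.single (.inr j) 1)
  · simpa [bPlus_apply, Pi.single_apply] using hu (Pi.single (.inl j) 1)

theorem nd_bMinus (m : ℕ) : ND (bMinus m) := by
  intro u hu
  funext j
  rcases j with (j | j) | j
  · simpa [bMinus_apply, Pi.single_apply] using hu (Pi.single (.inl (.inr j)) 1)
  · simpa [bMinus_apply, Pi.single_apply] using hu (Pi.single (.inl (.inl j)) 1)
  · have h0 := hu (Pi.single (.inr 0) 1)
    have h1 := hu (Pi.single (.inr 1) 1)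
    simp [bMinus_apply, Pi.single_apply] at h0 h1
    fin_cases j
    · change u (.inr 0) = 0
      linear_combination h1 - z2_add_self (u (.inr 1))
    · change u (.inr 1) = 0
      linear_combination h0 - z2_add_self (u (.inr 0))

/-- The sign character of `F₂`. -/
def sg (a : ZMod 2) : ℤ := if a = 0 then 1 else -1

theorem sg_add (a b : ZMod 2) : sg (a + b) = sg a * sg b := by revert a b; decide

theorem sg_sum {ι : Type*} (s : Finset ι) (f : ι → ZMod 2) :
    sg (∑ i ∈ s, f i) = ∏ i ∈ s, sg (f i) := by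
  classical
  induction s using Finset.induction_on with
  | empty => rfl
  | insert a s ha ih => rw [Finset.sum_insert ha, Finset.prod_insert ha, sg_add, ih]

theorem sum_sg_plus (n : ℕ) : ∑ u : Fin n ⊕ Fin n → ZMod 2, sg (bPlus n u u) = 2 ^ n := by
  have h1 : ∏ _i : Fin n, ∑ p : ZMod 2 × ZMod 2, sg (p.1 * p.2) = 2 ^ n := by
    have : ∑ p : ZMod 2 × ZMod 2, sg (p.1 * p.2) = 2 := by decide
    simp [this]
  rw [← h1, Fintype.prod_sum]
  refine Fintype.sum_equiv ((Equiv.sumArrowEquivProdArrow _ _ _).trans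
    (Equiv.arrowProdEquivProdArrow _ _ _).symm) _ _ fun u => ?_
  rw [bPlus_apply, sg_sum]
  rfl

theorem sum_sg_minus (m : ℕ) :
    ∑ u : (Fin m ⊕ Fin m) ⊕ Fin 2 → ZMod 2, sg (bMinus m u u) = -2 ^ (m + 1) := by
  have h2 : ∑ w : Fin 2 → ZMod 2, sg (w 0 * w 0 + w 0 * w 1 + w 1 * w 1) = -2 := by decide
  have : (-2 : ℤ) ^ 1 = -2 := by norm_num
  rw [show (-2 ^ (m + 1) : ℤ) = 2 ^ m * -2 by ring, ← sum_sg_plus, ← h2, Finset.sum_mul_sum,
    ← Fintype.sum_prod_type']
  refine Fintype.sum_equiv (Equiv.sumArrowEquivProdArrow _ _ _) _ _ fun u => ?_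
  rw [bMinus_apply, sg_add]
  rfl

theorem defect_eq_sg {U : Type*} [AddCommGroup U] [Module (ZMod 2) U] [Fintype U]
    (β : LinearMap.BilinForm (ZMod 2) U) : Solv.PG.defect (QE β) = 2 * ∑ u : U, sg (β u u) := by
  rw [defect_eq]
  congr 2

theorem defect_plus (n : ℕ) : Solv.PG.defect (QE (bPlus n)) = 2 ^ (n + 1) := by
  rw [defect_eq_sg, sum_sg_plus]; ring

theorem defect_minus (m : ℕ) : Solv.PG.defect (QE (bMinus m)) = -2 ^ (m + 1 + 1) := by
  rw [defect_eq_sg, sum_sg_minus]; ring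

theorem card_plus (n : ℕ) : Nat.card (QE (bPlus n)) = 2 ^ (2 * n + 1) := by
  rw [card_eq, Nat.card_fun]
  simp only [Nat.card_eq_fintype_card, ZMod.card, Fintype.card_sum, Fintype.card_fin]
  ring

theorem card_minus (m : ℕ) : Nat.card (QE (bMinus m)) = 2 ^ (2 * (m + 1) + 1) := by
  rw [card_eq, Nat.card_fun]
  simp only [Nat.card_eq_fintype_card, ZMod.card, Fintype.card_sum, Fintype.card_fin]
  ring

/-- The outer automorphism group is invariant under isomorphism. -/
theorem nonempty_out_congr {G H : Type*} [Group G] [Group H] (e : G ≃* H) :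
    Nonempty (Out G ≃* Out H) := by
  refine ⟨QuotientGroup.congr (Inn G) (Inn H) (MulAut.congr e) ?_⟩
  ext α
  constructor
  · rintro ⟨_, ⟨g, rfl⟩, rfl⟩
    refine ⟨e g, ?_⟩
    ext x
    simp
  · rintro ⟨h, rfl⟩
    refine ⟨MulAut.conj (e.symm h), ⟨_, rfl⟩, ?_⟩
    ext x
    simp

/-- `Out (QE β)` is the isometry group of `u ↦ β u u`. -/
theorem ND.nonempty_out_equiv {ι : Type} [Fintype ι] [DecidableEq ι]
    {β : LinearMap.BilinForm (ZMod 2) (ι → ZMod 2)} (h : ND β) (q : (ι → ZMod 2) → ZMod 2)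
    (hq : ∀ u, β u u = q u) : Nonempty (Out (QE β) ≃* isometryGroup (ZMod 2) q) := by
  let φ : MulAut (QE β) →* GL ι (ZMod 2) :=
    ((LinearMap.toMatrixAlgEquiv' (R := ZMod 2) (n := ι)).toMonoidHom.comp h.linHom).toHomUnits
  have hφ : ∀ α u, (φ α : Matrix ι ι (ZMod 2)).mulVec u = h.linHom α u := fun α u => by
    change (LinearMap.toMatrixAlgEquiv' (h.linHom α)).mulVec u = _
    rw [← Matrix.toLinAlgEquiv'_apply, Matrix.toLinAlgEquiv'_toMatrixAlgEquiv']
  let ψ : MulAut (QE β) →* isometryGroup (ZMod 2) q := φ.codRestrict _ fun α => by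
    rw [Class.mem_isometryGroup]
    intro u
    rw [hφ, ← hq, ← hq, h.quad_linHom]
  have hsurj : Function.Surjective ψ := by
    intro g
    have hg := (Class.mem_isometryGroup q g.1).1 g.2
    obtain ⟨α, hα⟩ := h.exists_lift (Matrix.GeneralLinearGroup.toLin g.1).toLinearEquiv fun u => by
      rw [hq, hq]
      exact hg u
    refine ⟨α, Subtype.ext (Units.ext ?_)⟩
    apply Matrix.toLin'.injective
    refine LinearMap.ext fun u => ?_
    rw [Matrix.toLin'_apply, Matrix.toLin'_apply]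
    exact (hφ α u).trans (hα u)
  have hker : Inn (QE β) = ψ.ker := by
    ext α
    rw [MonoidHom.mem_ker]
    constructor
    · rintro ⟨x, rfl⟩
      apply Subtype.ext
      apply Units.ext
      change LinearMap.toMatrixAlgEquiv' (h.linHom _) = 1
      rw [h.linHom_conj, map_one]
    · intro hα
      apply h.exists_conj
      refine LinearMap.ext fun u => ?_
      rw [← hφ]
      have : φ α = 1 := congrArg Subtype.val hα
      rw [this]
      simp
  exact ⟨(QuotientGroup.quotientMulEquivOfEq hker).trans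
    (QuotientGroup.quotientKerEquivOfSurjective ψ hsurj)⟩

end Cfsg.Lib.QExt
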