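import Cfsg.Agent.S5274
import Cfsg.Agent.Fus.GroupFusion
import Cfsg.Agent.Solv.CaminaHerzog

/-! The Camina–Herzog theorem, unconditionally (from the fusion system version). -/

set_option autoImplicit false

open Subgroup
open scoped Pointwise

namespace Cfsg.Lib.Solv

theorem caminaHerzog' (G : Type*) [Group G] [Finite G]
    (h : ∀ x : G, (∃ k : ℕ, orderOf x = 2 ^ k) → ¬ 2 ∣ (centralizer ({x} : Set G)).index)
    (T : Sylow 2 G) : IsMulCommutative (T : Subgroup G) := by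
  refine Cfsg.Agent.S5274.result T.isPGroup' _ (Fus.Grp.groupFusionSystem_isSaturated T) fun x hx => ?_
  obtain ⟨k, hk⟩ := IsPGroup.iff_orderOf.1 T.isPGroup' ⟨x, hx⟩
  rw [Subgroup.orderOf_mk] at hk
  obtain ⟨Q, hxQ, hQ⟩ := exists_sylow_mem_le_cent hk (h x ⟨k, hk⟩)
  obtain ⟨g, rfl⟩ := MulAction.exists_smul_eq G Q T
  have hm : ∀ y ∈ (Q : Subgroup G), g * y * g⁻¹ ∈ ((g • Q : Sylow 2 G) : Subgroup G) := fun y hy =>
    mem_conj_smul_iff_exists.mpr ⟨y, hy, rfl⟩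
  refine ⟨g * x * g⁻¹, ⟨hm x hxQ, ?_⟩, conjHom (zpowers x) g, ?_, rfl⟩
  · intro y hy
    obtain ⟨a, ha, rfl⟩ := mem_conj_smul_iff_exists.mp hy
    have : a * x = x * a := mem_centralizer_singleton_iff.1 (hQ ha)
    calc g * a * g⁻¹ * (g * x * g⁻¹) = g * (a * x) * g⁻¹ := by group
      _ = _ := by rw [this]; group
  · rw [Fus.Grp.groupFusionSystem_eq]
    exact Fus.Grp.conjHom_mem _ (zpowers_le.2 hx) trivial fun y hy => hm y (zpowers_le.2 hxQ hy)

end Cfsg.Lib.Solv
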