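import Cfsg.Agent.Solv.Factor
import Cfsg.Agent.Solv.NilpotentHall
import Cfsg.Agent.Solv.PGroupBasic
import Cfsg.Agent.Solv.SchurZassenhaus
import Cfsg.Agent.S0143
import Cfsg.Agent.S0561

/-!
# The Kegel–Wielandt theorem, part A

A minimal simple counterexample `G = AB` (`A`, `B` nilpotent of coprime orders): no proper
subgroup meets both `Z(A)` and `Z(B)` nontrivially.
-/

set_option autoImplicit false

open Pointwise Subgroup

namespace Cfsg.Lib.Solv.KW

variable {G : Type*} [Group G]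

/-- The centre of `A`, as a subgroup of the ambient group. -/
abbrev ZZ (A : Subgroup G) : Subgroup G := A ⊓ centralizer (A : Set G)

/-- The `p`-core of `A` in the ambient group. -/
abbrev syl (p : ℕ) (A : Subgroup G) : Subgroup G := (pCore p A).map A.subtype

/-- `M` is factorised with respect to `A`, `B`. -/
def Fac (A B M : Subgroup G) : Prop := ∀ g ∈ M, ∃ a ∈ M ⊓ A, ∃ b ∈ M ⊓ B, g = a * b

theorem Fac.symm {A B M : Subgroup G} (h : Fac A B M) : Fac B A M := by
  intro g hg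
  obtain ⟨a, ha, b, hb, e⟩ := h g⁻¹ (M.inv_mem hg)
  exact ⟨b⁻¹, inv_mem hb, a⁻¹, inv_mem ha, by rw [← mul_inv_rev, ← e, inv_inv]⟩

theorem exists_mem_ZZ_orderOf [Finite G] {A : Subgroup G} (hA : Group.IsNilpotent A) {p : ℕ}
    (hp : p.Prime) (h : p ∣ Nat.card A) : ∃ z ∈ ZZ A, orderOf z = p := by
  have := Fact.mk hp
  obtain ⟨P⟩ : Nonempty (Sylow p A) := inferInstance
  have h1 := PG.inf_center_ne_bot (P : Subgroup A) (P.ne_bot_of_dvd_card h)
  have h2 : IsPGroup p ((P : Subgroup A) ⊓ center A : Subgroup A) := P.isPGroup'.to_inf_left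
  have h3 : p ∣ Nat.card ((P : Subgroup A) ⊓ center A : Subgroup A) :=
    h2.card_eq_or_dvd.resolve_left (fun h => h1 (card_eq_one.mp h))
  obtain ⟨z, hz⟩ := exists_prime_orderOf_dvd_card' p h3
  refine ⟨(z : A), ⟨(z : A).2, ?_⟩, by rw [orderOf_coe, orderOf_coe, hz]⟩
  intro a ha
  exact congrArg Subtype.val (mem_center_iff.mp z.2.2 ⟨a, ha⟩)

theorem exists_mem_ZZ_ne_one [Finite G] {A : Subgroup G} (hA : Group.IsNilpotent A)
    (h : A ≠ ⊥) : ∃ z ∈ ZZ A, z ≠ 1 := by
  obtain ⟨p, hp, hd⟩ := Nat.exists_prime_and_dvd (fun h1 => h (card_eq_one.mp h1))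
  obtain ⟨z, hz, ho⟩ := exists_mem_ZZ_orderOf hA hp hd
  exact ⟨z, hz, fun h1 => hp.one_lt.ne' (by rw [← ho, h1, orderOf_one])⟩

theorem exists_pow_orderOf_prime [Finite G] {x : G} {q : ℕ} (h : q ∣ orderOf x) :
    ∃ n : ℕ, orderOf (x ^ n) = q := by
  obtain ⟨k, hk⟩ := h
  have hk0 : k ≠ 0 := by
    rintro rfl
    exact (orderOf_pos x).ne' (by simpa using hk)
  refine ⟨k, ?_⟩
  rw [orderOf_pow' x hk0, hk, Nat.gcd_eq_right (dvd_mul_left k q), Nat.mul_div_cancel _ (Nat.pos_of_ne_zero hk0)]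

theorem exists_pow_prime_order [Finite G] {x : G} (hx : x ≠ 1) :
    ∃ (n q : ℕ), q.Prime ∧ orderOf (x ^ n) = q := by
  obtain ⟨q, hq, hd⟩ := Nat.exists_prime_and_dvd (fun h => hx (orderOf_eq_one_iff.mp h))
  obtain ⟨n, hn⟩ := exists_pow_orderOf_prime hd
  exact ⟨n, q, hq, hn⟩

theorem syl_le (p : ℕ) (A : Subgroup G) : syl p A ≤ A := map_subtype_le _

theorem le_normalizer_syl (p : ℕ) (A : Subgroup G) : A ≤ normalizer (syl p A : Set G) :=
  le_normalizer.trans (normalizer_le_normalizer_map_pCore p A)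

theorem syl_ne_bot [Finite G] {A : Subgroup G} (hA : Group.IsNilpotent A) {p : ℕ}
    (hp : p.Prime) (h : p ∣ Nat.card A) : syl p A ≠ ⊥ := by
  have := Fact.mk hp
  obtain ⟨z, hz, ho⟩ := exists_mem_ZZ_orderOf hA hp h
  intro h0
  have : z ∈ syl p A := (mem_map_pCore_iff_of_isNilpotent hA).mpr ⟨hz.1, 1, by simpa using ho⟩
  rw [h0, mem_bot] at this
  exact hp.one_lt.ne' (by rw [← ho, this, orderOf_one])

theorem not_dvd_relIndex_syl [Finite G] {A : Subgroup G} (hA : Group.IsNilpotent A) {p : ℕ}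
    [Fact p.Prime] : ¬ p ∣ (syl p A).relIndex A := by
  obtain ⟨P⟩ : Nonempty (Sylow p A) := inferInstance
  rw [relIndex_map_subtype, pCore_eq_sylow_of_isNilpotent P]
  exact P.not_dvd_index

theorem syl_le_centralizer [Finite G] {A X : Subgroup G} (hA : Group.IsNilpotent A) {r s : ℕ}
    (hr : r.Prime) (hs : s.Prime) (hrs : s ≠ r) (hX : IsPGroup r X) (hXA : X ≤ A) :
    syl s A ≤ centralizer (X : Set G) := by
  have := Fact.mk hr
  have := Fact.mk hs
  exact le_centralizer_of_coprime_of_isNilpotent hA (syl_le s A) hXA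
    (IsPGroup.coprime_card_of_ne s r hrs _ _ (isPGroup_map_pCore s A) hX)

/-- A `q`-subgroup is conjugate into any subgroup of index prime to `q`. -/
theorem exists_le_conj_of_not_dvd_index [Finite G] {Q B : Subgroup G} {q : ℕ} [Fact q.Prime]
    (hQ : IsPGroup q Q) (h : ¬ q ∣ B.index) : ∃ g : G, Q ≤ MulAut.conj g • B := by
  obtain ⟨x, hx⟩ := hQ.nonempty_fixed_point_of_prime_not_dvd_card (G ⧸ B) h
  obtain ⟨g, rfl⟩ := QuotientGroup.mk_surjective x
  refine ⟨g, fun y hy => ?_⟩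
  have : ((y * g : G) : G ⧸ B) = (g : G ⧸ B) := hx ⟨y, hy⟩
  rw [eq_comm, QuotientGroup.eq] at this
  rw [mem_conj_smul]
  simpa [mul_assoc] using this

/-- Ambient form of the product of two Hall subgroups in a solvable factorised group. -/
theorem exists_coe_eq_mul_of_le [Finite G] {L H K A B : Subgroup G} [Group.IsSolvable L]
    (hAL : A ≤ L) (hBL : B ≤ L) (hHK : ∀ g ∈ L, ∃ h ∈ L ⊓ H, ∃ k ∈ L ⊓ K, g = h * k)
    (hA : L ⊓ H ≤ normalizer (A : Set G)) (hB : L ⊓ K ≤ normalizer (B : Set G))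
    (hAh : (Nat.card A).Coprime (A.relIndex L)) (hBh : (Nat.card B).Coprime (B.relIndex L)) :
    ∃ S : Subgroup G, (S : Set G) = (A : Set G) * (B : Set G) := by
  have key : ∀ X Y : Subgroup G, L ⊓ Y ≤ normalizer (X : Set G) →
      Y.subgroupOf L ≤ normalizer ((X.subgroupOf L : Subgroup L) : Set L) := by
    intro X Y h y hy
    rw [mem_normalizer_iff]
    intro x
    exact mem_normalizer_iff.mp (h ⟨y.2, hy⟩) x
  obtain ⟨S, hS⟩ := Cfsg.Agent.S0561.exists_coe_eq_mul (G := L) (H := H.subgroupOf L)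
    (K := K.subgroupOf L) (A := A.subgroupOf L) (B := B.subgroupOf L)
    (fun g => by
      obtain ⟨h, hh, k, hk, e⟩ := hHK g g.2
      exact ⟨⟨h, hh.1⟩, hh.2, ⟨k, hk.1⟩, hk.2, Subtype.ext e⟩)
    (key A H hA) (key B K hB) (by rwa [card_subgroupOf_of_le hAL])
    (by rwa [card_subgroupOf_of_le hBL])
  refine ⟨S.map L.subtype, ?_⟩
  rw [coe_map, hS, Set.image_mul, ← coe_map, ← coe_map, map_subgroupOf_eq_of_le hAL,
    map_subgroupOf_eq_of_le hBL]

/-- The hypotheses satisfied by a minimal simple counterexample. -/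
structure Hyp (A B : Subgroup G) : Prop where
  simple : IsSimpleGroup G
  nsolv : ¬ Group.IsSolvable G
  nilA : Group.IsNilpotent A
  nilB : Group.IsNilpotent B
  cop : (Nat.card A).Coprime (Nat.card B)
  fac : ∀ g : G, ∃ a ∈ A, ∃ b ∈ B, g = a * b
  ih : ∀ M A1 B1 : Subgroup G, M ≠ ⊤ → A1 ≤ M → B1 ≤ M → Group.IsNilpotent A1 →
    Group.IsNilpotent B1 → (∀ g ∈ M, ∃ a ∈ A1, ∃ b ∈ B1, g = a * b) → Group.IsSolvable M

namespace Hyp

variable [Finite G] {A B : Subgroup G}

omit [Finite G] in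
theorem symm (h : Hyp A B) : Hyp B A :=
  ⟨h.simple, h.nsolv, h.nilB, h.nilA, h.cop.symm, forall_mul_symm h.fac, h.ih⟩

omit [Finite G] in
theorem conj (h : Hyp A B) (x y : G) : Hyp (MulAut.conj x • A) (MulAut.conj y • B) :=
  ⟨h.simple, h.nsolv, isNilpotent_map _ _ h.nilA, isNilpotent_map _ _ h.nilB,
    by rw [card_conj_smul, card_conj_smul]; exact h.cop, forall_mul_conj h.fac x y, h.ih⟩

omit [Finite G] in
theorem conj_right (h : Hyp A B) (y : G) : Hyp A (MulAut.conj y • B) := by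
  simpa using h.conj 1 y

omit [Finite G] in
theorem conj_left (h : Hyp A B) (x : G) : Hyp (MulAut.conj x • A) B := by
  simpa using h.conj x 1

omit [Finite G] in
theorem inf_eq_bot (h : Hyp A B) : A ⊓ B = ⊥ := inf_eq_bot_of_coprime_card h.cop

theorem index_eq (h : Hyp A B) : A.index = Nat.card B := by
  have h1 := card_mul_card_inf_of_forall_mul h.fac
  rw [h.inf_eq_bot, card_bot, mul_one, ← A.card_mul_index] at h1
  exact Nat.eq_of_mul_eq_mul_left Nat.card_pos h1

omit [Finite G] in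
theorem solvable_of_fac (h : Hyp A B) {M : Subgroup G} (hM : M ≠ ⊤) (hf : Fac A B M) :
    Group.IsSolvable M :=
  h.ih M (M ⊓ A) (M ⊓ B) hM inf_le_left inf_le_left (isNilpotent_of_le inf_le_right h.nilA)
    (isNilpotent_of_le inf_le_right h.nilB) hf

omit [Finite G] in
theorem normalizer_ne_top (h : Hyp A B) {X : Subgroup G} (h0 : X ≠ ⊥) (h1 : X ≠ ⊤) :
    normalizer (X : Set G) ≠ ⊤ := fun hn =>
  (h.simple.eq_bot_or_eq_top_of_normal X (normalizer_eq_top_iff.mp hn)).elim h0 h1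

omit [Finite G] in
theorem ne_top_of_isSolvable (h : Hyp A B) {X : Subgroup G} (hX : Group.IsSolvable X) : X ≠ ⊤ := by
  rintro rfl
  exact h.nsolv (Group.isSolvable_of_surjective (f := (⊤ : Subgroup G).subtype)
    (fun x => ⟨⟨x, trivial⟩, rfl⟩))

theorem normalizer_ne_top_of_isPGroup (h : Hyp A B) {X : Subgroup G} (h0 : X ≠ ⊥) {p : ℕ}
    (hp : p.Prime) (hX : IsPGroup p X) : normalizer (X : Set G) ≠ ⊤ := by
  have := Fact.mk hp
  have := hX.isNilpotent
  exact h.normalizer_ne_top h0 (h.ne_top_of_isSolvable inferInstance)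

omit [Finite G] in
theorem normalizer_zpowers_ne_top (h : Hyp A B) {x : G} (hx : x ≠ 1) :
    normalizer (zpowers x : Set G) ≠ ⊤ :=
  h.normalizer_ne_top (by simpa using hx)
    (h.ne_top_of_isSolvable (Group.isSolvable_of_comm fun a b => mul_comm' a b))

omit [Finite G] in
theorem centralizer_ne_top (h : Hyp A B) {x : G} (hx : x ≠ 1) :
    centralizer ({x} : Set G) ≠ ⊤ := by
  intro h1
  apply h.normalizer_zpowers_ne_top hx
  rw [eq_top_iff, ← h1, ← centralizer_closure, ← zpowers_eq_closure]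
  exact centralizer_le_normalizer _

omit [Finite G] in
theorem ne_bot (h : Hyp A B) : A ≠ ⊥ := by
  rintro rfl
  have := h.nilB
  apply h.ne_top_of_isSolvable (X := B) inferInstance
  rw [eq_top_iff]
  intro g _
  obtain ⟨a, ha, b, hb, rfl⟩ := h.fac g
  rw [mem_bot.mp ha, one_mul]; exact hb

omit [Finite G] in
theorem normalClosure_eq_top (h : Hyp A B) {X : Subgroup G} (h0 : X ≠ ⊥) :
    normalClosure (X : Set G) = ⊤ :=
  (h.simple.eq_bot_or_eq_top_of_normal _ inferInstance).resolve_left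
    fun h1 => h0 (le_bot_iff.mp (h1 ▸ le_normalClosure))

theorem fac_normalizer (h : Hyp A B) {X Y : Subgroup G} (hX : A ≤ normalizer (X : Set G))
    (hY : B ≤ normalizer (Y : Set G)) : Fac A B (normalizer ((X ⊔ Y : Subgroup G) : Set G)) := by
  intro g hg
  obtain ⟨a, ha, b, hb, rfl⟩ := h.fac g
  obtain ⟨h1, h2⟩ := mem_normalizer_sup_of_mul_mem (hX ha) (hY hb) hg
  exact ⟨a, ⟨h1, ha⟩, b, ⟨h2, hb⟩, rfl⟩

theorem relIndex_dvd (h : Hyp A B) {L : Subgroup G} (hf : Fac A B L) :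
    A.relIndex L ∣ Nat.card B := by
  have h1 : (L : Set G) = ((L ⊓ A : Subgroup G) : Set G) * ((L ⊓ B : Subgroup G) : Set G) := by
    apply Set.Subset.antisymm
    · intro g hg
      obtain ⟨a, ha, b, hb, rfl⟩ := hf g hg
      exact Set.mul_mem_mul ha hb
    · exact mul_subset (inf_le_left : L ⊓ A ≤ L) (inf_le_left : L ⊓ B ≤ L)
  have h2 := card_mul_card_inf_of_coe_eq_mul h1
  have h3 : L ⊓ A ⊓ (L ⊓ B) = ⊥ :=
    le_bot_iff.mp ((inf_le_inf inf_le_right inf_le_right).trans h.inf_eq_bot.le)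
  rw [h3, card_bot, mul_one, ← card_inf_mul_relIndex A L, inf_comm A L] at h2
  rw [Nat.eq_of_mul_eq_mul_left Nat.card_pos h2]
  exact card_dvd_of_le inf_le_right

theorem le_of_normalized (h : Hyp A B) {L X : Subgroup G} (hf : Fac A B L) (hXL : X ≤ L)
    (hL : L ≤ normalizer (X : Set G)) (hc : (Nat.card X).Coprime (Nat.card B)) : X ≤ A := by
  have := (normal_subgroupOf_iff_le_normalizer hXL).mpr hL
  have h1 : X.subgroupOf L ≤ A.subgroupOf L := le_of_normal_of_coprime_card_index (by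
    rw [card_subgroupOf_of_le hXL]
    exact hc.coprime_dvd_right (h.relIndex_dvd hf))
  exact fun x hx => h1 (show (⟨x, hXL hx⟩ : L) ∈ X.subgroupOf L from hx)

theorem le_of_normalized_pgroup (h : Hyp A B) {L X : Subgroup G} (hf : Fac A B L) (hXL : X ≤ L)
    (hL : L ≤ normalizer (X : Set G)) {r : ℕ} (hr : r.Prime) (hX : IsPGroup r X)
    (hrB : ¬ r ∣ Nat.card B) : X ≤ A := by
  have := Fact.mk hr
  obtain ⟨n, hn⟩ := IsPGroup.iff_card.mp hX
  exact h.le_of_normalized hf hXL hL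
    (hn ▸ Nat.Coprime.pow_left n ((Nat.Prime.coprime_iff_not_dvd hr).mpr hrB))

omit [Finite G] in
theorem not_dvd (h : Hyp A B) {r : ℕ} (hr : r.Prime) (hA : r ∣ Nat.card A) : ¬ r ∣ Nat.card B :=
  fun hB => hr.one_lt.ne' (Nat.eq_one_of_dvd_coprimes h.cop hA hB)

/-- Burnside: neither factor has prime power order. -/
theorem exists_prime_ne (h : Hyp A B) (r : ℕ) : ∃ s : ℕ, s.Prime ∧ s ≠ r ∧ s ∣ Nat.card A := by
  by_contra hcon
  push Not at hcon
  obtain ⟨p, hp, hd⟩ := Nat.exists_prime_and_dvd (fun h1 => h.ne_bot (card_eq_one.mp h1))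
  have hpr : p = r := by by_contra h1; exact hcon p hp h1 hd
  subst hpr
  obtain ⟨b, hb, hb1⟩ := exists_mem_ZZ_ne_one h.nilB h.symm.ne_bot
  have h1 : B ≤ centralizer ({b} : Set G) := fun x hx =>
    mem_centralizer_singleton_iff.mpr (hb.2 x hx)
  have h2 := index_dvd_of_le h1
  rw [h.symm.index_eq] at h2
  have h3 : (centralizer ({b} : Set G)).index =
      p ^ (centralizer ({b} : Set G)).index.primeFactorsList.length :=
    Nat.eq_prime_pow_of_unique_prime_dvd index_ne_zero_of_finite (fun {d} hd' hdd => by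
      by_contra h1; exact hcon d hd' h1 (hdd.trans h2))
  have := h.simple
  have h4 := Fact.mk (Cfsg.Agent.S0143.result p _ hp b hb1 h3)
  have := isCyclic_of_prime_card (α := G) rfl
  exact h.nsolv (Group.isSolvable_of_comm fun a b => mul_comm' a b)

theorem coprime_syl (h : Hyp A B) {s : ℕ} (hs : s.Prime) (hsA : s ∣ Nat.card A) {L : Subgroup G}
    (hL : syl s A ≤ L) : (Nat.card (syl s A)).Coprime ((syl s A).relIndex L) := by
  have := Fact.mk hs
  obtain ⟨n, hn⟩ := IsPGroup.iff_card.mp (isPGroup_map_pCore s A)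
  rw [hn]
  refine Nat.Coprime.pow_left n ((Nat.Prime.coprime_iff_not_dvd hs).mpr fun hd => ?_)
  have h1 := hd.trans (relIndex_dvd_index_of_le hL)
  rw [← relIndex_mul_index (syl_le s A), h.index_eq] at h1
  exact ((Nat.Prime.dvd_mul hs).mp h1).elim (not_dvd_relIndex_syl h.nilA) (h.not_dvd hs hsA)

/-- Step 1: nontrivial Sylow subgroups of the two factors generate `G`. -/
theorem syl_sup_syl (h : Hyp A B) {s t : ℕ} (hs : s.Prime) (hsA : s ∣ Nat.card A) (ht : t.Prime)
    (htB : t ∣ Nat.card B) : syl s A ⊔ syl t B = ⊤ := by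
  by_contra hne
  have h0 : syl s A ⊔ syl t B ≠ ⊥ := fun h1 =>
    syl_ne_bot h.nilA hs hsA (le_bot_iff.mp (h1 ▸ le_sup_left))
  have hf := h.fac_normalizer (le_normalizer_syl s A) (le_normalizer_syl t B)
  have := h.solvable_of_fac (h.normalizer_ne_top h0 hne) hf
  have h1 := le_sup_left.trans (le_normalizer (H := syl s A ⊔ syl t B))
  have h2 := le_sup_right.trans (le_normalizer (H := syl s A ⊔ syl t B))
  obtain ⟨S, hS⟩ := exists_coe_eq_mul_of_le h1 h2 hf (inf_le_right.trans (le_normalizer_syl s A))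
    (inf_le_right.trans (le_normalizer_syl t B)) (h.coprime_syl hs hsA h1)
    (h.symm.coprime_syl ht htB h2)
  have key := kegel_forall_mul_of_permutable (syl s A) (syl t B) (fun x => by
      obtain ⟨g, e1, e2⟩ := exists_conj_pair_of_le_normalizer h.fac (le_normalizer_syl s A)
        (le_normalizer_syl t B) 1 x
      rw [conj_one_smul] at e1
      exact ⟨_, by rw [e2]; conv_rhs => rw [e1]
                   exact coe_conj_smul_eq_mul hS g⟩)
    (by rw [h.normalClosure_eq_top (syl_ne_bot h.nilA hs hsA), top_sup_eq])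
    (by rw [h.normalClosure_eq_top (syl_ne_bot h.nilB ht htB), sup_top_eq])
  exact hne (eq_sup_of_coe_eq_mul (forall_mul_iff_coe_top.mp key)).symm

omit [Finite G] in
/-- Step 2. -/
theorem eq_top_of_le_of_mem (h : Hyp A B) {b : G} (hb : b ∈ ZZ B) (hb1 : b ≠ 1) {M : Subgroup G}
    (hA : A ≤ M) (hbM : b ∈ M) : M = ⊤ := by
  rw [eq_top_iff, ← h.normalClosure_eq_top (X := zpowers b) (by simpa using hb1), normalClosure,
    closure_le]
  intro y hy
  obtain ⟨c, hc, hby⟩ := Group.mem_conjugatesOfSet_iff.mp hy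
  obtain ⟨g, rfl⟩ := isConj_iff.mp hby
  obtain ⟨a, ha, b', hb', rfl⟩ := h.fac g
  have h1 : c ∈ ZZ B := (zpowers_le.mpr hb) hc
  have h2 : a * b' * c * (a * b')⁻¹ = a * c * a⁻¹ := by
    rw [mul_assoc a, h1.2 b' hb']; group
  rw [h2]
  exact M.mul_mem (M.mul_mem (hA ha) ((zpowers_le.mpr hbM) hc)) (M.inv_mem (hA ha))

omit [Finite G] in
theorem le_normalizer_zpowers {b : G} (hb : b ∈ ZZ B) : B ≤ normalizer (zpowers b : Set G) := by
  refine le_trans ?_ (centralizer_le_normalizer _)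
  rw [← le_centralizer_iff, zpowers_le]
  exact hb.2

theorem exists_char_pgroup {H : Subgroup G} (hH : Group.IsSolvable H) (h0 : H ≠ ⊥) :
    ∃ (r : ℕ) (X : Subgroup G), r.Prime ∧ X ≠ ⊥ ∧ X ≤ H ∧ IsPGroup r X ∧
      normalizer (H : Set G) ≤ normalizer (X : Set G) := by
  have := (nontrivial_iff_ne_bot H).mpr h0
  obtain ⟨r, P, hr, hP0, hPc, hP, -⟩ := SZ.exists_characteristic_pgroup (G := H)
  refine ⟨r, P.map H.subtype, hr, ?_, map_subtype_le _, hP.map _,
    normalizer_le_normalizer_map_subtype_of_char P⟩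
  rwa [Ne, map_eq_bot_iff_of_injective _ H.subtype_injective]

/-- Step 3. -/
theorem syl_sup_zpowers (h : Hyp A B) {s : ℕ} (hs : s.Prime) (hsA : s ∣ Nat.card A) {b : G}
    (hb : b ∈ ZZ B) (hb1 : b ≠ 1) : syl s A ⊔ zpowers b = ⊤ := by
  obtain ⟨n, q, hq, hbq⟩ := exists_pow_prime_order hb1
  suffices h1 : syl s A ⊔ zpowers (b ^ n) = ⊤ by
    rw [eq_top_iff, ← h1]
    exact sup_le_sup_left (zpowers_le.mpr (pow_mem (mem_zpowers b) n)) _
  replace hb : b ^ n ∈ ZZ B := pow_mem hb n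
  generalize b ^ n = c at *
  have hc1 : c ≠ 1 := fun h1 => hq.one_lt.ne' (by rw [← hbq, h1, orderOf_one])
  have := Fact.mk hs
  have := Fact.mk hq
  have hqB : q ∣ Nat.card B := hbq ▸ B.orderOf_dvd_natCard hb.1
  by_contra hne
  set H := syl s A ⊔ zpowers c with hH
  have h0 : H ≠ ⊥ := fun h1 => syl_ne_bot h.nilA hs hsA (le_bot_iff.mp (h1 ▸ le_sup_left))
  have hf := h.fac_normalizer (le_normalizer_syl s A) (le_normalizer_zpowers hb)
  rw [← hH] at hf
  set L := normalizer (H : Set G) with hL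
  have hLs := h.solvable_of_fac (h.normalizer_ne_top h0 hne) hf
  have hHL : H ≤ L := le_normalizer
  have h1 : syl s A ≤ L := le_sup_left.trans hHL
  have hnil : Group.IsNilpotent (L ⊓ B : Subgroup G) := isNilpotent_of_le inf_le_right h.nilB
  have h2 : syl q (L ⊓ B) ≤ L := (syl_le _ _).trans inf_le_left
  obtain ⟨m, hm⟩ := IsPGroup.iff_card.mp (isPGroup_map_pCore q (L ⊓ B))
  obtain ⟨m', hm'⟩ := IsPGroup.iff_card.mp (isPGroup_map_pCore s A)
  obtain ⟨S, hS⟩ := exists_coe_eq_mul_of_le h1 h2 hf (inf_le_right.trans (le_normalizer_syl s A))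
    (le_normalizer_syl q _) (h.coprime_syl hs hsA h1) (by
      rw [hm]
      refine Nat.Coprime.pow_left m ((Nat.Prime.coprime_iff_not_dvd hq).mpr fun hd => ?_)
      rw [← relIndex_mul_relIndex _ _ _ (syl_le q (L ⊓ B)) inf_le_left, inf_relIndex_left] at hd
      exact ((Nat.Prime.dvd_mul hq).mp hd).elim (not_dvd_relIndex_syl hnil)
        (fun h3 => h.symm.not_dvd hq hqB (h3.trans (h.symm.relIndex_dvd hf.symm))))
  have hcL : c ∈ L := hHL (mem_sup_right (mem_zpowers c))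
  have hHS : H ≤ S := sup_le (le_left_of_coe_eq_mul hS) (zpowers_le.mpr (le_right_of_coe_eq_mul hS
    ((mem_map_pCore_iff_of_isNilpotent hnil).mpr ⟨⟨hcL, hb.1⟩, 1, by simpa using hbq⟩)))
  have hHs : Group.IsSolvable H :=
    Group.isSolvable_of_isSolvable_injective (inclusion_injective hHL)
  obtain ⟨r, X, hr, hX0, hXH, hX, hN⟩ := exists_char_pgroup hHs h0
  have := Fact.mk hr
  have hrd : r ∣ s ^ m' * q ^ m := by
    rw [← hm, ← hm', ← card_mul_card_inf_of_coe_eq_mul hS]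
    exact ((hX.card_eq_or_dvd.resolve_left fun h3 => hX0 (card_eq_one.mp h3)).trans
      (card_dvd_of_le (hXH.trans hHS))).mul_right _
  apply h.normalizer_ne_top_of_isPGroup hX0 hr hX
  rcases (Nat.Prime.dvd_mul hr).mp hrd with h3 | h3
  · obtain rfl : r = s := (Nat.prime_dvd_prime_iff_eq hr hs).mp (hr.dvd_of_dvd_pow h3)
    have hXA := h.le_of_normalized_pgroup hf (hXH.trans hHL) hN hr hX (h.not_dvd hs hsA)
    refine h.eq_top_of_le_of_mem hb hc1 ?_ (hN hcL)
    rw [← map_pCore_sup_map_pPrimeCore_of_isNilpotent h.nilA r]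
    refine sup_le (h1.trans hN) (le_trans ?_ (centralizer_le_normalizer _))
    obtain ⟨k, hk⟩ := IsPGroup.iff_card.mp hX
    exact le_centralizer_of_coprime_of_isNilpotent h.nilA (map_subtype_le _) hXA
      (hk ▸ (coprime_card_map_pPrimeCore r A).pow_right k)
  · obtain rfl : r = q := (Nat.prime_dvd_prime_iff_eq hr hq).mp (hr.dvd_of_dvd_pow h3)
    have hXB := h.symm.le_of_normalized_pgroup hf.symm (hXH.trans hHL) hN hr hX
      (h.symm.not_dvd hq hqB)
    obtain ⟨t, ht, htr, htB⟩ := h.symm.exists_prime_ne r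
    rw [eq_top_iff, ← h.syl_sup_syl hs hsA ht htB]
    exact sup_le (h1.trans hN)
      ((syl_le_centralizer h.nilB hr ht htr hX hXB).trans (centralizer_le_normalizer _))

/-- Step 4: a subgroup meeting both centres nontrivially is `G`. -/
theorem eq_top_of_mem (h : Hyp A B) {a b : G} (ha : a ∈ ZZ A) (ha1 : a ≠ 1) (hb : b ∈ ZZ B)
    (hb1 : b ≠ 1) {M : Subgroup G} (haM : a ∈ M) (hbM : b ∈ M) : M = ⊤ := by
  suffices h1 : zpowers a ⊔ zpowers b = ⊤ by
    rw [eq_top_iff, ← h1]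
    exact sup_le (zpowers_le.mpr haM) (zpowers_le.mpr hbM)
  by_contra hne
  set H := zpowers a ⊔ zpowers b with hH
  have haH : a ∈ H := mem_sup_left (mem_zpowers a)
  have hbH : b ∈ H := mem_sup_right (mem_zpowers b)
  have h0 : H ≠ ⊥ := fun h1 => ha1 (by rwa [h1, mem_bot] at haH)
  have hf := h.fac_normalizer (le_normalizer_zpowers ha) (le_normalizer_zpowers hb)
  rw [← hH] at hf
  have hLs := h.solvable_of_fac (h.normalizer_ne_top h0 hne) hf
  have hHL : H ≤ normalizer (H : Set G) := le_normalizer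
  have hHs : Group.IsSolvable H :=
    Group.isSolvable_of_isSolvable_injective (inclusion_injective hHL)
  obtain ⟨r, X, hr, hX0, hXH, hX, hN⟩ := exists_char_pgroup hHs h0
  apply h.normalizer_ne_top_of_isPGroup hX0 hr hX
  by_cases hrB : r ∣ Nat.card B
  · have hXB := h.symm.le_of_normalized_pgroup hf.symm (hXH.trans hHL) hN hr hX
      (h.symm.not_dvd hr hrB)
    obtain ⟨t, ht, htr, htB⟩ := h.symm.exists_prime_ne r
    rw [eq_top_iff, ← h.symm.syl_sup_zpowers ht htB ha ha1]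
    exact sup_le ((syl_le_centralizer h.nilB hr ht htr hX hXB).trans (centralizer_le_normalizer _))
      (zpowers_le.mpr (hN (hHL haH)))
  · have hXA := h.le_of_normalized_pgroup hf (hXH.trans hHL) hN hr hX hrB
    obtain ⟨t, ht, htr, htA⟩ := h.exists_prime_ne r
    rw [eq_top_iff, ← h.syl_sup_zpowers ht htA hb hb1]
    exact sup_le ((syl_le_centralizer h.nilA hr ht htr hX hXA).trans (centralizer_le_normalizer _))
      (zpowers_le.mpr (hN (hHL hbH)))

end Hyp

end Cfsg.Lib.Solv.KW
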