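import Cfsg.Agent.Solv.CoprimeAbelian
import Cfsg.Agent.Local.Dihedral

/-! # Subgroups with a normal Sylow subgroup and cyclic quotient -/

set_option autoImplicit false

open Subgroup

namespace Cfsg.Lib.Solv.PByCyc

variable {G : Type*} [Group G] [Finite G] {p : ℕ} [hp : Fact p.Prime]

omit hp [Finite G] in
theorem hyp_sup {S : Subgroup G} (hS : IsPGroup p S) {g : G} (hg : g ∈ normalizer (S : Set G)) :
    (∀ T : Sylow p ↥(S ⊔ zpowers g), (T : Subgroup ↥(S ⊔ zpowers g)).Normal) ∧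
      ∀ (T : Sylow p ↥(S ⊔ zpowers g)) [(T : Subgroup ↥(S ⊔ zpowers g)).Normal],
        IsCyclic (↥(S ⊔ zpowers g) ⧸ (T : Subgroup ↥(S ⊔ zpowers g))) := by
  have hN := Coprime.normal_subgroupOf_sup (zpowers_le.2 hg)
  have hle : ∀ T : Sylow p ↥(S ⊔ zpowers g), S.subgroupOf (S ⊔ zpowers g) ≤ T := fun T =>
    IsPGroup.le_sylow_of_normal (N := S.subgroupOf (S ⊔ zpowers g)) hS.comap_subtype T
  have hc : ∀ (M : Subgroup ↥(S ⊔ zpowers g)) [M.Normal], S.subgroupOf (S ⊔ zpowers g) ≤ M →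
      IsCyclic (↥(S ⊔ zpowers g) ⧸ M) := fun M _ hM =>
    ⟨⟨QuotientGroup.mk ⟨g, mem_sup_right (mem_zpowers g)⟩, fun x => by
      obtain ⟨⟨x, hx⟩, rfl⟩ := QuotientGroup.mk_surjective x
      obtain ⟨_, ⟨n, rfl⟩, k, hk, rfl⟩ := (Coprime.mem_sup_iff' (zpowers_le.2 hg)).1 hx
      exact ⟨n, QuotientGroup.eq.2 (hM (by simpa [mem_subgroupOf] using hk))⟩⟩⟩
  refine ⟨fun T => ?_, fun T _ => hc _ (hle T)⟩
  have := hc _ le_rfl
  rw [← comap_map_eq_self (f := QuotientGroup.mk' (S.subgroupOf (S ⊔ zpowers g)))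
    ((QuotientGroup.ker_mk' _).le.trans (hle T))]
  infer_instance

theorem exists_gen {H : Subgroup G} (h1 : ∀ T : Sylow p H, (T : Subgroup H).Normal)
    (h2 : ∀ (T : Sylow p H) [(T : Subgroup H).Normal], IsCyclic (H ⧸ (T : Subgroup H))) :
    ∃ (S : Subgroup G) (g : G), IsPGroup p S ∧ g ∈ normalizer (S : Set G) ∧
      (orderOf g).Coprime p ∧ H = S ⊔ zpowers g := by
  obtain ⟨T⟩ : Nonempty (Sylow p H) := inferInstance
  have := h1 T
  obtain ⟨y, hy⟩ := (h2 T).exists_generator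
  obtain ⟨y, rfl⟩ := QuotientGroup.mk_surjective y
  obtain ⟨k, m, hm, e⟩ := Nat.exists_eq_pow_mul_and_not_dvd (orderOf_pos y).ne' p hp.out.ne_one
  have hN : H ≤ normalizer (((T : Subgroup H).map H.subtype : Subgroup G) : Set G) := by
    have := le_normalizer_map (H := (T : Subgroup H)) H.subtype
    rwa [normalizer_eq_top, ← MonoidHom.range_eq_map, range_subtype] at this
  refine ⟨(T : Subgroup H).map H.subtype, (y ^ p ^ k : H), T.isPGroup'.map _, hN (y ^ p ^ k).2,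
    ?_, le_antisymm (fun x hx => ?_) (sup_le (map_subtype_le _) (zpowers_le.2 (y ^ p ^ k).2))⟩
  · rw [orderOf_coe]
    refine (hp.out.coprime_iff_not_dvd.2 hm).symm.coprime_dvd_left (orderOf_dvd_of_pow_eq_one ?_)
    rw [← pow_mul, ← e, pow_orderOf_eq_one]
  · obtain ⟨l, hl⟩ := exists_pow_eq_self_of_coprime (n := p ^ k)
      (x := (y : H ⧸ (T : Subgroup H))) (Nat.Coprime.pow_left k
        ((hp.out.coprime_iff_not_dvd.2 T.not_dvd_index).coprime_dvd_right (orderOf_dvd_natCard _)))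
    obtain ⟨n, hn⟩ := hy (⟨x, hx⟩ : H)
    have h3 : ((((y ^ p ^ k) ^ l) ^ n : H) : H ⧸ (T : Subgroup H)) = (⟨x, hx⟩ : H) := by
      rw [← hn, ← hl]; rfl
    have h4 := mul_mem (mem_sup_right (S := (T : Subgroup H).map H.subtype)
      (zpow_mem (pow_mem (mem_zpowers ((y ^ p ^ k : H) : G)) l) n))
      (mem_sup_left (mem_map_of_mem H.subtype (QuotientGroup.eq.1 h3)))
    simpa using h4

omit hp [Finite G] in
theorem isCyclic_sup {S : Subgroup G} [IsCyclic S] {g : G} (hg : g ∈ centralizer (S : Set G))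
    (hcop : (orderOf g).Coprime (Nat.card S)) : IsCyclic ↥(S ⊔ zpowers g) := by
  obtain ⟨s, rfl⟩ := (Subgroup.isCyclic_iff_exists_zpowers_eq_top S).1 inferInstance
  have hc : Commute s g := hg s (mem_zpowers s)
  rw [Nat.card_zpowers] at hcop
  have : zpowers s ⊔ zpowers g = zpowers (s * g) := by
    refine le_antisymm (sup_le (zpowers_le.2 ?_) (zpowers_le.2 ?_))
      (zpowers_le.2 (mul_mem (mem_sup_left (mem_zpowers s)) (mem_sup_right (mem_zpowers g))))
    · obtain ⟨l, hl⟩ := exists_pow_eq_self_of_coprime (x := s) hcop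
      have := pow_mem (pow_mem (mem_zpowers (s * g)) (orderOf g)) l
      rwa [hc.mul_pow, pow_orderOf_eq_one, mul_one, hl] at this
    · obtain ⟨l, hl⟩ := exists_pow_eq_self_of_coprime (x := g) hcop.symm
      have := pow_mem (pow_mem (mem_zpowers (s * g)) (orderOf s)) l
      rwa [hc.mul_pow, pow_orderOf_eq_one, one_mul, hl] at this
  rw [this]
  infer_instance

omit hp [Finite G] in
theorem mul_comm_of_isCyclic {S : Subgroup G} (h : IsCyclic S) {a b : G} (ha : a ∈ S)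
    (hb : b ∈ S) : a * b = b * a :=
  congrArg Subtype.val (h.isMulCommutative.1.1 (⟨a, ha⟩ : S) ⟨b, hb⟩)

omit hp [Finite G] in
theorem nonempty_dihedral {s r : G} (hs : s * s = 1) (h : s * r * s⁻¹ = r⁻¹)
    (hsr : s ∉ zpowers r) : Nonempty (↥(zpowers r ⊔ zpowers s) ≃* DihedralGroup (orderOf r)) := by
  have h1 : zpowers r ⊔ zpowers s = (Local.dihedralHom hs h (pow_orderOf_eq_one r)).range := by
    rw [Local.dihedralHom_range, sup_comm, zpowers_eq_closure, zpowers_eq_closure, ← Subgroup.closure_union]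
    rfl
  exact ⟨(MulEquiv.subgroupCongr h1).trans
    (MonoidHom.ofInjective (Local.dihedralHom_injective hs h hsr)).symm⟩

end Cfsg.Lib.Solv.PByCyc
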