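import Cfsg.Agent.Solv.ClassSize
import Cfsg.Agent.Solv.MinNormal
import Cfsg.Agent.Solv.CoprimeSylow
import Cfsg.Agent.Char.Kernel
import Cfsg.Agent.Char.Burnside
import Cfsg.Agent.Block.BlockOrth
import Cfsg.Agent.Block.PrincBasic
import Cfsg.Agent.Block.Residue

/-!
# Kazarin's theorem

An element of a finite group whose conjugacy class has prime power size lies in the solvable
radical.
-/

set_option autoImplicit false

open scoped commutatorElement ComplexConjugate
open Cfsg.Lib.Char Cfsg.Lib.Block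

namespace Cfsg.Lib.Solv.ClassSize

universe u

/-- The character theoretic step of Kazarin's theorem (principal `q`-block). -/
theorem kazarin_char_step {G : Type*} [Group G] [Finite G] {p q k : ℕ} (hp : p.Prime)
    (hq : q.Prime) (hpq : p ≠ q) (N : Subgroup G) [N.Normal] {g : G}
    (hk : (Subgroup.centralizer ({g} : Set G)).index = p ^ k)
    (hcomm : commutator G ≤ N) (hpow : ∀ h : G, h ^ q ∈ N) (hidx : ¬ p ∣ N.index)
    {y : G} (hy : y ∈ N) (hyq : q ∣ orderOf y)
    (hK : ∀ K : Subgroup G, K.Normal → (∀ x : G, g * x * g⁻¹ * x⁻¹ ∈ K) → N ≤ K) : False := by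
  classical
  obtain ⟨M, hM⟩ := Princ.exists_isPModular hq
  obtain ⟨M', hM'⟩ := Princ.exists_isPModular hp
  have hB : IsPBlock M (principalBlock M G) := Princ.isPBlock_principalBlock
  have horth := block_orth_regular hM hB (x := (1 : G)) (y := y)
    (by rw [orderOf_one]; exact hq.one_lt.ne' ∘ Nat.dvd_one.1) hyq
  set B := principalBlock M G with hBdef
  -- characters with `N` in the kernel lie in `B`
  have hA : ∀ χ : IrrCharacter G, N ≤ charKer (χ : G → ℂ) → χ ∈ B := by
    intro χ hχ h
    have h1 : (χ : G → ℂ) 1 = 1 := (χ.2.commutator_le_charKer_iff).1 (hcomm.trans hχ)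
    obtain ⟨lam, hlam⟩ := χ.2.isCharacter.exists_monoidHom_of_apply_one h1
    have hz : (χ : G → ℂ) h ^ q ^ 1 = 1 := by
      have h2 := apply_of_mem_charKer (hχ (hpow h))
      rw [h1] at h2
      rw [pow_one, ← h2, hlam]
      simp
    have hint : IsIntegral ℤ ((χ : G → ℂ) h) := IsCharacter_isIntegral χ.2.isCharacter h
    have heq : centralChar (fun _ : G => (1 : ℂ)) h - centralChar (χ : G → ℂ) h =
        ((Subgroup.centralizer ({h} : Set G)).index : ℂ) * (1 - (χ : G → ℂ) h) := by
      simp only [centralChar, h1]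
      ring
    rw [heq, memLocalIdeal_iff_of_isIntegral hM
      ((isIntegral_natCast _).mul (isIntegral_one.sub hint))]
    refine vM_mul_lt_one_right (vM_natCast_le_one _) ?_
    rw [vM_sub_comm]
    exact vM_sub_one_lt_of_pow_p_pow hM hz
  -- the other members of `B` have degree divisible by `p`
  have hB' : ∀ χ : IrrCharacter G, χ ∈ B → ¬ N ≤ charKer (χ : G → ℂ) →
      vM M' ((χ : G → ℂ) 1) < 1 := by
    intro χ hχ hN
    obtain ⟨d, hd0, hd⟩ := χ.2.exists_nat_degree_pos
    rw [hd, vM_natCast_lt_one_iff hM']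
    by_contra hpd
    have hco : d.Coprime (Subgroup.centralizer ({g} : Set G)).index := by
      rw [hk]
      exact Nat.Coprime.pow_right _ ((Nat.Prime.coprime_iff_not_dvd hp).2 hpd).symm
    rcases irr_eq_zero_or_norm_eq_of_coprime χ.2 hd g hco with h0 | h0
    · have h1 := vM_lt_one_of_memLocalIdeal hM (hχ g)
      have heq : centralChar (fun _ : G => (1 : ℂ)) g - centralChar (χ : G → ℂ) g =
          ((p ^ k : ℕ) : ℂ) := by
        simp only [centralChar, h0, hk]
        simp
      rw [heq, vM_natCast_lt_one_iff hM] at h1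
      exact hpq ((Nat.prime_dvd_prime_iff_eq hq hp).1 (hq.dvd_of_dvd_pow h1)).symm
    · refine hN (hK _ χ.2.charKer_normal fun x => ?_)
      rw [χ.2.mem_charKer_iff]
      refine char_commutator_eq_of_norm_eq χ.2.isCharacter ?_ x
      rw [h0, hd, Complex.norm_natCast]
  have hfin : ∑ᶠ χ ∈ B, (χ : G → ℂ) 1 * conj ((χ : G → ℂ) y) =
      ∑ χ ∈ Finset.univ.filter (fun χ : IrrCharacter G => χ ∈ B),
        (χ : G → ℂ) 1 * conj ((χ : G → ℂ) y) := by
    rw [← finsum_mem_coe_finset]
    congr 1
    ext χ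
    simp
  rw [hfin, ← Finset.sum_filter_add_sum_filter_not _
    (fun χ : IrrCharacter G => N ≤ charKer (χ : G → ℂ))] at horth
  have h1 : ∑ χ ∈ (Finset.univ.filter (fun χ : IrrCharacter G => χ ∈ B)).filter
      (fun χ : IrrCharacter G => N ≤ charKer (χ : G → ℂ)),
      (χ : G → ℂ) 1 * conj ((χ : G → ℂ) y) = (N.index : ℂ) := by
    rw [← sum_irr_ker_degree_sq N]
    refine Finset.sum_congr ?_ fun χ hχ => ?_
    · ext χ
      simp only [Finset.mem_filter, Finset.mem_univ, true_and]
      exact ⟨fun h => h.2, fun h => ⟨hA χ h, h⟩⟩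
    · have hχ' := (Finset.mem_filter.1 hχ).2
      obtain ⟨d, -, hd⟩ := χ.2.exists_nat_degree_pos
      rw [apply_of_mem_charKer (hχ' hy), hd, map_natCast, sq]
  rw [h1] at horth
  have h2 : vM M' (∑ χ ∈ (Finset.univ.filter (fun χ : IrrCharacter G => χ ∈ B)).filter
      (fun χ : IrrCharacter G => ¬ N ≤ charKer (χ : G → ℂ)),
      (χ : G → ℂ) 1 * conj ((χ : G → ℂ) y)) < 1 := by
    refine vM_sum_lt_one fun χ hχ => ?_
    rw [Finset.mem_filter, Finset.mem_filter] at hχ
    refine vM_mul_lt_one_left (hB' χ hχ.1.2 hχ.2) ?_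
    rw [← χ.2.isCharacter.apply_inv]
    exact vM_le_one_of_isIntegral (IsCharacter_isIntegral χ.2.isCharacter _)
  rw [eq_neg_of_add_eq_zero_right horth, Valuation.map_neg, vM_natCast_lt_one_iff hM'] at h2
  exact hidx h2

/-- The final configuration in Kazarin's theorem: `G = N ⟨g⟩`, `g` of prime order `q ≠ p`. -/
theorem kazarin_final {G : Type*} [Group G] [Finite G] {p q k : ℕ} (hp : p.Prime)
    (hq : q.Prime) (hpq : p ≠ q) {N : Subgroup G} (hN : IsMinNormal N) {g : G}
    (hg : orderOf g = q) (hk : (Subgroup.centralizer ({g} : Set G)).index = p ^ k)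
    (hsup : N ⊔ Subgroup.zpowers g = ⊤)
    (hsol : ∀ S : Subgroup G, S.Normal → Group.IsSolvable S → S = ⊥) : False := by
  have := hN.normal
  have hpf : Fact p.Prime := ⟨hp⟩
  have hqf : Fact q.Prime := ⟨hq⟩
  have hdec : ∀ h : G, ∃ n ∈ N, ∃ i : ℤ, n * g ^ i = h := by
    intro h
    obtain ⟨n, hn, z, ⟨i, rfl⟩, rfl⟩ := (mem_sup_of_le_normalizer (N := N) (H := Subgroup.zpowers g)
      (by rw [Subgroup.normalizer_eq_top]; exact le_top)).1 (hsup ▸ Subgroup.mem_top h)
    exact ⟨n, hn, i, rfl⟩
  have hquot : ∀ h : G, ∃ i : ℤ, (h : G ⧸ N) = (g : G ⧸ N) ^ i := by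
    intro h
    obtain ⟨n, hn, i, rfl⟩ := hdec h
    exact ⟨i, by simp [(QuotientGroup.eq_one_iff n).2 hn]⟩
  have hcomm : commutator G ≤ N := by
    rw [commutator_def, Subgroup.commutator_le]
    intro a _ b _
    obtain ⟨i, hi⟩ := hquot a
    obtain ⟨j, hj⟩ := hquot b
    rw [← QuotientGroup.eq_one_iff, commutatorElement_def]
    simp only [QuotientGroup.mk_mul, QuotientGroup.mk_inv, hi, hj]
    group
  have hpow : ∀ h : G, h ^ q ∈ N := by
    intro h
    obtain ⟨i, hi⟩ := hquot h
    rw [← QuotientGroup.eq_one_iff, QuotientGroup.mk_pow, hi, ← zpow_natCast, ← zpow_mul,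
      mul_comm, zpow_mul, zpow_natCast, ← QuotientGroup.mk_pow, ← hg, pow_orderOf_eq_one]
    simp
  have hgc : g ∉ Subgroup.center G := by
    intro hgc
    have h1 := hsol (Subgroup.center G) inferInstance (Coprime.isSolvable_of_isMulCommutative _)
    rw [h1, Subgroup.mem_bot] at hgc
    rw [hgc, orderOf_one] at hg
    exact hq.one_lt.ne hg
  have hK : ∀ K : Subgroup G, K.Normal → (∀ x : G, g * x * g⁻¹ * x⁻¹ ∈ K) → N ≤ K := by
    intro K hKn hx
    rcases hN.inf_eq_bot_or_le K with h | h
    · exfalso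
      have hKs : Group.IsSolvable K := by
        have : IsMulCommutative K := ⟨⟨fun a b => Subtype.ext (by
          have h1 : ⁅(a : G), (b : G)⁆ ∈ N ⊓ K :=
            ⟨hcomm (Subgroup.commutator_mem_commutator (Subgroup.mem_top _) (Subgroup.mem_top _)),
              by rw [commutatorElement_def]
                 exact K.mul_mem (K.mul_mem (K.mul_mem a.2 b.2) (K.inv_mem a.2)) (K.inv_mem b.2)⟩
          rw [h, Subgroup.mem_bot, commutatorElement_eq_one_iff_mul_comm] at h1
          exact h1)⟩⟩
        exact Coprime.isSolvable_of_isMulCommutative _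
      have hKb := hsol K hKn hKs
      refine hgc (Subgroup.mem_center_iff.2 fun x => ?_)
      have h1 := hx x
      rw [hKb, Subgroup.mem_bot] at h1
      calc x * g = (g * x * g⁻¹ * x⁻¹) * x * g := by rw [h1, one_mul]
        _ = g * x := by group
    · exact h
  by_cases hqN : q ∣ Nat.card N
  · obtain ⟨y, hy⟩ := exists_prime_orderOf_dvd_card' (G := N) q hqN
    have hidx : ¬ p ∣ N.index := by
      have hP : IsPGroup q (G ⧸ N) := by
        intro a
        obtain ⟨h, rfl⟩ := QuotientGroup.mk_surjective a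
        exact ⟨1, by rw [pow_one, ← QuotientGroup.mk_pow, QuotientGroup.eq_one_iff]; exact hpow h⟩
      obtain ⟨m, hm⟩ := hP.exists_card_eq
      rw [Subgroup.index_eq_card, hm]
      exact fun h => hpq ((Nat.prime_dvd_prime_iff_eq hp hq).1 (hp.dvd_of_dvd_pow h))
    exact kazarin_char_step hp hq hpq N hk hcomm hpow hidx y.2
      (by rw [Subgroup.orderOf_coe, hy]) hK
  · have hco : (Nat.card (Subgroup.zpowers g)).Coprime (Nat.card N) := by
      rw [Nat.card_zpowers, hg]
      exact (Nat.Prime.coprime_iff_not_dvd hq).2 hqN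
    obtain ⟨P, hPN, hP, hPi, hgP⟩ := Coprime.exists_invariant_sylow' (A := Subgroup.zpowers g)
      (K := N) (by rw [Subgroup.normalizer_eq_top]; exact le_top) hco
      (Or.inl (Coprime.isSolvable_zpowers g)) p
    have hrel : (Subgroup.centralizer ({g} : Set G)).relIndex N ∣ p ^ k :=
      hk ▸ relIndex_dvd_index_of_normal_right _ N
    have hcop : (P.relIndex N).Coprime ((Subgroup.centralizer ({g} : Set G)).relIndex N) :=
      Nat.Coprime.coprime_dvd_right hrel
        (Nat.Coprime.pow_right _ ((Nat.Prime.coprime_iff_not_dvd hp).2 hPi).symm)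
    have hgP' : g ∈ Subgroup.normalizer (P : Set G) := hgP (Subgroup.mem_zpowers g)
    -- every commutator `[g, x]` lies in `P`
    have hcommP : ∀ x : G, g * x * g⁻¹ * x⁻¹ ∈ P := by
      intro x
      obtain ⟨n, hn, i, rfl⟩ := hdec x
      obtain ⟨a, ha, c, hc, rfl⟩ := forall_mul_of_coprime_relIndex hcop hn
      have hc' := mem_cent.1 hc.1
      have : g * (a * c * g ^ i) * g⁻¹ * (a * c * g ^ i)⁻¹ =
          (g * a * g⁻¹) * ((g * c) * (c * g)⁻¹) * a⁻¹ := by group
      rw [this, hc', mul_inv_cancel, mul_one]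
      exact P.mul_mem (conj_mem_of_mem_normalizer hgP' ha.1) (P.inv_mem ha.1)
    -- hence in the normal core of `P`
    have hcore : ∀ x : G, g * x * g⁻¹ * x⁻¹ ∈ P.normalCore := by
      intro x b
      have : b * (g * x * g⁻¹ * x⁻¹) * b⁻¹ =
          (g * b * g⁻¹ * b⁻¹)⁻¹ * (g * (b * x) * g⁻¹ * (b * x)⁻¹) := by group
      rw [this]
      exact P.mul_mem (P.inv_mem (hcommP b)) (hcommP _)
    have hNP : N ≤ P := (hK _ inferInstance hcore).trans P.normalCore_le
    have : Group.IsSolvable N := Coprime.isSolvable_of_isPGroup (hP.to_le hNP)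
    exact hN.ne_bot (hsol N inferInstance this)

/-- **Kazarin's theorem**: the normal closure of an element of prime power class size is
solvable. -/
theorem isSolvable_normalClosure_aux : ∀ (G : Type u) [Group G] [Finite G],
    ∀ (x : G) (p k : ℕ), p.Prime → (Subgroup.centralizer ({x} : Set G)).index ∣ p ^ k →
      Group.IsSolvable (Subgroup.normalClosure ({x} : Set G)) := by
  refine card_induction fun G _ _ ih => ?_
  intro x p k hp hk
  by_cases hsol : ∀ S : Subgroup G, S.Normal → Group.IsSolvable S → S = ⊥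
  swap
  · push Not at hsol
    obtain ⟨S, hSn, hSs, hS⟩ := hsol
    have h1 := ih (G ⧸ S) (card_quotient_lt hS) (x : G ⧸ S) p k hp
      ((index_cent_mk_dvd S x).trans hk)
    refine isSolvable_of_map_mk' S _ ?_
    rw [Subgroup.map_normalClosure _ _ (QuotientGroup.mk'_surjective S), Set.image_singleton]
    exact h1
  by_cases hx : x = 1
  · subst hx
    have : Subgroup.normalClosure ({1} : Set G) = ⊥ :=
      le_bot_iff.1 (Subgroup.normalClosure_le_normal (by simp))
    rw [this]
    infer_instance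
  exfalso
  have hpf : Fact p.Prime := ⟨hp⟩
  obtain ⟨q, hq, hqx⟩ := Nat.exists_prime_and_dvd (orderOf_eq_one_iff.not.2 hx)
  obtain ⟨m, hm⟩ := hqx
  set g := x ^ m with hgdef
  have hm0 : m ≠ 0 := by
    rintro rfl
    exact (orderOf_pos x).ne' (by simpa using hm)
  have hg : orderOf g = q := by
    rw [hgdef, orderOf_pow' _ hm0, hm, Nat.gcd_eq_right (Dvd.intro_left _ rfl),
      Nat.mul_div_cancel _ (Nat.pos_of_ne_zero hm0)]
  have hg1 : g ≠ 1 := by
    intro h
    rw [h, orderOf_one] at hg
    exact hq.one_lt.ne hg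
  have hgk : (Subgroup.centralizer ({g} : Set G)).index ∣ p ^ k :=
    (index_cent_pow_dvd x m).trans hk
  have hgmem : g ∈ Subgroup.normalClosure ({g} : Set G) :=
    Subgroup.subset_normalClosure (Set.mem_singleton g)
  have hcl : Subgroup.normalClosure ({g} : Set G) ≠ ⊥ := fun h => by
    rw [h, Subgroup.mem_bot] at hgmem
    exact hg1 hgmem
  by_cases hpq : p = q
  · subst hpq
    have h1 := isPGroup_normalClosure (x := g) (j := 1) (by rw [pow_one, ← hg, pow_orderOf_eq_one])
      hgk
    exact hcl (hsol _ inferInstance (Coprime.isSolvable_of_isPGroup h1))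
  obtain ⟨N, hN, hNle⟩ := exists_isMinNormal_le _ hcl
  have := hN.normal
  obtain ⟨j, -, hj⟩ := (Nat.dvd_prime_pow hp).1 hgk
  by_cases hsup : N ⊔ Subgroup.zpowers g = ⊤
  · exact kazarin_final hp hq hpq hN hg hj hsup hsol
  -- `g` does not centralize `N`
  have hgN : ¬ N ≤ Subgroup.centralizer ({g} : Set G) := by
    intro h
    have h1 : Subgroup.normalClosure ({g} : Set G) ≤ Subgroup.centralizer (N : Set G) :=
      Subgroup.normalClosure_le_normal (Set.singleton_subset_iff.2 (le_cent_iff.1 h))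
    have : IsMulCommutative N := Subgroup.le_centralizer_iff_isMulCommutative.1 (hNle.trans h1)
    exact hN.ne_bot (hsol N inferInstance (Coprime.isSolvable_of_isMulCommutative _))
  set H := N ⊔ Subgroup.zpowers g with hH
  have hgH : g ∈ H := Subgroup.mem_sup_right (Subgroup.mem_zpowers g)
  have hidx : (Subgroup.centralizer ({(⟨g, hgH⟩ : H)} : Set H)).index ∣ p ^ k := by
    rw [index_cent_subtype]
    show (Subgroup.centralizer ({g} : Set G)).relIndex (N ⊔ Subgroup.zpowers g) ∣ p ^ k
    rw [relIndex_sup_of_normal_of_le (zpowers_le_cent g)]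
    exact (relIndex_dvd_index_of_normal_right _ N).trans hgk
  have hR := ih H (card_lt_of_ne_top hsup) ⟨g, hgH⟩ p k hp hidx
  set R := Subgroup.normalClosure ({(⟨g, hgH⟩ : H)} : Set H) with hRdef
  have hRs : Group.IsSolvable (R.map H.subtype) := isSolvable_map' _ R
  have hT : Group.IsSolvable (R.map H.subtype ⊓ N : Subgroup G) := isSolvable_of_le' inf_le_left
  have hHR : H ≤ Subgroup.normalizer ((R.map H.subtype : Subgroup G) : Set G) :=
    le_normalizer_map_subtype R
  have hgR : g ∈ R.map H.subtype :=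
    ⟨⟨g, hgH⟩, Subgroup.subset_normalClosure (Set.mem_singleton _), rfl⟩
  have hTne : (R.map H.subtype ⊓ N : Subgroup G) ≠ ⊥ := by
    intro h
    refine hgN fun n hn => ?_
    have h1 : n * g * n⁻¹ * g⁻¹ ∈ (R.map H.subtype ⊓ N : Subgroup G) := by
      refine ⟨Subgroup.mul_mem _ (conj_mem_of_mem_normalizer (hHR (Subgroup.mem_sup_left hn)) hgR)
        (Subgroup.inv_mem _ hgR), ?_⟩
      have : n * g * n⁻¹ * g⁻¹ = n * (g * n⁻¹ * g⁻¹) := by group
      rw [this]
      exact N.mul_mem hn (Subgroup.Normal.conj_mem inferInstance _ (N.inv_mem hn) g)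
    rw [h, Subgroup.mem_bot] at h1
    rw [mem_cent]
    calc n * g = (n * g * n⁻¹ * g⁻¹) * g * n := by group
      _ = g * n := by rw [h1, one_mul]
  have hF := fitting_inf_ne_bot_of_solvable_normalized (N := N) inf_le_right
    (le_normalizer_inf (le_sup_left.trans hHR) Subgroup.le_normalizer) hTne
  have hFn := fitting_normal G
  have hFs : Group.IsSolvable (fittingSubgroup G) := by
    have := fitting_isNilpotent G
    infer_instance
  rw [hsol _ hFn hFs, bot_inf_eq] at hF
  exact hF rfl

/-- **Kazarin's theorem**. -/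
theorem isSolvable_normalClosure {G : Type*} [Group G] [Finite G] {x : G} {p k : ℕ}
    (hp : p.Prime) (hk : (Subgroup.centralizer ({x} : Set G)).index ∣ p ^ k) :
    Group.IsSolvable (Subgroup.normalClosure ({x} : Set G)) :=
  isSolvable_normalClosure_aux G x p k hp hk

end Cfsg.Lib.Solv.ClassSize
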