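import Cfsg.Agent.Solv.FpfThompson
import Cfsg.Agent.Solv.FrobeniusGroup
import Cfsg.Agent.Solv.FrobeniusComplement
import Cfsg.Agent.Solv.SchurZassenhaus
import Cfsg.Agent.Solv.CyclicP
import Cfsg.Agent.Solv.Nilpotent
import Cfsg.Agent.Inst.S0108
import Cfsg.Agent.Perm.GK

/-! # 2-Frobenius groups and solvable groups with disconnected prime graph -/

set_option autoImplicit false

namespace Cfsg.Lib.Solv.TwoFrob

open Subgroup Cfsg.Lib.Solv Cfsg.Lib.Perm
open scoped Pointwise commutatorElement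

universe u

variable {G : Type u} [Group G]

/-- `G = H C D` where `H C` and `C D` are Frobenius groups with kernels `H` and `C`. -/
structure TF (H C D : Subgroup G) : Prop where
  normal : H.Normal
  Hne : H ≠ ⊥
  Cne : C ≠ ⊥
  Dne : D ≠ ⊥
  sup : H ⊔ (C ⊔ D) = ⊤
  norm : D ≤ normalizer (C : Set G)
  fH : ∀ c ∈ C, c ≠ 1 → H ⊓ centralizer ({c} : Set G) = ⊥
  fC : ∀ y ∈ D, y ≠ 1 → C ⊓ centralizer ({y} : Set G) = ⊥

variable [Finite G]

omit [Finite G] in
theorem inf_normalizer_eq_bot {H C : Subgroup G} [H.Normal] (hC : C ≠ ⊥)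
    (fH : ∀ c ∈ C, c ≠ 1 → H ⊓ centralizer ({c} : Set G) = ⊥) :
    H ⊓ normalizer (C : Set G) = ⊥ := by
  obtain ⟨c, hc, hc1⟩ := (C.bot_or_exists_ne_one).resolve_left hC
  rw [eq_bot_iff, ← fH c hc hc1]
  rintro x ⟨hx, hxN⟩
  refine ⟨hx, mem_centralizer_singleton_iff.2 ?_⟩
  have hx' : x ∈ H := hx
  have h1 : x * c * x⁻¹ * c⁻¹ ∈ H ⊓ C := mem_inf.2 ⟨by
    have := Normal.conj_mem ‹H.Normal› _ (inv_mem hx') c
    simpa [mul_assoc] using mul_mem hx' this,
    mul_mem (conj_mem_of_mem_normalizer hxN hc) (inv_mem hc)⟩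
  rw [Fpf.inf_eq_bot fH, mem_bot, mul_inv_eq_one, mul_inv_eq_iff_eq_mul] at h1
  exact h1

/-- The Frattini argument for a Frobenius normal subgroup. -/
theorem sup_normalizer_eq_top {H C : Subgroup G} [H.Normal] [hK : (H ⊔ C).Normal]
    (hs : Group.IsSolvable H) (fH : ∀ c ∈ C, c ≠ 1 → H ⊓ centralizer ({c} : Set G) = ⊥) :
    H ⊔ normalizer (C : Set G) = ⊤ := by
  have hCH : C ≤ normalizer (H : Set G) := Fpf.le_normalizer_of_normal' H C
  rw [eq_top_iff]
  intro g _
  obtain ⟨k, hk, h⟩ := schur_zassenhaus_conj_ambient H C (MulAut.conj g • C) hCH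
    (Fpf.coprime_card hCH fH) (Or.inr hs)
    (conj_smul_le_iff.2 fun c hc => hK.conj_mem _ (mem_sup_right hc) g) (card_conj_smul g C)
  have : g = k * (k⁻¹ * g) := by group
  rw [this]
  refine mul_mem_sup hk (mem_normalizer_iff_conj_smul_eq.2 ?_)
  rw [conj_mul_smul, ← h, conj_inv_smul_conj_smul]

theorem odd_cyclic {H C : Subgroup G} (hCH : C ≤ normalizer (H : Set G)) (hH : H ≠ ⊥)
    (fH : ∀ c ∈ C, c ≠ 1 → H ⊓ centralizer ({c} : Set G) = ⊥) {y : G} {p : ℕ} (hp : p.Prime)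
    (hy : y ∈ normalizer (C : Set G)) (hyp : y ^ p = 1) (fy : C ⊓ centralizer ({y} : Set G) = ⊥) :
    Odd (Nat.card C) ∧ IsCyclic C := by
  have hodd : Odd (Nat.card C) := by
    by_contra h
    obtain ⟨s, hs⟩ := exists_prime_orderOf_dvd_card' (G := C) 2
      (even_iff_two_dvd.1 (Nat.not_odd_iff_even.1 h))
    have h1 : (s : G) ≠ 1 := fun h => by
      rw [show s = 1 from Subtype.ext h, orderOf_one] at hs; omega
    have h2 : (s : G) * s = 1 := by
      rw [← pow_two, ← hs]; exact congrArg Subtype.val (pow_orderOf_eq_one s)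
    refine h1 (Fpf.eq_one_of_conj_eq fy s.2 (Fpf.involution_unique hCH hH fH
      (conj_mem_of_mem_normalizer hy s.2) s.2 (by simpa using h1) h1 ?_ h2))
    calc y * s * y⁻¹ * (y * s * y⁻¹) = y * (s * s) * y⁻¹ := by group
      _ = 1 := by rw [h2]; group
  have := Fpf.isZGroup_of_odd hCH hH fH hodd
  have := Fpf.isNilpotent_of_prime hp hy hyp fy
  exact ⟨hodd, inferInstance⟩

/-- Construction of the 2-Frobenius data. -/
theorem exists_TF {H C : Subgroup G} [H.Normal] [hK : (H ⊔ C).Normal] (hH : H ≠ ⊥) (hC : C ≠ ⊥)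
    (hKt : H ⊔ C ≠ ⊤) (fH : ∀ c ∈ C, c ≠ 1 → H ⊓ centralizer ({c} : Set G) = ⊥)
    (fC : ∀ y ∈ normalizer (C : Set G), y ∉ C → C ⊓ centralizer ({y} : Set G) = ⊥) :
    ∃ D, TF H C D ∧ C ⊔ D = normalizer (C : Set G) := by
  have hs : Group.IsSolvable H := by
    have := Fpf.isNilpotent_kernel (Fpf.le_normalizer_of_normal' H C) hC fH
    infer_instance
  have h1 := sup_normalizer_eq_top hs fH
  obtain ⟨D, hD, h2, h3, -⟩ := exists_complement_ambient C (normalizer (C : Set G)) le_normalizer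
    le_rfl (by
      rw [← card_subgroupOf_of_le (le_normalizer (H := C))]
      refine coprime_card_index_of_centralizer_le fun x hx hx1 y hy => ?_
      by_contra h
      exact hx1 (Subtype.ext (Fpf.eq_one_of_commute (fC y y.2 h) hx
        (congrArg Subtype.val (mem_centralizer_singleton_iff.1 hy)).symm)))
  refine ⟨D, ⟨inferInstance, hH, hC, ?_, by rw [h2, h1], hD, fH, fun y hy hy1 => fC y (hD hy)
    fun h => hy1 (mem_bot.1 (h3.le_bot ⟨h, hy⟩))⟩, h2⟩
  rintro rfl
  rw [← h2, sup_bot_eq] at h1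
  exact hKt h1

namespace TF

variable {H C D : Subgroup G}

omit [Finite G] in
theorem CH (h : TF H C D) (X : Subgroup G) : X ≤ normalizer (H : Set G) :=
  have := h.normal
  Fpf.le_normalizer_of_normal' H X

theorem odd_cyclic (h : TF H C D) : Odd (Nat.card C) ∧ IsCyclic C := by
  obtain ⟨p, y, hp, hy, hy1, hyp⟩ := Fpf.exists_prime_order_mem h.Dne
  exact TwoFrob.odd_cyclic (h.CH C) h.Hne h.fH hp (h.norm hy) hyp (h.fC y hy hy1)

theorem nilH (h : TF H C D) : Group.IsNilpotent H := Fpf.isNilpotent_kernel (h.CH C) h.Cne h.fH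

omit [Finite G] in
theorem inf_eq_bot (h : TF H C D) : H ⊓ (C ⊔ D) = ⊥ :=
  have := h.normal
  le_bot_iff.1 ((inf_le_inf_left _ (sup_le le_normalizer h.norm)).trans
    (inf_normalizer_eq_bot h.Cne h.fH).le)

theorem fC' (h : TF H C D) {y : G} (hy : y ∈ C ⊔ D) (hyC : y ∉ C) :
    C ⊓ centralizer ({y} : Set G) = ⊥ := Fpf.fpf_of_notMem h.norm h.fC hy hyC

theorem fH' (h : TF H C D) {y : G} (hy : y ∈ H ⊔ C) (hyC : y ∉ H) :
    H ⊓ centralizer ({y} : Set G) = ⊥ := Fpf.fpf_of_notMem (h.CH C) h.fH hy hyC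

theorem commD (h : TF H C D) : IsMulCommutative D := by
  have := h.odd_cyclic.2
  obtain ⟨c, hc, hc1⟩ := (C.bot_or_exists_ne_one).resolve_left h.Cne
  refine PG.isMulCommutative_of_forall fun x hx y hy => ?_
  by_contra hne
  refine hc1 (Fpf.eq_one_of_commute (h.fC ⁅x, y⁆ (mul_mem (mul_mem (mul_mem hx hy) (inv_mem hx))
    (inv_mem hy)) fun h1 => hne (commutatorElement_eq_one_iff_mul_comm.1 h1)) hc ?_)
  exact PG.commutator_mem_centralizer_of_isCyclic (h.norm hx) (h.norm hy) c hc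

theorem cycD (h : TF H C D) : IsCyclic D :=
  have := h.commD
  Fpf.isCyclic_of_isMulCommutative h.norm h.Cne h.fC le_rfl

omit [Finite G] in
theorem normalK (h : TF H C D) : (H ⊔ C).Normal := by
  rw [← normalizer_eq_top_iff, eq_top_iff, ← h.sup, ← sup_assoc]
  exact sup_le le_normalizer (le_normalizer_sup (h.CH D) h.norm)

theorem K_inf_D (h : TF H C D) : (H ⊔ C) ⊓ D = ⊥ := by
  rw [eq_bot_iff]
  rintro x ⟨hx, hxD⟩
  obtain ⟨a, ha, c, hc, rfl⟩ := (mem_sup_of_le_normalizer (h.CH C)).1 hx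
  have h1 : a ∈ H ⊓ (C ⊔ D) := ⟨ha, by
    simpa using mul_mem (mem_sup_right hxD) (inv_mem (mem_sup_left hc : c ∈ C ⊔ D))⟩
  rw [h.inf_eq_bot, mem_bot] at h1
  rw [h1, one_mul] at hxD ⊢
  exact (Fpf.inf_eq_bot h.fC).le ⟨hc, hxD⟩

theorem isComplement'_K (h : TF H C D) : IsComplement' (H ⊔ C) D :=
  have := h.normalK
  Fpf.isComplement'_of_normal h.K_inf_D (by rw [sup_assoc, h.sup])

theorem isComplement'_H (h : TF H C D) : IsComplement' H (C ⊔ D) :=
  have := h.normal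
  Fpf.isComplement'_of_normal h.inf_eq_bot h.sup

theorem card_eq (h : TF H C D) : Nat.card G = Nat.card H * Nat.card C * Nat.card D := by
  rw [← h.isComplement'_K.card_mul_card, card_sup_of_disjoint_of_le_normalizer (h.CH C)
    (Fpf.inf_eq_bot h.fH)]

theorem index_K (h : TF H C D) : (H ⊔ C).index = Nat.card D := h.isComplement'_K.symm.index_eq_card

omit [Finite G] in
theorem relIndex_H (h : TF H C D) : H.relIndex (H ⊔ C) = Nat.card C := by
  rw [PG.relIndex_sup_of_le_normalizer (h.CH C), ← inf_relIndex_right, Fpf.inf_eq_bot h.fH,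
    relIndex_bot_left]

theorem solvable (h : TF H C D) : Group.IsSolvable G := by
  have := h.nilH
  have := h.odd_cyclic.2
  have := h.cycD
  have h1 := Fpf.isSolvable_sup_of_le_normalizer (h.CH (C ⊔ D)) inferInstance
    (Fpf.isSolvable_sup_of_le_normalizer h.norm (Coprime.isSolvable_of_isMulCommutative _)
      (Coprime.isSolvable_of_isMulCommutative _))
  rw [h.sup] at h1
  exact Group.isSolvable_of_surjective (f := (⊤ : Subgroup G).subtype) fun x => ⟨⟨x, trivial⟩, rfl⟩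

/-- Each element of `D` centralizes an element of order `p` for each prime `p` dividing `|H|`. -/
theorem exists_commute (h : TF H C D) {p : ℕ} (hp : p.Prime) (hpH : p ∣ Nat.card H) {y : G}
    (hy : y ∈ D) : ∃ v ∈ H, orderOf v = p ∧ Commute v y := by
  have := h.normal
  have := Fact.mk hp
  have hn := h.nilH
  obtain ⟨P⟩ : Nonempty (Sylow p H) := inferInstance
  have : (P : Subgroup H).Characteristic := Sylow.characteristic_of_normal P inferInstance
  have : ((P : Subgroup H).map H.subtype).Normal := normal_map_subtype_of_char _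
  have hP := P.isPGroup'.map H.subtype
  obtain ⟨N, hN, hNP⟩ := exists_isMinNormal_le ((P : Subgroup H).map H.subtype)
    (by rw [Ne, map_eq_bot_iff_of_injective _ H.subtype_injective]; exact P.ne_bot_of_dvd_card hpH)
  obtain ⟨_, hNp⟩ := hN.elementary_of_isPGroup (hP.to_le hNP)
  have := hN.normal
  have hNH : N ≤ H := hNP.trans (map_subtype_le _)
  have h1 : N ⊓ centralizer (D : Set G) ≠ ⊥ := fun h0 => by
    have := Fpf.le_centralizer_of_frobenius (Fpf.le_normalizer_of_normal' N C)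
      (Fpf.le_normalizer_of_normal' N D) h.norm h.fC
      ((Fpf.coprime_card (h.CH C) h.fH).symm.coprime_dvd_left (card_dvd_of_le hNH)) h0
    obtain ⟨c, hc, hc1⟩ := (C.bot_or_exists_ne_one).resolve_left h.Cne
    refine hN.ne_bot (le_bot_iff.1 ((le_inf hNH fun v hv => ?_).trans (h.fH c hc hc1).le))
    exact mem_centralizer_singleton_iff.2 (this hv c hc).symm
  obtain ⟨v, hv, hv1⟩ := (Subgroup.bot_or_exists_ne_one _).resolve_left h1
  exact ⟨v, hNH hv.1, orderOf_eq_prime (hNp v hv.1) hv1, (hv.2 y hy).symm⟩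

/-- If `y ∈ D` has prime order `p` dividing `|H|`, some element of `H y` has order not `p`. -/
theorem exists_pow_ne_one (h : TF H C D) {y : G} (hy : y ∈ D) (hy1 : y ≠ 1) :
    ∃ v ∈ H, (v * y) ^ orderOf y ≠ 1 := by
  by_contra hcon
  push Not at hcon
  have := h.nilH
  have := GK.le_centralizer_of_pow_eq_one (P := H) (F := C) (h.CH C) (h.CH ⊤ trivial) (h.norm hy)
    (orderOf_pos y) hcon (fun i hi hi' => h.fC _ (pow_mem hy i)
      (pow_ne_one_of_lt_orderOf hi.ne' hi')) (Fpf.coprime_card (h.CH C) h.fH)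
  obtain ⟨c, hc, hc1⟩ := (C.bot_or_exists_ne_one).resolve_left h.Cne
  refine h.Hne (le_bot_iff.1 ((le_inf le_rfl fun v hv => ?_).trans (h.fH c hc hc1).le))
  exact mem_centralizer_singleton_iff.2 (this hv c hc).symm

omit [Finite G] in
theorem map_sup (h : TF H C D) [H.Normal] :
    (H ⊔ C).map (QuotientGroup.mk' H) = C.map (QuotientGroup.mk' H) := by
  rw [Subgroup.map_sup, QuotientGroup.map_mk'_self, bot_sup_eq]

/-- The statement form of a 2-Frobenius group. -/
theorem twoFrobenius (h : TF H C D) [H.Normal] : H < H ⊔ C ∧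
    (∃ C' : Subgroup ↥(H ⊔ C), IsFrobeniusComplement C' ∧
      frobeniusKernel C' = (H.subgroupOf (H ⊔ C) : Set ↥(H ⊔ C))) ∧
    ∃ C' : Subgroup (G ⧸ H), IsFrobeniusComplement C' ∧
      frobeniusKernel C' = ((H ⊔ C).map (QuotientGroup.mk' H) : Set (G ⧸ H)) := by
  have hne : ∀ {X : Subgroup G}, X ≤ C ⊔ D → X ≠ ⊥ → ¬ X ≤ H := fun hX h0 h1 =>
    h0 (le_bot_iff.1 ((le_inf h1 hX).trans h.inf_eq_bot.le))
  refine ⟨left_lt_sup.2 (hne le_sup_left h.Cne),
    ⟨_, Fpf.isFrobeniusComplement_subgroupOf_sup (h.CH C) h.Hne h.Cne h.fH,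
      Fpf.frobeniusKernel_subgroupOf_sup (h.CH C) h.fH⟩, D.map (QuotientGroup.mk' H), ?_⟩
  have := h.normalK
  have : ((H ⊔ C).map (QuotientGroup.mk' H)).Normal :=
    Normal.map inferInstance _ (QuotientGroup.mk'_surjective H)
  refine Fpf.frobenius_of_fpf ?_ ?_ ?_ ?_
  · rw [← Subgroup.map_sup, sup_assoc, h.sup, map_top_of_surjective _ (QuotientGroup.mk'_surjective H)]
  · rw [h.map_sup, Ne, Subgroup.map_eq_bot_iff, QuotientGroup.ker_mk']; exact hne le_sup_left h.Cne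
  · rw [Ne, Subgroup.map_eq_bot_iff, QuotientGroup.ker_mk']; exact hne le_sup_right h.Dne
  · rw [h.map_sup]; exact Fpf.fpf_map _ h.norm h.fC

end TF

theorem exists_TF_of_twoFrobenius {H K : Subgroup G} [H.Normal] [K.Normal] (hlt : H < K)
    (hK : ∃ C : Subgroup K, IsFrobeniusComplement C ∧ frobeniusKernel C = (H.subgroupOf K : Set K))
    (hGH : ∃ C : Subgroup (G ⧸ H), IsFrobeniusComplement C ∧
      frobeniusKernel C = (K.map (QuotientGroup.mk' H) : Set (G ⧸ H))) :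
    ∃ C D, TF H C D ∧ H ⊔ C = K := by
  obtain ⟨C₀, h1, h2⟩ := hK
  obtain ⟨C₁, h3, h4⟩ := hGH
  obtain ⟨-, a1, a2, a3, -⟩ := Fpf.of_coe_eq h1 h2
  obtain ⟨-, -, b2, -, b4⟩ := Fpf.of_coe_eq h3 h4
  set C := C₀.map K.subtype with hC
  have hsup : H ⊔ C = K := by
    rw [← map_subgroupOf_eq_of_le hlt.le, hC, ← Subgroup.map_sup, a2.sup_eq_top,
      ← MonoidHom.range_eq_map, range_subtype]
  have fH : ∀ c ∈ C, c ≠ 1 → H ⊓ centralizer ({c} : Set G) = ⊥ := by
    rintro _ ⟨c, hc, rfl⟩ hc1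
    rw [Fpf.inf_centralizer_eq_bot_iff]
    intro k hk hkc
    exact congrArg Subtype.val (Fpf.eq_one_of_commute (a3 c hc fun h => hc1 (by rw [h]; rfl))
      (k := ⟨k, hlt.le hk⟩) hk (Subtype.ext hkc))
  have hC0 : C ≠ ⊥ := by
    rw [hC, Ne, map_eq_bot_iff_of_injective _ K.subtype_injective]; exact h1.1
  clear_value C
  clear h1 h2 a2 a3
  subst hsup
  have hN := inf_normalizer_eq_bot hC0 fH
  obtain ⟨D, hD, -⟩ := exists_TF (H := H) (C := C)
    (by rintro rfl; exact a1 (bot_subgroupOf _)) hC0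
    (fun h => by
      rw [h, map_top_of_surjective _ (QuotientGroup.mk'_surjective H)] at b2
      exact h3.1 (isComplement'_top_left.1 b2)) fH fun y hy hyC => by
      have := b4 (y : G ⧸ H) fun hm => hyC (by
        rw [← QuotientGroup.mk'_apply, ← mem_comap, comap_map_eq, QuotientGroup.ker_mk',
          sup_eq_left.2 le_sup_left] at hm
        obtain ⟨a, ha, c, hc, rfl⟩ := (mem_sup_of_le_normalizer
          (Fpf.le_normalizer_of_normal' H C)).1 hm
        have h5 : a ∈ H ⊓ normalizer (C : Set G) :=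
          ⟨ha, by simpa using mul_mem hy (inv_mem (le_normalizer hc))⟩
        rw [hN, mem_bot] at h5
        rwa [h5, one_mul])
      rw [Fpf.inf_centralizer_eq_bot_iff] at this ⊢
      intro k hk hky
      have h5 := this k (mem_map_of_mem _ (mem_sup_right hk)) (by
        rw [← QuotientGroup.mk_mul, hky, QuotientGroup.mk_mul])
      exact mem_bot.1 ((Fpf.inf_eq_bot fH).le ⟨(QuotientGroup.eq_one_iff k).1 h5, hk⟩)
  exact ⟨C, D, hD, rfl⟩

/-- No element has order the product of a prime in `π` and a prime outside `π`. -/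
def PSep (π : Set ℕ) (G : Type u) [Group G] : Prop :=
  ∀ a ∈ π, ∀ b ∉ π, a.Prime → b.Prime → ¬ ∃ g : G, orderOf g = a * b

omit [Finite G] in
theorem PSep.compl {π : Set ℕ} (h : PSep π G) : PSep πᶜ G := fun a ha b hb hap hbp => by
  rw [mul_comm]; exact h b (by simpa using hb) a ha hbp hap

theorem PSep.fpf {π : Set ℕ} (h : PSep π G) {H : Subgroup G} (hH : IsPiNum π (Nat.card H)) {x : G}
    (hx : ¬ IsPiNum π (orderOf x)) : H ⊓ centralizer ({x} : Set G) = ⊥ := by
  rw [Fpf.inf_centralizer_eq_bot_iff]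
  intro k hk hkx
  by_contra hk1
  obtain ⟨a, ha, hak⟩ := Nat.exists_prime_and_dvd (mt orderOf_eq_one_iff.1 hk1)
  unfold IsPiNum at hx
  push Not at hx
  obtain ⟨b, hb, hbx, hbπ⟩ := hx
  have haπ := hH.orderOf_of_mem hk a ha hak
  exact h a haπ b hbπ ha hb (GK.exists_orderOf_mul_of_commute ha hb
    (by rintro rfl; exact hbπ haπ) hak hbx hkx)

omit [Finite G] in
theorem not_isPiNum_of_ne_one {π : Set ℕ} {x : G} (hx : IsPiNum πᶜ (orderOf x)) (h1 : x ≠ 1) :
    ¬ IsPiNum π (orderOf x) := fun h => h1 (orderOf_eq_one_iff.1 (h.eq_one hx))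

theorem exists_piCore_ne_bot [Group.IsSolvable G] [Nontrivial G] (π : Set ℕ) :
    piCore π G ≠ ⊥ ∨ piCore πᶜ G ≠ ⊥ := by
  obtain ⟨p, N, hp, hN, -, -, hNp⟩ := exists_isMinNormal_elementary G
  have := Fact.mk hp
  by_cases h : p ∈ π
  · exact Or.inl fun h0 => hN.ne_bot (piCore_eq_bot_iff.1 h0 N hN.normal
      (isPiNum_card_of_isPGroup h hNp))
  · exact Or.inr fun h0 => hN.ne_bot (piCore_eq_bot_iff.1 h0 N hN.normal
      (isPiNum_card_of_isPGroup h hNp))

/-- Structure of a solvable group with disconnected prime graph. -/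
theorem PSep.structure [Group.IsSolvable G] {π : Set ℕ} (h : PSep π G) (h0 : piCore π G ≠ ⊥)
    (h1 : ¬ IsPiNum π (Nat.card G)) :
    ∃ C : Subgroup G, C ≠ ⊥ ∧ IsPiNum πᶜ (Nat.card C) ∧
      (∀ c ∈ C, c ≠ 1 → piCore π G ⊓ centralizer ({c} : Set G) = ⊥) ∧
      (piCore π G ⊔ C = ⊤ ∨ ∃ D, TF (piCore π G) C D ∧ IsPiNum π (Nat.card D)) := by
  set H := piCore π G with hH
  have hHπ : IsPiNum π (Nat.card H) := isPiNum_card_piCore π G
  have hHt : H ≠ ⊤ := fun h => h1 (piCore_eq_top_iff.1 h)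
  have : Nontrivial (G ⧸ H) := QuotientGroup.nontrivial_iff.2 hHt
  set K := (piCore πᶜ (G ⧸ H)).comap (QuotientGroup.mk' H) with hK
  have hHK : H ≤ K := QuotientGroup.le_comap_mk' _ _
  have hKm : K.map (QuotientGroup.mk' H) = piCore πᶜ (G ⧸ H) :=
    map_comap_eq_self_of_surjective (QuotientGroup.mk'_surjective H) _
  have hri : IsPiNum πᶜ (H.relIndex K) := by
    rw [← card_map_mk', hKm]; exact isPiNum_card_piCore _ _
  obtain ⟨C, hCK, hsup, hd, hc⟩ := exists_complement_ambient H K hHK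
    (Fpf.le_normalizer_of_normal' H K) (hHπ.coprime hri)
  have hCπ : IsPiNum πᶜ (Nat.card C) := hc ▸ hri
  have hC0 : C ≠ ⊥ := by
    rintro rfl
    rw [sup_bot_eq] at hsup
    rw [← hsup, QuotientGroup.map_mk'_self] at hKm
    exact (exists_piCore_ne_bot π).resolve_left (fun h => h (piCore_quotient_piCore π G)) hKm.symm
  have fH : ∀ c ∈ C, c ≠ 1 → H ⊓ centralizer ({c} : Set G) = ⊥ := fun c hc hc1 =>
    h.fpf hHπ (not_isPiNum_of_ne_one (hCπ.orderOf_of_mem hc) hc1)
  refine ⟨C, hC0, hCπ, fH, ?_⟩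
  by_cases ht : H ⊔ C = ⊤
  · exact Or.inl ht
  right
  have hKn : (H ⊔ C).Normal := by rw [hsup]; infer_instance
  set M := normalizer (C : Set G) with hM
  have hHM : H ⊔ M = ⊤ := sup_normalizer_eq_top inferInstance fH
  have hHM' : H ⊓ M = ⊥ := inf_normalizer_eq_bot hC0 fH
  have hmax : ∀ X : Subgroup G, X ≤ M → M ≤ normalizer (X : Set G) → IsPiNum πᶜ (Nat.card X) →
      X ≤ C := fun X hX hMX hXπ => by
    have h2 : (X.map (QuotientGroup.mk' H)).Normal := by
      rw [← normalizer_eq_top_iff, eq_top_iff,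
        ← map_top_of_surjective _ (QuotientGroup.mk'_surjective H), ← hHM, Subgroup.map_sup,
        QuotientGroup.map_mk'_self, bot_sup_eq]
      exact (map_mono hMX).trans (le_normalizer_map _)
    have h3 : X ≤ (H ⊔ C) ⊓ M := le_inf
      (hsup ▸ map_le_iff_le_comap.1 (le_piCore h2 (hXπ.card_map _))) hX
    rwa [sup_inf_assoc_of_le_normalizer' (Fpf.le_normalizer_of_normal' H C) le_normalizer, hHM',
      bot_sup_eq] at h3
  obtain ⟨a, ha, haM, haπ⟩ : ∃ a : ℕ, a.Prime ∧ a ∣ Nat.card M ∧ a ∈ π := by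
    by_contra hcon
    push Not at hcon
    exact ht (top_le_iff.1 (hHM.ge.trans (sup_le_sup_left (hmax M le_rfl le_normalizer hcon) H)))
  have := Fact.mk ha
  obtain ⟨y, hy⟩ := exists_prime_orderOf_dvd_card' a haM
  have fC : ∀ x : G, ¬ IsPiNum πᶜ (orderOf x) → C ⊓ centralizer ({x} : Set G) = ⊥ := fun x hx =>
    h.compl.fpf hCπ hx
  obtain ⟨-, hcyc⟩ := odd_cyclic (Fpf.le_normalizer_of_normal' H C) h0 fH ha y.2
    (by rw [← hy]; exact congrArg Subtype.val (pow_orderOf_eq_one y))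
    (fC y fun h2 => h2 a ha (by rw [orderOf_coe, hy]) haπ)
  obtain ⟨c, hc, hc1⟩ := (C.bot_or_exists_ne_one).resolve_left hC0
  have hcent : M ⊓ centralizer (C : Set G) ≤ C := hmax _ inf_le_left
    (le_normalizer_inf_centralizer le_normalizer le_rfl)
    (isPiNum_card_subgroup_iff_orderOf.2 fun x hx => by
      by_contra h2
      exact hc1 (Fpf.eq_one_of_commute (fC x h2) hc (hx.2 c hc)))
  have hout : ∀ x ∈ M, IsPiNum πᶜ (orderOf x) → x ∈ C := fun x hx hxπ => by
    refine hmax (C ⊔ zpowers x) (sup_le le_normalizer (zpowers_le.2 hx))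
      (PG.le_normalizer_sup_zpowers le_rfl fun s hs => hcent ⟨?_, ?_⟩)
      (hCπ.card_sup (by rwa [Nat.card_zpowers]) (zpowers_le.2 hx)) (mem_sup_right (mem_zpowers x))
    · exact M.mul_mem (M.mul_mem (M.mul_mem hx hs) (M.inv_mem hx)) (M.inv_mem hs)
    · exact PG.commutator_mem_centralizer_of_isCyclic hx hs
  obtain ⟨D, hD, hDM⟩ := exists_TF h0 hC0 ht fH fun y hy hyC => fC y fun h2 => hyC (hout y hy h2)
  refine ⟨D, hD, fun b hb hbD => ?_⟩
  by_contra hbπ
  have := Fact.mk hb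
  obtain ⟨z, hz⟩ := exists_prime_orderOf_dvd_card' b hbD
  have h2 : (z : G) ∈ C := hout z (hD.norm z.2) (by
    rw [orderOf_coe, hz]; simpa using IsPiNum.prime_pow (π := πᶜ) hb hbπ 1)
  have h3 : z = 1 := Subtype.ext (mem_bot.1 ((Fpf.inf_eq_bot hD.fC).le ⟨h2, z.2⟩))
  rw [h3, orderOf_one] at hz
  exact hb.one_lt.ne hz

end Cfsg.Lib.Solv.TwoFrob
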