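import Mathlib
import Cfsg.Agent.FT.BG4.Huppert
import Cfsg.Agent.FT.BG4.Blackburn
import Cfsg.Agent.Solv.MetacyclicP
import Cfsg.Agent.Trans.MaxClass

/-!
# `p`-groups with a normal subgroup of type `(p, p)`, `p` odd

* `isMetacyclic_of_index_mho_le`: Huppert's criterion `|G : ℧₁(G)| ≤ p ^ 2` for odd `p`.
* `inv_mul_pow_eq_one_of_central`: fibres of the `p`-th power map when `Ω₁` is central.
* `comm_mem_or`: the dichotomy used for Blackburn's classification of groups of rank two.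
-/

set_option autoImplicit false

namespace Cfsg.Lib.Solv.R2

open Subgroup Cfsg.Lib.FT Cfsg.Lib.FT.BG4
open scoped commutatorElement Pointwise

universe u

variable {p : ℕ} [hp : Fact p.Prime]

/-- Huppert's criterion for odd `p`. -/
theorem isMetacyclic_of_index_mho_le {R : Type u} [Group R] [Finite R] (hp2 : p ≠ 2)
    (hR : IsPGroup p R) (hO : (powerClosure p 1 (⊤ : Subgroup R)).index ≤ p ^ 2) :
    IsMetacyclic R := by
  set D := _root_.commutator R with hD
  let T : Subgroup R := (frattini D).map D.subtype ⊔ ⁅D, ⊤⁆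
  have hDp := hR.to_subgroup D
  have hTD : T ≤ D := sup_le (map_subtype_le _) (commutator_le_left _ _)
  let f := QuotientGroup.mk' T
  have hf : Function.Surjective f := QuotientGroup.mk'_surjective T
  have hker : f.ker = T := QuotientGroup.ker_mk' T
  have hmap : D.map f = _root_.commutator (R ⧸ T) := by
    show Subgroup.map f ⁅(⊤ : Subgroup R), (⊤ : Subgroup R)⁆ = ⁅(⊤ : Subgroup (R ⧸ T)), ⊤⁆
    rw [map_commutator, map_top_of_surjective f hf]
  have hcl : ⁅_root_.commutator (R ⧸ T), (⊤ : Subgroup (R ⧸ T))⁆ = ⊥ := by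
    rw [← hmap, ← map_top_of_surjective f hf, ← map_commutator, Subgroup.map_eq_bot_iff, hker]
    exact le_sup_right
  have hder : ∀ c ∈ _root_.commutator (R ⧸ T), c ^ p = 1 := by
    rw [← hmap]
    rintro _ ⟨c, hc, rfl⟩
    rw [← map_pow, ← MonoidHom.mem_ker, hker]
    exact mem_sup_left (pow_mem_map_frattini hDp hc)
  have hQ : IsMetacyclic (R ⧸ T) := by
    refine isMetacyclic_of_class_two hp2 (hR.to_quotient T) ?_ hcl hder
    let φ := powHom (⊤ : Subgroup (R ⧸ T)) p fun x _ y _ =>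
      Trans.mul_pow_prime_of_class_two hp.out hp2 hcl hder x y
    have h1 : omegaOne p (⊤ : Subgroup (R ⧸ T)) ≤ φ.ker.map (⊤ : Subgroup (R ⧸ T)).subtype :=
      PG.omegaOne_le_iff.2 fun x _ hx => ⟨⟨x, mem_top x⟩, hx, rfl⟩
    have h2 : (powerClosure p 1 (⊤ : Subgroup R)).map f ≤ φ.range := by
      rw [PG.map_powerClosure]
      refine PG.powerClosure_le_iff.2 fun x _ => ⟨⟨x, mem_top x⟩, ?_⟩
      rw [pow_one]; rfl
    have e1 := φ.ker.index_mul_card
    have e2 := φ.range.index_mul_card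
    rw [index_ker, card_top, ← e2, mul_comm] at e1
    refine (card_le_of_le h1).trans ?_
    rw [card_map_subtype, Nat.eq_of_mul_eq_mul_right Nat.card_pos e1]
    refine (Nat.le_of_dvd (Nat.pos_of_ne_zero index_ne_zero_of_finite)
      ((index_dvd_of_le h2).trans (index_map_dvd _ hf))).trans hO
  obtain ⟨a, b, hN, hab⟩ := isMetacyclic_iff.1 hQ
  obtain ⟨a, rfl⟩ := hf a
  obtain ⟨b, rfl⟩ := hf b
  have h1 : _root_.commutator (R ⧸ T) ≤ zpowers (f a) :=
    Metacyclic.der_le_of_sup_abelian le_normalizer_of_normal (abelian_zpowers _) hab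
  have h2 : _root_.commutator (R ⧸ T) ≤ zpowers (f a ^ p) := by
    by_contra h
    have e1 := mem_of_le_zpowers (hR.to_quotient T) h1 h
    have e2 : D.map f ≤ centralizer (((⊤ : Subgroup R).map f : Subgroup _) : Set _) := by
      rw [← commG1P, ← map_commutator, Subgroup.map_eq_bot_iff, hker]
      exact le_sup_right
    rw [hmap, map_top_of_surjective f hf] at e2
    have e3 : IsMulCommutative (⊤ : Subgroup (R ⧸ T)) := by
      rw [← hab]
      exact abelianY (abelian_zpowers _) (abelian_zpowers _)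
        (centsC.1 ((zpowers_le.2 (e2 e1)).trans (centS le_top)))
    exact h ((abelian_iff_der.1 e3).le.trans bot_le)
  let K := (zpowers (f a)).comap f
  have hKn : K.Normal := hN.comap f
  have hK : K = zpowers a ⊔ T := by
    rw [← hker, ← comap_map_eq, MonoidHom.map_zpowers]
  have hKp := hR.to_subgroup K
  have haK : a ∈ K := mem_zpowers (f a)
  have hDK : D ≤ K := map_le_iff_le_comap.1 (hmap ▸ h1)
  have h3 : D ≤ (frattini K).map K.subtype := by
    refine PG.le_of_le_sup_commutator (pgroup_nil (hR.to_subgroup ⊤)) le_top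
      le_normalizer_of_normal ?_
    have e1 : D ≤ zpowers (a ^ p) ⊔ T := by
      rw [← hker, ← comap_map_eq, MonoidHom.map_zpowers, ← map_le_iff_le_comap, hmap, map_pow]
      exact h2
    refine e1.trans (sup_le ?_ (sup_le_sup_right (map_frattini_mono hKp hDK) _))
    exact (zpowers_le.2 (pow_mem_map_frattini hKp haK)).trans le_sup_left
  have h4 : zpowers a = K := Coprime.eq_of_frattini_sup_eq (zpowers_le.2 haK)
    (le_antisymm (sup_le (map_subtype_le _) (zpowers_le.2 haK))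
      (hK.le.trans (sup_le le_sup_right ((hTD.trans h3).trans le_sup_left))))
  refine isMetacyclic_iff.2 ⟨a, b, h4 ▸ hKn, ?_⟩
  have e1 : (zpowers a ⊔ zpowers b) ⊔ T = ⊤ := by
    rw [← hker, ← comap_map_eq, Subgroup.map_sup, MonoidHom.map_zpowers, MonoidHom.map_zpowers, hab,
      comap_top]
  rw [← e1]
  exact (sup_eq_left.2 ((hTD.trans hDK).trans (h4.ge.trans le_sup_left))).symm

variable {G : Type u} [Group G]

/-- fibres of the `p`-th power map when the elements of order `p` are central -/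
theorem inv_mul_pow_eq_one_of_central [Finite G] (hp2 : p ≠ 2) (hG : IsPGroup p G)
    (h : ∀ x : G, x ^ p = 1 → x ∈ center G) {x y : G} (hxy : x ^ p = y ^ p) :
    (x⁻¹ * y) ^ p = 1 := by
  suffices ∀ H : Subgroup G, ∀ x ∈ H, ∀ y ∈ H, x ^ p = y ^ p → (x⁻¹ * y) ^ p = 1 from
    this ⊤ x (mem_top x) y (mem_top y) hxy
  intro H
  induction H using WellFoundedLT.induction with
  | ind H ih =>
    intro x hx y hy hxy
    have h1 := Reg.aux_pow_eq_one hG (u := x⁻¹) (v := y) (fun M hM => ih M (hM.trans_le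
      (closure_pair_le.mpr ⟨H.inv_mem hx, hy⟩))) (by
        rw [inv_pow, hxy]; exact (Commute.pow_self y p).inv_left) ⁅y, x⁻¹⁆
      (commutator_mem_commutator (right_mem_closure_pair _ _) (left_mem_closure_pair _ _))
    have h2 := mem_center_iff.1 (h _ h1)
    rw [Trans.mul_pow_of_odd_of_commutator_pow_eq_one (h2 _).symm (h2 _).symm
      (hp.out.odd_of_ne_two hp2) h1, inv_pow, hxy, inv_mul_cancel]

omit hp in
theorem card_le_and_surj [Finite G] {A T U : Subgroup G} (hTA : T ≤ A)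
    (hfib : ∀ x ∈ A, ∀ y ∈ A, x ^ p = y ^ p → x⁻¹ * y ∈ T) (hU : ∀ x ∈ A, x ^ p ∈ U) :
    Nat.card A ≤ Nat.card U * Nat.card T ∧
      (Nat.card U * Nat.card T ≤ Nat.card A → ∀ u ∈ U, ∃ a ∈ A, a ^ p = u) := by
  let f : A ⧸ T.subgroupOf A → U := fun q => ⟨(q.out : G) ^ p, hU _ q.out.2⟩
  have hf : Function.Injective f := fun q r h => by
    rw [← q.out_eq, ← r.out_eq]
    exact QuotientGroup.eq.2 (hfib _ q.out.2 _ r.out.2 (congrArg Subtype.val h))
  have h1 : Nat.card (A ⧸ T.subgroupOf A) * Nat.card T = Nat.card A := PG.relIndex_mul_card hTA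
  refine ⟨h1 ▸ Nat.mul_le_mul_right _ (Nat.card_le_card_of_injective f hf), fun h u hu => ?_⟩
  rw [← h1] at h
  have h2 := Nat.le_of_mul_le_mul_right h Nat.card_pos
  obtain ⟨q, hq⟩ := (hf.bijective_of_nat_card_le h2).2 ⟨u, hu⟩
  exact ⟨_, q.out.2, congrArg Subtype.val hq⟩

omit hp in
theorem conj_pow_eq {s a t z : G} (h1 : s⁻¹ * a * s = a * t) (h2 : s⁻¹ * t * s = t * z)
    (h3 : Commute s z) (htz : Commute t z) (k : ℕ) :
    (s ^ k)⁻¹ * t * s ^ k = t * z ^ k ∧
      (s ^ k)⁻¹ * a * s ^ k = a * t ^ k * z ^ k.choose 2 := by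
  have h3' : ∀ m : ℕ, s⁻¹ * z ^ m * s = z ^ m := fun m => by
    rw [mul_assoc, ← (h3.pow_right m).eq, inv_mul_cancel_left]
  have h2' : ∀ m : ℕ, s⁻¹ * t ^ m * s = t ^ m * z ^ m := fun m => by
    rw [← htz.mul_pow, ← h2]
    simpa using (conj_pow (a := s⁻¹) (b := t) (i := m)).symm
  induction k with
  | zero => simp
  | succ k ih =>
    constructor
    · calc (s ^ (k + 1))⁻¹ * t * s ^ (k + 1) = s⁻¹ * ((s ^ k)⁻¹ * t * s ^ k) * s := by
            rw [pow_succ]; group
        _ = (s⁻¹ * t * s) * (s⁻¹ * z ^ k * s) := by rw [ih.1]; group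
        _ = t * z ^ (k + 1) := by rw [h2, h3', pow_succ', mul_assoc]
    · calc (s ^ (k + 1))⁻¹ * a * s ^ (k + 1) = s⁻¹ * ((s ^ k)⁻¹ * a * s ^ k) * s := by
            rw [pow_succ]; group
        _ = (s⁻¹ * a * s) * (s⁻¹ * t ^ k * s) * (s⁻¹ * z ^ k.choose 2 * s) := by
            rw [ih.2]; group
        _ = a * t ^ (k + 1) * z ^ (k + 1).choose 2 := by
            rw [h1, h2', h3', Nat.choose_succ_succ' k 1, Nat.choose_one_right, pow_add z, pow_succ' t]
            simp only [mul_assoc]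

omit hp in
theorem mul_pow_eq {s a t z : G} (h1 : s⁻¹ * a * s = a * t) (h2 : s⁻¹ * t * s = t * z)
    (h3 : Commute s z) (hat : Commute a t) (haz : Commute a z) (htz : Commute t z) (n : ℕ) :
    (s * a) ^ n = s ^ n * a ^ n * t ^ n.choose 2 * z ^ n.choose 3 := by
  have h3' : ∀ m : ℕ, s⁻¹ * z ^ m * s = z ^ m := fun m => by
    rw [mul_assoc, ← (h3.pow_right m).eq, inv_mul_cancel_left]
  have h2' : ∀ m : ℕ, s⁻¹ * t ^ m * s = t ^ m * z ^ m := fun m => by
    rw [← htz.mul_pow, ← h2]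
    simpa using (conj_pow (a := s⁻¹) (b := t) (i := m)).symm
  have h1' : ∀ m : ℕ, s⁻¹ * a ^ m * s = a ^ m * t ^ m := fun m => by
    rw [← hat.mul_pow, ← h1]
    simpa using (conj_pow (a := s⁻¹) (b := a) (i := m)).symm
  induction n with
  | zero => simp
  | succ n ih =>
    calc (s * a) ^ (n + 1) = s ^ n * s * ((s⁻¹ * a ^ n * s) * (s⁻¹ * t ^ n.choose 2 * s) *
          (s⁻¹ * z ^ n.choose 3 * s) * a) := by rw [pow_succ, ih]; group
      _ = _ := by
        rw [h1', h2', h3', Nat.choose_succ_succ' n 1, Nat.choose_succ_succ' n 2,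
          Nat.choose_one_right, pow_add z, pow_add t, ← pow_succ, pow_succ a]
        have e : Commute (t ^ n * (t ^ n.choose 2 * z ^ n.choose 2) * z ^ n.choose 3) a :=
          (((hat.symm.pow_left _).mul_left ((hat.symm.pow_left _).mul_left
            (haz.symm.pow_left _))).mul_left (haz.symm.pow_left _))
        have e2 := e.eq
        simp only [mul_assoc] at e2 ⊢
        rw [e2]

/-- The `p`-th power of `s a` when `a` generates a uniserial action of length at most three. -/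
theorem mul_pow_prime_eq (hp2 : p ≠ 2) {s a t z : G} (h1 : s⁻¹ * a * s = a * t)
    (h2 : s⁻¹ * t * s = t * z) (h3 : Commute s z) (hat : Commute a t) (haz : Commute a z)
    (htz : Commute t z) (ht : t ^ p = 1) (hz : z ^ p = 1) :
    (s * a) ^ p = s ^ p * a ^ p ∨ (p = 3 ∧ (s * a) ^ p = s ^ p * a ^ p * z) := by
  rw [mul_pow_eq h1 h2 h3 hat haz htz]
  have h2' := hp.out.two_le
  obtain ⟨u, hu⟩ : p ∣ p.choose 2 := hp.out.dvd_choose_self (by omega) (by omega)
  rw [hu, pow_mul, ht, one_pow, mul_one]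
  by_cases h : p = 3
  · right
    refine ⟨h, ?_⟩
    rw [show p.choose 3 = 1 by rw [h]; rfl, pow_one]
  · left
    obtain ⟨v, hv⟩ : p ∣ p.choose 3 := hp.out.dvd_choose_self (by omega) (by omega)
    rw [hv, pow_mul, hz, one_pow, mul_one]

/-- `T` is a normal subgroup of type `(p, p)` not centralized by `s`. -/
structure Setup (p : ℕ) (T : Subgroup G) (s : G) : Prop where
  pG : IsPGroup p G
  normal : T.Normal
  card : Nat.card T = p ^ 2
  comm : ∀ x ∈ T, ∀ y ∈ T, x * y = y * x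
  pow : ∀ t ∈ T, t ^ p = 1
  ns : s ∉ centralizer (T : Set G)

namespace Setup

variable [Finite G] {T : Subgroup G} {s : G} (h : Setup p T s)
include h

theorem card_Z : Nat.card (T ⊓ center G : Subgroup G) = p := by
  have := h.normal
  have := h.pG.isNilpotent
  have h0 : T ≠ ⊥ := fun e => h.ns (mem_centralizer_iff.2 fun t ht => by
    rw [mem_bot.1 (e.le ht), one_mul, mul_one])
  have h1 := PG.prime_mul_card_le_of_lt (h.pG.to_subgroup _)
    (bot_lt_iff_ne_bot.2 (PG.inf_center_ne_bot T h0))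
  have h2 : T ⊓ center G < T := lt_of_le_of_ne inf_le_left fun e =>
    h.ns (mem_centralizer_iff.2 fun t ht => (mem_center_iff.1 (e.ge ht).2 s).symm)
  have h3 := PG.prime_mul_card_le_of_lt (h.pG.to_subgroup _) h2
  rw [card_bot, mul_one] at h1
  rw [h.card, sq] at h3
  exact le_antisymm (Nat.le_of_mul_le_mul_left h3 hp.out.pos) h1

theorem card_T : Nat.card T = p * Nat.card (T ⊓ center G : Subgroup G) := by
  rw [h.card_Z, h.card, sq]

theorem mem_center {t : G} (ht : t ∈ T) (hs : t * s = s * t) : t ∈ center G := by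
  rcases PG.eq_or_eq_of_card_eq_prime_mul hp.out h.card_T (L := T ⊓ centralizer {s})
    (inf_le_inf_left _ (center_le_centralizer _)) inf_le_left with e | e
  · exact (e.le ⟨ht, mem_centralizer_singleton_iff.2 hs⟩).2
  · exact absurd (mem_centralizer_iff.2 fun t ht =>
      mem_centralizer_singleton_iff.1 (e.ge ht).2) h.ns

theorem cm_mem {t : G} (ht : t ∈ T) (g : G) : t⁻¹ * (g⁻¹ * t * g) ∈ T ⊓ center G := by
  have := h.normal
  have h1 := (PG.commutator_le_of_card_eq_prime_mul (PG.isPGroup_top h.pG) (h.pG.to_subgroup T)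
    le_normalizer_of_normal le_normalizer_of_normal inf_le_left h.card_T).1
    (commutator_mem_commutator (T.inv_mem ht) (mem_top g⁻¹))
  simpa only [commutatorElement_def, inv_inv, mul_assoc] using h1

theorem index : (centralizer (T : Set G)).index = p := by
  have := h.normal
  have h1 := index_centralizer_le h.pG T h.card.le
  obtain ⟨k, hk⟩ := h.pG.index (centralizer (T : Set G))
  rcases k with _ | k
  · rw [pow_zero, index_eq_one] at hk
    exact absurd (hk ▸ mem_top s) h.ns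
  · exact le_antisymm h1 (hk ▸ Nat.le_self_pow k.succ_ne_zero p)

theorem commutator_mem (a b : G) : ⁅a, b⁆ ∈ centralizer (T : Set G) :=
  PG.commutator_le_of_index_eq_prime h.pG h.index
    (commutator_mem_commutator (mem_top a) (mem_top b))

theorem isCyclic (hp2 : p ≠ 2) {H : Subgroup G} (hH : H ≤ centralizer {s})
    (hT : ∀ x ∈ H, x ^ p = 1 → x ∈ T) : IsCyclic H :=
  PG.isCyclic_of_card_omegaOne_le (h.pG.to_subgroup H) ((card_le_of_le (K := T ⊓ center G)
    (PG.omegaOne_le_iff.2 fun x hx hxp => ⟨hT x hx hxp, h.mem_center (hT x hx hxp)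
      (mem_centralizer_singleton_iff.1 (hH hx))⟩)).trans h.card_Z.le) (Or.inl hp2)

theorem mul_pow (hp2 : p ≠ 2) {a : G} (ha : a ∈ centralizer (T : Set G))
    (ht : a⁻¹ * (s⁻¹ * a * s) ∈ T) : (s * a) ^ p = s ^ p * a ^ p ∨
      (p = 3 ∧ ∃ z ∈ T ⊓ center G, (s * a) ^ p = s ^ p * a ^ p * z ∧
        (a⁻¹ * (s⁻¹ * a * s) ∈ center G → z = 1)) := by
  have hz := h.cm_mem ht s
  rcases mul_pow_prime_eq hp2 (s := s) (a := a) (t := a⁻¹ * (s⁻¹ * a * s))
    (mul_inv_cancel_left _ _).symm (mul_inv_cancel_left _ _).symm (mem_center_iff.1 hz.2 s)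
    (mem_centralizer_iff.1 ha _ ht).symm (mem_center_iff.1 hz.2 a) (mem_center_iff.1 hz.2 _)
    (h.pow _ ht) (h.pow _ hz.1) with h1 | h1
  · exact Or.inl h1
  · refine Or.inr ⟨h1.1, _, hz, h1.2, fun hc => ?_⟩
    generalize a⁻¹ * (s⁻¹ * a * s) = t at hc
    rw [mul_assoc s⁻¹, ← mem_center_iff.1 hc s, inv_mul_cancel_left, inv_mul_cancel]

/-- The basic dichotomy. -/
theorem comm_mem_or (hp2 : p ≠ 2) {L : Subgroup G} [L.Normal] (hTL : T ≤ L)
    (hfib : ∀ x ∈ L, ∀ y ∈ L, x ^ p = y ^ p → x⁻¹ * y ∈ T) (hs : s ^ p = 1) :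
    (∀ a ∈ L, a⁻¹ * (s⁻¹ * a * s) ∈ T) ∨
      (p = 3 ∧ Nat.card (L ⊓ centralizer {s} : Subgroup G) ≤ p) := by
  have := h.normal
  have hΩ : ∀ x ∈ L, x ^ p = 1 → x ∈ T := fun x hx e => by
    simpa using hfib 1 L.one_mem x hx (by rw [e, one_pow])
  let M : Subgroup G := (centralizer {(s : G ⧸ T)}).comap (QuotientGroup.mk' T)
  have hM : ∀ a, a ∈ M ↔ a⁻¹ * (s⁻¹ * a * s) ∈ T := fun a => by
    rw [← QuotientGroup.eq, mem_comap, mem_centralizer_singleton_iff, QuotientGroup.mk_mul,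
      QuotientGroup.mk_mul, QuotientGroup.mk_inv, mul_assoc, eq_inv_mul_iff_mul_eq, eq_comm]
    rfl
  by_cases hLM : L ≤ M
  · exact Or.inl fun a ha => (hM a).1 (hLM ha)
  right
  obtain ⟨x, hx, hxM, hxc⟩ := PG.exists_not_mem_commutator_mem (S := ⊤) (N := L) (H := M)
    (PG.isPGroup_top h.pG).isNilpotent le_top le_normalizer_of_normal hLM
  set a := ⁅x, s⁻¹⁆⁻¹ with ha
  have haM : a ∈ M ⊓ L := inv_mem (hxc _ (mem_top _))
  have haT : a ∉ T := fun e => hxM (by
    rw [mem_comap, mem_centralizer_singleton_iff]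
    have e1 := (QuotientGroup.eq_one_iff _).2 (by simpa [ha] using T.inv_mem e : ⁅x, s⁻¹⁆ ∈ T)
    have e2 : ⁅(x : G ⧸ T), (s : G ⧸ T)⁻¹⁆ = 1 := e1
    exact (Commute.inv_right_iff.1 (commutatorElement_eq_one_iff_commute.1 e2)).eq)
  have hsa : (s * a) ^ p = 1 := by
    have : s * a = x * s * x⁻¹ := by simp only [ha, commutatorElement_def]; group
    rw [this, conj_pow, hs]; simp
  rcases h.mul_pow hp2 (inv_mem (h.commutator_mem x s⁻¹)) ((hM a).1 haM.1) with h1 |
    ⟨h3, z, hz, h1, hz1⟩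
  · rw [← ha, hsa, hs, one_mul] at h1
    exact absurd (hΩ a haM.2 h1.symm) haT
  refine ⟨h3, not_lt.1 fun hlt => ?_⟩
  rw [← ha, hsa, hs, one_mul, eq_comm, mul_eq_one_iff_eq_inv] at h1
  have hC := h.isCyclic hp2 (H := L ⊓ centralizer {s}) inf_le_right fun x hx => hΩ x hx.1
  have hZC : T ⊓ center G < L ⊓ centralizer {s} :=
    lt_of_le_of_ne (inf_le_inf hTL (center_le_centralizer _)) fun e => by
      rw [← e, h.card_Z] at hlt
      exact lt_irrefl _ hlt
  obtain ⟨c, hc, hcz⟩ := PG.mem_powerClosure_iff_of_comm.1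
    (Meta.le_powerClosure_of_lt (h.pG.to_subgroup _) hZC (inv_mem hz))
  rw [pow_one, ← h1] at hcz
  have h4 := h.cm_mem (hfib c hc.1 a haM.2 hcz.symm) s
  have h5 : (c⁻¹ * a)⁻¹ * (s⁻¹ * (c⁻¹ * a) * s) = a⁻¹ * (s⁻¹ * a * s) := by
    have e : Commute c s := mem_centralizer_singleton_iff.1 hc.2
    calc _ = a⁻¹ * (c * s⁻¹ * c⁻¹ * a * s) := by group
      _ = _ := by rw [e.inv_right.eq, mul_inv_cancel_right]
  rw [h5] at h4
  rw [hz1 h4.2, inv_one] at h1
  exact haT (hΩ a haM.2 h1)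

omit h in
theorem card_centralizer_le {L : Subgroup G} (hL : L.index = p) (s : G) :
    Nat.card (centralizer ({s} : Set G)) ≤ p * Nat.card (L ⊓ centralizer {s} : Subgroup G) := by
  rw [← PG.relIndex_mul_card_inf L, ← hL]
  refine Nat.mul_le_mul_right _ ?_
  rw [← relIndex_top_right]
  exact relIndex_le_of_le_right le_top (by rw [relIndex_top_right]; exact index_ne_zero_of_finite)

omit h [Finite G] in
theorem exists_normalize {z₁ : G} (h1 : z₁ ^ p = 1) {a : ℕ} (ha : ¬ p ∣ a) :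
    ∃ i s : ℕ, ¬ p ∣ i ∧ (s = 1 ∨ ¬ IsSquare (s : ZMod p)) ∧ (z₁ ^ a) ^ (i * i) = z₁ ^ s := by
  by_cases hs : IsSquare (a : ZMod p)
  · obtain ⟨r, hr⟩ := hs
    have ha0 : (a : ZMod p) ≠ 0 := fun e => ha ((ZMod.natCast_eq_zero_iff a p).1 e)
    have hr0 : r ≠ 0 := fun e => ha0 (by rw [hr, e, mul_zero])
    refine ⟨r⁻¹.val, 1, fun e => inv_ne_zero hr0 ?_, Or.inl rfl, ?_⟩
    · rw [← ZMod.natCast_zmod_val r⁻¹]
      exact (ZMod.natCast_eq_zero_iff _ p).2 e
    · rw [← pow_mul]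
      refine pow_eq_pow_of_modEq ?_ h1
      rw [← ZMod.natCast_eq_natCast_iff]
      push_cast
      rw [ZMod.natCast_zmod_val, hr]
      field_simp
  · exact ⟨1, a, fun e => hp.out.one_lt.ne' (Nat.dvd_one.1 e), Or.inr hs, by simp⟩

/-- The two non-metacyclic families of Blackburn's theorem. -/
theorem families (hp2 : p ≠ 2) {n : ℕ} (hG : Nat.card G = p ^ n) (hs : s ^ p = 1)
    (hfib : ∀ x ∈ centralizer (T : Set G), ∀ y ∈ centralizer (T : Set G),
      x ^ p = y ^ p → x⁻¹ * y ∈ T)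
    (hφ : ∀ a ∈ centralizer (T : Set G), a⁻¹ * (s⁻¹ * a * s) ∈ T) :
    (3 ≤ n ∧ ∃ x y z : G, closure ({x, y, z} : Set G) = ⊤ ∧ x ^ p = 1 ∧ y ^ p = 1 ∧
      z ^ p ^ (n - 2) = 1 ∧ x * z = z * x ∧ y * z = z * y ∧ x⁻¹ * y * x = y * z ^ p ^ (n - 3)) ∨
    (4 ≤ n ∧ ∃ (s : ℕ) (x y z : G), (s = 1 ∨ ¬ IsSquare (s : ZMod p)) ∧
      closure ({x, y, z} : Set G) = ⊤ ∧ x ^ p = 1 ∧ y ^ p = 1 ∧ z ^ p ^ (n - 2) = 1 ∧
      y * z = z * y ∧ x⁻¹ * y * x = y * z ^ (s * p ^ (n - 3)) ∧ x⁻¹ * z * x = y * z) := by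
  set A := centralizer (T : Set G) with hA
  set Z := T ⊓ center G with hZ
  have hTA : T ≤ A := fun t ht => mem_centralizer_iff.2 fun u hu => h.comm u hu t ht
  have hΩ : ∀ x ∈ A, x ^ p = 1 → x ∈ T := fun x hx e => by
    simpa using hfib 1 A.one_mem x hx (by rw [e, one_pow])
  have hAc : IsCoatom A := PG.isCoatom_of_index_prime (h.index.symm ▸ hp.out)
  have hGA : p ^ n = p * Nat.card A := by rw [← hG, ← h.index, index_mul_card]
  let φ : A →* G := MonoidHom.mk' (fun a => (a : G)⁻¹ * (s⁻¹ * a * s)) fun a b => by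
    have e := mem_centralizer_iff.1 b.2 _ (hφ a a.2)
    calc _ = (b : G)⁻¹ * ((a : G)⁻¹ * (s⁻¹ * a * s)) * (s⁻¹ * b * s) := by
          rw [coe_mul]; group
      _ = _ := by
          have e' : Commute ((a : G)⁻¹ * (s⁻¹ * a * s)) b := e
          rw [← e'.inv_right.eq, mul_assoc]
  have hφ' : ∀ a : A, s⁻¹ * a * s = a * φ a := fun a => (mul_inv_cancel_left _ _).symm
  have hφT : ∀ a : A, φ a ∈ T := fun a => hφ a a.2
  have hφZ : ∀ a : A, (a : G) ∈ T → φ a ∈ Z := fun a ha => h.cm_mem ha s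
  have hker : ∀ a : A, φ a = 1 ↔ (a : G) * s = s * a := fun a => by
    rw [← mul_right_inj (a : G), ← hφ', mul_one, mul_assoc, inv_mul_eq_iff_eq_mul]
  have hC := h.isCyclic hp2 (H := A ⊓ centralizer {s}) inf_le_right fun x hx => hΩ x hx.1
  obtain ⟨c, hc⟩ := PG.exists_zpowers_eq (A ⊓ centralizer {s})
  have hcC : c ∈ A ⊓ centralizer {s} := hc ▸ mem_zpowers c
  have hZC : Z ≤ zpowers c := hc ▸ inf_le_inf hTA (center_le_centralizer _)
  obtain ⟨m, hm⟩ := IsPGroup.iff_orderOf.1 h.pG c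
  have hcard : Nat.card A = Nat.card φ.range * p ^ m := by
    have e : φ.ker = (zpowers c).subgroupOf A := by
      ext a
      rw [MonoidHom.mem_ker, hker, mem_subgroupOf, hc]
      exact ⟨fun e => ⟨a.2, mem_centralizer_singleton_iff.2 e⟩,
        fun e => mem_centralizer_singleton_iff.1 e.2⟩
    rw [← φ.ker.index_mul_card, index_ker, e, card_subgroupOf_of_le (zpowers_le.2 hcC.1),
      Nat.card_zpowers, hm]
  rcases m with _ | m
  · have := card_le_of_le hZC
    rw [h.card_Z, Nat.card_zpowers, hm, pow_zero] at this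
    exact absurd this (not_le.2 hp.out.one_lt)
  -- a generator of `Z` is hit from `T`
  have hgen : ∀ z ∈ Z, z ≠ 1 → zpowers z = Z := fun z hz h1 =>
    PG.eq_of_le_of_card_eq (zpowers_le.2 hz) (by
      rw [h.card_Z, Nat.card_zpowers, orderOf_eq_prime (h.pow z hz.1) h1])
  have hsurj : ∀ z ∈ Z, ∃ t : A, (t : G) ∈ T ∧ φ t = z := fun z hz => by
    obtain ⟨t, ht, hts⟩ : ∃ t ∈ T, t * s ≠ s * t := by
      by_contra! e
      exact h.ns (mem_centralizer_iff.2 e)
    obtain ⟨k, rfl⟩ : z ∈ zpowers (φ ⟨t, hTA ht⟩) :=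
      hgen _ (hφZ ⟨t, hTA ht⟩ ht) (fun e => hts ((hker _).1 e)) ▸ hz
    exact ⟨⟨t, hTA ht⟩ ^ k, T.zpow_mem ht k, map_zpow _ _ _⟩
  have htop : ∀ {x y z : G} {i : ℕ}, ¬ p ∣ i → x = s ^ i → y ∈ A → z ∈ A → y ∉ zpowers z →
      Nat.card A = p * orderOf z → closure ({x, y, z} : Set G) = ⊤ := by
    intro x y z i hi hx hy hz hyz hA'
    have e1 := PG.sup_zpowers_eq_of_card_eq_prime_mul hp.out (zpowers_le.2 hz)
      (by rwa [Nat.card_zpowers]) hy hyz
    have e2 : x ∉ A := fun e => h.ns (zpowers_le.2 e (hx ▸ PG.mem_zpowers_pow_of_not_dvd hp.out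
      (IsPGroup.iff_orderOf.1 h.pG s).choose_spec hi))
    rw [eq_top_iff, ← PG.sup_zpowers_eq_top_of_isCoatom hAc e2, ← e1]
    refine sup_le (sup_le ?_ ?_) ?_ <;> refine zpowers_le.2 (subset_closure ?_) <;> simp
  rcases PG.eq_or_eq_of_card_eq_prime_mul hp.out h.card_T (L := φ.range)
    (fun z hz => let ⟨t, _, e⟩ := hsurj z hz; ⟨t, e⟩) (by rintro _ ⟨a, rfl⟩; exact hφT a) with e | e
  · left
    rw [e, h.card_Z] at hcard
    have hn : n = m + 3 := by
      rw [hcard, ← pow_succ', ← pow_succ'] at hGA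
      exact Nat.pow_right_injective hp.out.two_le hGA
    subst hn
    have ho : orderOf (c ^ p ^ m) = p := by
      rw [PG.orderOf_pow_prime_pow hp.out hm m.le_succ, Nat.add_sub_cancel_left, pow_one]
    have hz : c ^ p ^ m ∈ Z := PG.mem_of_pow_card_eq_one hZC (pow_mem (mem_zpowers c) _)
      (by rw [h.card_Z, ← orderOf_dvd_iff_pow_eq_one, ho])
    obtain ⟨y, hyT, hy⟩ := hsurj _ hz
    refine ⟨by omega, s, y, c, htop (i := 1) (fun e => hp.out.one_lt.ne' (Nat.dvd_one.1 e))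
      (pow_one s).symm y.2 hcC.1 (fun e' => ?_) (hm ▸ hcard), hs, h.pow _ hyT, ?_,
      (mem_centralizer_singleton_iff.1 hcC.2).symm, mem_centralizer_iff.1 hcC.1 _ hyT, ?_⟩
    · rw [(hker y).2 (mem_centralizer_singleton_iff.1 (hc.le e').2)] at hy
      rw [← hy, orderOf_one] at ho
      exact hp.out.one_lt.ne ho
    · rw [← orderOf_dvd_iff_pow_eq_one, hm]; rfl
    · rw [hφ', hy]; rfl
  · right
    rw [e, h.card] at hcard
    have hn : n = m + 4 := by
      rw [hcard, ← pow_add, ← pow_succ'] at hGA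
      have := Nat.pow_right_injective hp.out.two_le hGA
      omega
    subst hn
    obtain ⟨w, hw⟩ : ∃ w : A, φ w ∉ Z := by
      by_contra! e'
      have := card_le_of_le (show φ.range ≤ Z by rintro _ ⟨a, rfl⟩; exact e' a)
      rw [e, h.card_T, h.card_Z] at this
      have := hp.out.one_lt
      nlinarith
    have hwC : (w : G) ^ p ∈ zpowers c := hc ▸ ⟨pow_mem w.2 p, mem_centralizer_singleton_iff.2
      ((hker (w ^ p)).1 (by rw [map_pow, h.pow _ (hφT w)]))⟩
    have hcw : c ∈ zpowers ((w : G) ^ p) := by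
      refine (mem_zpowers_or (hm ▸ pow_orderOf_eq_one c) hwC).resolve_right ?_
      rintro ⟨k, hk⟩
      have hk' : (c ^ k) ^ p = (w : G) ^ p := by
        rw [← hk, ← zpow_natCast, ← zpow_mul, mul_comm, zpow_mul, zpow_natCast]
      have hck : c ^ k ∈ A ⊓ centralizer {s} := zpow_mem hcC k
      have e1 := hφZ ((⟨c ^ k, hck.1⟩ : A)⁻¹ * w) (hfib _ hck.1 _ w.2 hk')
      rw [map_mul, map_inv, (hker ⟨c ^ k, hck.1⟩).2 (mem_centralizer_singleton_iff.1 hck.2),
        inv_one, one_mul] at e1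
      exact hw e1
    have how : orderOf (w : G) = p ^ (m + 2) := by
      have e1 : orderOf ((w : G) ^ p) = p ^ (m + 1) := by
        rw [← hm, ← Nat.card_zpowers, ← Nat.card_zpowers,
          le_antisymm (zpowers_le.2 hwC) (zpowers_le.2 hcw)]
      refine orderOf_eq_prime_pow (fun e2 => ?_) ?_
      · rw [pow_succ', pow_mul, ← orderOf_dvd_iff_pow_eq_one, e1,
          Nat.pow_dvd_pow_iff_le_right hp.out.one_lt] at e2
        omega
      · rw [pow_succ', pow_mul, ← e1, pow_orderOf_eq_one]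
    have hZw : Z ≤ zpowers (w : G) :=
      hZC.trans (zpowers_le.2 (zpowers_le.2 (pow_mem (mem_zpowers _) p) hcw))
    have ho : orderOf ((w : G) ^ p ^ (m + 1)) = p := by
      rw [PG.orderOf_pow_prime_pow hp.out how (m + 1).le_succ,
        show m + 2 - (m + 1) = 1 by omega, pow_one]
    have hz₁p : ((w : G) ^ p ^ (m + 1)) ^ p = 1 := by rw [← orderOf_dvd_iff_pow_eq_one, ho]
    have hz₁ : (w : G) ^ p ^ (m + 1) ∈ Z := PG.mem_of_pow_card_eq_one hZw
      (pow_mem (mem_zpowers _) _) (by rw [h.card_Z, hz₁p])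
    let y₁ : A := ⟨φ w, hTA (hφT w)⟩
    have hz : φ y₁ ∈ Z := hφZ y₁ (hφT w)
    have hz1 : φ y₁ ≠ 1 := fun e' => hw ⟨hφT w, h.mem_center (hφT w) ((hker y₁).1 e')⟩
    obtain ⟨a, ha⟩ := PG.exists_pow_eq_of_mem_zpowers
      ((hgen _ hz₁ (fun e' => hp.out.one_lt.ne (by rw [← ho, e', orderOf_one]))).ge hz)
    obtain ⟨i, s', hi, hs', hn⟩ := exists_normalize hz₁p (a := a) (by
      rintro ⟨k, rfl⟩
      exact hz1 (by rw [ha, pow_mul, hz₁p, one_pow]))
    rw [← ha] at hn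
    have hzc := mem_center_iff.1 hz.2
    obtain ⟨e1, e2⟩ := conj_pow_eq (hφ' w) (hφ' y₁) (hzc s) (hzc _) i
    have hyT : φ w ^ i * φ y₁ ^ i.choose 2 ∈ T := mul_mem (pow_mem (hφT w) _) (pow_mem hz.1 _)
    have hyw := mem_centralizer_iff.1 w.2 _ hyT
    refine ⟨by omega, s', s ^ i, φ w ^ i * φ y₁ ^ i.choose 2, w, hs', htop hi rfl (hTA hyT) w.2
      (fun e' => hw ?_) (by rw [hcard, how]; ring), by rw [← pow_mul, mul_comm, pow_mul, hs, one_pow],
      h.pow _ hyT, by rw [← orderOf_dvd_iff_pow_eq_one, how]; rfl, hyw, ?_, ?_⟩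
    · have e3 := PG.mem_of_pow_card_eq_one hZw e' (by rw [h.card_Z, h.pow _ hyT])
      have e4 : φ w ^ i ∈ Z := (Z.mul_mem_cancel_right (pow_mem hz _)).1 e3
      exact zpowers_le.2 e4 (PG.mem_zpowers_pow_of_not_dvd hp.out
        (IsPGroup.iff_orderOf.1 h.pG _).choose_spec hi)
    · have e3 : (s ^ i)⁻¹ * φ w ^ i * s ^ i = (φ w * φ y₁ ^ i) ^ i := by
        rw [← e1]
        simpa using (conj_pow (a := (s ^ i)⁻¹) (b := φ w) (i := i)).symm
      have e4 := mem_center_iff.1 (pow_mem hz.2 (i.choose 2)) (s ^ i)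
      have e5 : Commute (φ w) (φ y₁ ^ i) := mem_center_iff.1 (pow_mem hz.2 i) _
      rw [← mul_assoc, mul_assoc _ _ (s ^ i), ← e4, ← mul_assoc, e3, e5.mul_pow, ← pow_mul, hn,
        ← pow_mul, mul_comm s', mul_assoc, mul_assoc, mem_center_iff.1 (pow_mem hz.2 (i.choose 2))]
      rfl
    · rw [e2, hyw, mul_assoc]

end Setup

end Cfsg.Lib.Solv.R2
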