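import Cfsg.Agent.Solv.ClassSize
import Cfsg.Agent.Solv.Nilpotent
import Cfsg.Agent.Solv.PGroupBasic
import Cfsg.Agent.Solv.Conj
import Cfsg.Prelude.Def_Transfer

/-!
# Minimal covers by proper subgroups

`MinCov Z 𝓐`: `𝓐` is a cover of `G` by proper subgroups containing `Z`, of least size among such
covers.  Two distinct members generate `G`.
-/

set_option autoImplicit false

namespace Cfsg.Lib.Solv

open Subgroup

variable {G : Type*} [Group G]

/-- A cover by proper overgroups of `Z`, of least size among those. -/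
structure MinCov (Z : Subgroup G) (𝓐 : Finset (Subgroup G)) : Prop where
  le : ∀ A ∈ 𝓐, Z ≤ A
  cover : ∀ g : G, ∃ A ∈ 𝓐, g ∈ A
  proper : ∀ A ∈ 𝓐, A ≠ ⊤
  min : ∀ 𝓑 : Finset (Subgroup G), (∀ A ∈ 𝓑, Z ≤ A) → (∀ A ∈ 𝓑, A ≠ ⊤) →
    (∀ g : G, ∃ A ∈ 𝓑, g ∈ A) → 𝓐.card ≤ 𝓑.card

namespace MinCov

variable {Z : Subgroup G} {𝓐 : Finset (Subgroup G)}

theorem of_bot (h1 : (∀ A ∈ 𝓐, A ≠ ⊤) ∧ (∀ g : G, ∃ A ∈ 𝓐, g ∈ A))
    (h2 : ∀ 𝓑 : Finset (Subgroup G), (∀ A ∈ 𝓑, A ≠ ⊤) ∧ (∀ g : G, ∃ A ∈ 𝓑, g ∈ A) →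
      𝓐.card ≤ 𝓑.card) : MinCov ⊥ 𝓐 :=
  ⟨fun _ _ => bot_le, h1.2, h1.1, fun 𝓑 _ hb hc => h2 𝓑 ⟨hb, hc⟩⟩

/-- One cannot change the members and omit one of them. -/
theorem drop (h : MinCov Z 𝓐) (f : Subgroup G → Subgroup G) {A₀ : Subgroup G} (h0 : A₀ ∈ 𝓐)
    (hf : ∀ A ∈ 𝓐, A ≠ A₀ → Z ≤ f A ∧ f A ≠ ⊤)
    (hc : ∀ g : G, ∃ A ∈ 𝓐, A ≠ A₀ ∧ g ∈ f A) : False := by
  classical
  have h1 := h.min ((𝓐.erase A₀).image f) (by
      intro B hB
      obtain ⟨A, hA, rfl⟩ := Finset.mem_image.mp hB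
      exact (hf A (Finset.mem_of_mem_erase hA) (Finset.ne_of_mem_erase hA)).1) (by
      intro B hB
      obtain ⟨A, hA, rfl⟩ := Finset.mem_image.mp hB
      exact (hf A (Finset.mem_of_mem_erase hA) (Finset.ne_of_mem_erase hA)).2) (by
      intro g
      obtain ⟨A, hA, hne, hg⟩ := hc g
      exact ⟨f A, Finset.mem_image_of_mem _ (Finset.mem_erase.mpr ⟨hne, hA⟩), hg⟩)
  have h2 := Finset.card_erase_lt_of_mem h0
  have h3 := Finset.card_image_le (s := 𝓐.erase A₀) (f := f)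
  omega

/-- Two members inside a proper subgroup coincide. -/
theorem eq_of_le (h : MinCov Z 𝓐) {A B M : Subgroup G} (hA : A ∈ 𝓐) (hB : B ∈ 𝓐) (hAM : A ≤ M)
    (hBM : B ≤ M) (hM : M ≠ ⊤) : A = B := by
  classical
  by_contra hne
  refine h.drop (fun C => if C = B then M else C) hA (fun C hC _ => ?_) (fun g => ?_)
  · by_cases hCB : C = B
    · simp only [hCB, if_true]
      exact ⟨(h.le B hB).trans hBM, hM⟩
    · simp only [hCB, if_false]
      exact ⟨h.le C hC, h.proper C hC⟩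
  · obtain ⟨C, hC, hg⟩ := h.cover g
    by_cases hCA : C = A
    · exact ⟨B, hB, fun e => hne e.symm, by simp only [if_true]; exact hAM (hCA ▸ hg)⟩
    · refine ⟨C, hC, hCA, ?_⟩
      by_cases hCB : C = B
      · simp only [hCB, if_true]
        exact hBM (hCB ▸ hg)
      · simp only [hCB, if_false]
        exact hg

/-- Lifting a minimal cover along a surjection. -/
theorem comap {Γ : Type*} [Group Γ] [DecidableEq (Subgroup Γ)] (h : MinCov ⊥ 𝓐) (f : Γ →* G)
    (hf : Function.Surjective f) : MinCov f.ker (𝓐.image (Subgroup.comap f)) := by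
  classical
  refine ⟨?_, ?_, ?_, ?_⟩
  · intro B hB
    obtain ⟨A, -, rfl⟩ := Finset.mem_image.mp hB
    exact ker_le_comap f A
  · intro g
    obtain ⟨A, hA, hg⟩ := h.cover (f g)
    exact ⟨_, Finset.mem_image_of_mem _ hA, hg⟩
  · intro B hB
    obtain ⟨A, hA, rfl⟩ := Finset.mem_image.mp hB
    intro e
    apply h.proper A hA
    rw [← comap_top f] at e
    exact comap_injective hf e
  · intro 𝓑 hZ hp hc
    have h1 := h.min (𝓑.image (Subgroup.map f)) (fun _ _ => bot_le) (by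
        intro B hB
        obtain ⟨A, hA, rfl⟩ := Finset.mem_image.mp hB
        intro e
        apply hp A hA
        rw [← comap_map_eq_self (hZ A hA), e, comap_top]) (by
        intro g
        obtain ⟨x, rfl⟩ := hf g
        obtain ⟨A, hA, hx⟩ := hc x
        exact ⟨_, Finset.mem_image_of_mem _ hA, mem_map_of_mem f hx⟩)
    have h2 := Finset.card_image_le (s := 𝓑) (f := Subgroup.map f)
    have h3 := Finset.card_image_le (s := 𝓐) (f := Subgroup.comap f)
    omega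

end MinCov

theorem isNilpotent_comap_of_ker_le_center {Γ : Type*} [Group Γ] (f : Γ →* G)
    (hf : f.ker ≤ center Γ) {A : Subgroup G} (hA : Group.IsNilpotent A) :
    Group.IsNilpotent (A.comap f) := by
  refine Subgroup.isNilpotent_of_ker_le_center (f.subgroupComap A) (fun x hx => ?_)
  have h1 : (x : Γ) ∈ f.ker := congrArg Subtype.val (MonoidHom.mem_ker.mp hx)
  exact mem_center_iff.mpr fun y => Subtype.ext (mem_center_iff.mp (hf h1) y)

/-- The `p`-elements of a finite nilpotent subgroup form a subgroup. -/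
theorem exists_pSub_of_isNilpotent [Finite G] {A : Subgroup G} (hA : Group.IsNilpotent A) (p : ℕ)
    [Fact p.Prime] : ∃ U : Subgroup G, U ≤ A ∧ IsPGroup p U ∧ A ≤ normalizer (U : Set G) ∧
      ∀ x ∈ A, ∀ k : ℕ, x ^ p ^ k = 1 → x ∈ U := by
  obtain ⟨P⟩ : Nonempty (Sylow p A) := inferInstance
  have hN : (P : Subgroup A).Normal :=
    Sylow.normal_of_normalizerCondition Group.normalizerCondition_of_isNilpotent P
  refine ⟨(P : Subgroup A).map A.subtype, map_subtype_le _, P.isPGroup'.map _,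
    le_normalizer_map_subtype _, fun x hx k hk => ?_⟩
  have h1 : IsPGroup p (zpowers (⟨x, hx⟩ : A)) :=
    ClassSize.isPGroup_zpowers_of_pow_eq_one (k := k) (Subtype.ext hk)
  have h2 : zpowers (⟨x, hx⟩ : A) ≤ P := by
    have := P.is_maximal' (h1.to_sup_of_normal_right P.isPGroup') le_sup_right
    exact this ▸ le_sup_left
  exact ⟨⟨x, hx⟩, h2 (mem_zpowers _), rfl⟩

section AbelianSylow

variable [Finite G] {p : ℕ} [hp : Fact p.Prime]

theorem comm_of_isPGroup_of_sylow_comm (P : Sylow p G) (hab : IsMulCommutative (P : Subgroup G))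
    {U : Subgroup G} (hU : IsPGroup p U) {x y : G} (hx : x ∈ U) (hy : y ∈ U) : x * y = y * x := by
  obtain ⟨Q, hQ⟩ := hU.exists_le_sylow
  have : IsMulCommutative (Q : Subgroup G) :=
    ⟨⟨fun a b => (P.equiv Q).symm.injective (by
      rw [map_mul, map_mul]; exact hab.1.1 _ _)⟩⟩
  exact PG.mul_comm_of_mem (hQ hx) (hQ hy)

theorem le_cent_of_isNilpotent_of_sylow_comm (P : Sylow p G)
    (hab : IsMulCommutative (P : Subgroup G)) {A : Subgroup G} (hA : Group.IsNilpotent A) {x : G}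
    (hx : x ∈ A) {k : ℕ} (hk : x ^ p ^ k = 1) : A ≤ centralizer {x} := by
  obtain ⟨U, -, hU, -, hmem⟩ := exists_pSub_of_isNilpotent hA p
  refine le_of_forall_prime_pow_mem fun q hq l y hy hl => ClassSize.mem_cent.mpr ?_
  by_cases hqp : q = p
  · subst hqp
    exact comm_of_isPGroup_of_sylow_comm P hab hU (hmem y hy l (by rw [← hl, pow_orderOf_eq_one]))
      (hmem x hx k hk)
  · refine (commute_of_mem_of_coprime_of_isNilpotent hA hy hx ?_).eq
    rw [hl]
    exact Nat.Coprime.coprime_dvd_right (orderOf_dvd_of_pow_eq_one hk)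
      (Nat.Coprime.pow _ _ ((Nat.coprime_primes hq hp.out).mpr hqp))

variable {𝓐 : Finset (Subgroup G)}

theorem MinCov.eq_of_pElem (h : MinCov ⊥ 𝓐) (hn : ∀ A ∈ 𝓐, Group.IsNilpotent A)
    (hZ : center G = ⊥) (P : Sylow p G) (hab : IsMulCommutative (P : Subgroup G))
    {A B : Subgroup G} (hA : A ∈ 𝓐) (hB : B ∈ 𝓐) {x : G} (hx1 : x ≠ 1) {k : ℕ}
    (hk : x ^ p ^ k = 1) (hxA : x ∈ A) (hxB : x ∈ B) : A = B := by
  refine h.eq_of_le hA hB (le_cent_of_isNilpotent_of_sylow_comm P hab (hn A hA) hxA hk)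
    (le_cent_of_isNilpotent_of_sylow_comm P hab (hn B hB) hxB hk) fun e => hx1 ?_
  have := ClassSize.cent_eq_top_iff.mp e
  rwa [hZ, mem_bot] at this

theorem MinCov.exists_sylow_le (h : MinCov ⊥ 𝓐) (hn : ∀ A ∈ 𝓐, Group.IsNilpotent A)
    (hZ : center G = ⊥) (P : Sylow p G) (hab : IsMulCommutative (P : Subgroup G))
    (hE : ¬ (Cfsg.IsElementaryAbelian p (P : Subgroup G) ∧ p < Nat.card (P : Subgroup G))) :
    ∃ A ∈ 𝓐, (P : Subgroup G) ≤ A := by
  by_contra hcon
  push Not at hcon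
  have hpow : ∀ x ∈ (P : Subgroup G), ∃ k, x ^ p ^ k = 1 := fun x hx => by
    obtain ⟨k, hk⟩ := P.isPGroup' ⟨x, hx⟩
    exact ⟨k, congrArg Subtype.val hk⟩
  have huniq : ∀ {A B : Subgroup G}, A ∈ 𝓐 → B ∈ 𝓐 → ∀ x ∈ (P : Subgroup G), x ≠ 1 → x ∈ A →
      x ∈ B → A = B := fun hA hB x hx hx1 hxA hxB => by
    obtain ⟨k, hk⟩ := hpow x hx
    exact h.eq_of_pElem hn hZ P hab hA hB hx1 hk hxA hxB
  apply hE
  refine ⟨⟨hab, fun x hx => ?_⟩, ?_⟩
  · by_contra hxp
    obtain ⟨A, hA, hxA⟩ := h.cover x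
    -- every element of order `p` of `P` lies in `A`
    have key : ∀ z ∈ (P : Subgroup G), z ^ p = 1 → z ∈ A := fun z hz hzp => by
      obtain ⟨B, hB, hxz⟩ := h.cover (x * z)
      have hc : Commute x z := PG.mul_comm_of_mem hx hz
      have e : (x * z) ^ p = x ^ p := by rw [hc.mul_pow, hzp, mul_one]
      have hAB : A = B := huniq hA hB (x ^ p) (pow_mem hx p) hxp (pow_mem hxA p)
        (e ▸ pow_mem hxz p)
      exact (mul_mem_cancel_left hxA).mp (hAB ▸ hxz)
    obtain ⟨y, hy, hyA⟩ := SetLike.not_le_iff_exists.mp (hcon A hA)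
    obtain ⟨B, hB, hyB⟩ := h.cover y
    have hy1 : y ≠ 1 := fun e => hyA (e ▸ one_mem A)
    obtain ⟨k, hk⟩ := hpow y hy
    obtain ⟨j, -, hj⟩ := (Nat.dvd_prime_pow hp.out).mp (orderOf_dvd_of_pow_eq_one hk)
    obtain ⟨j, rfl⟩ : ∃ i, j = i + 1 := by
      rcases j with _ | j
      · exact absurd (orderOf_eq_one_iff.mp (by simpa using hj)) hy1
      · exact ⟨j, rfl⟩
    have hz1 : y ^ p ^ j ≠ 1 := pow_ne_one_of_lt_orderOf (pow_ne_zero _ hp.out.ne_zero)
      (by rw [hj]; exact Nat.pow_lt_pow_right hp.out.one_lt (Nat.lt_succ_self j))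
    have hzA := key (y ^ p ^ j) (pow_mem hy _) (by rw [← pow_mul, ← pow_succ, ← hj, pow_orderOf_eq_one])
    exact hyA (huniq hA hB _ (pow_mem hy _) hz1 hzA (pow_mem hyB _) ▸ hyB)
  · by_contra hle
    obtain ⟨n, hn'⟩ := IsPGroup.iff_card.mp P.isPGroup'
    have hn1 : n ≤ 1 := by
      by_contra hlt
      apply hle
      rw [hn']
      calc p = p ^ 1 := (pow_one p).symm
        _ < p ^ n := Nat.pow_lt_pow_right hp.out.one_lt (by omega)
    have hcyc : IsCyclic (P : Subgroup G) := by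
      refine isCyclic_of_card_dvd_prime (p := p) ?_
      rw [hn']
      calc p ^ n ∣ p ^ 1 := pow_dvd_pow p hn1
        _ = p := pow_one p
    obtain ⟨g, hg⟩ := IsCyclic.exists_generator (α := (P : Subgroup G))
    obtain ⟨A, hA, hgA⟩ := h.cover g
    refine hcon A hA fun y hy => ?_
    obtain ⟨m, hm⟩ := mem_zpowers_iff.mp (hg ⟨y, hy⟩)
    have : y = (g : G) ^ m := by rw [← coe_zpow, hm]
    exact this ▸ zpow_mem hgA m

omit [Finite G] hp in
theorem sylow_eq_of_le_centralizer {P Q : Sylow p G}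
    (h : (Q : Subgroup G) ≤ centralizer ((P : Subgroup G) : Set G)) : Q = P := by
  have h1 : IsPGroup p ((Q : Subgroup G) ⊔ (P : Subgroup G) : Subgroup G) :=
    Q.isPGroup'.to_sup_of_normal_right' P.isPGroup' (h.trans (centralizer_le_normalizer _))
  have h2 := P.is_maximal' h1 le_sup_right
  have h3 := Q.is_maximal' h1 le_sup_left
  exact Sylow.ext (h3.symm.trans h2)

theorem MinCov.centralizer_eq (h : MinCov ⊥ 𝓐) (hn : ∀ A ∈ 𝓐, Group.IsNilpotent A)
    (hZ : center G = ⊥) (P : Sylow p G) (hab : IsMulCommutative (P : Subgroup G))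
    (hP : (P : Subgroup G) ≠ ⊥) {A : Subgroup G} (hA : A ∈ 𝓐) (hPA : (P : Subgroup G) ≤ A) :
    centralizer ((P : Subgroup G) : Set G) = A := by
  have hpow : ∀ x ∈ (P : Subgroup G), ∃ k, x ^ p ^ k = 1 := fun x hx => by
    obtain ⟨k, hk⟩ := P.isPGroup' ⟨x, hx⟩
    exact ⟨k, congrArg Subtype.val hk⟩
  apply le_antisymm
  · refine le_of_forall_prime_pow_mem fun q hq l c hc hl => ?_
    by_cases hqp : q = p
    · subst hqp
      apply hPA
      refine mem_of_mem_normalizer_of_coprime_orderOf_index (centralizer_le_normalizer _ hc) ?_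
      rw [hl]
      exact (ClassSize.sylow_index_coprime_pow P l).symm
    · obtain ⟨x, hx, hx1⟩ := (Subgroup.bot_or_exists_ne_one _).resolve_left hP
      obtain ⟨k, hk⟩ := hpow x hx
      obtain ⟨B, hB, hxc⟩ := h.cover (x * c)
      have hcomm : Commute x c := mem_centralizer_iff.mp hc x hx
      have hcop : (orderOf x).Coprime (orderOf c) := by
        rw [hl]
        exact Nat.Coprime.coprime_dvd_left (orderOf_dvd_of_pow_eq_one hk)
          (Nat.Coprime.pow _ _ ((Nat.coprime_primes hp.out hq).mpr (Ne.symm hqp)))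
      have hxB : x ∈ B := zpowers_le.mpr hxc (ClassSize.left_mem_zpowers_mul_of_coprime hcomm hcop)
      have hAB := h.eq_of_pElem hn hZ P hab hA hB hx1 hk (hPA hx) hxB
      exact hAB ▸ (mul_mem_cancel_left hxB).mp hxc
  · intro a ha
    refine mem_centralizer_iff.mpr fun x hx => ?_
    obtain ⟨k, hk⟩ := hpow x hx
    exact (ClassSize.mem_cent.mp
      (le_cent_of_isNilpotent_of_sylow_comm P hab (hn A hA) (hPA hx) hk ha)).symm

theorem MinCov.centralizer_mem (h : MinCov ⊥ 𝓐) (hn : ∀ A ∈ 𝓐, Group.IsNilpotent A)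
    (hZ : center G = ⊥) (P : Sylow p G) (hab : IsMulCommutative (P : Subgroup G))
    (hP : (P : Subgroup G) ≠ ⊥)
    (hE : ¬ (Cfsg.IsElementaryAbelian p (P : Subgroup G) ∧ p < Nat.card (P : Subgroup G)))
    (Q : Sylow p G) : centralizer ((Q : Subgroup G) : Set G) ∈ 𝓐 := by
  have e := P.equiv Q
  have hQ : IsMulCommutative (Q : Subgroup G) :=
    ⟨⟨fun a b => e.symm.injective (by rw [map_mul, map_mul]; exact hab.1.1 _ _)⟩⟩
  have hQ1 : (Q : Subgroup G) ≠ ⊥ := by
    rw [Ne, ← card_eq_one, ← Nat.card_congr e.toEquiv, card_eq_one]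
    exact hP
  obtain ⟨A, hA, hQA⟩ := h.exists_sylow_le hn hZ Q hQ (fun hh => hE ⟨⟨hab, fun a ha => by
    have := hh.1.2 (e ⟨a, ha⟩) (e ⟨a, ha⟩).2
    have h2 : e (⟨a, ha⟩ ^ p) = 1 := by rw [map_pow]; exact Subtype.ext this
    exact congrArg Subtype.val ((map_eq_one_iff e e.injective).mp h2)⟩, by
      rw [Nat.card_congr e.toEquiv]; exact hh.2⟩)
  rwa [h.centralizer_eq hn hZ Q hQ hQ1 hA hQA]

theorem MinCov.le_normalizer (h : MinCov ⊥ 𝓐) (hn : ∀ A ∈ 𝓐, Group.IsNilpotent A)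
    (hZ : center G = ⊥) (P : Sylow p G) (hab : IsMulCommutative (P : Subgroup G))
    (hP : (P : Subgroup G) ≠ ⊥)
    (hE : ¬ (Cfsg.IsElementaryAbelian p (P : Subgroup G) ∧ p < Nat.card (P : Subgroup G)))
    {M : Subgroup G} (hM : M ≠ ⊤) (hCM : centralizer ((P : Subgroup G) : Set G) ≤ M) :
    M ≤ normalizer ((P : Subgroup G) : Set G) := by
  intro m hm
  have h1 := h.centralizer_mem hn hZ P hab hP hE P
  have h2 := h.centralizer_mem hn hZ P hab hP hE (m • P)
  have h3 : centralizer (((m • P : Sylow p G) : Subgroup G) : Set G) ≤ M := by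
    rw [coe_sylow_smul, ← conj_smul_centralizer, conj_smul_le_iff]
    exact fun c hc => mul_mem (mul_mem hm (hCM hc)) (inv_mem hm)
  have h4 := h.eq_of_le h1 h2 hCM h3 hM
  have h5 : P = m • P := by
    apply sylow_eq_of_le_centralizer
    rw [← h4]
    exact fun x hx => mem_centralizer_iff.mpr fun y hy => PG.mul_comm_of_mem hy hx
  exact Sylow.smul_eq_iff_mem_normalizer.mp h5.symm

theorem MinCov.isCoatom_normalizer (h : MinCov ⊥ 𝓐) (hn : ∀ A ∈ 𝓐, Group.IsNilpotent A)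
    (hZ : center G = ⊥) (P : Sylow p G) (hab : IsMulCommutative (P : Subgroup G))
    (hnn : ¬ (P : Subgroup G).Normal)
    (hE : ¬ (Cfsg.IsElementaryAbelian p (P : Subgroup G) ∧ p < Nat.card (P : Subgroup G))) :
    IsCoatom (normalizer ((P : Subgroup G) : Set G)) := by
  have hP : (P : Subgroup G) ≠ ⊥ := fun e => hnn (e ▸ inferInstance)
  refine ⟨fun e => hnn (normalizer_eq_top_iff.mp e), fun M hM => ?_⟩
  by_contra hMt
  exact hM.not_ge (h.le_normalizer hn hZ P hab hP hE hMt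
    ((centralizer_le_normalizer _).trans hM.le))

end AbelianSylow

end Cfsg.Lib.Solv
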