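import Cfsg.Agent.Solv.MinCover
import Cfsg.Agent.Known.GL2Card
import Cfsg.Agent.Known.GLMat
import Cfsg.Agent.Fus.LinSylow

/-!
# Groups between `SL_n(q)` and `GL_n(q)` have no nilpotent minimal cover modulo scalars
-/

set_option autoImplicit false

namespace Cfsg.Lib.Solv.MinCoverLin

open Subgroup Cfsg.Lib.Known.GL2 Matrix

section Two

variable {G : Type*} [Group G] {F : Type*} [Field F] [Fintype F] (L : Lin2 G F)

omit [Fintype F] in
theorem eq_one_of_mem_Z {y : G} (hd : (L.ρ y).det = 1) {r k : ℕ} (hr : Odd r) (hy : y ^ r ^ k = 1)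
    (hZ : y ∈ L.Z) : y = 1 := by
  have h2 : y ^ 2 = 1 := by
    apply L.inj
    obtain ⟨c, hc⟩ := isScal_iff_eq_smul.1 (L.mem_Z.1 hZ)
    rw [hc] at hd
    rw [map_pow, map_one, hc, smul_pow, one_pow]
    have : c ^ 2 = 1 := by simpa using hd
    rw [this, one_smul]
  exact orderOf_eq_one_iff.1 (Nat.eq_one_of_dvd_coprimes (Nat.coprime_two_left.2 (hr.pow (n := k)))
    (orderOf_dvd_of_pow_eq_one h2) (orderOf_dvd_of_pow_eq_one hy))

omit [Fintype F] in
theorem comm_of_comm {y a b : G} (hy : y ∉ L.Z) (ha : a * y = y * a) (hb : b * y = y * b) :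
    a * b = b * a :=
  L.commute_iff_ρ.2 (commute_of_commute (fun h => hy (L.mem_Z.2 h)) (L.commute_iff_ρ.1 ha)
    (L.commute_iff_ρ.1 hb))

theorem comm_of_isNilpotent {A : Subgroup G} (hA : Group.IsNilpotent A) {y : G} (hyA : y ∈ A)
    (hd : (L.ρ y).det = 1) {r : ℕ} (hr : r.Prime) (ho : Odd r) (hy : y ^ r = 1) (hy1 : y ≠ 1)
    {a b : G} (ha : a ∈ A) (hb : b ∈ A) : a * b = b * a := by
  have := L.finite
  have : Fact r.Prime := ⟨hr⟩
  obtain ⟨U, hUA, hU, hN, hmem⟩ := exists_pSub_of_isNilpotent hA r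
  have h1 := PG.inf_centralizer_ne_bot_of_isNilpotent (N := U ⊓ L.detHom.ker) hA
    (inf_le_left.trans hUA) (le_normalizer_inf hN (by rw [normalizer_eq_top]; exact le_top))
    (fun e => hy1 (by
      have : y ∈ U ⊓ L.detHom.ker := ⟨hmem y hyA 1 (by rwa [pow_one]), Units.ext hd⟩
      rwa [e, mem_bot] at this))
  obtain ⟨z, ⟨⟨hzU, hzd⟩, hzc⟩, hz1⟩ := (Subgroup.bot_or_exists_ne_one _).resolve_left h1
  obtain ⟨k, hk⟩ := hU ⟨z, hzU⟩
  have hzZ : z ∉ L.Z := fun h =>
    hz1 (eq_one_of_mem_Z L (Units.ext_iff.1 hzd) ho (congrArg Subtype.val hk) h)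
  exact comm_of_comm L hzZ (mem_centralizer_iff.1 hzc a ha) (mem_centralizer_iff.1 hzc b hb)

theorem centralizer_eq {A : Subgroup G} (hA : Group.IsNilpotent A) {y : G} (hyA : y ∈ A)
    (hd : (L.ρ y).det = 1) {r : ℕ} (hr : r.Prime) (ho : Odd r) (hy : y ^ r = 1) (hy1 : y ≠ 1) :
    centralizer (A : Set G) = centralizer {y} := by
  have hyZ : y ∉ L.Z := fun h => hy1 (eq_one_of_mem_Z L hd ho (k := 1) (by rwa [pow_one]) h)
  apply le_antisymm (centralizer_le (Set.singleton_subset_iff.2 hyA))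
  intro x hx
  exact mem_centralizer_iff.2 fun a ha => comm_of_comm L hyZ
    (comm_of_isNilpotent L hA hyA hd hr ho hy hy1 ha hyA) (ClassSize.mem_cent.1 hx)

omit [Fintype F] in
theorem normalizer_ne_top (h2 : (2 : F) ≠ 0) {y : G} (hy : y ∉ L.Z) :
    normalizer ((centralizer {y} : Subgroup G) : Set G) ≠ ⊤ := by
  intro e
  have key : ∀ (m : M2 F) (hm : m.det = 1),
      m * L.ρ y * m.adjugate * L.ρ y = L.ρ y * (m * L.ρ y * m.adjugate) := fun m hm => by
    have h1 := conj_mem_of_mem_normalizer (g := L.mk1 m hm) (e ▸ mem_top _) (ClassSize.self_mem_cent y)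
    rw [L.mem_centralizer_iff, map_mul, map_mul, L.ρ_inv, L.ρ_mk1, hm, inv_one, one_smul] at h1
    exact h1
  have h1 := key !![1, 1; 0, 1] (by simp [det_fin_two])
  have h3 := key !![1, 0; 1, 1] (by simp [det_fin_two])
  generalize hm : L.ρ y = m at h1 h3
  apply hy
  rw [L.mem_Z, hm]
  rw [m2_eq_iff] at h1 h3
  simp only [mul00, mul01, mul10, mul11, adjugate_fin_two_of, of_apply, cons_val', cons_val_zero,
    cons_val_one, cons_val_fin_one] at h1 h3
  have hc : m 1 0 = 0 := by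
    have : 2 * (m 1 0) ^ 2 = 0 := by linear_combination -h1.2.2.1
    simpa [h2] using this
  have hb : m 0 1 = 0 := by
    have : 2 * (m 0 1) ^ 2 = 0 := by linear_combination -h3.2.1
    simpa [h2] using this
  have ha : m 0 0 = m 1 1 := by
    have h4 := h1.2.1
    rw [hc, hb] at h4
    have : (m 0 0 - m 1 1) ^ 2 = 0 := by linear_combination h4
    exact sub_eq_zero.1 (pow_eq_zero_iff two_ne_zero |>.1 this)
  exact isScal_iff_eq_smul.2 ⟨m 0 0, m2_ext (by simp) (by simp [hb]) (by simp [hc]) (by simp [ha])⟩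

/-- The diagonal elements of determinant one. -/
noncomputable def dg : Fˣ →* G := MonoidHom.mk' (fun a => L.mk1 !![(a : F), 0; 0, (a⁻¹ : Fˣ)]
    (by simp [det_fin_two])) fun a b => L.inj (by simp [mul_comm])

omit [Fintype F] in
theorem ρ_dg (a : Fˣ) : L.ρ (dg L a) = !![(a : F), 0; 0, (a⁻¹ : Fˣ)] :=
  L.ρ_mk1 _ (by simp [det_fin_two])

omit [Fintype F] in
theorem dg_mem_T (a : Fˣ) : dg L a ∈ L.T := by simp [L.mem_T, ρ_dg]

omit [Fintype F] in
theorem det_dg (a : Fˣ) : (L.ρ (dg L a)).det = 1 := by simp [ρ_dg, det_fin_two]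

omit [Fintype F] in
theorem dg_not_mem_Z {a : Fˣ} (ha : a ^ 2 ≠ 1) : dg L a ∉ L.Z := fun h => ha (by
  obtain ⟨c, hc⟩ := isScal_iff_eq_smul.1 (L.mem_Z.1 h)
  rw [ρ_dg, m2_eq_iff] at hc
  have h1 : (a : F) = c := by simpa using hc.1
  have h2 : ((a⁻¹ : Fˣ) : F) = c := by simpa using hc.2.2.2
  rw [pow_two, mul_eq_one_iff_eq_inv]
  exact Units.ext (h1.trans h2.symm))

omit [Fintype F] in
theorem u_pow (b : F) (n : ℕ) : L.u b ^ n = L.u (n * b) := by
  induction n with
  | zero => simp [L.u_zero]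
  | succ n ih => rw [pow_succ, ih, ← L.u_add]; push_cast; rw [add_mul, one_mul]

theorem B_le_normalizer_P : L.B ≤ normalizer (L.P : Set G) := by
  have := L.finite
  intro b hb
  refine mem_normalizer_of_conj_mem fun x hx => ?_
  have h1 : b * x * b⁻¹ ∈ L.B := mul_mem (mul_mem hb (L.P_le_B hx)) (inv_mem hb)
  have h2 : disc (L.ρ (b * x * b⁻¹)) = 0 := by
    rw [← L.disc_eq_of_isConj (isConj_iff.2 ⟨b, rfl⟩), L.disc_of_mem_P hx]
  rw [disc_eq, L.mem_B.1 h1, mul_zero, mul_zero, add_zero] at h2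
  exact L.mem_P.2 ⟨L.mem_B.1 h1, sub_eq_zero.1 (pow_eq_zero_iff two_ne_zero |>.1 h2)⟩

variable {Z : Subgroup G} {𝓐 : Finset (Subgroup G)}

include L in
theorem two_split (h : MinCov Z 𝓐) (hn : ∀ A ∈ 𝓐, Group.IsNilpotent A) {r : ℕ} (hr : r.Prime)
    (ho : Odd r) (hrq : r ∣ Fintype.card F - 1) : False := by
  classical
  have : Fact r.Prime := ⟨hr⟩
  obtain ⟨a, ha⟩ := exists_prime_orderOf_dvd_card' (G := Fˣ) r
    (by rwa [Nat.card_eq_fintype_card, Fintype.card_units])
  have ha2 : a ^ 2 ≠ 1 := fun e => by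
    have := orderOf_dvd_of_pow_eq_one e
    rw [ha, Nat.prime_dvd_prime_iff_eq hr Nat.prime_two] at this
    rw [this] at ho
    exact absurd ho (by decide)
  have hxZ := dg_not_mem_Z L ha2
  have hx1 : dg L a ≠ 1 := fun e => hxZ (e ▸ one_mem _)
  have hxr : dg L a ^ r = 1 := by rw [← map_pow, ← ha, pow_orderOf_eq_one, map_one]
  have hC := L.centralizer_of_mem_T (dg_mem_T L a) hxZ
  have hu : L.u 1 ∈ L.B := L.P_le_B (L.u_mem_P 1)
  obtain ⟨A, hA, hxA⟩ := h.cover (dg L a)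
  obtain ⟨B, hB, hyB⟩ := h.cover (L.u 1 * dg L a * (L.u 1)⁻¹)
  have hA' := fun a' b' => comm_of_isNilpotent L (hn A hA) hxA (det_dg L a) hr ho hxr hx1
    (a := a') (b := b')
  have hB' := fun a' b' => comm_of_isNilpotent L (hn B hB) hyB
    (by rw [← L.det_eq_of_isConj (isConj_iff.2 ⟨_, rfl⟩), det_dg]) hr ho (by rw [conj_pow, hxr]; group)
    (fun e => hx1 (by simpa using e)) (a := a') (b := b')
  have hAT : A ≤ L.T := fun g hg => hC ▸ ClassSize.mem_cent.2 (hA' _ _ hg hxA)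
  have hAB := h.eq_of_le (M := L.B) hA hB (hAT.trans L.T_le_B) (fun g hg => by
    have h1 : g ∈ centralizer {L.u 1 * dg L a * (L.u 1)⁻¹} := ClassSize.mem_cent.2 (hB' _ _ hg hyB)
    rw [← conj_smul_centralizer_singleton, hC, mem_conj_smul] at h1
    have := mul_mem (mul_mem hu (L.T_le_B h1)) (inv_mem hu)
    simpa [mul_assoc] using this) (fun e => L.w_not_mem_B (e ▸ mem_top _))
  have h1 := (L.mem_T.1 (hAT (hAB ▸ hyB))).1
  rw [← L.u_neg, map_mul, map_mul, L.ρ_u, L.ρ_u, ρ_dg] at h1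
  apply L.ne_of_mem_T (dg_mem_T L a) hxZ
  rw [ρ_dg]
  simp only [mul00, mul01, of_apply, cons_val', cons_val_zero,
    cons_val_one, cons_val_fin_one] at h1 ⊢
  linear_combination -h1

include L in
theorem two_nonsplit (h : MinCov Z 𝓐) (hZ : Z ≤ center G) (hn : ∀ A ∈ 𝓐, Group.IsNilpotent A)
    {k : ℕ} (hk : Fintype.card F - 1 = 2 ^ (k + 2)) : False := by
  classical
  have := L.finite
  have hq : Fintype.card F = 2 ^ (k + 2) + 1 := by
    have := Fintype.card_pos (α := F)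
    omega
  obtain ⟨p, hchar⟩ := CharP.exists F
  obtain ⟨e, hp, he⟩ := FiniteField.card F p
  have hpo : Odd p := hp.odd_of_ne_two fun e2 => by
    have h1 : 2 ∣ Fintype.card F := by rw [he, e2]; exact dvd_pow_self 2 e.ne_zero
    rw [hq, pow_succ] at h1
    omega
  have h2 : (2 : F) ≠ 0 := fun e2 => by
    have := (CharP.cast_eq_zero_iff F p 2).1 (by exact_mod_cast e2)
    rw [Nat.prime_dvd_prime_iff_eq hp Nat.prime_two] at this
    rw [this] at hpo
    exact absurd hpo (by decide)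
  have hcU : Nat.card Fˣ = 2 ^ (k + 2) := by rw [Nat.card_eq_fintype_card, Fintype.card_units, hk]
  have hcop : ∀ {r : ℕ}, Odd r → ∀ j, r.Coprime (2 ^ j) := fun hr j =>
    (Nat.coprime_two_right.2 hr).pow_right j
  have hT : ∀ y ∈ L.T, ∀ r, Odd r → y ^ r = 1 → y = 1 := fun y hy r hr hyr => by
    have h1 : orderOf y ∣ 2 ^ (k + 2) * 2 ^ (k + 2) := by
      have := L.T.orderOf_dvd_natCard hy
      rw [L.card_T, hk] at this
      exact this.trans (mul_dvd_mul_right (hcU ▸ card_subgroup_dvd_card _) _)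
    rw [← pow_add] at h1
    exact orderOf_eq_one_iff.1 (Nat.eq_one_of_dvd_coprimes (hcop hr _)
      (orderOf_dvd_of_pow_eq_one hyr) h1)
  -- an odd prime dividing `q + 1`
  obtain ⟨s, hs, hsd⟩ := Nat.exists_prime_and_dvd (n := 2 ^ (k + 1) + 1) (by
    have := Nat.two_pow_pos (k + 1); omega)
  have hso : Odd s := hs.odd_of_ne_two fun e2 => by
    rw [e2, pow_succ] at hsd
    omega
  have hsq : s ∣ Fintype.card F + 1 := by
    rw [hq, show 2 ^ (k + 2) + 1 + 1 = 2 * (2 ^ (k + 1) + 1) by ring]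
    exact hsd.mul_left 2
  have key : ∀ g : G, ∃ (y : G) (r : ℕ), r.Prime ∧ Odd r ∧ y ^ r = 1 ∧ y ≠ 1 ∧ (L.ρ y).det = 1 ∧
      g ∈ normalizer ((centralizer {y} : Subgroup G) : Set G) := fun g => by
    by_cases hg : IsEll (L.ρ g)
    · have : Fact s.Prime := ⟨hs⟩
      obtain ⟨y, hy⟩ := exists_prime_orderOf_dvd_card' (G := centralizer ({g} : Set G)) s
        (by rw [L.card_centralizer_ell hg]; exact hsq.mul_left _)
      have hy' : orderOf (y : G) = s := by rw [Subgroup.orderOf_coe, hy]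
      have hys : (y : G) ^ s = 1 := by rw [← hy', pow_orderOf_eq_one]
      refine ⟨y, s, hs, hso, hys, fun e1 => ?_, ?_, le_normalizer (ClassSize.mem_cent_comm.1 y.2)⟩
      · rw [e1, orderOf_one] at hy'
        exact hs.one_lt.ne hy'
      · have h1 : L.detHom y = 1 := orderOf_eq_one_iff.1 (Nat.eq_one_of_dvd_coprimes
          (hcop hso (k + 2)) (orderOf_dvd_of_pow_eq_one (by rw [← map_pow, hys, map_one]))
          (hcU ▸ orderOf_dvd_natCard _))
        exact Units.ext_iff.1 h1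
    · rw [isEll_iff] at hg
      push Not at hg
      obtain ⟨c, hc⟩ := hg
      obtain ⟨x, t, hx, ht, -, hxt⟩ := exists_conj_upper hc
      have hb : (L.mk1 x hx)⁻¹ * g * L.mk1 x hx ∈ L.B := by
        rw [L.mem_B, mul_assoc, map_mul, map_mul, L.ρ_mk1, ← hxt, ← Matrix.mul_assoc]
        nth_rw 2 [← L.ρ_mk1 x hx]
        rw [← map_mul, inv_mul_cancel, map_one, Matrix.one_mul, ht]
      have hu1 : L.u 1 ≠ 1 := fun e1 => one_ne_zero (L.u_injective (e1.trans L.u_zero.symm))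
      have hup : L.u 1 ^ p = 1 := by rw [u_pow, CharP.cast_eq_zero, zero_mul, L.u_zero]
      have hud : (L.ρ (L.u 1)).det = 1 := by simp [L.ρ_u, det_fin_two]
      have huZ : L.u 1 ∉ L.Z := fun hh =>
        hu1 (eq_one_of_mem_Z L hud hpo (k := 1) (by rwa [pow_one]) hh)
      refine ⟨L.mk1 x hx * L.u 1 * (L.mk1 x hx)⁻¹, p, hp, hpo, by rw [conj_pow, hup]; group,
        fun e1 => hu1 (by simpa using e1),
        by rw [← L.det_eq_of_isConj (isConj_iff.2 ⟨_, rfl⟩), hud], ?_⟩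
      rw [← conj_smul_centralizer_singleton, ← conj_smul_normalizer, mem_conj_smul,
        L.centralizer_of_mem_P (L.u_mem_P 1) huZ]
      exact B_le_normalizer_P L hb
  obtain ⟨a, ha⟩ := IsCyclic.exists_ofOrder_eq_natCard (α := Fˣ)
  have ha2 : a ^ 2 ≠ 1 := pow_ne_one_of_lt_orderOf two_ne_zero (by
    rw [ha, hcU, pow_succ, pow_succ]
    have := Nat.two_pow_pos k
    omega)
  obtain ⟨A₀, hA₀, hd⟩ := h.cover (dg L a)
  refine h.drop (fun A => if normalizer ((centralizer (A : Set G) : Subgroup G) : Set G) = ⊤ then A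
    else normalizer ((centralizer (A : Set G) : Subgroup G) : Set G)) hA₀ (fun A hA _ => ?_)
    (fun g => ?_)
  · split_ifs with hh
    · exact ⟨h.le A hA, h.proper A hA⟩
    · exact ⟨hZ.trans (center_le_normalizer _), hh⟩
  · obtain ⟨y, r, hr, ho, hyr, hy1, hyd, hg⟩ := key g
    obtain ⟨A, hA, hyA⟩ := h.cover y
    have hyZ : y ∉ L.Z := fun hh => hy1 (eq_one_of_mem_Z L hyd ho (k := 1) (by rwa [pow_one]) hh)
    refine ⟨A, hA, fun e1 => hy1 (hT y ?_ r ho hyr), ?_⟩
    · rw [← L.centralizer_of_mem_T (dg_mem_T L a) (dg_not_mem_Z L ha2)]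
      exact ClassSize.mem_cent.2
        (comm_of_isNilpotent L (hn A hA) hyA hyd hr ho hyr hy1 hyA (e1 ▸ hd))
    · rw [centralizer_eq L (hn A hA) hyA hyd hr ho hyr hy1, if_neg (normalizer_ne_top L h2 hyZ)]
      exact hg

include L in
theorem two (hq : 4 ≤ Fintype.card F) (h : MinCov Z 𝓐) (hZ : Z ≤ center G)
    (hn : ∀ A ∈ 𝓐, Group.IsNilpotent A) : False := by
  by_cases hr : ∃ r : ℕ, r.Prime ∧ r ∣ Fintype.card F - 1 ∧ r ≠ 2
  · obtain ⟨r, hr, hd, h2⟩ := hr
    exact two_split L h hn hr (hr.odd_of_ne_two h2) hd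
  · push Not at hr
    have h1 := Nat.eq_prime_pow_of_unique_prime_dvd (n := Fintype.card F - 1) (p := 2) (by omega)
      (fun {r} h1 h2 => hr r h1 h2)
    generalize (Fintype.card F - 1).primeFactorsList.length = j at h1
    obtain ⟨k, rfl⟩ : ∃ k, j = k + 2 := by
      rcases j with _ | _ | j
      · omega
      · omega
      · exact ⟨j, rfl⟩
    exact two_nonsplit L h hZ hn h1

end Two

section Big

variable {F : Type*} [Field F] {m : ℕ}

/-- The first coordinate axis. -/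
def axis (F : Type*) [Field F] (m : ℕ) : Submodule F (Fin (m + 3) → F) where
  carrier := {v | ∀ i, i ≠ 0 → v i = 0}
  add_mem' := fun {a b} ha hb i hi => by simp [ha i hi, hb i hi]
  zero_mem' := fun _ _ => rfl
  smul_mem' := fun c a ha i hi => by simp [ha i hi]

theorem jt_mulVec (v : Fin (m + 3) → F) (i : Fin (m + 2)) :
    ((jordanBlock (m + 3) F)ᵀ *ᵥ v) i.castSucc = v i.castSucc + v i.succ := by
  have h := Cfsg.Lib.Known.jordanBlock_sub_one_pow (K := F) (m + 3) 1
  rw [pow_one, sub_eq_iff_eq_add] at h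
  rw [h, transpose_add, transpose_one, add_mulVec, one_mulVec, Pi.add_apply, add_comm]
  congr 1
  simp only [mulVec, dotProduct, transpose_apply, of_apply]
  rw [Finset.sum_eq_single i.succ]
  · simp
  · intro b _ hb
    rw [if_neg (fun e => hb (Fin.ext (by simpa using e))), zero_mul]
  · simp

theorem jt_pow {p : ℕ} [hp : Fact p.Prime] [CharP F p] :
    ((jordanBlock (m + 3) F)ᵀ) ^ p ^ (m + 3) = 1 := by
  have h := Cfsg.Lib.Known.jordanBlock_sub_one_pow (K := F) (m + 3) (p ^ (m + 3))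
  have h0 : (jordanBlock (m + 3) F - 1) ^ p ^ (m + 3) = 0 := by
    rw [h]
    ext a b
    have := Nat.lt_pow_self (n := m + 3) hp.out.one_lt
    simp only [of_apply, Matrix.zero_apply]
    rw [if_neg (by omega)]
  rw [sub_pow_char_pow_of_commute _ _ (Commute.one_right _), one_pow, sub_eq_zero] at h0
  rw [← transpose_pow, h0, transpose_one]

theorem jt_det : ((jordanBlock (m + 3) F)ᵀ).det = 1 := by
  rw [det_of_isUpperTriangular]
  · simp [jordanBlock]
  · intro i j hij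
    have : (j : ℕ) < i := hij
    simp only [transpose_apply, jordanBlock, of_apply]
    rw [if_neg (by omega), if_neg (by omega)]

variable [Fintype F] {G : Type*} [Group G] [Finite G]

theorem big (ρ : G →* GL (Fin (m + 3)) F) (hρ : Function.Injective ρ)
    (hSL : ∀ x : Matrix (Fin (m + 3)) (Fin (m + 3)) F, x.det = 1 → ∃ g, (ρ g : Matrix _ _ F) = x)
    {Z : Subgroup G} {𝓐 : Finset (Subgroup G)} (h : MinCov Z 𝓐)
    (hn : ∀ A ∈ 𝓐, Group.IsNilpotent A) : False := by
  classical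
  obtain ⟨p, hchar⟩ := CharP.exists F
  have hp : Fact p.Prime := ⟨(FiniteField.card F p).choose_spec.1⟩
  let τ : G →* (Fin (m + 3) → F) ≃ₗ[F] (Fin (m + 3) → F) :=
    ((LinearMap.GeneralLinearGroup.generalLinearEquiv F _).toMonoidHom.comp
      GeneralLinearGroup.toLin.toMonoidHom).comp ρ
  have hτ : ∀ g v, τ g v = (ρ g : Matrix _ _ F) *ᵥ v := fun g v => rfl
  let M : Subgroup G :=
    { carrier := {g | ∀ v, τ g v ∈ axis F m ↔ v ∈ axis F m}
      one_mem' := fun v => by simp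
      mul_mem' := fun {a b} ha hb v => by
        rw [map_mul, LinearEquiv.mul_apply, ha, hb]
      inv_mem' := fun {a} ha v => by
        rw [← ha, ← LinearEquiv.mul_apply, ← map_mul, mul_inv_cancel, map_one, LinearEquiv.coe_one, id] }
  have hM : M ≠ ⊤ := fun e => by
    obtain ⟨g, hg⟩ := hSL (transvection 1 0 1) (det_transvection_of_ne _ _ (by simp) _)
    have h1 : g ∈ M := e ▸ mem_top _
    have h2 := (h1 (Pi.single 0 1)).2 (fun i hi => by simp [hi]) 1 (by simp)
    rw [hτ, hg] at h2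
    simp [transvection] at h2
  have hex : ∀ σ : Equiv.Perm (Fin (m + 3)), σ 0 = 0 → ∃ x : G, x ^ p ^ (m + 3) = 1 ∧
      (∀ v, τ x v = v → v ∈ axis F m) ∧
      ∀ v, τ x v - v ∈ axis F m → ∀ i : Fin (m + 3), 2 ≤ (i : ℕ) → v (σ.symm i) = 0 := by
    intro σ hσ
    obtain ⟨x, hx⟩ := hSL (((jordanBlock (m + 3) F)ᵀ).submatrix σ σ)
      (by rw [det_submatrix_equiv_self, jt_det])
    have hxv : ∀ v (i : Fin (m + 2)), (τ x v - v) (σ.symm i.castSucc) = v (σ.symm i.succ) := by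
      intro v i
      rw [Pi.sub_apply, hτ, hx, submatrix_mulVec_equiv, Function.comp_apply, σ.apply_symm_apply,
        jt_mulVec]
      simp
    refine ⟨x, hρ (Units.ext ?_), fun v hv i hi => ?_, fun v hv i hi => ?_⟩
    · rw [map_pow, Units.val_pow_eq_pow_val, hx, map_one, Units.val_one]
      have := map_pow (reindexAlgEquiv F F σ.symm) ((jordanBlock (m + 3) F)ᵀ) (p ^ (m + 3))
      rw [jt_pow, map_one] at this
      exact this.symm
    · obtain ⟨j, hj⟩ := (Fin.exists_succ_eq (x := σ i)).2 (fun e => hi (σ.injective (e.trans hσ.symm)))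
      rw [← σ.symm_apply_apply i, ← hj, ← hxv v j, hv, sub_self, Pi.zero_apply]
    · obtain ⟨j, rfl⟩ := (Fin.exists_succ_eq (x := i)).2 (fun e => by rw [e] at hi; simp at hi)
      rw [← hxv v j]
      refine hv _ fun e => ?_
      rw [Equiv.symm_apply_eq, hσ] at e
      have := congrArg Fin.val e
      simp only [Fin.val_succ, Fin.val_castSucc, Fin.val_zero] at this hi
      omega
  have hle : ∀ A ∈ 𝓐, ∀ x ∈ A, x ^ p ^ (m + 3) = 1 → (∀ v, τ x v = v → v ∈ axis F m) → A ≤ M := by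
    intro A hA x hx hxp hfix
    obtain ⟨U, -, hU, hN, hmem⟩ := exists_pSub_of_isNilpotent (hn A hA) p
    obtain ⟨w, -, hw0, hw⟩ := Cfsg.Lib.Fus.Grp.exists_fixed_vector (ρ := τ) hU (W := ⊤) top_ne_bot
      (fun _ _ _ _ => trivial)
    have hwL := hfix w (hw x (hmem x hx _ hxp))
    have hw1 : w 0 ≠ 0 := fun e => hw0 (funext fun i => by
      by_cases hi : i = 0
      · rw [hi, e, Pi.zero_apply]
      · exact hwL i hi)
    have h1 : ∀ a ∈ A, ∀ v ∈ axis F m, τ a v ∈ axis F m := fun a ha v hv => by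
      have e : v = (v 0 / w 0) • w := funext fun i => by
        by_cases hi : i = 0
        · rw [hi, Pi.smul_apply, smul_eq_mul, div_mul_cancel₀ _ hw1]
        · rw [Pi.smul_apply, hv i hi, hwL i hi, smul_zero]
      rw [e, map_smul]
      refine Submodule.smul_mem _ _ (hfix _ ?_)
      have := hw _ (inv_conj_mem_of_mem_normalizer (hN ha) (hmem x hx _ hxp))
      rw [← LinearEquiv.mul_apply, ← map_mul, show x * a = a * (a⁻¹ * x * a) by group, map_mul,
        LinearEquiv.mul_apply, this]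
    intro a ha v
    refine ⟨fun hv => ?_, h1 a ha v⟩
    have := h1 a⁻¹ (inv_mem ha) _ hv
    rwa [← LinearEquiv.mul_apply, ← map_mul, inv_mul_cancel, map_one, LinearEquiv.coe_one, id] at this
  obtain ⟨x, hx1, hx2, hx3⟩ := hex 1 rfl
  obtain ⟨y, hy1, hy2, hy3⟩ := hex (Equiv.swap 1 2) (Equiv.swap_apply_of_ne_of_ne (by simp)
    (fun e => by have := congrArg Fin.val e; rw [Fin.val_zero, Fin.val_two] at this; omega))
  obtain ⟨A, hA, hxA⟩ := h.cover x
  obtain ⟨B, hB, hyB⟩ := h.cover y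
  have hAM := hle A hA x hxA hx1 hx2
  have hAB := h.eq_of_le hA hB hAM (hle B hB y hyB hy1 hy2) hM
  subst hAB
  obtain ⟨U, hUA, hU, -, hmem⟩ := exists_pSub_of_isNilpotent (hn A hA) p
  obtain ⟨w, -, hw0, hw⟩ := Cfsg.Lib.Fus.Grp.exists_fixed_mod (ρ := τ) hU (W := ⊤) (W' := axis F m)
    (lt_top_iff_ne_top.2 fun e => by
      have : (fun _ => 1 : Fin (m + 3) → F) ∈ axis F m := e ▸ Submodule.mem_top
      exact one_ne_zero (this 1 (by simp)))
    (fun s hs v hv => (hAM (hUA hs) v).2 hv) (fun _ _ _ _ => trivial)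
  refine hw0 fun i hi => ?_
  by_cases h1 : i = 1
  · have := hy3 w (hw y (hmem y hyB _ hy1)) 2 (by rw [Fin.val_two])
    rwa [Equiv.symm_swap, Equiv.swap_apply_right, ← h1] at this
  · refine hx3 w (hw x (hmem x hxA _ hx1)) i ?_
    simp only [Ne, Fin.ext_iff, Fin.val_zero, Fin.val_one] at hi h1
    omega

end Big

end Cfsg.Lib.Solv.MinCoverLin
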