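import Cfsg.Agent.CITCor.EPPOGen
import Cfsg.Agent.FT.Final
import Cfsg.Agent.S3909
import Cfsg.Agent.Solv.CyclicIndexP

/-!
Groups in which abelian subgroups of the same order are conjugate: quotients by normal subgroups
of odd order.
-/

set_option autoImplicit false

universe u

namespace Cfsg.Lib.Solv

open Subgroup
open scoped commutatorElement

variable {G : Type*} [Group G]

/-- Abelian subgroups of the same order are conjugate. -/
def BG (G : Type*) [Group G] : Prop :=
  ∀ A B : Subgroup G, IsMulCommutative A → IsMulCommutative B → Nat.card A = Nat.card B →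
    ∃ g : G, B = A.map (MulAut.conj g).toMonoidHom

theorem map_conj_map {Q : Type*} [Group Q] (f : G →* Q) (A : Subgroup G) (g : G) :
    (A.map (MulAut.conj g).toMonoidHom).map f = (A.map f).map (MulAut.conj (f g)).toMonoidHom := by
  rw [map_map, map_map]
  congr 1
  ext x
  simp

namespace BG

theorem of_lift (h : BG G) {Q : Type*} [Group Q] (f : G →* Q) (c : ℕ → ℕ)
    (hl : ∀ A : Subgroup Q, IsMulCommutative A →
      ∃ A₀ : Subgroup G, IsMulCommutative A₀ ∧ A₀.map f = A ∧ Nat.card A₀ = c (Nat.card A)) :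
    BG Q := fun A B hA hB e => by
  obtain ⟨A₀, h1, rfl, h2⟩ := hl A hA
  obtain ⟨B₀, h3, rfl, h4⟩ := hl B hB
  obtain ⟨g, rfl⟩ := h A₀ B₀ h1 h3 (by rw [h2, h4, e])
  exact ⟨f g, map_conj_map f A₀ g⟩

variable [Finite G]

theorem mem_of_orderOf (h : BG G) {M : Subgroup G} [M.Normal] {a m : G} (hm : m ∈ M)
    (e : orderOf m = orderOf a) : a ∈ M := (Agent.S3909.result h M).1 a ⟨m, hm, e⟩

theorem quotient_elementary (h : BG G) (M : Subgroup G) [hMn : M.Normal] {p : ℕ}
    [hp : Fact p.Prime] (hp2 : p ≠ 2) (hM : IsElementaryAbelian p M) (hMp : IsPGroup p M)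
    (h0 : M ≠ ⊥) : BG (G ⧸ M) := by
  classical
  let f := QuotientGroup.mk' M
  have hf : Function.Surjective f := QuotientGroup.mk'_surjective M
  refine h.of_lift f (fun n => if p ∣ n then Nat.card M * n else n) fun A hA => ?_
  have hcm : ∀ x y, f x ∈ A → f y ∈ A → ⁅x, y⁆ ∈ M := fun x y hx hy => by
    rw [← QuotientGroup.eq_one_iff]
    change f ⁅x, y⁆ = 1
    rw [map_commutatorElement, commutatorElement_eq_one_iff_mul_comm]
    exact setLike_mul_comm hx hy
  split_ifs with hd
  swap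
  · have hc : (Nat.card M).Coprime (Nat.card A) :=
      coprime_card_of_isPGroup hMp (hp.out.coprime_iff_not_dvd.2 hd).symm
    obtain ⟨H, hH, hc'⟩ := CITCor.exists_lift_of_coprime M A hc
    refine ⟨H, ⟨⟨fun x y => Subtype.ext (commutatorElement_eq_one_iff_mul_comm.1 ?_)⟩⟩, hH, hc'⟩
    have h1 : ⁅(x : G), (y : G)⁆ ∈ M ⊓ H :=
      ⟨hcm _ _ (hH.le (mem_map_of_mem _ x.2)) (hH.le (mem_map_of_mem _ y.2)), (⁅x, y⁆ : H).2⟩
    rwa [inf_eq_bot_of_coprime_card (hc' ▸ hc), mem_bot] at h1
  refine ⟨A.comap f, ?_, map_comap_eq_self_of_surjective hf A,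
    QuotientGroup.card_preimage_mk M (A : Set (G ⧸ M))⟩
  obtain ⟨t, ht⟩ := IsPGroup.iff_card.1 hMp
  have hcard : Nat.card M = p := by
    rcases t with _ | _ | t
    · exact absurd (card_eq_one.1 ht) h0
    · simpa using ht
    · have h1 := (Agent.S3909.result h M).2 p _ (by omega) ht hM default
      refine absurd (hd.trans (card_subgroup_dvd_card A)) ?_
      rw [← index_eq_card, ← h1]
      exact Sylow.not_dvd_index _
  obtain ⟨m, hm⟩ := exists_prime_orderOf_dvd_card' (G := M) p (hcard ▸ dvd_rfl)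
  rw [← orderOf_coe] at hm
  have hmem : ∀ x : G, x ^ p = 1 → x ∈ M := fun x hx => by
    by_cases h1 : x = 1
    · exact h1 ▸ one_mem _
    · exact h.mem_of_orderOf m.2 (hm.trans (orderOf_eq_prime hx h1).symm)
  obtain ⟨⟨b', hb⟩, hbo⟩ := exists_prime_orderOf_dvd_card' (G := A) p hd
  obtain ⟨b, rfl⟩ := hf b'
  rw [← orderOf_coe] at hbo
  have hb1 : b ^ p ∈ M := (QuotientGroup.eq_one_iff _).1 (by
    change f (b ^ p) = 1
    rw [map_pow, ← hbo, pow_orderOf_eq_one])
  have hb2 : b ^ p ≠ 1 := fun e => hp.out.one_lt.ne' (by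
    rw [← hbo, orderOf_eq_one_iff]
    exact (QuotientGroup.eq_one_iff _).2 (hmem b e))
  have hb3 : M = zpowers (b ^ p) := (eq_of_le_of_card_ge (zpowers_le.2 hb1) (by
    rw [Nat.card_zpowers, orderOf_eq_prime (hM.2 _ hb1) hb2, hcard])).symm
  have hcen : ∀ x, f x ∈ A → ∀ y ∈ M, x * y = y * x := fun x hx y hy => by
    have h1 := hcm x b hx hb
    have h2 : Commute ⁅x, b⁆ b := by
      rw [hb3] at h1
      obtain ⟨k, hk⟩ := h1
      rw [← hk]
      exact ((Commute.refl b).pow_left p).zpow_left k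
    have h3 : x * b ^ p * x⁻¹ = b ^ p := by
      rw [← conj_pow, show x * b * x⁻¹ = ⁅x, b⁆ * b by rw [commutatorElement_def]; group,
        h2.mul_pow, hM.2 _ h1, one_mul]
    rw [hb3] at hy
    obtain ⟨k, rfl⟩ := hy
    exact (show Commute x (b ^ p) from mul_inv_eq_iff_eq_mul.1 h3).zpow_right k
  have hnil : Group.IsNilpotent (A.comap f) := by
    have := isNilpotent_of_isMulCommutative A
    refine Subgroup.isNilpotent_of_ker_le_center (f.subgroupComap A) fun x hx =>
      mem_center_iff.2 fun y => Subtype.ext (hcen y y.2 x ?_)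
    exact (QuotientGroup.eq_one_iff _).1 (congrArg Subtype.val hx)
  refine FT.X12.nil_abelian_of_Sylow hnil fun r hr _ R hR => ?_
  have := Fact.mk hr
  by_cases hrp : r = p
  · subst hrp
    have key : ∀ H : Subgroup G, Nat.card H = r → H = M := fun H hH =>
      eq_of_le_of_card_ge (fun x hx => hmem x (by
        rw [← hH]; exact congrArg Subtype.val (pow_card_eq_one' (x := (⟨x, hx⟩ : H)))))
        (by rw [hH, hcard])
    have := PG.isCyclic_of_unique_card_prime (FT.Sylow_pgroup hR)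
      (fun H K _ _ h1 h2 => (key H h1).trans (key K h2).symm) (Or.inl hp2)
    infer_instance
  · refine ⟨⟨fun x y => Subtype.ext (commutatorElement_eq_one_iff_mul_comm.1 ?_)⟩⟩
    have h1 : ⁅(x : G), (y : G)⁆ ∈ R ⊓ M := ⟨(⁅x, y⁆ : R).2, hcm _ _ (hR.1 x.2) (hR.1 y.2)⟩
    rwa [disjoint_iff.1 (IsPGroup.disjoint_of_ne r p hrp R M (FT.Sylow_pgroup hR) hMp),
      mem_bot] at h1

theorem of_ker_odd {Q : Type*} [Group Q] (G : Type u) [Group G] [Finite G] :
    ∀ f : G →* Q, Function.Surjective f → Odd (Nat.card f.ker) → BG G → BG Q := by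
  refine card_induction (P := fun G _ _ =>
    ∀ f : G →* Q, Function.Surjective f → Odd (Nat.card f.ker) → BG G → BG Q) ?_ G
  intro G _ _ ih f hf ho h
  by_cases h0 : f.ker = ⊥
  · have hi := (MonoidHom.ker_eq_bot_iff f).1 h0
    refine h.of_lift f id fun A hA => ⟨A.comap f, comap_injective_isMulCommutative A hi,
      map_comap_eq_self_of_surjective hf A, ?_⟩
    exact Nat.card_congr (Equiv.ofBijective (f.subgroupComap A)
      ⟨fun x y e => Subtype.ext (hi (congrArg Subtype.val e)),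
        f.subgroupComap_surjective_of_surjective A hf⟩)
  have := FT.odd_order_solvable ho
  obtain ⟨p, M, hp, hM, hle, h1, h2, h3⟩ := exists_isMinNormal_elementary_le f.ker h0
  have := Fact.mk hp
  have := hM.normal
  have hp2 : p ≠ 2 := by
    rintro rfl
    exact (ho.of_dvd_nat (card_dvd_of_le hle)).not_two_dvd_nat (by
      obtain ⟨k, hk⟩ := IsPGroup.iff_card.1 h3
      rcases k with _ | k
      · exact absurd (card_eq_one.1 hk) hM.ne_bot
      · exact hk ▸ dvd_pow_self 2 k.succ_ne_zero)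
  refine ih (G ⧸ M) (card_quotient_lt hM.ne_bot) (QuotientGroup.lift M f hle)
    (QuotientGroup.lift_surjective_of_surjective M f hf hle) ?_
    (h.quotient_elementary M hp2 ⟨h1, h2⟩ h3 hM.ne_bot)
  rw [QuotientGroup.ker_lift]
  exact ho.of_dvd_nat (card_map_dvd _ _)

theorem quotient_odd (h : BG G) (M : Subgroup G) [M.Normal] (hM : Odd (Nat.card M)) :
    BG (G ⧸ M) :=
  of_ker_odd G _ (QuotientGroup.mk'_surjective M) (by rwa [QuotientGroup.ker_mk']) h

end BG

end Cfsg.Lib.Solv
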