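import Cfsg.Agent.Solv.BGrp3
import Cfsg.Agent.S3908

/-!
Solvable groups in which abelian subgroups of the same order are conjugate: all subgroups of the
same order are conjugate.
-/

set_option autoImplicit false

namespace Cfsg.Lib.Solv

open Subgroup Cfsg.Lib.FT Cfsg.Lib.WalCor Pointwise
open scoped commutatorElement

variable {G : Type*} [Group G] [Finite G]

omit [Finite G] in
theorem comm_of_card_dvd_sq {p : ℕ} [hp : Fact p.Prime] {H : Subgroup G} (h : Nat.card H ∣ p ^ 2) :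
    IsMulCommutative H := by
  obtain ⟨k, hk, e⟩ := (Nat.dvd_prime_pow hp.out).1 h
  interval_cases k
  · rw [card_eq_one.1 e]; infer_instance
  · exact cyclic_abelian (isCyclic_of_prime_card (p := p) (by simpa using e))
  · exact IsPGroup.isMulCommutative_of_card_eq_prime_sq e

namespace BG

theorem not_quaternion [Group.IsSolvable G] (h : BG G) (P : Sylow 2 G) {k : ℕ}
    (e : (P : Subgroup G) ≃* QuaternionGroup (2 ^ (k + 2))) : False := by
  let f := QuotientGroup.mk' (pPrimeCore 2 G)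
  have hf : Function.Surjective f := QuotientGroup.mk'_surjective _
  let ι : QuaternionGroup (2 ^ (k + 2)) →* G := (P : Subgroup G).subtype.comp e.symm.toMonoidHom
  have hι : Function.Injective ι := (subtype_injective _).comp e.symm.injective
  have hP : ∀ x ∈ (P : Subgroup G), ∃ a, ι a = x := fun x hx => ⟨e ⟨x, hx⟩, by simp [ι]⟩
  have hinj : ∀ a b, f (ι a) = f (ι b) → a = b := fun a b e' => by
    have h1 : ι (a * b⁻¹) ∈ pPrimeCore 2 G ⊓ P := ⟨(QuotientGroup.eq_one_iff _).1 (by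
      change f _ = 1
      rw [map_mul, map_mul, e', map_inv, map_inv, mul_inv_cancel]), (e.symm _).2⟩
    rw [pl_inf_eq_bot pl_coprime_pPrimeCore P.2, mem_bot, map_eq_one_iff ι hι] at h1
    exact mul_inv_eq_one.1 h1
  have hle : pCore 2 (G ⧸ pPrimeCore 2 G) ≤ (P : Subgroup G).map f :=
    (pCore_isPGroup 2 _).le_sylow_of_normal (P.mapSurjective hf)
  have ho : ∀ i, orderOf (ι (.xa i)) = 4 := fun i => by
    rw [orderOf_injective ι hι, QuaternionGroup.orderOf_xa]
  let N := (pCore 2 (G ⧸ pPrimeCore 2 G)).comap f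
  have h1 : ∀ i, ι (.xa i) ∈ N := by
    by_contra! h1
    obtain ⟨i, hi⟩ := h1
    refine hi ((IsPSolvable.of_isSolvable 2 _).centralizer_pCore_le
      (pPrimeCore_quotient_pPrimeCore 2 G) fun y hy => ?_)
    obtain ⟨y, hyP, rfl⟩ := hle hy
    obtain ⟨n, hn⟩ := IsPGroup.iff_orderOf.1 P.2 ⟨y, hyP⟩
    replace hn : orderOf y = 2 ^ n := by rwa [← orderOf_coe] at hn
    have h2 : y ^ 2 = 1 := by
      rcases n with _ | _ | n
      · rw [orderOf_eq_one_iff.1 hn, one_pow]
      · exact orderOf_dvd_iff_pow_eq_one.1 (dvd_of_eq hn)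
      · refine absurd (h.mem_of_orderOf (M := N) (pow_mem hy (orderOf y / 4)) ?_) hi
        rw [ho, orderOf_pow_orderOf_div (orderOf_pos y).ne' (hn ▸ ⟨2 ^ n, by ring⟩)]
    obtain ⟨a, rfl⟩ := hP y hyP
    rw [← map_mul, ← map_mul, ← map_mul, ← map_mul]
    rw [← map_pow, map_eq_one_iff ι hι] at h2
    congr 2
    rcases a with j | j
    · rw [pow_two, QuaternionGroup.a_mul_a, QuaternionGroup.one_def,
        QuaternionGroup.a.injEq] at h2
      rw [QuaternionGroup.a_mul_xa, QuaternionGroup.xa_mul_a, QuaternionGroup.xa.injEq]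
      linear_combination -h2
    · have := orderOf_dvd_of_pow_eq_one h2
      rw [QuaternionGroup.orderOf_xa] at this
      omega
  have h2 : ∀ a, ι a ∈ N := by
    rintro (i | i)
    · have := mul_mem (inv_mem (h1 0)) (h1 i)
      rw [← map_inv, ← map_mul] at this
      convert this using 2
      rw [eq_inv_mul_iff_mul_eq, QuaternionGroup.xa_mul_a, zero_add]
    · exact h1 i
  obtain ⟨d, hd⟩ : ∃ d : QuaternionGroup (2 ^ (k + 2)), orderOf d = 8 :=
    ⟨_, orderOf_pow_orderOf_div (orderOf_pos (QuaternionGroup.a 1)).ne'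
      (by rw [QuaternionGroup.orderOf_a_one]; exact ⟨2 ^ k, by ring⟩)⟩
  obtain ⟨g, hg⟩ := h (zpowers (ι d ^ 2)) (zpowers (ι (.xa 0))) inferInstance inferInstance (by
    rw [Nat.card_zpowers, Nat.card_zpowers, ho, orderOf_pow' _ two_ne_zero,
      orderOf_injective ι hι, hd]
    rfl)
  obtain ⟨_, ⟨m, rfl⟩, h3⟩ := hg.le (mem_zpowers _)
  obtain ⟨y, hy, h4⟩ := hle (Normal.conj_mem (H := N) inferInstance _ (zpow_mem (h2 d) m) g)
  obtain ⟨a, rfl⟩ := hP y hy
  have h5 := hinj (a ^ 2) (.xa 0) (by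
    rw [map_pow, map_pow, h4, ← map_pow, ← h3, conj_pow, ← zpow_natCast, ← zpow_mul, mul_comm m,
      zpow_mul, zpow_natCast]
    rfl)
  rcases a with j | j <;> simp [pow_two] at h5

theorem sylow_cases [Group.IsSolvable G] (h : BG G) {p : ℕ} [hp : Fact p.Prime] (P : Sylow p G) :
    IsMulCommutative (P : Subgroup G) ∨ p = 2 ∧ Nat.card (P : Subgroup G) = 8 := by
  by_cases hp2 : p = 2
  · subst hp2
    rcases (Agent.S3908.result h).1 P with h1 | h1 | ⟨_ | _ | k, ⟨e⟩⟩
    · exact Or.inl (cyclic_abelian h1)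
    · exact Or.inl h1.1
    · exact Or.inl (cyclic_abelian (e.isCyclic.2 QuaternionGroup.quaternionGroup_one_isCyclic))
    · refine Or.inr ⟨rfl, ?_⟩
      rw [Nat.card_congr e.toEquiv, Nat.card_eq_fintype_card, QuaternionGroup.card]
      rfl
    · exact (h.not_quaternion P e).elim
  left
  rcases (Agent.S3908.result h).2 p hp2 P with h1 | h1
  · exact cyclic_abelian h1
  let f := QuotientGroup.mk' (pPrimeCore p G)
  have hf : Function.Surjective f := QuotientGroup.mk'_surjective _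
  suffices ∀ x ∈ (P : Subgroup G), ∀ y ∈ (P : Subgroup G), f x * f y = f y * f x from
    abelian_of_forall fun x hx y hy => by
      have h2 : ⁅x, y⁆ ∈ pPrimeCore p G ⊓ P := ⟨(QuotientGroup.eq_one_iff _).1 (by
        change f _ = 1
        rw [map_commutatorElement, commutatorElement_eq_one_iff_mul_comm, this x hx y hy]),
        (⁅(⟨x, hx⟩ : (P : Subgroup G)), (⟨y, hy⟩ : (P : Subgroup G))⁆).2⟩
      rwa [pl_inf_eq_bot pl_coprime_pPrimeCore P.2, mem_bot,
        commutatorElement_eq_one_iff_mul_comm] at h2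
  rcases subsingleton_or_nontrivial (G ⧸ pPrimeCore p G) with _ | _
  · exact fun _ _ _ _ => Subsingleton.elim _ _
  obtain ⟨r, M, hr, hM, h2, -, h3⟩ := exists_isMinNormal_elementary (G ⧸ pPrimeCore p G)
  have := hM.normal
  obtain rfl : p = r := by
    by_contra hne
    have := Fact.mk hr
    exact hM.ne_bot (pPrimeCore_eq_bot_iff.1 (pPrimeCore_quotient_pPrimeCore p G) M hM.normal
      (coprime_card_of_isPGroup h3 ((Nat.coprime_primes hp.out hr).2 hne)))
  obtain ⟨⟨m', hm⟩, hm1⟩ := (ne_bot_iff_exists_ne_one).1 hM.ne_bot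
  obtain ⟨m, hmP, rfl⟩ := h3.le_sylow_of_normal (P.mapSurjective hf) hm
  have h4 : ∀ x ∈ (P : Subgroup G), f x ∈ M := fun x hx => by
    by_cases hx1 : x = 1
    · rw [hx1, map_one]; exact one_mem _
    exact h.mem_of_orderOf (M := M.comap f) hm ((orderOf_eq_prime (h1 m hmP)
      fun e => hm1 (Subtype.ext (by simp [e]))).trans (orderOf_eq_prime (h1 x hx) hx1).symm)
  exact fun x hx y hy => abelian_comm h2 (h4 x hx) (h4 y hy)

theorem dG [Group.IsSolvable G] (h : BG G) : DG G := fun p hp H K hH hK e => by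
  have := Fact.mk hp
  obtain ⟨P, hP⟩ := hH.exists_le_sylow
  obtain ⟨Q, hQ⟩ := hK.exists_le_sylow
  have hPQ : Nat.card (P : Subgroup G) = Nat.card (Q : Subgroup G) := by
    rw [P.card_eq_multiplicity, Q.card_eq_multiplicity]
  by_cases h1 : H = P
  · obtain ⟨g, -, hg⟩ := Sylow_trans (Sylow_top P) (Sylow_top Q)
    exact ⟨g, by rw [h1, eq_of_le_of_card_ge hQ (by rw [← hPQ, ← h1, e]), hg]; rfl⟩
  have key : ∀ (P : Sylow p G) (H : Subgroup G), H < P → IsMulCommutative H := fun P H hlt => by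
    rcases h.sylow_cases P with h2 | ⟨rfl, h2⟩
    · exact abelianS hlt.le h2
    · obtain ⟨k, hk, e⟩ := (Nat.dvd_prime_pow Nat.prime_two (m := 3)).1
        (h2 ▸ card_dvd_of_le hlt.le)
      have h3 := card_lt_of_lt hlt
      rw [h2, e] at h3
      refine comm_of_card_dvd_sq (p := 2) (e ▸ pow_dvd_pow 2 ?_)
      interval_cases k <;> omega
  exact h H K (key P H (lt_of_le_of_ne hP h1)) (key Q K (lt_of_le_of_ne hQ fun h2 =>
    h1 (eq_of_le_of_card_ge hP (by rw [hPQ, ← h2, e])))) e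

end BG

theorem dG_map_of_mod {Γ : Type*} [Group Γ] (f : G →* Γ) (N : Subgroup G)
    (h : ∀ p : ℕ, p.Prime → ∀ A B : Subgroup G, A ≤ N → B ≤ N → IsPGroup p A → IsPGroup p B →
      Nat.card A = Nat.card B → ∃ g ∈ N, B.map f = (g •ᶜ A).map f) : DG (N.map f) := by
  intro p hp A B hA hB e
  have := Fact.mk hp
  obtain ⟨A₁, h1, rfl, h2⟩ := exists_pgroup_map_eq (f.subgroupMap_surjective N) hA
  obtain ⟨B₁, h3, rfl, h4⟩ := exists_pgroup_map_eq (f.subgroupMap_surjective N) hB
  obtain ⟨g, hg, h5⟩ := h p hp _ _ (map_subtype_le A₁) (map_subtype_le B₁) (h1.map _) (h3.map _)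
    (by rw [card_subtype, card_subtype, h2, h4, e])
  refine ⟨f.subgroupMap N ⟨g, hg⟩, map_injective (subtype_injective _) ?_⟩
  have h6 : ∀ X : Subgroup N, (X.map (f.subgroupMap N)).map (N.map f).subtype =
      (X.map N.subtype).map f := fun X => by rw [map_map, map_map]; rfl
  rw [map_conj_eq_smul, map_subtype_conj_smul, h6, h6, h5, map_conj_smul]
  rfl

theorem BG.cG [Group.IsSolvable G] (h : BG G) : CG G := by
  have hD := h.dG
  let π : Set ℕ := {p | ∃ P : Sylow p G, IsElementaryAbelian p (P : Subgroup G) ∧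
    ¬ IsCyclic (P : Subgroup G)}
  let E := piCore π G
  have hE : IsPiNum π (Nat.card E) := isPiNum_card_piCore π G
  have h1 : ∀ p : ℕ, p.Prime → p ∈ π → ∃ P : Sylow p G, IsElementaryAbelian p (P : Subgroup G) ∧
      (P : Subgroup G).Normal ∧ (P : Subgroup G) ≤ E := fun p hp ⟨P, h2, h3⟩ => by
    have := Fact.mk hp
    have h4 := DG_normal G inferInstance hD P h2 h3
    exact ⟨P, h2, h4, le_piCore h4 (isPiNum_card_of_isPGroup ⟨P, h2, h3⟩ P.2)⟩
  have h2 : ∀ X ≤ E, ∀ (r : ℕ) [Fact r.Prime], r ∣ Nat.card X → ∃ P : Sylow r G,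
      IsElementaryAbelian r (P : Subgroup G) ∧ (P : Subgroup G).Normal ∧
        IsSylowOf r (X ⊓ P) X := fun X hX r hr hd => by
    obtain ⟨P, h3, h4, -⟩ := h1 r hr.out (hE r hr.out (hd.trans (card_dvd_of_le hX)))
    refine ⟨P, h3, h4, Sylow_of inf_le_left P.2.to_inf_right fun h5 => P.not_dvd_index ?_⟩
    rw [inf_relIndex_left] at h5
    exact h5.trans (relIndex_dvd_index_of_normal _ _)
  have hab : IsMulCommutative E := by
    rw [abelian_iff]
    refine le_of_forall_Sylow_le fun r hr hd => ?_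
    obtain ⟨R, h3, h4, h5⟩ := h2 E le_rfl r hd
    refine ⟨_, h5, centsC.1 (le_of_forall_Sylow_le fun s hs hd' => ?_)⟩
    by_cases e : s = r
    · subst e
      exact ⟨_, h5, abelian_le_cent (abelianS inf_le_right h3.1)⟩
    · obtain ⟨S, -, h6, h7⟩ := h2 E le_rfl s hd'
      exact ⟨_, h7, inf_le_right.trans ((TI_cents le_normalizer_of_normal le_normalizer_of_normal
        (disjoint_iff.1 (IsPGroup.disjoint_of_ne s r e _ _ S.2 R.2))).trans (centS inf_le_right))⟩
  have hco : ∀ H : Subgroup G, (Nat.card E).Coprime (E.relIndex H) := fun H =>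
    hE.coprime (isPiNum_compl_iff.2 fun p hp hπ hd => by
      have := Fact.mk hp
      obtain ⟨P, -, -, h3⟩ := h1 p hp hπ
      exact P.not_dvd_index ((hd.trans (relIndex_dvd_index_of_normal E H)).trans
        (index_dvd_of_le h3)))
  let f := QuotientGroup.mk' E
  have hcyc : ∀ (p : ℕ) [Fact p.Prime] (X : Subgroup G), IsPGroup p X → X ≤ E ∨ IsCyclic X ∨
      p = 2 ∧ ∃ S : Sylow 2 G, (S : Subgroup G) = X ∧ Nonempty (X ≃* QuaternionGroup 2) := by
    intro p hp X hX
    obtain ⟨P, hP⟩ := hX.exists_le_sylow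
    by_cases h3 : IsCyclic (P : Subgroup G)
    · exact Or.inr (Or.inl (cyclicS hP h3))
    rcases Agent.S4020.result hD P with h4 | h4 | ⟨⟨e⟩⟩
    · exact absurd h4 h3
    · exact Or.inl (hP.trans (le_piCore (DG_normal G inferInstance hD P h4 h3)
        (isPiNum_card_of_isPGroup ⟨P, h4, h3⟩ P.2)))
    have h4 : Nat.card (P : Subgroup G) = 2 ^ 3 := by
      rw [Nat.card_congr e.toEquiv, Nat.card_eq_fintype_card, QuaternionGroup.card]
      rfl
    obtain rfl : p = 2 := by
      obtain ⟨k, hk⟩ := IsPGroup.iff_card.1 P.2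
      exact ((Nat.prime_dvd_prime_iff_eq Nat.prime_two hp.out).1
        (Nat.prime_two.dvd_of_dvd_pow (hk ▸ h4 ▸ dvd_pow_self 2 three_ne_zero))).symm
    rcases hP.eq_or_lt with rfl | hlt
    · exact Or.inr (Or.inr ⟨rfl, P, rfl, ⟨e⟩⟩)
    obtain ⟨i, j, hq⟩ := exists_q8Data e
    obtain ⟨k, hk, e⟩ := (Nat.dvd_prime_pow Nat.prime_two).1 (h4 ▸ card_dvd_of_le hP)
    have h5 := card_lt_of_lt hlt
    rw [h4, e] at h5
    obtain ⟨Y, h6, h7⟩ := exists_sub_cyclic_card (n := 2 ^ k) (cyclicP.2 ⟨i, rfl⟩)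
      (by rw [Nat.card_zpowers, hq.orderOf_eq hq.hi hq.i2]
          refine pow_dvd_pow 2 ?_
          interval_cases k <;> omega)
    obtain ⟨g, rfl⟩ := hD 2 Nat.prime_two Y X (IsPGroup.of_card h7) hX (h7.trans e.symm)
    exact Or.inr (Or.inl ((cyclicJ g).2 (cyclicS h6 (cyclicP.2 ⟨i, rfl⟩))))
  have hN : ∀ U ≤ E, CG ((𝐍 U).map f) := fun U hU => by
    refine cG_of_dG _ 2 inferInstance (dG_map_of_mod f _ fun p hp A B hA hB hAp hBp e => ?_)
      fun p hp hp2 P => ?_
    · have := Fact.mk hp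
      obtain ⟨X, hX, hBX⟩ := Sylow_superset hB hBp
      obtain ⟨g, hg, hAX⟩ := Sylow_Jsub hX hA hAp
      have hbot : ∀ Y ≤ E, Y.map f = ⊥ := fun Y hY =>
        (Subgroup.map_eq_bot_iff _).2 (by rwa [QuotientGroup.ker_mk'])
      rcases hcyc p X (Sylow_pgroup hX) with h3 | h3 | ⟨rfl, S, rfl, ⟨e'⟩⟩
      · exact ⟨g, hg, by rw [hbot _ (hBX.trans h3), hbot _ (hAX.trans h3)]⟩
      · exact ⟨g, hg, by
          rw [PG.eq_of_card_eq_of_isCyclic hBX hAX (e.symm.trans (card_conj_smul g A).symm)]⟩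
      by_cases h3 : B = S
      · exact ⟨g, hg, by rw [h3, eq_of_le_of_card_ge hAX (by rw [card_conj_smul, e, h3])]⟩
      obtain ⟨i, j, hq⟩ := exists_q8Data e'
      have h4 : Nat.card (S : Subgroup G) = 2 ^ 3 := by
        rw [Nat.card_congr e'.toEquiv, Nat.card_eq_fintype_card, QuaternionGroup.card]
        rfl
      have h5 : Nat.card B ∣ 2 ^ 2 := by
        obtain ⟨k, hk, e⟩ := (Nat.dvd_prime_pow Nat.prime_two).1 (h4 ▸ card_dvd_of_le hBX)
        have h5 := card_lt_of_lt (lt_of_le_of_ne hBX h3)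
        rw [h4, e] at h5
        refine e ▸ pow_dvd_pow 2 ?_
        interval_cases k <;> omega
      have h6 : ¬ 2 ∣ Nat.card E := fun hd => by
        obtain ⟨P, h6, h7, -⟩ := h1 2 Nat.prime_two (hE 2 Nat.prime_two hd)
        exact hq.i2 (h6.2 i ((P.is_maximal' S.2 (P.2.le_sylow_of_normal S)).le hq.hi))
      let V := U ⊓ 𝐂 (S : Subgroup G)
      have hVE : V ≤ E := inf_le_left.trans hU
      have h7 : 𝐍 V ≤ 𝐍 U := by
        have h8 : U = V ⊔ U.normalCore := by
          refine le_antisymm (le_of_forall_Sylow_le fun r hr hd => ?_)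
            (sup_le inf_le_left (normalCore_le U))
          obtain ⟨P, h8, h9, h10⟩ := h2 U hU r hd
          refine ⟨_, h10, ?_⟩
          rcases (inf_le_right : U ⊓ P ≤ P).eq_or_lt with h11 | h11
          · exact le_sup_of_le_right (h11.le.trans (normal_le_normalCore.2 (h11.ge.trans inf_le_left)))
          · exact le_sup_of_le_left (le_inf inf_le_left (inf_le_right.trans (centsC.1
              (hq.le_centralizer hD hr.out h8 h11 (Sylow_ne_bot h10 hd)
                (normsI hX.1 le_normalizer_of_normal)))))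
        conv_rhs => rw [h8]
        exact normsY le_rfl le_normalizer_of_normal
      have key : ∀ Y ≤ (S : Subgroup G), Nat.card Y ∣ 2 ^ 2 → IsMulCommutative (V ⊔ Y : Subgroup G) ∧
          Nat.card (V ⊔ Y : Subgroup G) = Nat.card V * Nat.card Y ∧ E ⊓ (V ⊔ Y) = V ∧
          (V ⊔ Y).map f = Y.map f := fun Y hY hc => by
        have h8 : Y ≤ 𝐂 V := centsC.1 (inf_le_right.trans (centS hY))
        have h9 : E ⊓ Y = ⊥ := inf_eq_bot_of_coprime_card (Nat.Coprime.coprime_dvd_right hc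
          ((Nat.prime_two.coprime_iff_not_dvd.2 h6).symm.pow_right 2))
        refine ⟨abelianY (abelianS hVE hab) (comm_of_card_dvd_sq hc) h8, ?_, ?_, ?_⟩
        · exact card_sup_of_disjoint_of_le_normalizer (cents_norm h8)
            (le_bot_iff.1 (h9 ▸ inf_le_inf_right _ hVE))
        · rw [inf_comm, sup_inf_assoc_of_le_normalizer (cents_norm h8) hVE, inf_comm Y, h9,
            sup_bot_eq]
        · rw [Subgroup.map_sup, hbot V hVE, bot_sup_eq]
      obtain ⟨a1, a2, a3, a4⟩ := key _ hAX (by rwa [card_conj_smul, e])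
      obtain ⟨b1, b2, b3, b4⟩ := key _ hBX h5
      obtain ⟨k, hk⟩ := h _ _ a1 b1 (by rw [a2, b2, card_conj_smul, e])
      rw [map_conj_eq_smul] at hk
      have h8 : k ∈ 𝐍 V := by
        rw [normP]
        conv_lhs => rw [← a3, conjIg, ← hk, normP.1 (le_normalizer_of_normal (mem_top k)), b3]
      exact ⟨k * g, mul_mem (h7 h8) hg, by
        rw [conj_mul_smul, map_conj_smul, ← a4, ← map_conj_smul, ← hk, b4]⟩
    · have := Fact.mk hp
      obtain ⟨X, h3, h4, -⟩ := exists_pgroup_map_eq (QuotientGroup.mk'_surjective E)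
        (P.2.map (Subgroup.subtype _))
      refine (equivMapOfInjective _ _ (subtype_injective _)).isCyclic.2 (h4 ▸ ?_)
      rcases hcyc p X h3 with h5 | h5 | ⟨h5, -⟩
      · rw [(Subgroup.map_eq_bot_iff _).2 (by rwa [QuotientGroup.ker_mk'])]
        infer_instance
      · exact isCyclic_of_surjective _ ((QuotientGroup.mk' E).subgroupMap_surjective X)
      · exact absurd h5 hp2
  intro H K e
  have h4 : Nat.card (E ⊓ H : Subgroup G) = Nat.card (E ⊓ K : Subgroup G) := by
    have h5 := relIndex_mul_card_inf E H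
    rw [e, ← relIndex_mul_card_inf E K] at h5
    exact Nat.dvd_antisymm
      (((hco K).coprime_dvd_left (card_dvd_of_le inf_le_left)).dvd_of_dvd_mul_left ⟨_, by
        rw [← h5, mul_comm]⟩)
      (((hco H).coprime_dvd_left (card_dvd_of_le inf_le_left)).dvd_of_dvd_mul_left ⟨_, by
        rw [h5, mul_comm]⟩)
  obtain ⟨g, hg⟩ := h _ _ (abelianS inf_le_left hab) (abelianS inf_le_left hab) h4
  replace hg : E ⊓ K = E ⊓ g •ᶜ H := by
    rw [hg, ← normP.1 (le_normalizer_of_normal (mem_top g) : g ∈ 𝐍 E), ← conjIg,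
      normP.1 (le_normalizer_of_normal (mem_top g) : g ∈ 𝐍 E)]
    rfl
  obtain ⟨k, hk⟩ := conj_of_quot ((card_conj_smul g H).trans e) hg.symm
    (sub_abelian_norm hab inf_le_left) (Or.inr (hco _)) (hN _ inf_le_left)
  exact ⟨k * g, by rw [conj_mul_smul, hk]⟩

end Cfsg.Lib.Solv
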