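import Cfsg.Agent.Solv.BGrp1
import Cfsg.Agent.WalCor.DGrp1

/-!
Solvable groups in which subgroups of the same prime power order are conjugate and almost all Sylow
subgroups are cyclic: all subgroups of the same order are conjugate.
-/

set_option autoImplicit false

universe u

namespace Cfsg.Lib.Solv

open Subgroup Cfsg.Lib.FT Cfsg.Lib.WalCor Pointwise

variable {G : Type*} [Group G] [Finite G]

/-- Subgroups of the same order are conjugate. -/
def CG (G : Type*) [Group G] : Prop :=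
  ∀ H K : Subgroup G, Nat.card H = Nat.card K → ∃ g : G, K = g •ᶜ H

omit [Finite G] in
theorem CG.conj_in {N : Subgroup G} (h : CG N) {H K : Subgroup G} (hH : H ≤ N) (hK : K ≤ N)
    (e : Nat.card H = Nat.card K) : ∃ g ∈ N, K = g •ᶜ H := by
  obtain ⟨g, hg⟩ := h (H.subgroupOf N) (K.subgroupOf N) (by
    rw [Nat.card_congr (subgroupOfEquivOfLe hH).toEquiv,
      Nat.card_congr (subgroupOfEquivOfLe hK).toEquiv, e])
  refine ⟨g, g.2, ?_⟩
  have := congrArg (Subgroup.map N.subtype) hg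
  rwa [map_subtype_conj_smul, map_subgroupOf_eq_of_le hH, map_subgroupOf_eq_of_le hK] at this

theorem conj_of_sup_eq [Group.IsSolvable G] {E H K : Subgroup G} [E.Normal] (h1 : H ⊔ E = K ⊔ E)
    (h2 : E ⊓ H = E ⊓ K) (h3 : E ≤ 𝐍 (E ⊓ H)) (h4 : (Nat.card E).Coprime (E.relIndex H)) :
    ∃ g : G, K = g •ᶜ H := by
  let π : Set ℕ := {p | p ∣ Nat.card E}ᶜ
  have key : ∀ H : Subgroup G, (Nat.card E).Coprime (E.relIndex H) →
      ∃ H₁, IsPiHallOf π H₁ (H ⊔ E) ∧ H = E ⊓ H ⊔ H₁ := fun H h4 => by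
    obtain ⟨H₁, h5⟩ := Hall_exists (M := H) π inferInstance
    refine ⟨H₁, pHall_trans h5 le_sup_left ?_, le_antisymm ?_ (sup_le inf_le_right h5.1)⟩
    · rw [compl_compl]
      refine (isPiNum_setOf_dvd _).of_dvd ⟨Nat.card (H ⊓ E : Subgroup G), ?_⟩
      have h6 := card_sup_mul_card_inf_of_normal H E
      rw [← relIndex_mul_card_of_le (le_sup_left : H ≤ H ⊔ E)] at h6
      exact Nat.eq_of_mul_eq_mul_left (Nat.card_pos (α := H)) (by rw [← h6]; ring)
    · rw [← relIndex_eq_one]
      have h6 := relIndex_dvd_of_le_left H (le_sup_left : E ⊓ H ≤ E ⊓ H ⊔ H₁)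
      rw [inf_relIndex_right] at h6
      have h7 := relIndex_dvd_of_le_left H (le_sup_right : H₁ ≤ E ⊓ H ⊔ H₁)
      exact Nat.eq_one_of_dvd_coprimes ((isPiNum_compl_setOf_dvd_iff.2 h4.symm).coprime
        (isPiHallOf_iff.1 h5).2.2) h6 h7
  obtain ⟨H₁, h5, h6⟩ := key H h4
  obtain ⟨K₁, h7, h8⟩ := key K (by rwa [← relIndex_sup_right K, ← h1, relIndex_sup_right])
  rw [← h1] at h7
  obtain ⟨g, hg, rfl⟩ := Hall_trans inferInstance h5 h7
  refine ⟨g, ?_⟩
  have h9 : g ∈ 𝐍 (E ⊓ H) :=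
    (sup_le (normsI le_normalizer_of_normal (normG H)) h3 : H ⊔ E ≤ 𝐍 (E ⊓ H)) hg
  rw [h8, ← h2]
  conv_rhs => rw [h6, conjYg, normP.1 h9]

/-- The lifting step. -/
theorem conj_of_quot [Group.IsSolvable G] {E H K : Subgroup G} [E.Normal]
    (e : Nat.card H = Nat.card K) (h2 : E ⊓ H = E ⊓ K) (h3 : E ≤ 𝐍 (E ⊓ H))
    (h4 : E ≤ H ∨ (Nat.card E).Coprime (E.relIndex H))
    (hC : CG ((𝐍 (E ⊓ H)).map (QuotientGroup.mk' E))) : ∃ g : G, K = g •ᶜ H := by
  have hH : H ≤ 𝐍 (E ⊓ H) := normsI le_normalizer_of_normal (normG H)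
  have hK : K ≤ 𝐍 (E ⊓ H) := h2 ▸ normsI le_normalizer_of_normal (normG K)
  have hc : ∀ H : Subgroup G, Nat.card (H.map (QuotientGroup.mk' E)) = E.relIndex H := fun H => by
    rw [← relIndex_ker, QuotientGroup.ker_mk']
  obtain ⟨_, ⟨n, hn, rfl⟩, h5⟩ := hC.conj_in (map_mono hH) (map_mono hK) (by
    rw [hc, hc]
    refine Nat.eq_of_mul_eq_mul_right (Nat.card_pos (α := (E ⊓ H : Subgroup G))) ?_
    rw [relIndex_mul_card_inf, h2, relIndex_mul_card_inf, e])
  rw [← map_conj_smul] at h5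
  have h6 := congrArg (comap (QuotientGroup.mk' E)) h5
  rw [comap_map_eq, comap_map_eq, QuotientGroup.ker_mk'] at h6
  have h7 : n •ᶜ E = E := normP.1 (le_normalizer_of_normal (mem_top n))
  have h8 : E ⊓ n •ᶜ H = E ⊓ H := by
    conv_lhs => rw [← h7, ← conjIg]
    exact normP.1 hn
  rcases h4 with h4 | h4
  · refine ⟨n, ?_⟩
    rwa [sup_eq_left.2 (inf_eq_left.1 (h2.symm.trans (inf_eq_left.2 h4))),
      sup_eq_left.2 (inf_eq_left.1 (h8.trans (inf_eq_left.2 h4)))] at h6
  · obtain ⟨g, hg⟩ := conj_of_sup_eq h6.symm (h8.trans h2) (h8.symm ▸ h3) (by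
      have := relIndex_conj_smul n E H
      rw [h7] at this
      rwa [this])
    exact ⟨g * n, by rw [conj_mul_smul, hg]⟩

theorem dG_of_isZGroup [IsZGroup G] : DG G := fun p hp H K hH hK e => by
  have := Fact.mk hp
  obtain ⟨P, hP⟩ := hK.exists_le_sylow
  obtain ⟨g, -, hg⟩ := Sylow_Jsub (Sylow_top P) le_top hH
  exact ⟨g, PG.eq_of_card_eq_of_isCyclic hP hg (e.symm.trans (card_conj_smul g H).symm)⟩

theorem cG_of_dG (G : Type u) [Group G] [Finite G] (r : ℕ) : Group.IsSolvable G → DG G →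
    (∀ p : ℕ, p.Prime → p ≠ r → ∀ P : Sylow p G, IsCyclic P) → CG G := by
  refine card_induction (P := fun G _ _ => Group.IsSolvable G → DG G →
    (∀ p : ℕ, p.Prime → p ≠ r → ∀ P : Sylow p G, IsCyclic P) → CG G) ?_ G
  intro G _ _ ih hs hD hc H K e
  rcases subsingleton_or_nontrivial G with _ | _
  · exact ⟨1, Subsingleton.elim _ _⟩
  obtain ⟨p, M, hp, hM, h1, h2, h3⟩ := exists_isMinNormal_elementary G
  have := Fact.mk hp
  have := hM.normal
  have hf := QuotientGroup.mk'_surjective M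
  have hc' : ∀ q : ℕ, q.Prime → q ≠ r → ∀ P : Sylow q (G ⧸ M), IsCyclic P := fun q hq hqr P => by
    have := Fact.mk hq
    obtain ⟨P, rfl⟩ := Sylow.mapSurjective_surjective hf q P
    have := hc q hq hqr P
    exact isCyclic_of_surjective _ ((QuotientGroup.mk' M).subgroupMap_surjective P)
  obtain ⟨t, ht⟩ := IsPGroup.iff_card.1 h3
  rcases t with _ | _ | t
  · exact absurd (card_eq_one.1 ht) hM.ne_bot
  · rw [zero_add, pow_one] at ht
    have hQ : CG (G ⧸ M) := ih _ (card_quotient_lt hM.ne_bot) inferInstance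
      (hD.of_surjective hf) hc'
    have hT : ∀ U : Subgroup G, U.Normal → CG ((𝐍 U).map (QuotientGroup.mk' M)) := fun U hU => by
      rw [normalizer_eq_top, map_top_of_surjective _ hf]
      intro A B e
      obtain ⟨g, hg⟩ := hQ (A.map (⊤ : Subgroup _).subtype) (B.map (⊤ : Subgroup _).subtype)
        (by rw [card_subtype, card_subtype, e])
      refine ⟨⟨g, trivial⟩, map_injective (subtype_injective _) ?_⟩
      rw [map_subtype_conj_smul, hg]
    have hle : ∀ H : Subgroup G, p ∣ Nat.card H → M ≤ H := fun H hd => by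
      obtain ⟨x, hx⟩ := exists_prime_orderOf_dvd_card' (G := H) p hd
      rw [← orderOf_coe] at hx
      have h4 : Nat.card (zpowers (x : G)) = Nat.card M := by rw [Nat.card_zpowers, hx, ht]
      rw [← eq_of_le_of_card_ge (hD.le_of_normal hp h3 (IsPGroup.of_card (n := 1)
        (by rw [h4, ht, pow_one])) h4.symm le_rfl) h4.ge]
      exact zpowers_le.2 x.2
    by_cases hd : p ∣ Nat.card H
    · have h4 := inf_eq_left.2 (hle H hd)
      exact conj_of_quot e (h4.trans (inf_eq_left.2 (hle K (e ▸ hd))).symm)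
        (by rw [h4]; exact normG M) (Or.inl (hle H hd)) (by rw [h4]; exact hT M inferInstance)
    · have h5 : (Nat.card M).Coprime (Nat.card H) := ht ▸ hp.coprime_iff_not_dvd.2 hd
      have h4 := inf_eq_bot_of_coprime_card h5
      exact conj_of_quot e (h4.trans (inf_eq_bot_of_coprime_card (e ▸ h5)).symm)
        (by rw [h4]; exact norms1 M) (Or.inr (h5.coprime_dvd_right (index_dvd_card _)))
        (by rw [h4]; exact hT ⊥ inferInstance)
  · have hP : ∀ P : Sylow p G, (P : Subgroup G) = M := fun P =>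
      (P.is_maximal' h3 fun x hx => by
        obtain ⟨k, hk⟩ := P.2 ⟨x, hx⟩
        have h4 := hD.pow_eq_one h2 (ht ▸ pow_dvd_pow p (by omega)) (congrArg Subtype.val hk)
        by_cases hx1 : x = 1
        · exact hx1 ▸ one_mem _
        obtain ⟨m, hm⟩ := exists_prime_orderOf_dvd_card' (G := M) p
          (ht ▸ dvd_pow_self p (by omega))
        rw [← orderOf_coe] at hm
        have h5 := orderOf_eq_prime h4 hx1
        exact hD.le_of_normal hp (DG.isPGroup_zpowers (k := 1) (by rw [hm, pow_one]))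
          (DG.isPGroup_zpowers (k := 1) (by rw [h5, pow_one]))
          (by rw [Nat.card_zpowers, Nat.card_zpowers, hm, h5]) (zpowers_le.2 m.2)
          (mem_zpowers x)).symm
    have hi : ¬ p ∣ M.index := hP default ▸ Sylow.not_dvd_index _
    have hpr : p = r := by
      by_contra hne
      have h4 := hc p hp hne default
      rw [show ((default : Sylow p G) : Subgroup G) = M from hP _] at h4
      obtain ⟨x, hx⟩ := IsCyclic.exists_ofOrder_eq_natCard (α := M)
      have h5 := orderOf_dvd_of_pow_eq_one (show x ^ p = 1 from Subtype.ext (h2 x x.2))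
      rw [hx, ht] at h5
      have h6 : t + 1 + 1 ≤ 1 := (Nat.pow_dvd_pow_iff_le_right hp.one_lt).1 (by rwa [pow_one])
      omega
    have hZ : IsZGroup (G ⧸ M) := ⟨fun q hq P => by
      by_cases hqr : q = r
      · subst hqr hpr
        have := Fact.mk hq
        have h4 : (P : Subgroup (G ⧸ M)) = ⊥ := card_eq_one.1 (by
          obtain ⟨k, hk⟩ := IsPGroup.iff_card.1 P.2
          rcases k with _ | k
          · exact hk
          · exact absurd ((hk ▸ dvd_pow_self _ k.succ_ne_zero).trans (card_subgroup_dvd_card _)) hi)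
        rw [h4]; infer_instance
      · exact hc' q hq hqr P⟩
    have hco : ∀ H : Subgroup G, (Nat.card M).Coprime (M.relIndex H) := fun H =>
      ht ▸ (hp.coprime_iff_not_dvd.2 fun h => hi (h.trans (relIndex_dvd_index_of_normal M H))).pow_left _
    have h4 : Nat.card (M ⊓ H : Subgroup G) = Nat.card (M ⊓ K : Subgroup G) := by
      have h5 := relIndex_mul_card_inf M H
      rw [e, ← relIndex_mul_card_inf M K] at h5
      exact Nat.dvd_antisymm
        (((hco K).coprime_dvd_left (card_dvd_of_le inf_le_left)).dvd_of_dvd_mul_left ⟨_, by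
          rw [← h5, mul_comm]⟩)
        (((hco H).coprime_dvd_left (card_dvd_of_le inf_le_left)).dvd_of_dvd_mul_left ⟨_, by
          rw [h5, mul_comm]⟩)
    obtain ⟨g, hg⟩ := hD p hp _ _ h3.to_inf_left h3.to_inf_left h4
    replace hg : M ⊓ K = M ⊓ g •ᶜ H := by
      rw [hg, ← normP.1 (le_normalizer_of_normal (mem_top g) : g ∈ 𝐍 M), ← conjIg,
        normP.1 (le_normalizer_of_normal (mem_top g) : g ∈ 𝐍 M)]
      rfl
    obtain ⟨k, hk⟩ := conj_of_quot ((card_conj_smul g H).trans e) hg.symm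
      (sub_abelian_norm h1 inf_le_left) (Or.inr (hco _))
      (ih _ ((card_le_card_group _).trans_lt (card_quotient_lt hM.ne_bot)) inferInstance
        dG_of_isZGroup fun q hq _ P => IsZGroup.isZGroup q hq P)
    exact ⟨k * g, by rw [conj_mul_smul, hk]⟩

end Cfsg.Lib.Solv
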