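import Cfsg.Agent.Solv.BGrp5

/-!
Solvable groups with a normal elementary abelian Sylow subgroup whose subgroups of the same order
are conjugate: the semilinear structure.
-/

set_option autoImplicit false

namespace Cfsg.Lib.Solv

open Subgroup Cfsg.Lib.FT Cfsg.Lib.WalCor Cfsg.Lib.Known Pointwise

variable {G : Type*} [Group G]

theorem ConjSub.card_le {F : Type*} [Field F] [Finite F] {p : ℕ} [hp : Fact p.Prime]
    [CharP F p] (ψ : Multiplicative F →* G) (hψ : Function.Injective ψ) (h : ConjSub ψ.range)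
    (S : Subgroup (RingAut F))
    (hS : ∀ (g : G) (a b x y : F), x ≠ 0 → g * ψ (.ofAdd a) * g⁻¹ = ψ (.ofAdd x) →
      g * ψ (.ofAdd b) * g⁻¹ = ψ (.ofAdd y) → ∃ σ ∈ S, y * σ a = x * σ b) :
    Nat.card F ≤ p + Nat.card S * (p * p * (p + 1)) := by
  let ι : ZMod p →+* F := ZMod.castHom dvd_rfl F
  by_cases hs : Function.Surjective ι
  · have := Nat.card_le_card_of_surjective _ hs
    rw [Nat.card_zmod] at this
    omega
  obtain ⟨a, ha⟩ : ∃ a, a ∉ Set.range ι := not_forall.1 hs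
  let w : F → Multiplicative (ZMod p × ZMod p) →* G := fun t => ψ.comp
    (AddMonoidHom.toMultiplicative (AddMonoidHom.mk' (fun c => ι c.1 + ι c.2 * t) fun c d => by
      simp only [Prod.fst_add, Prod.snd_add, map_add]; ring))
  have hw : ∀ t, t ∉ Set.range ι → Nat.card (w t).range = p ^ 2 := fun t ht => by
    have : Function.Injective (w t) := by
      refine hψ.comp ((injective_iff_map_eq_one _).2 fun c hc => ?_)
      have h1 : ι c.toAdd.1 + ι c.toAdd.2 * t = 0 := hc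
      have h2 : c.toAdd.2 = 0 := by
        by_contra hn
        have h3 : ι c.toAdd.2 ≠ 0 := (map_ne_zero ι).2 hn
        exact ht ⟨-c.toAdd.1 / c.toAdd.2, by
          rw [map_div₀, map_neg, div_eq_iff h3]; linear_combination -h1⟩
      rw [h2, map_zero, zero_mul, add_zero, map_eq_zero] at h1
      exact Prod.ext h1 h2
    rw [← Nat.card_congr (MonoidHom.ofInjective this).toEquiv]
    simp [sq]
  let v : Option (ZMod p) → F := fun o => o.elim 1 fun e => ι e + a
  let φ : ZMod p ⊕ S × (ZMod p × ZMod p) × Option (ZMod p) → F :=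
    Sum.elim ι fun x => x.1.1 ((ι x.2.1.1 + ι x.2.1.2 * a) / v x.2.2)
  have hφ : Function.Surjective φ := fun t => by
    by_cases ht : t ∈ Set.range ι
    · obtain ⟨c, rfl⟩ := ht
      exact ⟨.inl c, rfl⟩
    obtain ⟨g, hg⟩ := h _ _ (by rintro _ ⟨c, rfl⟩; exact ⟨_, rfl⟩)
      (by rintro _ ⟨c, rfl⟩; exact ⟨_, rfl⟩) ((hw a ha).trans (hw t ht).symm)
    obtain ⟨_, ⟨c, rfl⟩, e1⟩ := hg.le (show ψ (.ofAdd 1) ∈ _ from ⟨.ofAdd (1, 0), by simp [w]⟩)
    obtain ⟨_, ⟨d, rfl⟩, e2⟩ := hg.le (show ψ (.ofAdd t) ∈ _ from ⟨.ofAdd (0, 1), by simp [w]⟩)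
    replace e1 : g * w a c * g⁻¹ = ψ (.ofAdd 1) := e1
    obtain ⟨σ, hσ, e⟩ := hS g (ι c.toAdd.1 + ι c.toAdd.2 * a) (ι d.toAdd.1 + ι d.toAdd.2 * a) 1 t
      one_ne_zero e1 e2
    have h0 : ι c.toAdd.1 + ι c.toAdd.2 * a ≠ 0 := fun e0 => by
      have h1 : w a c = 1 := by
        change ψ (.ofAdd (ι c.toAdd.1 + ι c.toAdd.2 * a)) = 1
        rw [e0, ofAdd_zero, map_one]
      rw [h1, mul_one, mul_inv_cancel, eq_comm, ← map_one ψ] at e1
      exact one_ne_zero (α := F) (hψ e1)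
    have h1 : t = σ ((ι d.toAdd.1 + ι d.toAdd.2 * a) / (ι c.toAdd.1 + ι c.toAdd.2 * a)) := by
      rw [map_div₀, eq_div_iff ((map_ne_zero σ).2 h0), e, one_mul]
    by_cases h2 : c.toAdd.2 = 0
    · rw [h2, map_zero, zero_mul, add_zero] at h0 h1
      refine ⟨.inr (⟨σ, hσ⟩, (d.toAdd.1 / c.toAdd.1, d.toAdd.2 / c.toAdd.1), none), ?_⟩
      rw [h1]
      simp only [φ, v, Sum.elim_inr, Option.elim_none, map_div₀ ι]
      congr 1
      field_simp
    · have h3 : ι c.toAdd.2 ≠ 0 := (map_ne_zero ι).2 h2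
      refine ⟨.inr (⟨σ, hσ⟩, (d.toAdd.1 / c.toAdd.2, d.toAdd.2 / c.toAdd.2),
        some (c.toAdd.1 / c.toAdd.2)), ?_⟩
      rw [h1]
      simp only [φ, v, Sum.elim_inr, Option.elim_some, map_div₀ ι]
      congr 1
      rw [show ι c.toAdd.1 / ι c.toAdd.2 + a = (ι c.toAdd.1 + ι c.toAdd.2 * a) / ι c.toAdd.2 by
        field_simp]
      field_simp
  have : Finite (RingAut F) := Finite.of_injective _ DFunLike.coe_injective
  have := Nat.card_le_card_of_surjective _ hφ
  simpa [Finite.card_option] using this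

/-- A split extension acting semilinearly on a field. -/
structure Aff0 {F : Type*} [Field F] (ψ : Multiplicative F →* G) (H : Subgroup G) : Prop where
  inj : Function.Injective ψ
  dec : ∀ g : G, ∃ b : F, ∃ k ∈ H, g = ψ (.ofAdd b) * k
  disj : ∀ b : F, ψ (.ofAdd b) ∈ H → b = 0
  faith : ∀ k ∈ H, (∀ c : F, k * ψ (.ofAdd c) * k⁻¹ = ψ (.ofAdd c)) → k = 1
  semi : ∀ k ∈ H, ∃ (a : F) (σ : RingAut F), ∀ c : F, k * ψ (.ofAdd c) * k⁻¹ = ψ (.ofAdd (a * σ c))

namespace Aff0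

variable {F : Type*} [Field F] {ψ : Multiplicative F →* G} {H : Subgroup G}

theorem semi' (A : Aff0 ψ H) (g : G) : ∃ (σ : RingAut F) (a : F), a ≠ 0 ∧
    ∀ c : F, g * ψ (.ofAdd c) * g⁻¹ = ψ (.ofAdd (a * σ c)) := by
  obtain ⟨b, k, hk, rfl⟩ := A.dec g
  obtain ⟨a, σ, h⟩ := A.semi k hk
  refine ⟨σ, a, ?_, fun c => Aff.conj_eq b k (h c)⟩
  rintro rfl
  have h1 := h 1
  rw [zero_mul, ofAdd_zero, map_one ψ, mul_inv_eq_one, mul_eq_left, ← map_one ψ] at h1
  exact one_ne_zero (α := F) (A.inj h1)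

theorem exists_hom (A : Aff0 ψ H) : ∃ f : G →* semiaffineGroup F, Function.Injective f := by
  let E : F ≃ G ⧸ H := Equiv.ofBijective (fun c => (ψ (.ofAdd c) : G ⧸ H)) ⟨fun c d e => by
    have h1 := QuotientGroup.eq.1 e
    rw [← map_inv, ← map_mul] at h1
    have h2 : -c + d = 0 := A.disj _ h1
    linear_combination -h2, fun q => by
    obtain ⟨g, rfl⟩ := QuotientGroup.mk_surjective q
    obtain ⟨b, k, hk, rfl⟩ := A.dec g
    exact ⟨b, (QuotientGroup.mk_mul_of_mem _ hk).symm⟩⟩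
  let ι : G →* Equiv.Perm F := E.symm.permCongrHom.toMonoidHom.comp (MulAction.toPermHom G (G ⧸ H))
  have hι : ∀ (b : F), ∀ k ∈ H, ∀ c d : F, k * ψ (.ofAdd c) * k⁻¹ = ψ (.ofAdd d) →
      ι (ψ (.ofAdd b) * k) c = d + b := fun b k hk c d e => by
    change E.symm ((ψ (.ofAdd b) * k) • E c) = _
    rw [Equiv.symm_apply_eq]
    change ((ψ (.ofAdd b) * k * ψ (.ofAdd c) : G) : G ⧸ H) = (ψ (.ofAdd (d + b)) : G)
    rw [add_comm, ofAdd_add, map_mul, ← e, ← mul_assoc, ← mul_assoc,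
      QuotientGroup.mk_mul_of_mem _ (inv_mem hk)]
  refine ⟨ι.codRestrict _ fun g => ?_, (injective_iff_map_eq_one _).2 fun g hg => ?_⟩
  · obtain ⟨b, k, hk, rfl⟩ := A.dec g
    obtain ⟨σ, a, ha, h⟩ := A.semi' k
    exact ⟨Units.mk0 a ha, b, σ, fun c => hι b k hk c _ (h c)⟩
  replace hg : ι g = 1 := congrArg Subtype.val hg
  obtain ⟨b, k, hk, rfl⟩ := A.dec g
  obtain ⟨a, σ, h⟩ := A.semi k hk
  have h1 : ∀ c, c = a * σ c + b := fun c => by rw [← hι b k hk c _ (h c), hg]; rfl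
  have h2 : b = 0 := by simpa using (h1 0).symm
  rw [A.faith k hk fun c => by rw [h c, ← add_zero (a * σ c), ← h2, ← h1], h2]
  simp

end Aff0

variable [Finite G] {p : ℕ} [hp : Fact p.Prime] {V : Subgroup G} [hN : V.Normal]

omit [Finite G] hN in
theorem ConjSub.exists_conj (h : ConjSub V) (hV : ∀ x ∈ V, x ^ p = 1) {x y : G} (hx : x ∈ V)
    (hy : y ∈ V) (h1 : x ≠ 1) (h2 : y ≠ 1) : ∃ (g : G) (k : (ZMod p)ˣ),
      g * x ^ (k : ZMod p).val * g⁻¹ = y := by
  have h3 := orderOf_eq_prime (hV x hx) h1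
  obtain ⟨g, hg⟩ := h _ _ (zpowers_le.2 hx) (zpowers_le.2 hy) (by
    rw [Nat.card_zpowers, Nat.card_zpowers, h3, orderOf_eq_prime (hV y hy) h2])
  obtain ⟨_, ⟨k, rfl⟩, e⟩ := hg.le (mem_zpowers y)
  replace e : g * x ^ k * g⁻¹ = y := e
  have h4 : x ^ (k : ZMod p).val = x ^ k := by
    rw [← zpow_natCast, ZMod.val_intCast, ← h3, zpow_mod_orderOf]
  refine ⟨g, Units.mk0 (k : ZMod p) fun h0 => h2 ?_, by rw [Units.val_mk0, h4, e]⟩
  rw [← e, ← h4, h0]
  simp

theorem ConjSub.exists_aff [Group.IsSolvable G] (h : ConjSub V) (hO : pPrimeCore p G = ⊥)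
    (hV : IsElementaryAbelian p V) (hi : ¬ p ∣ V.index) {n : ℕ} (hn : 3 ≤ n)
    (hc : Nat.card V = p ^ n) : Nat.card V ≠ 81 ∧
      ∃ (ψ : Multiplicative (GaloisField p n) →* G) (H : Subgroup G), Aff0 ψ H ∧
      Nat.card H = V.index ∧ ψ.range = V := by
  have hE : ElemAb p V := ElemAb.of_isElementaryAbelian hV
  have hcm : ∀ x ∈ V, ∀ y ∈ V, x * y = y * x := fun x hx y hy =>
    congrArg Subtype.val (hE.comm ⟨x, hx⟩ ⟨y, hy⟩)
  have hi' := (hp.out.coprime_iff_not_dvd).2 hi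
  obtain ⟨H, hH⟩ := exists_right_complement'_of_coprime (N := V) (by rw [hc]; exact hi'.pow_left _)
  have hcH : Nat.card H = V.index := hH.symm.index_eq_card.symm
  have dec : ∀ g : G, ∃ x ∈ V, ∃ k ∈ H, g = x * k := fun g => by
    obtain ⟨⟨x, k⟩, e⟩ := hH.2 g
    exact ⟨x, x.2, k, k.2, e.symm⟩
  have hfaith : H ⊓ centralizer (V : Set G) = ⊥ := by
    refine le_bot_iff.1 (hO ▸ le_pPrimeCore ⟨fun y hy g => ⟨?_, ?_⟩⟩ ?_)
    · obtain ⟨x, hx, k, hk, rfl⟩ := dec g
      have h1 : k * y * k⁻¹ ∈ centralizer (V : Set G) := Normal.conj_mem inferInstance y hy.2 k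
      rw [show x * k * y * (x * k)⁻¹ = x * (k * y * k⁻¹) * x⁻¹ by group, h1 x hx,
        mul_inv_cancel_right]
      exact H.mul_mem (H.mul_mem hk hy.1) (H.inv_mem hk)
    · exact Normal.conj_mem inferInstance y hy.2 g
    · exact (hcH ▸ hi').symm.coprime_dvd_left (card_dvd_of_le inf_le_left)
  have h3 : p ^ 3 ∣ Nat.card V := hc ▸ pow_dvd_pow p hn
  have h81 : Nat.card V ≠ 81 := fun e => by
    obtain rfl : p = 3 := (Nat.prime_dvd_prime_iff_eq hp.out Nat.prime_three).1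
      (hp.out.dvd_of_dvd_pow (n := 4) ((dvd_pow_self p three_ne_zero).trans (h3.trans e.dvd)))
    refine h.ne_81 hV (fun g hg => ?_) e
    obtain ⟨x, hx, k, hk, rfl⟩ := dec g
    have h4 : x ∈ centralizer (V : Set G) := fun y hy => hcm y hy x hx
    rwa [mem_bot.1 (hfaith ▸ ⟨hk, (mul_mem_cancel_left h4).1 hg⟩ : k ∈ ⊥), mul_one]
  refine ⟨h81, ?_⟩
  have : Nontrivial V := by
    rw [← Finite.one_lt_card_iff_nontrivial, hc]
    exact Nat.one_lt_pow (by omega) hp.out.one_lt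
  let ρ := (Vec.autEquiv p V).toMonoidHom.comp (MulAut.conjNormal : G →* MulAut V)
  let θ := ρ.noncommCoprod (DistribMulAction.toModuleAut (ZMod p) (Vec p V) :
    (ZMod p)ˣ →* _) fun g k => LinearEquiv.ext fun v => map_smul (ρ g) (k : ZMod p) v
  have : Finite θ.range := Finite.of_surjective _ θ.rangeRestrict_surjective
  have hs : Group.IsSolvable θ.range := Group.isSolvable_of_surjective θ.rangeRestrict_surjective
  have htr : Perm.VTrans θ.range.subtype := fun v w hv hw => by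
    obtain ⟨g, k, e⟩ := h.exists_conj hV.2 (Vec.toMul v).2 (Vec.toMul w).2
      (fun e => hv (Subtype.ext e)) fun e => hw (Subtype.ext e)
    refine ⟨⟨_, (g, k), rfl⟩, Vec.toMul.injective (Subtype.ext ?_)⟩
    rw [← e, ← SubgroupClass.coe_pow, ← Vec.toMul_smul]
    rfl
  rcases htr.huppert θ.range.subtype_injective hs with ⟨F, _, _, e, he⟩ | h4
  swap
  · rw [Vec.card_vec] at h4
    simp only [Set.mem_insert_iff, Set.mem_singleton_iff] at h4
    have h5 : ∀ q : ℕ, q.Prime → Nat.card V ≠ q ^ 2 := fun q hq e => by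
      rw [e] at h3
      obtain rfl := (Nat.prime_dvd_prime_iff_eq hp.out hq).1
        (hp.out.dvd_of_dvd_pow ((dvd_pow_self p three_ne_zero).trans h3))
      exact absurd ((Nat.pow_dvd_pow_iff_le_right hq.one_lt).1 h3) (by omega)
    rcases h4 with e | e | e | e | e | e
    exacts [absurd e (h5 3 (by norm_num)), absurd e (h5 5 (by norm_num)),
      absurd e (h5 7 (by norm_num)), absurd e (h5 11 (by norm_num)),
      absurd e (h5 23 (by norm_num)), absurd e h81]
  have := Fintype.ofFinite (GaloisField p n)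
  have τ : F ≃+* GaloisField p n := FiniteField.ringEquivOfCardEq (by
    rw [← Nat.card_eq_fintype_card, ← Nat.card_eq_fintype_card, GaloisField.card p n (by omega),
      ← Nat.card_congr e.toEquiv, Vec.card_vec, hc])
  let e' : Vec p V ≃+ GaloisField p n := e.trans τ.toAddEquiv
  let ψ : Multiplicative (GaloisField p n) →* G :=
    MonoidHom.mk' (fun c => (Vec.toMul (e'.symm c.toAdd) : V)) fun a b => by simp
  have hψ : ∀ x : V, ψ (.ofAdd (e' (Vec.ofMul p x))) = x := fun x => by simp [ψ]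
  have hψN : ∀ c, ψ c ∈ V := fun c => (Vec.toMul (e'.symm c.toAdd)).2
  have hψi : Function.Injective ψ := fun a b e =>
    Multiplicative.toAdd.injective (e'.symm.injective (Vec.toMul.injective (Subtype.ext e)))
  refine ⟨ψ, H, ⟨hψi, fun g => ?_, fun b hb => ?_, fun k hk e => ?_, fun k hk => ?_⟩, hcH,
    le_antisymm (by rintro _ ⟨c, rfl⟩; exact hψN c) fun x hx => ⟨_, hψ ⟨x, hx⟩⟩⟩
  · obtain ⟨x, hx, k, hk, rfl⟩ := dec g
    exact ⟨_, k, hk, by rw [hψ ⟨x, hx⟩]⟩
  · exact hψi ((mem_bot.1 (hH.disjoint.le_bot ⟨hψN _, hb⟩)).trans (map_one ψ).symm)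
  · refine mem_bot.1 (hfaith ▸ ⟨hk, fun x hx => ?_⟩)
    have := e (e' (Vec.ofMul p ⟨x, hx⟩))
    rw [hψ, mul_inv_eq_iff_eq_mul] at this
    exact this.symm
  · obtain ⟨a, σ, e1⟩ := he ⟨_, (k, 1), rfl⟩
    replace e1 : ∀ v, e (ρ k v) = a * σ (e v) := fun v => by
      rw [← e1 v]
      exact congrArg (fun x => e (ρ k x)) (one_smul _ v).symm
    refine ⟨τ a, τ.symm.trans (σ.trans τ), fun c => ?_⟩
    have e2 : τ a * (τ.symm.trans (σ.trans τ)) c = e' (ρ k (e'.symm c)) := by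
      simp [e', e1]
    rw [e2]
    simp only [ψ, MonoidHom.mk'_apply, toAdd_ofAdd, AddEquiv.symm_apply_apply]
    rfl

theorem ConjSub.cases [Group.IsSolvable G] (h : ConjSub V) (hO : pPrimeCore p G = ⊥)
    (hV : IsElementaryAbelian p V) (hi : ¬ p ∣ V.index) {n : ℕ} (hn : 3 ≤ n)
    (hc : Nat.card V = p ^ n) :
    (n = 3 ∧ (∃ f : G →* semiaffineGroup (GaloisField p 3), Function.Injective f) ∧
      (p = 2 → Nonempty (G ≃* semiaffineGroup (GaloisField 2 3)) ∨
        Nonempty (G ≃* affineGroup (GaloisField 2 3)))) ∨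
    (n = 5 ∧ p = 2 ∧ Nonempty (G ≃* semiaffineGroup (GaloisField 2 5))) := by
  obtain ⟨h81, ψ, H, A, hH, rfl⟩ := h.exists_aff hO hV hi hn hc
  have := Fintype.ofFinite (GaloisField p n)
  have hF := GaloisField.card p n (by omega)
  have hA : Nat.card (RingAut (GaloisField p n)) = n :=
    card_ringAut (p := p) (by rw [← Nat.card_eq_fintype_card, hF])
  have : Finite (RingAut (GaloisField p n)) := Finite.of_injective _ DFunLike.coe_injective
  by_cases h2 : p = 2
  · subst h2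
    have B : Aff ψ H := ⟨A.inj, A.dec, A.disj, A.faith, A.semi, fun a ha => by
      obtain ⟨g, k, e⟩ := h.exists_conj hV.2 ⟨.ofAdd 1, rfl⟩ ⟨.ofAdd a, rfl⟩
        (fun e => one_ne_zero (α := GaloisField 2 n) (A.inj (e.trans (map_one ψ).symm)))
        fun e => ha (A.inj (e.trans (map_one ψ).symm))
      rw [Subsingleton.elim k 1, Units.val_one, ZMod.val_one, pow_one] at e
      exact ⟨g, e⟩⟩
    have hodd : Odd (Nat.card B.gal.range) :=
      (hH ▸ Nat.odd_iff.2 (Nat.two_dvd_ne_zero.1 hi)).of_dvd_nat B.card_range_dvd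
    have hle := h.card_le (p := 2) ψ A.inj B.gal.range fun g a b x y _ e1 e2 => by
      obtain ⟨c, -, e⟩ := B.gal_spec g
      have e3 : c * B.gal g a = x := A.inj ((e a).symm.trans e1)
      have e4 : c * B.gal g b = y := A.inj ((e b).symm.trans e2)
      exact ⟨_, ⟨g, rfl⟩, by rw [← e3, ← e4]; ring⟩
    rw [hF] at hle
    rcases exp_two hodd ((card_subgroup_dvd_card _).trans hA.dvd) hle with h3 | ⟨rfl, h5⟩
    · obtain rfl : n = 3 := by omega
      have h6 := B.equiv_cases (by rw [hF]; norm_num) (by rw [hF, hA]; norm_num)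
      have : Fact (Nat.card (RingAut (GaloisField 2 3))).Prime := ⟨by rw [hA]; norm_num⟩
      exact .inl ⟨rfl, A.exists_hom,
        fun _ => (B.gal.range.eq_bot_or_eq_top_of_prime_card.imp h6.1 h6.2).symm⟩
    · exact .inr ⟨rfl, rfl, (B.equiv_cases (by rw [hF]; norm_num) (by rw [hF, hA]; norm_num)).2
        (eq_top_of_card_eq _ (h5.trans hA.symm))⟩
  have hle := h.card_le (p := p) ψ A.inj ⊤ fun g a b x y _ e1 e2 => by
    obtain ⟨σ, c, -, e⟩ := A.semi' g
    have e3 : c * σ a = x := A.inj ((e a).symm.trans e1)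
    have e4 : c * σ b = y := A.inj ((e b).symm.trans e2)
    exact ⟨σ, mem_top _, by rw [← e3, ← e4]; ring⟩
  rw [hF, card_top, hA] at hle
  have h3 : 3 ≤ p := lt_of_le_of_ne hp.out.two_le (Ne.symm h2)
  obtain rfl : n = 3 := by
    by_contra h4
    by_cases h5 : n = 4
    · subst h5
      have h6 : p ≠ 3 := fun e => h81 (by rw [hc, e]; rfl)
      have h7 : p ≠ 4 := fun e => absurd (e ▸ hp.out) (by norm_num)
      have h8 : 5 ≤ p := by omega
      have h9 : 5 * (p * p) ≤ p * (p * p) := Nat.mul_le_mul_right _ h8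
      have h10 : 5 * (p * (p * p)) ≤ p * (p * (p * p)) := Nat.mul_le_mul_right _ h8
      have h11 : 5 * p ≤ p * p := Nat.mul_le_mul_right _ h8
      rw [show p ^ 4 = p * (p * (p * p)) by ring,
        show 4 * (p * p * (p + 1)) = 4 * (p * (p * p)) + 4 * (p * p) by ring] at hle
      omega
    · have key : ∀ m, p + (m + 5) * (p * p * (p + 1)) < p ^ (m + 5) := fun m => by
        induction m with
        | zero =>
          by_contra h6
          have := exp_odd (f := 5) h3 (by decide) dvd_rfl (not_lt.1 h6)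
          omega
        | succ m ih =>
          rw [show m + 1 + 5 = m + 5 + 1 by ring, pow_succ]
          have h1 : p ^ (m + 5) * 3 ≤ p ^ (m + 5) * p := Nat.mul_le_mul_left _ h3
          have h2 : (m + 5 + 1) * (p * p * (p + 1)) ≤ 2 * ((m + 5) * (p * p * (p + 1))) := by
            rw [← mul_assoc 2]
            exact Nat.mul_le_mul_right _ (by omega)
          omega
      obtain ⟨m, rfl⟩ := Nat.exists_eq_add_of_le' (show 5 ≤ n by omega)
      exact (key m).not_ge hle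
  exact .inl ⟨rfl, A.exists_hom, fun e => absurd e h2⟩

end Cfsg.Lib.Solv
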