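import Cfsg.Agent.Solv.FpfThompson
import Cfsg.Agent.Solv.FrobeniusGroup
import Cfsg.Agent.Solv.FrobCount
import Cfsg.Agent.Solv.Nilpotent
import Cfsg.Agent.Inst.S0108
import Cfsg.Agent.S0081
import Cfsg.Agent.S4112

/-! # Camina pairs -/

set_option autoImplicit false

namespace Cfsg.Lib.Solv.Camina

open Subgroup Cfsg.Lib.Solv Cfsg.Lib.Solv.Count
open scoped commutatorElement Pointwise

universe u

/-- A central extension of a dicyclic group has kernel meeting the derived subgroup trivially. -/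
theorem ker_inf_commutator_of_quaternion {E : Type*} [Group E] {m : ℕ} [NeZero m]
    (φ : E →* QuaternionGroup m) (hφ : Function.Surjective φ) (hZ : φ.ker ≤ center E) :
    φ.ker ⊓ commutator E = ⊥ := by
  obtain ⟨a, ha⟩ := hφ (QuaternionGroup.a 1)
  obtain ⟨b, hb⟩ := hφ (QuaternionGroup.xa 0)
  have hab : φ (b * a * b⁻¹) = (φ a)⁻¹ := by
    rw [map_mul, map_mul, map_inv, mul_inv_eq_iff_eq_mul, eq_inv_mul_iff_mul_eq, ha, hb]
    simp
  have hz : b * a * b⁻¹ * a ∈ center E := hZ (by rw [MonoidHom.mem_ker, map_mul, hab, inv_mul_cancel])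
  have hz' : b ^ 2 * (a ^ m)⁻¹ ∈ center E := hZ (by
    rw [MonoidHom.mem_ker, map_mul, map_inv, map_pow, map_pow, ha, hb, QuaternionGroup.xa_sq,
      QuaternionGroup.a_one_pow, mul_inv_cancel])
  set z := b * a * b⁻¹ * a with hzdef
  have hza : Commute z a := (mem_center_iff.1 hz a).symm
  have h1 : b * a ^ m * b⁻¹ = a ^ m := by
    have e : a ^ m = (b ^ 2 * (a ^ m)⁻¹)⁻¹ * b ^ 2 := by group
    rw [e, ← mul_assoc, mem_center_iff.1 (inv_mem hz') b]; group
  have h2 : z ^ m = a ^ m * a ^ m := by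
    rw [← conj_pow, show b * a * b⁻¹ = z * a⁻¹ by rw [hzdef]; group, hza.inv_right.mul_pow,
      inv_pow, mul_inv_eq_iff_eq_mul] at h1
    exact h1
  have hc : ⁅b, a⁆ = z * (a ^ 2)⁻¹ := by rw [hzdef, commutatorElement_def, pow_two]; group
  have h3 : ⁅b, a⁆ ^ m = 1 := by
    rw [hc, (hza.pow_right 2).inv_right.mul_pow, h2, inv_pow, ← pow_mul, two_mul, pow_add,
      mul_inv_cancel]
  have hgen : ∀ X : Subgroup E, center E ≤ X → a ∈ X → b ∈ X → X = ⊤ := fun X hX haX hbX => by
    rw [eq_top_iff]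
    intro x _
    obtain ⟨y, hy, hxy⟩ : φ x ∈ X.map φ := by
      have e : ∀ i, QuaternionGroup.a i ∈ X.map φ := fun i => by
        rw [← ZMod.natCast_zmod_val i, ← QuaternionGroup.a_one_pow, ← ha]
        exact pow_mem (mem_map_of_mem φ haX) _
      rcases φ x with i | i
      · exact e i
      · simpa [hb] using mul_mem (mem_map_of_mem φ hbX) (e i)
    have := mul_mem hy (hX (hZ (show φ (y⁻¹ * x) = 1 by rw [map_mul, map_inv, hxy, inv_mul_cancel])))
    simpa using this
  have hn : (zpowers ⁅b, a⁆).Normal := by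
    refine normalizer_eq_top_iff.1 (hgen _ (center_le_normalizer _)
      (mem_normalizer_iff_conj_smul_eq.2 ?_) (mem_normalizer_iff_conj_smul_eq.2 ?_))
    · refine (MonoidHom.map_zpowers (MulAut.conj a : E →* E) _).trans ?_
      congr 1
      rw [hc]
      exact mul_inv_eq_iff_eq_mul.2 (hza.symm.mul_right (Commute.self_pow a 2).inv_right).eq
    · refine (MonoidHom.map_zpowers (MulAut.conj b : E →* E) _).trans (Eq.trans ?_ zpowers_inv)
      congr 1
      change b * ⁅b, a⁆ * b⁻¹ = _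
      have e : b * a * b⁻¹ = z * a⁻¹ := by rw [hzdef]; group
      rw [hc, ← mul_assoc, mem_center_iff.1 hz b, show z * b * (a ^ 2)⁻¹ * b⁻¹ =
        z * ((b * a * b⁻¹) ^ 2)⁻¹ by rw [conj_pow]; group, e, hza.inv_right.mul_pow, mul_inv_rev,
        ← mul_assoc, (hza.inv_right.pow_right 2).inv_right.eq]
      group
  have h4 : commutator E ≤ zpowers ⁅b, a⁆ := by
    have key : ∀ u v : E, u * v * u⁻¹ * v⁻¹ ∈ zpowers ⁅b, a⁆ ↔
        v ∈ (centralizer {(u : E ⧸ zpowers ⁅b, a⁆)}).comap (QuotientGroup.mk' _) := fun u v => by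
      rw [mem_comap, mem_centralizer_singleton_iff, QuotientGroup.mk'_apply, eq_comm,
        ← QuotientGroup.eq_one_iff, ← commutatorElement_eq_one_iff_mul_comm]
      rfl
    have hcen : ∀ u : E, center E ≤
        (centralizer {(u : E ⧸ zpowers ⁅b, a⁆)}).comap (QuotientGroup.mk' _) := fun u v hv => by
      rw [← key, mem_center_iff.1 hv u]; simp
    have hself : ∀ u : E,
        u ∈ (centralizer {(u : E ⧸ zpowers ⁅b, a⁆)}).comap (QuotientGroup.mk' _) := fun u => by
      rw [← key]; simp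
    have e1 := hgen _ (hcen a) (hself a) ((key a b).1 (by
      simpa [commutatorElement_def, mul_assoc] using inv_mem (mem_zpowers ⁅b, a⁆)))
    have e2 := hgen _ (hcen b) ((key b a).1 (mem_zpowers _)) (hself b)
    refine commutator_le.2 fun u _ v _ => (key u v).2 (hgen _ (hcen u) ?_ ?_ ▸ mem_top v)
    · exact (mem_centralizer_singleton_iff.1 (e1.ge (mem_top u))).symm |>
        mem_centralizer_singleton_iff.2
    · exact (mem_centralizer_singleton_iff.1 (e2.ge (mem_top u))).symm |>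
        mem_centralizer_singleton_iff.2
  rw [eq_bot_iff]
  rintro x ⟨hx, hx'⟩
  obtain ⟨k, rfl⟩ := h4 hx'
  have h5 : orderOf (φ ⁅b, a⁆) = m := by
    rw [commutatorElement_def, map_mul, hab, map_inv, ← mul_inv_rev, orderOf_inv, ← pow_two, ha,
      orderOf_pow_of_dvd two_ne_zero (by simp), QuaternionGroup.orderOf_a_one,
      Nat.mul_div_cancel_left _ two_pos]
  obtain ⟨j, rfl⟩ : (m : ℤ) ∣ k := by
    rw [← h5, orderOf_dvd_iff_zpow_eq_one, ← map_zpow]; exact hx
  rw [mem_bot]
  simp only [zpow_mul, zpow_natCast, h3, one_zpow]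

/-- A nilpotent group with a cyclic or generalized quaternion quotient by a subgroup of the derived
subgroup is isomorphic to this quotient. -/
theorem ker_eq_bot {E C : Type*} [Group E] [Group C] [Group.IsNilpotent E] (φ : E →* C)
    (hφ : Function.Surjective φ) (hZ : φ.ker ≤ commutator E)
    (hC : IsCyclic C ∨ ∃ n : ℕ, Nonempty (C ≃* QuaternionGroup (2 ^ n))) : φ.ker = ⊥ := by
  refine eq_bot_of_le_commutator_of_isNilpotent (N := ⊤) inferInstance le_top ?_
  let ψ := QuotientGroup.lift ⁅φ.ker, ⊤⁆ φ (commutator_le_left _ _)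
  have hψ : Function.Surjective ψ := QuotientGroup.lift_surjective_of_surjective _ _ hφ _
  have hk : ψ.ker ≤ center _ := by
    intro x hx
    obtain ⟨x, rfl⟩ := QuotientGroup.mk_surjective x
    rw [mem_center_iff]
    intro y
    obtain ⟨y, rfl⟩ := QuotientGroup.mk_surjective y
    rw [eq_comm, ← commutatorElement_eq_one_iff_mul_comm]
    exact (QuotientGroup.eq_one_iff ⁅x, y⁆).2 (commutator_mem_commutator hx (mem_top y))
  have h : ψ.ker ⊓ commutator _ = ⊥ := by
    rcases hC with hC | ⟨n, ⟨e⟩⟩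
    · have := ψ.isMulCommutative_of_isCyclic_of_ker_le_center hk
      rw [commutator_eq_bot, inf_bot_eq]
    · have e1 := MonoidHom.ker_comp_of_injective ψ e.toMonoidHom e.injective
      exact e1 ▸ ker_inf_commutator_of_quaternion (e.toMonoidHom.comp ψ) (e.surjective.comp hψ)
        (e1 ▸ hk)
  intro x hx
  refine (QuotientGroup.eq_one_iff x).1 (mem_bot.1 (h.le ⟨hx, ?_⟩))
  have := mem_map_of_mem (QuotientGroup.mk' ⁅φ.ker, ⊤⁆) (hZ hx)
  rwa [_root_.commutator_def, map_commutator,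
    map_top_of_surjective _ (QuotientGroup.mk'_surjective _)] at this

variable {G : Type u} [Group G] [Finite G] {N : Subgroup G} [N.Normal]

omit [Finite G] [N.Normal] in
theorem fpf (h : ∀ g : G, g ∉ N → ∀ n ∈ N, ∃ x : G, x * g * x⁻¹ = g * n) {g : G} (hg : g ∉ N)
    {V : Subgroup G} (hV : V ≤ N) (hc : (Nat.card V).Coprime (orderOf g)) :
    V ⊓ centralizer {g} = ⊥ := by
  rw [Fpf.inf_centralizer_eq_bot_iff]
  intro v hv hvg
  obtain ⟨x, hx⟩ := h g hg v (hV hv)
  have h1 : (g * v) ^ orderOf g = 1 := by rw [← hx, conj_pow, pow_orderOf_eq_one]; group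
  rw [(show Commute g v from hvg.symm).mul_pow, pow_orderOf_eq_one, one_mul] at h1
  exact orderOf_eq_one_iff.1 (Nat.eq_one_of_dvd_coprimes hc (V.orderOf_dvd_natCard hv)
    (orderOf_dvd_of_pow_eq_one h1))

theorem card_centralizer_dvd (h : ∀ g : G, g ∉ N → ∀ n ∈ N, ∃ x : G, x * g * x⁻¹ = g * n) {g : G}
    (hg : g ∉ N) : Nat.card (centralizer ({g} : Set G)) ∣ N.index := by
  have h1 : Nat.card N ∣ cnt fun y : G => IsConj g y :=
    dvd_cnt_of_dvd_index_stabilizer (A := N) _ (fun n y hy => by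
      obtain ⟨c, rfl⟩ := isConj_iff.1 hy
      obtain ⟨x, hx⟩ := h g hg ((c * g)⁻¹ * n * (c * g)⁻¹⁻¹) (Normal.conj_mem ‹_› _ n.2 _)
      refine isConj_iff.2 ⟨c * x, ?_⟩
      calc c * x * g * (c * x)⁻¹ = c * (x * g * x⁻¹) * c⁻¹ := by group
        _ = (n : G) * (c * g * c⁻¹) := by rw [hx]; group) fun y _ => by
      rw [IsCancelSMul.stabilizer_eq_bot, index_bot]
  have h2 := Frob.card_isConj_mul_card_centralizer g
  rw [← N.card_mul_index] at h2
  exact Nat.dvd_of_mul_dvd_mul_left Nat.card_pos (h2 ▸ mul_dvd_mul_right h1 _)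

/-- In a Camina pair, `N ∩ P ≤ P'` for a Sylow subgroup `P` not contained in `N`. -/
theorem inf_le_commutator (h : ∀ g : G, g ∉ N → ∀ n ∈ N, ∃ x : G, x * g * x⁻¹ = g * n) {p : ℕ}
    [hp : Fact p.Prime] (P : Sylow p G) (hP : ¬ (P : Subgroup G) ≤ N) :
    N ⊓ P ≤ ⁅(P : Subgroup G), (P : Subgroup G)⁆ := by
  have hQ := P.isPGroup'.map (QuotientGroup.mk' N)
  have h0 := PG.inf_centralizer_ne_bot hQ hQ le_normalizer
    (by rwa [Ne, Subgroup.map_eq_bot_iff, QuotientGroup.ker_mk'])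
  obtain ⟨_, ⟨⟨g, hgP, rfl⟩, hg⟩, hg1⟩ := (Subgroup.bot_or_exists_ne_one _).resolve_left h0
  have hgN : g ∉ N := fun h => hg1 ((QuotientGroup.eq_one_iff g).2 h)
  set K := N ⊓ ⁅(P : Subgroup G), (P : Subgroup G)⁆ with hK
  have hKP : K ≤ P := inf_le_right.trans (commutator_le_self _)
  have h1 : Nat.card P ∣ cnt fun a : G => g⁻¹ * (a * g * a⁻¹) ∈ K :=
    dvd_cnt_of_dvd_index_stabilizer (A := (P : Subgroup G)) _ (fun u a ha => by
      have e : g⁻¹ * (u • a * g * (u • a)⁻¹) =
          ⁅g⁻¹, (u : G)⁆ * (u * (g⁻¹ * (a * g * a⁻¹)) * (u : G)⁻¹) := by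
        rw [Subgroup.smul_def, smul_eq_mul, commutatorElement_def]; group
      rw [e]
      refine mul_mem ⟨(QuotientGroup.eq_one_iff _).1 ?_,
        commutator_mem_commutator (inv_mem hgP) u.2⟩ (conj_mem_of_mem_normalizer
          (le_normalizer_inf (Fpf.le_normalizer_of_normal' N _)
            (le_normalizer_commutator le_normalizer le_normalizer) u.2) ha)
      exact commutatorElement_eq_one_iff_commute.2
        (show Commute (g : G ⧸ N) u from (hg _ (mem_map_of_mem _ u.2)).symm).inv_left) fun y _ => by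
      rw [IsCancelSMul.stabilizer_eq_bot, index_bot]
  choose x hx using fun k : K => h g hgN k k.2.1
  have h2 : Nat.card K * Nat.card (centralizer ({g} : Set G)) =
      cnt fun a : G => g⁻¹ * (a * g * a⁻¹) ∈ K := by
    have e : ∀ (k : K) (c : centralizer ({g} : Set G)),
        g⁻¹ * (x k * c * g * (x k * c)⁻¹) = k := fun k c => by
      rw [mul_assoc (x k), mem_centralizer_singleton_iff.1 c.2, inv_mul_eq_iff_eq_mul, ← hx]; group
    rw [← Nat.card_prod]
    refine Nat.card_congr (Equiv.ofBijective (fun z => ⟨x z.1 * z.2, by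
      simpa only [e] using z.1.2⟩) ⟨?_, ?_⟩)
    · rintro ⟨k, c⟩ ⟨k', c'⟩ he
      have he : x k * c = x k' * c' := congrArg Subtype.val he
      obtain rfl : k = k' := Subtype.ext (by rw [← e k c, he, e])
      rw [Subtype.ext (mul_left_cancel he)]
    · rintro ⟨a, ha⟩
      refine ⟨⟨⟨_, ha⟩, ⟨(x ⟨_, ha⟩)⁻¹ * a, mem_centralizer_singleton_iff.2 ?_⟩⟩,
        Subtype.ext (mul_inv_cancel_left _ _)⟩
      have := hx ⟨_, ha⟩
      rw [mul_inv_cancel_left] at this
      generalize x ⟨_, ha⟩ = y at this ⊢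
      calc y⁻¹ * a * g = y⁻¹ * (a * g * a⁻¹) * a := by group
        _ = _ := by rw [← this]; group
  have h3 := h1.trans (h2 ▸ mul_dvd_mul_left _ (card_centralizer_dvd h hgN))
  rw [← relIndex_mul_card_inf N P, ← relIndex_mul_index (le_sup_right : N ≤ (P : Subgroup G) ⊔ N),
    relIndex_sup_right, mul_left_comm] at h3
  have h4 : Nat.card (N ⊓ P : Subgroup G) ∣ Nat.card K :=
    (coprime_card_of_isPGroup P.isPGroup'.to_inf_right (hp.1.coprime_iff_not_dvd.2 fun h5 =>
      P.not_dvd_index (h5.trans (index_dvd_of_le le_sup_left))).symm).dvd_of_dvd_mul_right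
      (Nat.dvd_of_mul_dvd_mul_left (Nat.pos_of_ne_zero index_ne_zero_of_finite) h3)
  exact (eq_of_le_of_card_ge (le_inf inf_le_left hKP) (Nat.le_of_dvd Nat.card_pos h4)).ge.trans
    inf_le_right

theorem hasNormalPComplement (h : ∀ g : G, g ∉ N → ∀ n ∈ N, ∃ x : G, x * g * x⁻¹ = g * n) {p : ℕ}
    [hp : Fact p.Prime] (hp : p ∣ N.index) : HasNormalPComplement p N := by
  obtain ⟨P⟩ : Nonempty (Sylow p G) := inferInstance
  refine Cfsg.Agent.S0081.result P N ((inf_le_commutator h P fun h1 =>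
    P.not_dvd_index (hp.trans (index_dvd_of_le h1))).trans ?_)
  rw [← map_subtype_commutator]
  exact map_mono (commutator_le_frattini_of_isPGroup P.isPGroup')

/-- If `p` divides both `|N|` and `|G : N|`, then `N ∩ P` centralizes no nontrivial `P`-invariant
`p'`-subgroup of `N`. -/
theorem eq_bot_of_le_centralizer (h : ∀ g : G, g ∉ N → ∀ n ∈ N, ∃ x : G, x * g * x⁻¹ = g * n)
    {p : ℕ} [hp : Fact p.Prime] (P : Sylow p G) (hP : ¬ (P : Subgroup G) ≤ N) (h0 : N ⊓ P ≠ ⊥)
    {V : Subgroup G} (hV : V ≤ N) (hc : (Nat.card V).Coprime p)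
    (hPV : (P : Subgroup G) ≤ normalizer (V : Set G)) (hVc : V ≤ centralizer (N ⊓ P : Subgroup G)) :
    V = ⊥ := by
  by_contra hV0
  set M := normalizer ((N ⊓ P : Subgroup G) : Set G)
  have hPM : (P : Subgroup G) ≤ M :=
    le_normalizer_inf (Fpf.le_normalizer_of_normal' N _) le_normalizer
  have hVM : V ≤ M := hVc.trans (centralizer_le_normalizer _)
  let f := QuotientGroup.mk' ((N ⊓ P : Subgroup G).subgroupOf M)
  have hn : (P : Subgroup G).subgroupOf M ≤ normalizer (V.subgroupOf M : Set M) :=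
    (comap_mono hPV).trans (le_normalizer_comap _)
  have hcop : (Nat.card P).Coprime (Nat.card V) := coprime_card_of_isPGroup P.isPGroup' hc
  have hC := Fpf.isCyclic_or_quaternion (K := (V.subgroupOf M).map f)
    (H := ((P : Subgroup G).subgroupOf M).map f) ((map_mono hn).trans (le_normalizer_map f))
    (fun h1 => by
      rw [Subgroup.map_eq_bot_iff, QuotientGroup.ker_mk'] at h1
      exact hV0 (le_bot_iff.1 ((inf_eq_bot_of_coprime_card hcop).le.trans'
        (le_inf (fun v hv => (h1 (x := ⟨v, hVM hv⟩) hv).2) le_rfl))))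
    (by
      rintro _ ⟨u, hu, rfl⟩ hu1
      exact Fpf.map f (hn hu) (Fpf.subgroupOf M (fpf h
        (fun h1 => hu1 ((QuotientGroup.eq_one_iff u).2 ⟨h1, hu⟩)) hV
        (hcop.symm.coprime_dvd_right ((P : Subgroup G).orderOf_dvd_natCard hu)))))
    le_rfl (P.isPGroup'.comap_subtype.map f)
  have := P.isPGroup'.isNilpotent
  have hk := ker_eq_bot ((f.subgroupMap _).comp (subgroupOfEquivOfLe hPM).symm.toMonoidHom)
    ((f.subgroupMap_surjective _).comp (subgroupOfEquivOfLe hPM).symm.surjective) (fun x hx => by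
      have h1 : (x : G) ∈ N ⊓ P := (QuotientGroup.eq_one_iff (N := (N ⊓ P : Subgroup G).subgroupOf M)
        ⟨x, hPM x.2⟩).1 (congrArg Subtype.val hx)
      have h2 := inf_le_commutator h P hP h1
      rw [← map_subtype_commutator] at h2
      obtain ⟨y, hy, hxy⟩ := h2
      rwa [← Subtype.ext hxy]) (hC.imp_right And.right)
  refine h0 (eq_bot_iff_forall _ |>.2 fun x hx => congrArg Subtype.val
    (mem_bot.1 (hk.le (x := ⟨x, hx.2⟩) (Subtype.ext ?_))))
  exact (QuotientGroup.eq_one_iff (N := (N ⊓ P : Subgroup G).subgroupOf M) ⟨x, hPM hx.2⟩).2 hx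

end Cfsg.Lib.Solv.Camina
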