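import Cfsg.Agent.Solv.FitMin

/-! # Turull's theorem, part 9: towers -/

set_option autoImplicit false

namespace Cfsg.Lib.Solv.Tur

open Subgroup Cfsg.Lib.Solv Cfsg.Lib.FT Cfsg.Lib.Solv.FH
open scoped Pointwise commutatorElement

universe u v

variable {X : Type u} [Group X]

/-- The kernels of the levels of a tower. -/
def Nn (S : ℕ → Subgroup X) : ℕ → Subgroup X
  | 0 => ⊥
  | i + 1 => S (i + 1) ⊓ commLe (S i) (Nn S i)

/-- Nested commutators down a tower. -/
def dn (S : ℕ → Subgroup X) : ℕ → Subgroup X → Subgroup X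
  | 0, Z => Z
  | i + 1, Z => dn S i ⁅Z, S i⁆

/-- The group acting on level `i`. -/
def Dn (S : ℕ → Subgroup X) (m i : ℕ) : Subgroup X := ⨆ l, ⨆ _ : i < l ∧ l ≤ m, S l

/-- A tower, possibly degenerate. -/
structure Tw (K A : Subgroup X) (m : ℕ) (pr : ℕ → ℕ) (S : ℕ → Subgroup X) : Prop where
  prime : ∀ i, (pr i).Prime
  ne : ∀ i < m, pr i ≠ pr (i + 1)
  pg : ∀ i ≤ m, IsPGroup (pr i) (S i)
  le : ∀ i ≤ m, S i ≤ K
  An : ∀ i ≤ m, A ≤ 𝐍 (S i)
  nor : ∀ i l, i ≤ l → l ≤ m → S l ≤ 𝐍 (S i)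

variable {S : ℕ → Subgroup X}

theorem Nn_le (i : ℕ) : Nn S i ≤ S i := by
  cases i
  exacts [bot_le, inf_le_left]

theorem Nn_congr {S' : ℕ → Subgroup X} (i : ℕ) (h : ∀ l ≤ i, S l = S' l) : Nn S i = Nn S' i := by
  induction i with
  | zero => rfl
  | succ i ih =>
    rw [Nn, Nn, h _ le_rfl, h i i.le_succ, ih fun l hl => h l (hl.trans i.le_succ)]

theorem le_normalizer_Nn [Finite X] {B : Subgroup X} (i : ℕ) (h : ∀ l ≤ i, B ≤ 𝐍 (S l)) :
    B ≤ 𝐍 (Nn S i) := by
  induction i with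
  | zero => exact Subgroup.le_normalizer_of_normal (H := ⊥)
  | succ i ih =>
    exact le_normalizer_inf (h _ le_rfl) (le_normalizer_commLe (h i i.le_succ)
      (ih fun l hl => h l (hl.trans i.le_succ)))

theorem map_dn {Y : Type v} [Group Y] (f : X →* Y) {S' : ℕ → Subgroup Y} (i : ℕ)
    (h : ∀ l < i, (S l).map f = S' l) (Z : Subgroup X) :
    (dn S i Z).map f = dn S' i (Z.map f) := by
  induction i generalizing Z with
  | zero => rfl
  | succ i ih =>
    rw [dn, dn, ih fun l hl => h l (hl.trans i.lt_succ_self), map_commutator, h i i.lt_succ_self]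

theorem dn_succ (i : ℕ) (Z : Subgroup X) :
    dn S (i + 1) Z = ⁅dn (fun l => S (l + 1)) i Z, S 0⁆ := by
  induction i generalizing Z with
  | zero => rfl
  | succ i ih => rw [dn, ih, dn]

theorem le_Dn {m i l : ℕ} (h1 : i < l) (h2 : l ≤ m) : S l ≤ Dn S m i :=
  le_iSup₂_of_le l ⟨h1, h2⟩ le_rfl

theorem Dn_le {m i : ℕ} {B : Subgroup X} (h : ∀ l, i < l → l ≤ m → S l ≤ B) : Dn S m i ≤ B :=
  iSup₂_le fun l hl => h l hl.1 hl.2

theorem Dn_eq {m i : ℕ} (h : i < m) : Dn S m i = S (i + 1) ⊔ Dn S m (i + 1) :=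
  le_antisymm (Dn_le fun l h1 h2 => (Nat.succ_le_of_lt h1).eq_or_lt.elim
    (fun h3 => h3 ▸ le_sup_left) fun h3 => (le_Dn h3 h2).trans le_sup_right)
    (sup_le (le_Dn i.lt_succ_self h) (Dn_le fun _ h1 h2 => le_Dn (i.lt_succ_self.trans h1) h2))

namespace Tw

variable {K A : Subgroup X} {m : ℕ} {pr : ℕ → ℕ}

theorem dn_le (h : Tw K A m pr S) (i : ℕ) (hi : i ≤ m) {Z : Subgroup X} (hZ : Z ≤ S i) :
    dn S i Z ≤ S 0 := by
  induction i generalizing Z with
  | zero => exact hZ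
  | succ i ih =>
    exact ih (i.le_succ.trans hi) (commutator_le_right_of_le_normalizer
      (hZ.trans (h.nor i _ i.le_succ hi)))

theorem dn_eq_bot (h : Tw K A m pr S) (i : ℕ) {Z : Subgroup X} (hZ : Z ≤ Nn S i) :
    dn S i Z = ⊥ := by
  induction i generalizing Z with
  | zero => exact le_bot_iff.1 hZ
  | succ i ih => exact ih (le_commLe_iff.1 (hZ.trans inf_le_right)).2

theorem Dn_le_K (h : Tw K A m pr S) (i : ℕ) : Dn S m i ≤ K := Dn_le fun l _ hl => h.le l hl

theorem Dn_nor (h : Tw K A m pr S) {i l : ℕ} (hl : l ≤ i + 1) : Dn S m i ≤ 𝐍 (S l) :=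
  Dn_le fun k h1 h2 => h.nor l k (hl.trans h1) h2

theorem A_Dn [Finite X] (h : Tw K A m pr S) (i : ℕ) : A ≤ 𝐍 (Dn S m i) := fun a ha =>
  mem_normalizer_of_conj_mem (conj_smul_le_iff.1 (conj_smul_le_iff_le_conj_inv_smul.2
    (Dn_le fun l h1 h2 => conj_smul_le_iff_le_conj_inv_smul.1
      ((conj_smul_eq_of_mem_normalizer (h.An l h2 ha)).le.trans (le_Dn h1 h2)))))

theorem cop [Finite X] (h : Tw K A m pr S) {i : ℕ} (hi : i < m) :
    (Nat.card (S (i + 1))).Coprime (Nat.card (S i)) :=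
  have := Fact.mk (h.prime i)
  have := Fact.mk (h.prime (i + 1))
  IsPGroup.coprime_card_of_ne _ _ (h.ne i hi).symm _ _ (h.pg _ hi) (h.pg _ hi.le)

theorem update (h : Tw K A m pr S) {i : ℕ} (hi : i ≤ m) {Y : Subgroup X} (hY : Y ≤ S i)
    (hA : A ≤ 𝐍 Y) (hD : Dn S m i ≤ 𝐍 Y) : Tw K A m pr (Function.update S i Y) := by
  have h1 : ∀ l, Function.update S i Y l ≤ S l := fun l => by
    by_cases hl : l = i
    · rw [hl, Function.update_self]; exact hY
    · rw [Function.update_of_ne hl]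
  refine ⟨h.prime, h.ne, fun l hl => (h.pg l hl).to_le (h1 l), fun l hl => (h1 l).trans
    (h.le l hl), fun l hl => ?_, fun k l h2 h3 => ?_⟩
  · by_cases hl' : l = i
    · rw [hl', Function.update_self]; exact hA
    · rw [Function.update_of_ne hl']; exact h.An l hl
  · rcases h2.eq_or_lt with rfl | h2
    · exact le_normalizer
    by_cases hk : k = i
    · rw [hk, Function.update_self]
      exact (h1 l).trans ((le_Dn (hk ▸ h2) h3).trans hD)
    · rw [Function.update_of_ne hk]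
      exact (h1 l).trans (h.nor k l h2.le h3)

end Tw

variable [Finite X]

theorem exists_lift {Y : Type v} [Group Y] (f : X →* Y) {A : Subgroup X} (m : ℕ) :
    ∀ (S' : ℕ → Subgroup Y) (pr : ℕ → ℕ),
    (∀ i, (pr i).Prime) → ∀ L : Subgroup X, A ≤ 𝐍 L → Group.IsSolvable L →
    (Nat.card A).Coprime (Nat.card L) → (∀ i < m, IsPGroup (pr i) (S' i)) →
    (∀ i < m, S' i ≤ L.map f) → (∀ i < m, A.map f ≤ 𝐍 (S' i)) →
    (∀ i l, i ≤ l → l < m → S' l ≤ 𝐍 (S' i)) →
    ∃ S : ℕ → Subgroup X, (∀ i < m, IsPGroup (pr i) (S i)) ∧ (∀ i < m, S i ≤ L) ∧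
      (∀ i < m, A ≤ 𝐍 (S i)) ∧ (∀ i l, i ≤ l → l < m → S l ≤ 𝐍 (S i)) ∧
      ∀ i < m, (S i).map f = S' i := by
  induction m with
  | zero => exact fun _ _ _ _ _ _ _ _ _ _ _ => ⟨fun _ => ⊥, by simp, by simp, by simp, by simp,
      by simp⟩
  | succ m ih =>
    intro S' pr hpr L hAL hL c h1 h2 h3 h4
    have := Fact.mk (hpr 0)
    have hnorm : ∀ {B : Subgroup X} {Z : Subgroup Y}, B.map f ≤ 𝐍 Z → B ≤ 𝐍 (Z.comap f) :=
      fun h => (map_le_iff_le_comap.1 h).trans (le_normalizer_comap f)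
    set Q' : Subgroup X := L ⊓ (S' 0).comap f with hQ'
    have hQ'm : Q'.map f = S' 0 := le_antisymm ((map_mono inf_le_right).trans (map_comap_le _ _))
      fun y hy => by
        obtain ⟨x, hx, rfl⟩ := h2 0 m.succ_pos hy
        exact ⟨x, ⟨hx, hy⟩, rfl⟩
    obtain ⟨Q, hQ1, hQ2, hQ3, hQ4⟩ := Coprime.exists_invariant_sylow' (K := Q')
      (le_normalizer_inf hAL (hnorm (h3 0 m.succ_pos)))
      (c.coprime_dvd_right (card_dvd_of_le inf_le_left))
      (Or.inr (isSolvable_subgroup_of_le inf_le_left hL)) (pr 0)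
    have hQm : Q.map f = S' 0 := by
      rw [map_eq_of_sylow f hQ1 hQ3 (hQ'm ▸ h1 0 m.succ_pos), hQ'm]
    set L₁ : Subgroup X := L ⊓ (𝐍 (S' 0)).comap f with hL₁
    have hL₁n : L₁ ≤ 𝐍 Q' := le_normalizer_inf (inf_le_left.trans le_normalizer)
      (hnorm ((map_mono inf_le_right).trans (map_comap_le _ _)))
    have hQL : Q' ≤ L₁ := inf_le_inf_left _ (comap_mono le_normalizer)
    have hfr := frattini_sup hQL hL₁n hQ1 hQ2 hQ3
    have hle : L₁ ⊓ 𝐍 Q ≤ L := inf_le_left.trans inf_le_left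
    obtain ⟨S, k1, k2, k3, k4, k5⟩ := ih (fun i => S' (i + 1)) (fun i => pr (i + 1))
      (fun i => hpr _) (L₁ ⊓ 𝐍 Q) (le_normalizer_inf (le_normalizer_inf hAL
        (hnorm ((h3 0 m.succ_pos).trans le_normalizer))) (hQ4.trans le_normalizer))
      (isSolvable_subgroup_of_le hle hL) (c.coprime_dvd_right (card_dvd_of_le hle))
      (fun i hi => h1 _ (Nat.succ_lt_succ hi)) (fun i hi y hy => by
        obtain ⟨x, hx, rfl⟩ := h2 _ (Nat.succ_lt_succ hi) hy
        have : f x ∈ L₁.map f := ⟨x, ⟨hx, h4 0 _ (Nat.zero_le _) (Nat.succ_lt_succ hi) hy⟩, rfl⟩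
        rw [← hfr, Subgroup.map_sup, hQ'm, ← hQm, ← Subgroup.map_sup,
          sup_eq_right.2 (le_inf (hQ1.trans hQL) le_normalizer)] at this
        exact this)
      (fun i hi => h3 _ (Nat.succ_lt_succ hi))
      (fun i l h5 h6 => h4 _ _ (Nat.succ_le_succ h5) (Nat.succ_lt_succ h6))
    refine ⟨fun i => Nat.casesOn i Q S, fun i hi => ?_, fun i hi => ?_, fun i hi => ?_,
      fun i l h5 h6 => ?_, fun i hi => ?_⟩
    · cases i
      exacts [hQ2, k1 _ (Nat.lt_of_succ_lt_succ hi)]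
    · cases i
      exacts [hQ1.trans inf_le_left, (k2 _ (Nat.lt_of_succ_lt_succ hi)).trans hle]
    · cases i
      exacts [hQ4, k3 _ (Nat.lt_of_succ_lt_succ hi)]
    · cases l
      · rw [Nat.le_zero.1 h5]; exact le_normalizer
      · cases i
        exacts [(k2 _ (Nat.lt_of_succ_lt_succ h6)).trans inf_le_right,
          k4 _ _ (Nat.le_of_succ_le_succ h5) (Nat.lt_of_succ_lt_succ h6)]
    · cases i
      exacts [hQm, k5 _ (Nat.lt_of_succ_lt_succ hi)]

theorem exists_tower (m : ℕ) : ∀ {X : Type u} [Group X] [Finite X] (K A : Subgroup X) [K.Normal],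
    Group.IsSolvable K → (Nat.card A).Coprime (Nat.card K) → nilRes^[m] K ≠ ⊥ →
    ∃ pr S, Tw K A m pr S ∧ dn S m (S m) ≠ ⊥ ∧ S 0 ≤ fittingOf K := by
  induction m with
  | zero =>
    intro X _ _ K A _ hK _ h
    by_contra h1
    refine h ((trivg_Fitting hK).1 (le_bot_iff.1 (le_of_forall_pCore_le_of_isNilpotent
      (fittingOf_isNilpotent K) fun p hp => ?_)))
    by_contra h2
    have := normal_map_subtype_of_char (pCore p (fittingOf K))
    exact h1 ⟨fun _ => p, fun _ => (pCore p (fittingOf K)).map (fittingOf K).subtype,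
      ⟨fun _ => hp.out, by simp, fun _ _ => (pCore_isPGroup p _).map _,
        fun _ _ => (map_subtype_le _).trans (fittingOf_le K),
        fun _ _ => Subgroup.le_normalizer_of_normal, fun _ _ _ _ => le_normalizer⟩,
      fun h3 => h2 h3.le, map_subtype_le _⟩
  | succ m ih =>
    intro X _ _ K A _ hK c h
    set π := QuotientGroup.mk' (fittingOf K) with hπ
    have : (K.map π).Normal := Normal.map inferInstance _ (QuotientGroup.mk'_surjective _)
    obtain ⟨pr, S', t, h1, h2⟩ := ih (K.map π) (A.map π) (isSolvable_subgroup_map π hK)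
      ((c.coprime_dvd_left (card_map_dvd _ _)).coprime_dvd_right (card_map_dvd _ _))
      fun h1 => h (iter_succ_eq_bot_iff_map.2 h1)
    obtain ⟨S, k1, k2, k3, k4, k5⟩ := exists_lift π (m + 1) S' pr t.prime K
      Subgroup.le_normalizer_of_normal hK c (fun i hi => t.pg i (Nat.le_of_lt_succ hi))
      (fun i hi => t.le i (Nat.le_of_lt_succ hi)) (fun i hi => t.An i (Nat.le_of_lt_succ hi))
      fun i l h3 h4 => t.nor i l h3 (Nat.le_of_lt_succ h4)
    have t' : Tw K A m pr S := ⟨t.prime, t.ne, fun i hi => k1 i (Nat.lt_succ_of_le hi),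
      fun i hi => k2 i (Nat.lt_succ_of_le hi), fun i hi => k3 i (Nat.lt_succ_of_le hi),
      fun i l h3 h4 => k4 i l h3 (Nat.lt_succ_of_le h4)⟩
    have := Fact.mk (t.prime 0)
    have hD := t'.dn_le m le_rfl le_rfl
    have h3 : ¬ opF (pr 0) K ≤ 𝐂 (dn S m (S m)) := fun h3 => h1 (by
      rw [← k5 m m.lt_succ_self, ← map_dn π m fun l hl => k5 l (hl.trans m.lt_succ_self),
        ← le_iff_map_mk'_eq_bot]
      exact le_fittingOf_of_le_centralizer_opF ((t'.pg 0 m.zero_le).to_le hD)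
        (hD.trans (t'.le 0 m.zero_le)) ((map_mono hD).trans ((k5 0 m.succ_pos).le.trans h2))
        (le_centralizer_iff.1 h3))
    by_contra h4
    refine h3 (le_of_forall_pCore_le_of_isNilpotent (opF_isNilpotent _ K) fun p hp => ?_)
    by_contra h5
    have := normal_map_subtype_of_char (pCore p (opF (pr 0) K))
    set Q := (pCore p (opF (pr 0) K)).map (opF (pr 0) K).subtype with hQ
    have hQp : IsPGroup p Q := (pCore_isPGroup p _).map _
    have hQle : Q ≤ opF (pr 0) K := map_subtype_le _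
    refine h4 ⟨fun i => Nat.casesOn i p pr, fun i => Nat.casesOn i Q S, ⟨fun i => ?_,
      fun i hi => ?_, fun i hi => ?_, fun i hi => ?_, fun i hi => ?_, fun i l h6 h7 => ?_⟩, ?_,
      hQle.trans (opF_le_fittingOf _ _)⟩
    · cases i
      exacts [hp.out, t.prime _]
    · cases i
      · intro h6
        obtain ⟨k, hk⟩ := IsPGroup.iff_card.1 hQp
        have h7 : (Nat.card Q).Coprime (Nat.card Q) := by
          nth_rw 2 [hk]
          rw [show p = pr 0 from h6]
          exact ((coprime_card_opF (pr 0) K).coprime_dvd_left (card_dvd_of_le hQle)).pow_right k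
        rw [Nat.coprime_self, card_eq_one] at h7
        exact h5 (h7.le.trans bot_le)
      · exact t.ne _ (Nat.lt_of_succ_lt_succ hi)
    · cases i
      exacts [hQp, t'.pg _ (Nat.le_of_succ_le_succ hi)]
    · cases i
      exacts [hQle.trans (opF_le _ _), t'.le _ (Nat.le_of_succ_le_succ hi)]
    · cases i
      exacts [Subgroup.le_normalizer_of_normal, t'.An _ (Nat.le_of_succ_le_succ hi)]
    · cases i
      · exact Subgroup.le_normalizer_of_normal
      · cases l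
        exacts [absurd h6 (by simp),
          t'.nor _ _ (Nat.le_of_succ_le_succ h6) (Nat.le_of_succ_le_succ h7)]
    · rw [dn_succ]
      exact fun h6 => h5 (commutator_eq_bot_iff_le_centralizer'.1 h6)

/-- A minimal tower. -/
structure MT (K A : Subgroup X) (m : ℕ) (pr : ℕ → ℕ) (S : ℕ → Subgroup X) : Prop
    extends Tw K A m pr S where
  nd : ¬ S m ≤ Nn S m
  min : ∀ S', Tw K A m pr S' → ¬ S' m ≤ Nn S' m →
    ∑ i ∈ Finset.range (m + 1), Nat.card (S i) ≤ ∑ i ∈ Finset.range (m + 1), Nat.card (S' i)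

theorem exists_mt {m : ℕ} (K A : Subgroup X) [K.Normal] (hK : Group.IsSolvable K)
    (c : (Nat.card A).Coprime (Nat.card K)) (h : nilRes^[m] K ≠ ⊥) : ∃ pr S, MT K A m pr S := by
  obtain ⟨pr, S, t, h1, -⟩ := exists_tower m K A hK c h
  obtain ⟨S₀, ⟨h2, h3⟩, h4⟩ := (measure fun S : ℕ → Subgroup X =>
    ∑ i ∈ Finset.range (m + 1), Nat.card (S i)).wf.has_min
    {S | Tw K A m pr S ∧ ¬ S m ≤ Nn S m} ⟨S, t, fun h2 => h1 (t.dn_eq_bot m h2)⟩
  exact ⟨pr, S₀, h2, h3, fun S' h5 h6 => not_lt.1 (h4 S' ⟨h5, h6⟩)⟩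

namespace MT

variable {K A : Subgroup X} {m : ℕ} {pr : ℕ → ℕ}

theorem Dn_Nn (h : MT K A m pr S) (i : ℕ) : Dn S m i ≤ 𝐍 (Nn S (i + 1)) :=
  le_normalizer_Nn _ fun _ hl => h.Dn_nor hl

theorem S_Nn (h : MT K A m pr S) {i l : ℕ} (h1 : i ≤ l) (h2 : l ≤ m) : S l ≤ 𝐍 (Nn S i) :=
  le_normalizer_Nn _ fun k hk => h.nor k l (hk.trans h1) h2

theorem A_Nn (h : MT K A m pr S) {i : ℕ} (hi : i ≤ m) : A ≤ 𝐍 (Nn S i) :=
  le_normalizer_Nn _ fun k hk => h.An k (hk.trans hi)

theorem not_le (h : MT K A m pr S) {i : ℕ} (hi : i ≤ m) : ¬ S i ≤ Nn S i := fun h1 => by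
  refine h.nd (Nat.le_induction (P := fun l _ => l ≤ m → S l ≤ Nn S l) (fun _ => h1)
    (fun l _ ih hl => le_inf le_rfl (le_commLe_iff.2 ⟨h.S_Nn l.le_succ hl,
      (commutator_le_right_of_le_normalizer (h.nor l _ l.le_succ hl)).trans
        (ih (l.le_succ.trans hl))⟩)) m hi le_rfl)

theorem eq_of_update (h : MT K A m pr S) {i : ℕ} (hi : i ≤ m) {Y : Subgroup X} (hY : Y ≤ S i)
    (hA : A ≤ 𝐍 Y) (hD : Dn S m i ≤ 𝐍 Y)
    (h1 : ¬ Function.update S i Y m ≤ Nn (Function.update S i Y) m) : Y = S i := by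
  by_contra h2
  refine (h.min _ (h.toTw.update hi hY hA hD) h1).not_gt (Finset.sum_lt_sum (fun l _ => ?_)
    ⟨i, Finset.mem_range.2 (Nat.lt_succ_of_le hi), ?_⟩)
  · by_cases hl : l = i
    · rw [hl, Function.update_self]; exact card_le_of_le hY
    · rw [Function.update_of_ne hl]
  · rw [Function.update_self]
    exact (card_le_of_le hY).lt_of_ne fun h3 => h2 (eq_of_le_of_card_ge hY h3.ge)

omit [Finite X] in
theorem Nn_update {i : ℕ} {Y : Subgroup X} (hY : Y ≤ S i) :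
    Nn (Function.update S i Y) i ≤ Nn S i := by
  cases i with
  | zero => exact le_rfl
  | succ i =>
    rw [Nn, Nn, Function.update_self, Function.update_of_ne i.succ_ne_self.symm,
      Nn_congr (S' := S) i fun l hl => Function.update_of_ne (Nat.lt_succ_of_le hl).ne _ _]
    exact inf_le_inf_right _ hY

theorem top (h : MT K A m pr S) {Y : Subgroup X} (hY : Y ≤ S m) (hA : A ≤ 𝐍 Y) :
    Y ≤ Nn S m ∨ Y = S m := by
  refine or_iff_not_imp_left.2 fun h1 => h.eq_of_update le_rfl hY hA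
    (Dn_le fun l h2 h3 => absurd h3 h2.not_ge) fun h2 => h1 ?_
  rw [Function.update_self] at h2
  exact h2.trans (Nn_update hY)

theorem low' (h : MT K A m pr S) {i : ℕ} (hi : i < m)
    (ha : ∀ l, i < l → l < m → ⁅S l, S (l + 1)⁆ = S l) {Y : Subgroup X} (hY : Y ≤ S i)
    (hA : A ≤ 𝐍 Y) (hD : Dn S m i ≤ 𝐍 Y) : ⁅Y, S (i + 1)⁆ ≤ Nn S i ∨ Y = S i := by
  refine or_iff_not_imp_left.2 fun h1 => h.eq_of_update hi.le hY hA hD ?_
  refine Nat.le_induction (P := fun l _ => l ≤ m →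
    ¬ Function.update S i Y l ≤ Nn (Function.update S i Y) l) (fun _ h2 => h1 ?_)
    (fun l hl ih hm h2 => ih (l.le_succ.trans hm) ?_) m hi le_rfl
  · have := (le_commLe_iff.1 (h2.trans inf_le_right)).2
    rw [Function.update_self, Function.update_of_ne i.succ_ne_self, commutator_comm] at this
    exact this.trans (Nn_update hY)
  · have := (le_commLe_iff.1 (h2.trans inf_le_right)).2
    rw [Function.update_of_ne (Nat.lt_of_succ_le hl).ne'] at this ⊢
    rwa [Function.update_of_ne (Nat.lt_succ_of_lt hl).ne', commutator_comm, ha l hl hm] at this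

theorem comm (h : MT K A m pr S) {i : ℕ} (hi : i < m) : ⁅S i, S (i + 1)⁆ = S i := by
  suffices ∀ d l, m - d ≤ l → l < m → ⁅S l, S (l + 1)⁆ = S l from this m i (by omega) hi
  intro d
  induction d with
  | zero => exact fun l h1 h2 => absurd h2 (by omega)
  | succ d ih =>
    intro l h1 h2
    have h3 := h.nor l _ l.le_succ h2
    refine (h.low' h2 (fun k h4 h5 => ih k (by omega) h5) (commutator_le_left_of_le_normalizer h3)
      (le_normalizer_commutator (h.An l h2.le) (h.An _ h2)) (le_normalizer_commutator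
        (h.Dn_nor l.le_succ) (h.Dn_nor le_rfl))).resolve_left fun h4 => h.not_le h2 ?_
    rw [Coprime.commutator_commutator h3 (h.cop h2), commutator_comm] at h4
    exact le_inf le_rfl (le_commLe_iff.2 ⟨h.S_Nn l.le_succ h2, h4⟩)

theorem low (h : MT K A m pr S) {i : ℕ} (hi : i < m) {Y : Subgroup X} (hY : Y ≤ S i)
    (hA : A ≤ 𝐍 Y) (hD : Dn S m i ≤ 𝐍 Y) : ⁅Y, S (i + 1)⁆ ≤ Nn S i ∨ Y = S i :=
  h.low' hi (fun _ _ h1 => h.comm h1) hY hA hD

theorem ne_bot (h : MT K A m pr S) {i : ℕ} (hi : i ≤ m) : S i ≠ ⊥ := fun h1 =>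
  h.not_le hi (h1.le.trans bot_le)

theorem ZD (h : MT K A m pr S) {i : ℕ} (hi : i < m) : ⁅⁅S i, S i⁆, S (i + 1)⁆ ≤ Nn S i :=
  have := Fact.mk (h.prime i)
  (h.low hi (commutator_le_left_of_le_normalizer le_normalizer)
    (le_normalizer_commutator (h.An i hi.le) (h.An i hi.le)) (le_normalizer_commutator
      (h.Dn_nor i.le_succ) (h.Dn_nor i.le_succ))).resolve_right
    (PG.commutator_lt (h.pg i hi.le) (h.pg i hi.le) le_normalizer (h.ne_bot hi.le)).ne

theorem cl (h : MT K A m pr S) {i : ℕ} (hi : i < m) : ⁅⁅S i, S i⁆, S i⁆ ≤ Nn S i := by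
  have h1 : S (i + 1) ≤ commLe ⁅S i, S i⁆ (Nn S i) :=
    le_commLe_iff.2 ⟨h.S_Nn i.le_succ hi, (commutator_comm _ _).le.trans (h.ZD hi)⟩
  have h2 : S i ≤ commLe ⁅S i, S i⁆ (Nn S i) := (h.comm hi).ge.trans
    ((commutator_mono le_rfl h1).trans (commutator_le_right_of_le_normalizer
      (le_normalizer_commLe (left_le_normalizer_commutator _ _) (h.S_Nn le_rfl hi.le))))
  exact (commutator_comm _ _).le.trans (le_commLe_iff.1 h2).2

theorem pow (h : MT K A m pr S) {i : ℕ} (hi : i < m) {x : X} (hx : x ∈ S i) :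
    x ^ pr i ∈ ⁅S i, S i⁆ ⊔ Nn S i := by
  have := Fact.mk (h.prime i)
  have h1 := (h.low hi (PG.powerClosure_le (p := pr i) 1 _)
    ((h.An i hi.le).trans (PG.normalizer_le_normalizer_powerClosure 1 _))
    ((h.Dn_nor i.le_succ).trans (PG.normalizer_le_normalizer_powerClosure 1 _))).resolve_right
    (PG.powerClosure_one_lt (h.pg i hi.le) (h.ne_bot hi.le)).ne
  have h2 := le_sup_of_commutator_le (PG.powerClosure_le (p := pr i) 1 _) (Nn_le i)
    (h.S_Nn i.le_succ hi) ((h.cop hi).coprime_dvd_right (card_dvd_of_le (Nn_le i)))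
    (Or.inr (Coprime.isSolvable_of_isPGroup ((h.pg i hi.le).to_le (Nn_le i)))) h1
  have h3 := commutator_inf_centralizer_le (h.nor i _ i.le_succ hi) (h.cop hi)
  rw [h.comm hi] at h3
  rw [sup_comm]
  refine sup_le_sup_left h3 _ (h2 ?_)
  simpa using PG.pow_mem_powerClosure (p := pr i) (n := 1) hx

end MT

end Cfsg.Lib.Solv.Tur
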