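import Cfsg.Agent.Solv.TurDual
import Cfsg.Agent.Solv.TurTower

/-! # Turull's theorem: the Fitting height and the fixed points of a coprime automorphism -/

set_option autoImplicit false

namespace Cfsg.Lib.Solv.Tur

open Subgroup Cfsg.Lib.Solv Cfsg.Lib.FT Cfsg.Lib.Solv.FH Cfsg.Lib.Solv.Act
open scoped Pointwise commutatorElement

universe u

variable {X : Type u} [Group X] [Finite X]

theorem le_normalizer_iter {B C : Subgroup X} (h : B ≤ 𝐍 C) (e : ℕ) : B ≤ 𝐍 (nilRes^[e] C) := by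
  induction e with
  | zero => exact h
  | succ e ih =>
    rw [Function.iterate_succ_apply']
    exact fun b hb => mem_normalizer_iff_conj_smul_eq.2 (by
      rw [conj_smul_nilRes, conj_smul_eq_of_mem_normalizer (ih hb)])

theorem comm_le_iter {C Y Z : Subgroup X} {e : ℕ} (hY : Y ≤ C) (hZ : Z ≤ nilRes^[e] C) :
    ⁅Y, Z⁆ ≤ nilRes^[e] C :=
  (commutator_mono hY hZ).trans
    (commutator_le_right_of_le_normalizer (le_normalizer_iter le_normalizer e))

theorem comm_le_iter_succ {C Y Z : Subgroup X} {e e' : ℕ} (hY : Y ≤ C) (hZ : Z ≤ nilRes^[e] C)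
    (h : Z ≤ 𝐍 Y) (c : (Nat.card Z).Coprime (Nat.card Y)) (he : e' ≤ e + 1) :
    ⁅Y, Z⁆ ≤ nilRes^[e'] C := by
  refine le_trans ?_ (iter_anti C he)
  rw [Function.iterate_succ_apply']
  exact le_nilRes_of_le_commutator (comm_le_iter hY hZ) hZ (Coprime.commutator_commutator h c).ge

/-- The final configuration. -/
structure FC (K A : Subgroup X) (n j : ℕ) (pr : ℕ → ℕ) (S : ℕ → Subgroup X) : Prop
    extends MT K A (n + 2) pr S where
  hA : (Nat.card A).Prime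
  c : (Nat.card A).Coprime (Nat.card K)
  hC : nilRes^[n] (K ⊓ 𝐂 A) = ⊥
  jm : j ≤ n + 2
  cent : ∀ l, j < l → l ≤ n + 2 → S l ≤ 𝐂 A
  ncent : 1 ≤ j → ¬ S j ≤ 𝐂 A

/-- The subgroups whose smallness is propagated. -/
def Tn (K A : Subgroup X) (n : ℕ) (S : ℕ → Subgroup X) (i : ℕ) : Subgroup X :=
  S i ⊓ nilRes^[n - i] (K ⊓ 𝐂 A)

namespace FC

variable {K A : Subgroup X} {n j : ℕ} {pr : ℕ → ℕ} {S : ℕ → Subgroup X}

theorem le_iter (h : FC K A n j pr S) {l : ℕ} (h1 : j < l) (h2 : l ≤ n + 2) :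
    S l ≤ nilRes^[n + 2 - l] (K ⊓ 𝐂 A) := by
  refine Nat.decreasingInduction (motive := fun l _ => j < l →
    S l ≤ nilRes^[n + 2 - l] (K ⊓ 𝐂 A)) (fun l hl ih h3 => ?_) (fun h3 => ?_) h2 h1
  · exact (h.comm hl).ge.trans (comm_le_iter_succ (le_inf (h.le l hl.le) (h.cent l h3 hl.le))
      (ih (h3.trans l.lt_succ_self)) (h.nor l _ l.le_succ hl) (h.cop hl) (by omega))
  · rw [Nat.sub_self]
    exact le_inf (h.le _ le_rfl) (h.cent _ h3 le_rfl)

theorem two_le (h : FC K A n j pr S) : 2 ≤ j := by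
  by_contra h1
  have := h.le_iter (l := 2) (by omega) (by omega)
  rw [Nat.add_sub_cancel, h.hC] at this
  exact h.ne_bot (by omega) (le_bot_iff.1 this)

theorem cS (h : FC K A n j pr S) {i : ℕ} (hi : i ≤ n + 2) :
    (Nat.card A).Coprime (Nat.card (S i)) := h.c.coprime_dvd_right (card_dvd_of_le (h.le i hi))

theorem DA (h : FC K A n j pr S) : Dn S (n + 2) j ≤ 𝐂 A := Dn_le h.cent

theorem ne_cent (h : FC K A n j pr S) : S j ⊓ 𝐂 A ≠ S j := fun h1 =>
  h.ncent (Nat.one_le_of_lt h.two_le) (inf_eq_left.1 h1)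

theorem PA (h : FC K A n j pr S) : ⁅S j, A⁆ = S j := by
  have := Fact.mk (h.prime j)
  have hAj := h.An j h.jm
  have h1 := Coprime.commutator_sup_centralizer hAj (h.cS h.jm)
    (Or.inr (Coprime.isSolvable_of_isPGroup (h.pg j h.jm)))
  have h2 : A ≤ 𝐍 ⁅S j, A⁆ := right_le_normalizer_commutator _ _
  have h3 : A ≤ 𝐍 (S j ⊓ 𝐂 A) := le_normalizer_inf_centralizer hAj le_normalizer
  have h4 : ⁅S j, A⁆ ≤ S j := commutator_le_left_of_le_normalizer hAj
  rcases h.jm.eq_or_lt with hj | hj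
  · subst hj
    refine (h.top h4 h2).resolve_left fun h5 => h.nd ?_
    exact h1.ge.trans (sup_le h5 ((h.top inf_le_left h3).resolve_right h.ne_cent))
  · have h5 : Dn S (n + 2) j ≤ 𝐍 A := h.DA.trans (centralizer_le_normalizer _)
    have h6 : S j ≤ 𝐍 (Nn S j) := h.S_Nn le_rfl h.jm
    refine (h.low hj h4 h2 (le_normalizer_commutator (h.Dn_nor j.le_succ) h5)).resolve_left
      fun h7 => h.not_le h.jm ((h.comm hj).ge.trans ?_)
    conv_lhs => rw [← h1]
    exact commutator_sup_left_le_of_le_normalizer (h4.trans h6) (inf_le_left.trans h6) h7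
      ((h.low hj inf_le_left h3 (le_normalizer_inf_centralizer (h.Dn_nor j.le_succ)
        h5)).resolve_right h.ne_cent)

theorem SR (h : FC K A n j pr S) {i : ℕ} (hi : i + 1 ≤ j) :
    S (i + 1) ≤ ⁅Dn S (n + 2) i, A⁆ := by
  suffices ∀ l, l ≤ j → i < l → S l ≤ ⁅Dn S (n + 2) i, A⁆ from this _ hi i.lt_succ_self
  intro l hl
  refine Nat.decreasingInduction (motive := fun l _ => i < l → S l ≤ ⁅Dn S (n + 2) i, A⁆)
    (fun l hl ih h3 => ?_) (fun h3 => ?_) hl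
  · exact (h.comm (hl.trans_le h.jm)).ge.trans ((commutator_mono (le_Dn h3 (hl.le.trans h.jm))
      (ih (h3.trans l.lt_succ_self))).trans (commutator_le_right_of_le_normalizer
        (left_le_normalizer_commutator _ _)))
  · exact h.PA.ge.trans (commutator_mono (le_Dn h3 h.jm) le_rfl)

theorem SRA (h : FC K A n j pr S) {i : ℕ} (hi : i + 1 ≤ j) :
    S (i + 1) ≤ ⁅S (i + 1), ⁅Dn S (n + 2) i, A⁆ ⊔ A⁆ := by
  rcases hi.eq_or_lt with rfl | hi
  · exact h.PA.ge.trans (commutator_mono le_rfl le_sup_right)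
  · refine (h.comm (hi.trans_le h.jm)).ge.trans (commutator_mono le_rfl
      (le_sup_of_le_left ((h.SR hi).trans (commutator_mono ?_ le_rfl))))
    exact Dn_le fun l h1 h2 => le_Dn (i.lt_succ_self.trans h1) h2

omit [Finite X] in
theorem T_le (i : ℕ) : Tn K A n S i ≤ S i ⊓ 𝐂 A :=
  inf_le_inf_left _ ((iter_le _ _).trans inf_le_right)

theorem nor_T (h : FC K A n j pr S) {i l : ℕ} (hl : l ≤ i + 1) :
    Dn S (n + 2) i ⊓ 𝐂 A ≤ 𝐍 (Tn K A n S l) :=
  le_normalizer_inf (inf_le_left.trans (h.Dn_nor hl)) (le_normalizer_iter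
    ((inf_le_inf_right _ (h.Dn_le_K i)).trans le_normalizer) _)

theorem F_le (h : FC K A n j pr S) {i : ℕ} (hi : i ≤ n + 2) {M : Type u} [CommGroup M]
    {B : Subgroup X} (hB : B ≤ 𝐍 (S i)) {e : ℕ} (h1 : B ≤ nilRes^[e] (K ⊓ 𝐂 A))
    (h2 : n - i ≤ e ∨ (n - i ≤ e + 1 ∧ (Nat.card B).Coprime (Nat.card (S i)))) :
    dual M (S i) (⁅S i, A⁆ ⊔ Tn K A n S i) ≤ fix (cf M) B := by
  have := Fact.mk (h.prime i)
  have h3 : B ≤ 𝐂 A := h1.trans ((iter_le _ _).trans inf_le_right)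
  have h4 : B ≤ 𝐍 (S i ⊓ 𝐂 A) :=
    le_normalizer_inf_centralizer hB (h3.trans (centralizer_le_normalizer _))
  have h5 : S i ⊓ 𝐂 A ≤ K ⊓ 𝐂 A := inf_le_inf_right _ (h.le i hi)
  refine dual_le_fix' (h.pg i hi) (h.An i hi) (h.cS hi) hB h3
    (le_inf ((commutator_le_left_of_le_normalizer h4).trans inf_le_left) ?_)
  rcases h2 with h2 | ⟨h2, c⟩
  · exact (comm_le_iter h5 h1).trans (iter_anti _ h2)
  · exact comm_le_iter_succ h5 h1 h4 (c.coprime_dvd_right (card_dvd_of_le inf_le_left)) h2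

theorem small0 (h : FC K A n j pr S) :
    Small A (Dn S (n + 2) 0) (S 0) (Nn S 0 ⊔ ⁅S 0, S 0⁆) (Tn K A n S 0) := by
  have := Fact.mk (h.prime 0)
  refine ⟨⊥, _, Subgroup.le_normalizer_of_normal, bot_le, le_normalizer_sup (h.A_Nn (by omega))
    (le_normalizer_commutator (h.An 0 (by omega)) (h.An 0 (by omega))), le_rfl,
    fun h1 => h.not_le (by omega) (le_of_le_sup_der (h.pg 0 (by omega)) (Nn_le 0) h1), ?_,
    fun g _ _ t ht => ?_⟩
  · by_contra h1
    push Not at h1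
    exact h.ne_bot (i := 1) (by omega) (le_bot_iff.1 ((h.SR (Nat.one_le_of_lt h.two_le)).trans
      (comm_le_of_fx h1)))
  · have := ht.2
    rw [Nat.sub_zero, h.hC] at this
    rw [mem_bot.1 this, mul_one, inv_mul_cancel]
    exact one_mem _

theorem inp (h : FC K A n j pr S) {i : ℕ} (hi : i < n + 2)
    (hs : Small A (Dn S (n + 2) i) (S i) (Nn S i ⊔ ⁅S i, S i⁆) (Tn K A n S i)) :
    ∃ (M : Type u) (_ : CommGroup M) (_ : Finite M) (H : Subgroup X) (U₀ W₀ : Subgroup (X → M)),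
      (∀ k, (pr i).Coprime k → (Nat.card (X → M)).Coprime k) ∧ U₀ ≤ W₀ ∧
      Inp (cf M) (S (i + 1) ⊔ Dn S (n + 2) (i + 1)) A H
        (dual M (S i) (⁅S i, A⁆ ⊔ Tn K A n S i)) U₀ ∧
      (Nat.card (X → M)).Coprime (Nat.card (S (i + 1))) ∧
      (Nat.card (X → M)).Coprime (Nat.card A) ∧
      Inv (cf M) (S (i + 1) ⊔ Dn S (n + 2) (i + 1)) W₀ ∧ Inv (cf M) A W₀ ∧
      W₀ ≤ fix (cf M) (Nn S (i + 1)) ∧ W₀ ⊓ fix (cf M) (S (i + 1)) = ⊥ := by
  have := Fact.mk (h.prime i)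
  have := Fact.mk (h.prime (i + 1))
  obtain ⟨M, _, _, H, U₀, h1, h2, h3⟩ := hs.inp (h.pg i hi.le) le_sup_right (h.Dn_nor i.le_succ)
    (h.An i hi.le) (h.A_Dn i) (T_le i)
  have hd : pr i ∣ Nat.card (S i) := (h.pg i hi.le).card_eq_or_dvd.resolve_left fun h4 =>
    h.ne_bot hi.le (card_eq_one.1 h4)
  rw [← Dn_eq hi]
  refine ⟨M, inferInstance, inferInstance, H, U₀, _, fun k hk => coprime_fun h1 hk, h2, h3,
    coprime_fun h1 ((h.cop hi).symm.coprime_dvd_left hd),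
    coprime_fun h1 ((h.cS hi.le).symm.coprime_dvd_left hd),
    inv_dual (h.Dn_nor i.le_succ) (le_normalizer_sup (le_normalizer_Nn _ fun l hl =>
      h.Dn_nor (hl.trans i.le_succ)) (le_normalizer_commutator (h.Dn_nor i.le_succ)
        (h.Dn_nor i.le_succ))),
    inv_dual (h.An i hi.le) (le_normalizer_sup (h.A_Nn hi.le)
      (le_normalizer_commutator (h.An i hi.le) (h.An i hi.le))),
    dual_le_fix ((Nn_le _).trans (h.nor i _ i.le_succ hi)) (le_sup_of_le_left ?_),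
    dual_inf_fix (h.nor i _ i.le_succ hi) (h.comm hi).ge⟩
  exact (commutator_comm _ _).le.trans (le_commLe_iff.1 inf_le_right).2

theorem cA (h : FC K A n j pr S) {i : ℕ} (hi : i ≤ n + 2) :
    (Nat.card A).Coprime (Nat.card (S i ⊔ Dn S (n + 2) i : Subgroup X)) :=
  h.c.coprime_dvd_right (card_dvd_of_le (sup_le (h.le i hi) (h.Dn_le_K i)))

theorem step (h : FC K A n j pr S) {i : ℕ} (hi : i + 1 < j)
    (hs : Small A (Dn S (n + 2) i) (S i) (Nn S i ⊔ ⁅S i, S i⁆) (Tn K A n S i)) :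
    Small A (Dn S (n + 2) (i + 1)) (S (i + 1)) (Nn S (i + 1) ⊔ ⁅S (i + 1), S (i + 1)⁆)
      (Tn K A n S (i + 1)) := by
  have hm : i + 1 < n + 2 := hi.trans_le h.jm
  have hm' : i < n + 2 := by omega
  have := Fact.mk (h.prime (i + 1))
  have := Fact.mk (h.prime (i + 2))
  obtain ⟨M, _, _, H, U₀, W₀, -, h1, h2, h3, h4, h5, h6, h7, h8⟩ := h.inp hm' hs
  refine SLS.step (p := pr (i + 1)) (q := pr (i + 2)) (S := S (i + 2))
    ⟨h.pg _ hm.le, h.pg _ hm, h.hA, h.cop hm, h.cA hm.le, h3, h4, h.Dn_nor (by omega),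
      h.An _ hm.le, h.A_Dn _, h.Dn_nor le_rfl, h.An _ hm, h.SR hi, h.SRA hi, h.comm hm, Nn_le _,
      Dn_eq (S := S) hm' ▸ h.Dn_Nn i, h.A_Nn hm.le, h.cl hm, fun x hx => h.pow hm hx, h5, h6, h7, h8,
      T_le _, Dn_eq (S := S) hm' ▸ h.nor_T le_rfl⟩ (h2.mono (h.F_le hm'.le
      (inf_le_left.trans (h.nor i _ i.le_succ hm')) inf_le_right (Or.inr ⟨by omega,
        (h.cop hm').coprime_dvd_left (card_dvd_of_le inf_le_left)⟩))) h1

theorem base {i : ℕ} (h : FC K A n (i + 1) pr S)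
    (hs : Small A (Dn S (n + 2) i) (S i) (Nn S i ⊔ ⁅S i, S i⁆) (Tn K A n S i)) : False := by
  have hm' : i < n + 2 := h.jm
  have := Fact.mk (h.prime i)
  have := Fact.mk (h.prime (i + 1))
  have := Fact.mk (h.prime (i + 2))
  obtain ⟨M, _, _, H, U₀, W₀, h0, h1, h2, h3, h4, h5, h6, h7, h8⟩ := h.inp hm' hs
  have hb : BS (cf M) (pr (i + 1)) (S (i + 1)) (Dn S (n + 2) (i + 1)) A (Nn S (i + 1)) W₀ :=
    ⟨h.pg _ hm', h.hA, h.cA hm', h3, h4, h.Dn_nor (by omega), h.An _ hm', h.DA, h.PA, Nn_le _,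
      h5, h6, h7, h8⟩
  by_cases hi : n ≤ i
  · rw [dual_eq_bot (by
      rw [Tn, Nat.sub_eq_zero_of_le hi, Function.iterate_zero_apply, ← inf_assoc,
        inf_eq_left.2 (h.le i hm'.le), Coprime.commutator_sup_centralizer (h.An i hm'.le)
        (h.cS hm'.le) (Or.inr (Coprime.isSolvable_of_isPGroup (h.pg i hm'.le)))])] at h2
    rcases h.jm.eq_or_lt with hj | hj
    · refine hb.false0 h2 h1 ?_
      have h9 := h.ne_cent
      rw [hj] at h9 ⊢
      exact (h.top inf_le_left (le_normalizer_inf_centralizer (h.An _ le_rfl)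
        le_normalizer)).resolve_right h9
    · exact hb.false1 h2 h1 (h.pg _ hj) (le_Dn (by omega) hj) (h.cop hj) (h.cl hj) (h.ZD hj)
        (fun x hx => h.pow hj hx) (h.comm hj)
  have hj : i + 1 < n + 2 := by omega
  have hj' : i + 2 < n + 2 := by omega
  have h9 := h.le_iter (l := i + 3) (by omega) hj'
  have h10 : S (i + 3) ≤ 𝐍 (S (i + 1) ⊓ 𝐂 A) := le_normalizer_inf_centralizer
    (h.nor _ _ (by omega) hj') ((h.cent _ (by omega) hj').trans (centralizer_le_normalizer _))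
  have h11 : ⁅S (i + 1) ⊓ 𝐂 A, S (i + 3)⁆ ≤ S (i + 1) :=
    (commutator_le_left_of_le_normalizer h10).trans inf_le_left
  refine hb.false2 h2 h1 (inv_dual (inf_le_left.trans (Dn_eq (S := S) hm' ▸ h.Dn_nor i.le_succ))
    (le_normalizer_sup (le_normalizer_commutator (inf_le_left.trans
      (Dn_eq (S := S) hm' ▸ h.Dn_nor i.le_succ)) (inf_le_right.trans (centralizer_le_normalizer _)))
      (Dn_eq (S := S) hm' ▸ h.nor_T i.le_succ))) (T := S (i + 3)) (h.pg _ hj) (le_Dn (by omega) hj)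
    (h.cop hj) (h.cl hj) (h.ZD hj) (fun x hx => h.pow hj hx) (h.comm hj)
    (h.F_le hm'.le (h.nor _ _ (by omega) hj) (h.le_iter (by omega) hj) (Or.inl (by omega)))
    (le_Dn (by omega) hj') (h.nor _ _ (by omega) hj') (h.comm hj').ge
    (h.F_le hm'.le (h11.trans (h.nor i _ i.le_succ hm')) (comm_le_iter (inf_le_inf_right _
      (h.le _ hm')) h9) (Or.inr ⟨by omega, (h.cop hm').coprime_dvd_left (card_dvd_of_le h11)⟩))
    ?_
  by_cases hp : pr i = pr (i + 2)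
  · have := Fact.mk (h.prime (i + 3))
    have hne : pr i ≠ pr (i + 3) := hp ▸ h.ne _ hj'
    obtain ⟨k, hk⟩ := IsPGroup.iff_card.1 (h.pg (i + 3) hj')
    refine Or.inr ⟨h0 _ (hk ▸ ((Nat.coprime_primes (h.prime _) (h.prime _)).2 hne).pow_right k),
      h.F_le hm'.le (h.nor _ _ (by omega) hj') h9 (Or.inr ⟨by omega,
        IsPGroup.coprime_card_of_ne _ _ hne.symm _ _ (h.pg _ hj') (h.pg _ hm'.le)⟩)⟩
  · obtain ⟨k, hk⟩ := IsPGroup.iff_card.1 (h.pg (i + 2) hj)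
    exact Or.inl (h0 _ (hk ▸ ((Nat.coprime_primes (h.prime _) (h.prime _)).2 hp).pow_right k))

theorem false (h : FC K A n j pr S) : False := by
  obtain ⟨i, rfl⟩ := Nat.exists_eq_succ_of_ne_zero (show j ≠ 0 by have := h.two_le; omega)
  refine h.base ?_
  suffices ∀ l, l ≤ i →
    Small A (Dn S (n + 2) l) (S l) (Nn S l ⊔ ⁅S l, S l⁆) (Tn K A n S l) from this i le_rfl
  intro l
  induction l with
  | zero => exact fun _ => h.small0
  | succ l ih => exact fun hl => h.step (Nat.succ_lt_succ hl) (ih (l.le_succ.trans hl))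

end FC

/-- **Turull's theorem** in an ambient group. -/
theorem iter_eq_bot {K A : Subgroup X} [K.Normal] (hK : Group.IsSolvable K)
    (hA : (Nat.card A).Prime) (c : (Nat.card A).Coprime (Nat.card K)) {n : ℕ}
    (h : nilRes^[n] (K ⊓ 𝐂 A) = ⊥) : nilRes^[n + 2] K = ⊥ := by
  classical
  by_contra h1
  obtain ⟨pr, S, t⟩ := exists_mt K A hK c h1
  have hex : ∃ j, ∀ l, j < l → l ≤ n + 2 → S l ≤ 𝐂 A :=
    ⟨n + 2, fun l h2 h3 => absurd h3 h2.not_ge⟩
  refine FC.false (j := Nat.find hex) ⟨t, hA, c, h,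
    Nat.find_min' hex fun l h2 h3 => absurd h3 h2.not_ge, Nat.find_spec hex, fun h2 h3 => ?_⟩
  refine Nat.find_min hex (Nat.sub_one_lt (by omega)) fun l h4 h5 => ?_
  rcases (show Nat.find hex ≤ l by omega).eq_or_lt with h6 | h6
  · exact h6 ▸ h3
  · exact Nat.find_spec hex l h6 h5

/-- **Turull's theorem.** -/
theorem hasFitLen_add_two (hX : Group.IsSolvable X) (σ : MulAut X) (hσ : (orderOf σ).Prime)
    (hc : ¬ orderOf σ ∣ Nat.card X) {C : Subgroup X} (hC : ∀ g, g ∈ C ↔ σ g = g) {n : ℕ}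
    (h : HasFitLen C n) : HasFitLen X (n + 2) := by
  let φ : zpowers σ →* MulAut X := (zpowers σ).subtype
  have hcard : Nat.card (R φ ⊤) = orderOf σ := by rw [card_R_top, Nat.card_zpowers]
  rw [hasFitLen_iff, ← iter_map_eq_bot_iff _ (SemidirectProduct.inl_injective (φ := φ))]
  refine iter_eq_bot (A := R φ ⊤) (isSolvable_L.2 inferInstance) (hcard ▸ hσ) ?_ ?_
  · rw [hcard, card_L_top]
    exact (Nat.Prime.coprime_iff_not_dvd hσ).2 hc
  · have e : fix φ ⊤ = C := Subgroup.ext fun g => by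
      rw [hC, mem_fix_top]
      refine ⟨fun h1 => h1 ⟨σ, mem_zpowers σ⟩, fun h1 b => ?_⟩
      exact (mem_fix_zpowers (φ := MonoidHom.id _)).2 h1 b b.2
    rw [L_top_inf_centralizer_R, e, iter_map_eq_bot_iff _ SemidirectProduct.inl_injective]
    exact hasFitLen_subgroup_iff.1 h

end Cfsg.Lib.Solv.Tur
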