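import Cfsg.Prelude.Def_SolvableStructure
import Cfsg.Agent.Solv.NilpotentHall
import Cfsg.Agent.Solv.CoprimeFixed
import Cfsg.Agent.Trans.Frobenius

/-!
# Minimal non-nilpotent groups (Schmidt groups)
-/

set_option autoImplicit false

namespace Cfsg.Lib.Solv

open Subgroup
open scoped commutatorElement

universe u

variable {G : Type*} [Group G] [Finite G]

/-- A finite group with a normal `p`-complement for every prime `p` is nilpotent. -/
theorem isNilpotent_of_forall_hasNormalPComplement
    (h : ∀ (p : ℕ) [Fact p.Prime], HasNormalPComplement p G) : Group.IsNilpotent G := by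
  apply isNilpotent_of_forall_sylow_normal
  intro p hp P
  let K : Subgroup G := ⨅ q : {q : ℕ // q.Prime ∧ q ≠ p}, pResidual q G
  have hKn : K.Normal := Subgroup.normal_iInf_normal fun q => inferInstance
  have hPK : (P : Subgroup G) ≤ K := by
    refine le_iInf fun q => Trans.le_pResidual_of_coprime ?_
    obtain ⟨k, hk⟩ := P.isPGroup'.exists_card_eq
    rw [hk]
    exact ((Nat.coprime_primes hp.out q.2.1).mpr q.2.2.symm).pow_left k
  have hK : IsPGroup p K := by
    rw [IsPGroup.iff_card]
    refine ⟨_, Nat.eq_prime_pow_of_unique_prime_dvd Nat.card_pos.ne' ?_⟩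
    intro q hq hqK
    by_contra hne
    have := Fact.mk hq
    have h1 : K ≤ pResidual q G := iInf_le _ (⟨q, hq, hne⟩ : {q : ℕ // q.Prime ∧ q ≠ p})
    exact Trans.hasNormalPComplement_iff_not_dvd.mp (h q) (hqK.trans (Subgroup.card_dvd_of_le h1))
  rwa [P.is_maximal' hK hPK] at hKn

theorem isNilpotent_iff_forall_hasNormalPComplement : Group.IsNilpotent G ↔
    ∀ (p : ℕ) [Fact p.Prime], HasNormalPComplement p G :=
  ⟨fun _ p _ => hasNormalPComplement_of_isNilpotent p, isNilpotent_of_forall_hasNormalPComplement⟩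

/-- A non-nilpotent finite group has a `q`-subgroup `Q` and a `p`-element (`p ≠ q`) normalizing
but not centralizing `Q`. -/
theorem exists_normalizer_not_centralizer_of_not_isNilpotent (h : ¬ Group.IsNilpotent G) :
    ∃ p q : ℕ, p.Prime ∧ q.Prime ∧ p ≠ q ∧ ∃ (Q : Subgroup G) (x : G), IsPGroup q Q ∧
      (∃ k, orderOf x = p ^ k) ∧ x ∈ Subgroup.normalizer (Q : Set G) ∧
      x ∉ Subgroup.centralizer (Q : Set G) := by
  rw [isNilpotent_iff_forall_hasNormalPComplement] at h
  push Not at h
  obtain ⟨q, hq, h⟩ := h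
  obtain ⟨P⟩ : Nonempty (Sylow q G) := inferInstance
  obtain ⟨Q, hQP, -, p, hp, hpq, x, hx, h1, h2⟩ :=
    Trans.exists_prime_pow_normalizer_of_not_hasNormalPComplement P h
  exact ⟨p, q, hp, hq.out, hpq, Q, x, P.isPGroup'.to_le hQP, hx, h1, h2⟩

/-- A finite nilpotent group with abelian Sylow subgroups is abelian. -/
theorem isMulCommutative_of_isNilpotent_of_forall_isPGroup [Group.IsNilpotent G]
    (h : ∀ (p : ℕ) [Fact p.Prime] (P : Subgroup G), IsPGroup p P → IsMulCommutative P) :
    IsMulCommutative G := by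
  have key : ∀ (p : ℕ), p.Prime → ∀ (k : ℕ) (x : G), orderOf x = p ^ k →
      Subgroup.centralizer ({x} : Set G) = ⊤ := by
    intro p hp k x hx
    apply eq_top_of_forall_prime_pow_mem
    intro q hq l y hy
    rw [Subgroup.mem_centralizer_singleton_iff]
    by_cases hpq : q = p
    · subst hpq
      have := Fact.mk hq
      obtain ⟨P⟩ : Nonempty (Sylow q G) := inferInstance
      have hc := h q P P.isPGroup'
      have hx' : x ∈ (P : Subgroup G) :=
        pCore_eq_sylow_of_isNilpotent P ▸ mem_pCore_iff_of_isNilpotent.mpr ⟨k, hx⟩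
      have hy' : y ∈ (P : Subgroup G) :=
        pCore_eq_sylow_of_isNilpotent P ▸ mem_pCore_iff_of_isNilpotent.mpr ⟨l, hy⟩
      exact congrArg Subtype.val (hc.is_comm.comm (⟨y, hy'⟩ : (P : Subgroup G)) ⟨x, hx'⟩)
    · apply commute_of_coprime_orderOf_of_isNilpotent
      rw [hx, hy]
      exact Nat.coprime_pow_primes l k hq hp hpq
  refine ⟨⟨fun a b => ?_⟩⟩
  have : Subgroup.centralizer ({a} : Set G) = ⊤ := by
    apply eq_top_of_forall_prime_pow_mem
    intro p hp k x hx
    rw [Subgroup.mem_centralizer_singleton_iff]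
    have : a ∈ Subgroup.centralizer ({x} : Set G) := key p hp k x hx ▸ Subgroup.mem_top a
    exact (Subgroup.mem_centralizer_singleton_iff.mp this).symm
  have hb : b ∈ Subgroup.centralizer ({a} : Set G) := this ▸ Subgroup.mem_top b
  exact (Subgroup.mem_centralizer_singleton_iff.mp hb).symm

omit [Finite G] in
/-- An element of order prime to `q` normalizing an abelian `q`-group `V` and centralizing its
elements of order `q` centralizes `V`. -/
theorem mem_centralizer_of_abelian_of_forall_pow_eq_one {V : Subgroup G} [IsMulCommutative V]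
    {q : ℕ} (hV : IsPGroup q V) {x : G} (hx : x ∈ Subgroup.normalizer (V : Set G))
    (hcop : (orderOf x).Coprime q) (h : ∀ v ∈ V, v ^ q = 1 → Commute x v) :
    x ∈ Subgroup.centralizer (V : Set G) := by
  have key : ∀ (k : ℕ), ∀ v ∈ V, v ^ (q ^ k) = 1 → Commute x v := by
    intro k
    induction k with
    | zero => intro v _ hv; rw [pow_zero, pow_one] at hv; rw [hv]; exact Commute.one_right x
    | succ k ih =>
      intro v hv hvk
      have h1 : Commute x (v ^ q) := ih _ (V.pow_mem hv q) (by rw [← pow_mul, ← pow_succ', hvk])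
      have hxv : x * v * x⁻¹ ∈ V := (Subgroup.mem_normalizer_iff.mp hx v).mp hv
      have hc : Commute (x * v * x⁻¹) v⁻¹ :=
        congrArg Subtype.val (mul_comm' (⟨_, hxv⟩ : V) ⟨_, V.inv_mem hv⟩)
      have h2 : (x * v * x⁻¹ * v⁻¹) ^ q = 1 := by
        rw [hc.mul_pow, conj_pow, h1.eq, inv_pow]
        group
      exact Coprime.commute_of_commute_commutator (h _ (V.mul_mem hxv (V.inv_mem hv)) h2)
        (hcop.coprime_dvd_right (orderOf_dvd_of_pow_eq_one h2))
  rw [Subgroup.mem_centralizer_iff]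
  intro v hv
  obtain ⟨k, hk⟩ := hV ⟨v, hv⟩
  exact (key k v hv (congrArg Subtype.val hk)).symm.eq

/-- If a normal `q`-subgroup `Q` and a `p`-subgroup `P` (`p ≠ q`) generate `G`, both are Sylow. -/
theorem not_dvd_index_of_sup_eq_top {p q : ℕ} [hp : Fact p.Prime] [hq : Fact q.Prime]
    (hpq : p ≠ q) {P Q : Subgroup G} [Q.Normal] (hP : IsPGroup p P) (hQ : IsPGroup q Q)
    (h : P ⊔ Q = ⊤) : ¬ p ∣ P.index ∧ ¬ q ∣ Q.index := by
  obtain ⟨a, ha⟩ := hP.exists_card_eq
  obtain ⟨b, hb⟩ := hQ.exists_card_eq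
  have hd : Disjoint Q P := (IsPGroup.disjoint_of_ne p q hpq P Q hP hQ).symm
  have hc : Subgroup.IsComplement' Q P := by
    apply Subgroup.isComplement'_of_disjoint_and_mul_eq_univ hd
    rw [← Subgroup.normal_mul, sup_comm, h, Subgroup.coe_top]
  rw [hc.index_eq_card, hc.symm.index_eq_card, ha, hb]
  exact ⟨fun h => hpq ((Nat.prime_dvd_prime_iff_eq hp.out hq.out).mp (hp.out.dvd_of_dvd_pow h)),
    fun h => hpq ((Nat.prime_dvd_prime_iff_eq hq.out hp.out).mp (hq.out.dvd_of_dvd_pow h)).symm⟩

namespace Schmidt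

omit [Finite G] in
/-- In a minimal non-nilpotent group, a `q`-subgroup together with a `p`-element normalizing but
not centralizing it generate the group. -/
theorem sup_eq_top (hG : IsMinimalNonNilpotent G) {Q : Subgroup G} {x : G}
    (hcop : (orderOf x).Coprime (Nat.card Q)) (hx : x ∉ Subgroup.centralizer (Q : Set G))
    {H : Subgroup G} (hxH : x ∈ H) (hQH : Q ≤ H) : H = ⊤ := by
  by_contra hne
  apply hx
  exact le_centralizer_of_coprime_of_isNilpotent (hG.2 H hne) (Subgroup.zpowers_le.mpr hxH) hQH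
    (by rwa [Nat.card_zpowers]) (Subgroup.mem_zpowers x)

/-- Structure of a minimal non-nilpotent group. -/
theorem exists_structure (hG : IsMinimalNonNilpotent G) :
    ∃ p q : ℕ, p.Prime ∧ q.Prime ∧ p ≠ q ∧ ∃ (P : Sylow p G) (Q : Sylow q G) (x : G),
      (P : Subgroup G) = Subgroup.zpowers x ∧ (Q : Subgroup G).Normal ∧
      (P : Subgroup G) ⊔ Q = ⊤ ∧ x ∉ Subgroup.centralizer ((Q : Subgroup G) : Set G) := by
  obtain ⟨p, q, hp, hq, hpq, Q, x, hQ, ⟨k, hk⟩, h1, h2⟩ :=
    exists_normalizer_not_centralizer_of_not_isNilpotent hG.1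
  have := Fact.mk hp
  have := Fact.mk hq
  have hP : IsPGroup p (Subgroup.zpowers x) := IsPGroup.of_card (by rw [Nat.card_zpowers, hk])
  have hcop : (orderOf x).Coprime (Nat.card Q) := by
    rw [← Nat.card_zpowers]
    exact IsPGroup.coprime_card_of_ne p q hpq _ _ hP hQ
  have htop : Subgroup.zpowers x ⊔ Q = ⊤ :=
    sup_eq_top hG hcop h2 (Subgroup.mem_sup_left (Subgroup.mem_zpowers x)) le_sup_right
  have hQn : Q.Normal := by
    rw [← Subgroup.normalizer_eq_top_iff, eq_top_iff, ← htop]
    exact sup_le (Subgroup.zpowers_le.mpr h1) Subgroup.le_normalizer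
  obtain ⟨h3, h4⟩ := not_dvd_index_of_sup_eq_top hpq hP hQ htop
  exact ⟨p, q, hp, hq, hpq, hP.toSylow h3, hQ.toSylow h4, x, rfl, hQn, htop, h2⟩

/-- A minimal non-nilpotent group is solvable. -/
theorem isSolvable (hG : IsMinimalNonNilpotent G) : Group.IsSolvable G := by
  obtain ⟨p, q, hp, hq, -, P, Q, x, -, hQ, htop, -⟩ := exists_structure hG
  have := Fact.mk hp
  have := Fact.mk hq
  have h1 := Q.isPGroup'.isNilpotent
  have h2 : IsPGroup p (G ⧸ (Q : Subgroup G)) := by
    have h3 := P.isPGroup'.map (QuotientGroup.mk' (Q : Subgroup G))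
    have h4 : (P : Subgroup G).map (QuotientGroup.mk' (Q : Subgroup G)) = ⊤ := by
      have := congrArg (Subgroup.map (QuotientGroup.mk' (Q : Subgroup G))) htop
      rwa [Subgroup.map_sup, Subgroup.map_top_of_surjective _ (QuotientGroup.mk'_surjective _),
        (Subgroup.map_eq_bot_iff (Q : Subgroup G)).mpr (QuotientGroup.ker_mk' _).ge,
        sup_bot_eq] at this
    rw [h4] at h3
    exact h3.of_equiv Subgroup.topEquiv
  have h5 := h2.isNilpotent
  exact (Group.isSolvable_iff_subgroup_quotient (Q : Subgroup G)).mpr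
    ⟨inferInstance, inferInstance⟩

end Schmidt

/-- Schmidt's theorem: if all proper subgroups are nilpotent, the group is solvable. -/
theorem isSolvable_of_forall_ne_top_isNilpotent
    (h : ∀ H : Subgroup G, H ≠ ⊤ → Group.IsNilpotent H) : Group.IsSolvable G := by
  by_cases hG : Group.IsNilpotent G
  · infer_instance
  · exact Schmidt.isSolvable ⟨hG, h⟩

theorem isSolvable_of_forall_isCoatom_isNilpotent
    (h : ∀ M : Subgroup G, IsCoatom M → Group.IsNilpotent M) : Group.IsSolvable G := by
  apply isSolvable_of_forall_ne_top_isNilpotent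
  intro H hH
  obtain ⟨M, hM, hHM⟩ := (eq_top_or_exists_le_coatom H).resolve_left hH
  exact isNilpotent_of_le hHM (h M hM)

/-- A non-nilpotent subgroup contains a minimal non-nilpotent subgroup. -/
theorem exists_isMinimalNonNilpotent_le {K : Subgroup G} (hK : ¬ Group.IsNilpotent K) :
    ∃ H : Subgroup G, H ≤ K ∧ IsMinimalNonNilpotent H := by
  obtain ⟨H, hH, hmin⟩ := (wellFounded_lt (α := Subgroup G)).has_min
    {H : Subgroup G | H ≤ K ∧ ¬ Group.IsNilpotent H} ⟨K, le_rfl, hK⟩
  refine ⟨H, hH.1, hH.2, fun L hL => ?_⟩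
  by_contra hn
  refine hmin (L.map H.subtype) ⟨(Subgroup.map_subtype_le L).trans hH.1, ?_⟩ ?_
  · rwa [isNilpotent_map_subtype_iff]
  · refine lt_of_le_of_ne (Subgroup.map_subtype_le L) fun h => hL ?_
    apply Subgroup.map_injective H.subtype_injective
    rw [h, ← MonoidHom.range_eq_map, Subgroup.range_subtype]

end Cfsg.Lib.Solv
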