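import Cfsg.Agent.Solv.HallHigmanA
import Cfsg.Agent.Solv.Schmidt
import Cfsg.Agent.Solv.FrobCount
import Cfsg.Agent.Solv.CoprimeGen
import Cfsg.Agent.Solv.CoprimeSylow
import Cfsg.Agent.Solv.CardModEq
import Cfsg.Agent.Solv.CommCalc
import Cfsg.Agent.Solv.PGroupBasic
import Cfsg.Agent.Trans.CentralTransfer
import Cfsg.Agent.Solv.FrattiniP

/-!
# Sylow subgroups isomorphic to the normal Sylow subgroup of a minimal non-nilpotent group
-/

set_option autoImplicit false

open Subgroup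
open scoped commutatorElement Pointwise

namespace Cfsg.Lib.Solv.SchmidtLen

/-- The properties of the normal Sylow subgroup of a minimal non-nilpotent group. -/
structure Star (p : ℕ) (T : Type*) [Group T] : Prop where
  comm : ∀ a b : T, ⁅a, b⁆ ∈ center T
  pow : ∀ a : T, a ^ p ∈ center T
  full : ∀ w : T, w ∉ center T → ∀ z ∈ center T, ∃ g, z = ⁅w, g⁆
  small : Nat.card T = p ^ 3 → Nat.card (center T) = p → p ≤ 3 → ∀ w : T, w ^ p = 1 → w ∈ center T

theorem mem_center_equiv {T T' : Type*} [Group T] [Group T'] (e : T ≃* T') (a : T) :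
    e a ∈ center T' ↔ a ∈ center T := by
  rw [mem_center_iff, mem_center_iff, e.surjective.forall]
  simp only [← map_mul, e.injective.eq_iff]

theorem Star.of_equiv {p : ℕ} {T T' : Type*} [Group T] [Group T'] (h : Star p T) (e : T ≃* T') :
    Star p T' where
  comm := by
    simp only [e.surjective.forall, ← map_commutatorElement, mem_center_equiv]
    exact h.comm
  pow := by
    simp only [e.surjective.forall, ← map_pow, mem_center_equiv]
    exact h.pow
  full := by
    simp only [e.surjective.forall, e.surjective.exists, ← map_commutatorElement, mem_center_equiv,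
      e.injective.eq_iff]
    exact h.full
  small := by
    rw [← Nat.card_congr e.toEquiv, ← Nat.card_congr (centerCongr e).toEquiv]
    simp only [e.surjective.forall, ← map_pow, mem_center_equiv, map_eq_one_iff e e.injective]
    exact h.small

variable {G : Type*} [Group G] [Finite G] {p : ℕ} [hp : Fact p.Prime]

theorem normal_of_chain (S : Sylow p G) {B D : Subgroup G} [B.Normal] [D.Normal] (hB : IsPGroup p B)
    (hC : centralizer (B : Set G) ≤ B) (hDB : D ≤ B) (h1 : D ≤ centralizer ((S : Subgroup G) : Set G))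
    (h2 : ⁅(S : Subgroup G), B⁆ ≤ D) : (S : Subgroup G).Normal := by
  have hN : (commLe B D).Normal := ⟨fun m hm g => ⟨le_normalizer_of_normal (mem_top _), fun b hb => by
    have h3 := ‹D.Normal›.conj_mem _ (hm.2 _ (‹B.Normal›.conj_mem b hb g⁻¹)) g
    rwa [conjugate_commutatorElement, show g * (g⁻¹ * b * g⁻¹⁻¹) * g⁻¹ = b by group] at h3⟩⟩
  have hM : IsPGroup p (centralizer (D : Set G) ⊓ commLe B D : Subgroup G) := by
    rintro ⟨g, hg⟩
    obtain ⟨k, m, hm, hk⟩ := Nat.exists_eq_pow_mul_and_not_dvd (orderOf_pos g).ne' p hp.out.ne_one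
    refine ⟨k, Subtype.ext ?_⟩
    change g ^ p ^ k = 1
    have h3 : (orderOf (g ^ p ^ k)).Coprime p := ((hp.out.coprime_iff_not_dvd.2 hm).symm).coprime_dvd_left
      (orderOf_dvd_of_pow_eq_one (by rw [← pow_mul, ← hk, pow_orderOf_eq_one]))
    have h4 := zpowers_le.2 (pow_mem hg (p ^ k))
    have h5 := Coprime.le_centralizer_of_commutator_le (A := zpowers (g ^ p ^ k)) (K := B) (N := D)
      (coprime_card_of_isPGroup (hB.to_le hDB) (by rwa [Nat.card_zpowers])).symm
      (by rw [Subgroup.commutator_comm]; exact (le_commLe_iff.1 (h4.trans inf_le_right)).2)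
      (h4.trans inf_le_left)
    obtain ⟨j, hj⟩ := IsPGroup.iff_orderOf.1 hB ⟨_, hC (h5 (mem_zpowers _))⟩
    rw [← orderOf_coe] at hj
    have h6 := h3.pow_right j
    change orderOf (g ^ p ^ k) = p ^ j at hj
    rw [← hj, Nat.coprime_self] at h6
    exact orderOf_eq_one_iff.1 h6
  rw [← S.is_maximal' hM (le_inf (le_centralizer_iff.1 h1)
    (le_commLe_iff.2 ⟨le_normalizer_of_normal, h2⟩))]
  infer_instance

omit [Finite G] hp in
theorem comm_zpow_right {w a : G} (h : Commute ⁅w, a⁆ a) (i : ℤ) : ⁅w, a ^ i⁆ = ⁅w, a⁆ ^ i := by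
  have h1 : w * a * w⁻¹ = ⁅w, a⁆ * a := by simp [commutatorElement_def]
  rw [commutatorElement_def, ← conj_zpow, h1, h.mul_zpow, mul_inv_cancel_right]

theorem normal_of_cocyclic (S : Sylow p G) (hS : Star p S) {B : Subgroup G} [hBn : B.Normal]
    (hC : centralizer (B : Set G) ≤ B) {a : G} (hsup : B ⊔ zpowers a = S) {r i : ℕ} (hr : r.Prime)
    (hi : (S : Subgroup G).index ∣ r ^ i) : (S : Subgroup G).Normal := by
  have hBS : B ≤ S := hsup ▸ le_sup_left
  have haS : a ∈ S := (hsup ▸ le_sup_right : zpowers a ≤ S) (mem_zpowers a)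
  have hB : IsPGroup p B := S.isPGroup'.to_le hBS
  set Z := (S : Subgroup G) ⊓ centralizer ((S : Subgroup G) : Set G) with hZ
  have hmem : ∀ s : (S : Subgroup G), s ∈ center (S : Subgroup G) ↔ (s : G) ∈ Z := fun s =>
    ⟨fun h => ⟨s.2, fun g hg => congrArg Subtype.val (mem_center_iff.1 h ⟨g, hg⟩)⟩,
      fun h => mem_center_iff.2 fun g => Subtype.ext (h.2 g g.2)⟩
  have hcomm : ∀ u ∈ (S : Subgroup G), ∀ v ∈ (S : Subgroup G), ⁅u, v⁆ ∈ Z := fun u hu v hv =>
    (hmem _).1 (hS.comm ⟨u, hu⟩ ⟨v, hv⟩)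
  have hpow : a ^ p ∈ Z := (hmem _).1 (hS.pow ⟨a, haS⟩)
  have hfull : ∀ w ∈ (S : Subgroup G), w ∉ Z → ∀ z ∈ Z, ∃ g ∈ (S : Subgroup G), z = ⁅w, g⁆ :=
    fun w hw h z hz => by
      obtain ⟨g, hg⟩ := hS.full ⟨w, hw⟩ (mt (hmem _).1 h) ⟨z, hz.1⟩ ((hmem _).2 hz)
      exact ⟨g, g.2, congrArg Subtype.val hg⟩
  have hZB : Z ≤ B := (inf_le_right.trans (centralizer_le hBS)).trans hC
  have hSB : ⁅(S : Subgroup G), B⁆ ≤ Z := commutator_le.2 fun u hu v hv => hcomm u hu v (hBS hv)
  by_contra hn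
  have hZn : ¬ Z.Normal := fun h => hn (normal_of_chain S hB hC hZB inf_le_right hSB)
  have hdec : ∀ g ∈ (S : Subgroup G), ∃ b ∈ B, ∃ j : ℤ, g = a ^ j * b := fun g hg => by
    rw [← hsup, sup_comm] at hg
    obtain ⟨_, ⟨j, rfl⟩, b, hb, rfl⟩ := (mem_sup_of_le_normalizer' le_normalizer_of_normal).1 hg
    exact ⟨b, hb, j, rfl⟩
  have hcyc : ∀ w ∈ centralizer (B : Set G), w ∉ Z → Z = zpowers ⁅w, a⁆ ∧ orderOf ⁅w, a⁆ = p := by
    intro w hw h
    have hwS := hBS (hC hw)
    have h1 : Commute ⁅w, a⁆ a := ((hcomm w hwS a haS).2 a haS).symm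
    have h2 : ∀ (j : ℤ), ∀ b ∈ B, ⁅w, a ^ j * b⁆ = ⁅w, a⁆ ^ j := fun j b hb => by
      rw [← comm_zpow_right h1]
      calc ⁅w, a ^ j * b⁆ = w * a ^ j * (b * w⁻¹) * b⁻¹ * (a ^ j)⁻¹ := by
            simp only [commutatorElement_def]; group
        _ = _ := by rw [(centralizer _).inv_mem hw b hb]; simp only [commutatorElement_def]; group
    refine ⟨le_antisymm (fun z hz => ?_) (zpowers_le.2 (hcomm w hwS a haS)),
      orderOf_eq_prime ?_ fun h3 => h ⟨hwS, fun g hg => ?_⟩⟩
    · obtain ⟨g, hg, rfl⟩ := hfull w hwS h z hz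
      obtain ⟨b, hb, j, rfl⟩ := hdec g hg
      exact ⟨j, (h2 j b hb).symm⟩
    · rw [← zpow_natCast, ← comm_zpow_right h1, zpow_natCast,
        commutatorElement_eq_one_iff_mul_comm]
      exact hpow.2 w hwS
    · obtain ⟨b, hb, j, rfl⟩ := hdec g hg
      rw [eq_comm, ← commutatorElement_eq_one_iff_mul_comm, h2 j b hb, h3, one_zpow]
  have h1 : ∃ w ∈ B ⊓ centralizer (B : Set G), w ∉ Z := by
    by_contra h
    push Not at h
    refine hZn ?_
    rw [le_antisymm (le_inf hZB (inf_le_right.trans (centralizer_le hBS))) h]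
    infer_instance
  obtain ⟨w₀, hw₀, hw₀Z⟩ := h1
  have hZp : Nat.card Z = p := by
    rw [(hcyc w₀ hw₀.2 hw₀Z).1, Nat.card_zpowers, (hcyc w₀ hw₀.2 hw₀Z).2]
  have hBB : B ≤ centralizer (B : Set G) := by
    rw [← commutator_eq_bot_iff_le_centralizer]
    by_contra h
    have h1 : ⁅B, B⁆ ≤ Z := (commutator_mono hBS le_rfl).trans hSB
    refine hZn ?_
    have h2 := card_dvd_of_le h1
    rw [hZp, Nat.dvd_prime hp.out] at h2
    rw [← eq_of_le_of_card_ge h1
      (by rw [hZp, h2.resolve_left fun h3 => h (card_eq_one.1 h3)])]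
    infer_instance
  have h2 : ∃ h : G, ∃ z ∈ Z, h * z * h⁻¹ ∉ Z := by
    by_contra h
    push Not at h
    exact hZn ⟨fun z hz g => h g z hz⟩
  obtain ⟨h, z₀, hz₀, hw⟩ := h2
  have hZpow : ∀ z ∈ Z, z ^ p = 1 := fun z hz => by
    rw [← hZp]
    exact congrArg Subtype.val (pow_card_eq_one' (x := (⟨z, hz⟩ : Z)))
  set w := h * z₀ * h⁻¹ with hwd
  have hwB : w ∈ B := hBn.conj_mem _ (hZB hz₀) h
  have hwp : w ^ p = 1 := by rw [hwd, conj_pow, hZpow z₀ hz₀]; simp
  have hw1 : w ≠ 1 := fun h3 => hw (h3 ▸ Z.one_mem)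
  have hwo : Nat.card (zpowers w) = p := by rw [Nat.card_zpowers, orderOf_eq_prime hwp hw1]
  obtain ⟨hZ1, -⟩ := hcyc w (hBB hwB) hw
  have hZW : Z ⊓ zpowers w = ⊥ := by
    have h3 := card_dvd_of_le (inf_le_right : Z ⊓ zpowers w ≤ zpowers w)
    rw [hwo, Nat.dvd_prime hp.out] at h3
    refine card_eq_one.1 (h3.resolve_right fun h4 => hw ?_)
    exact ((eq_of_le_of_card_ge inf_le_right (by rw [h4, hwo])).ge (mem_zpowers w)).1
  have hBd : ∀ b ∈ B, ∃ j : ℤ, ∃ z ∈ Z, b = w ^ j * z := fun b hb => by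
    obtain ⟨j, hj⟩ := hZ1.le (hcomm b (hBS hb) a haS)
    have h3 : w ^ (-j) * b ∈ B := B.mul_mem (B.zpow_mem hwB _) hb
    refine ⟨j, w ^ (-j) * b, ⟨hBS h3, fun g hg => ?_⟩, by group⟩
    obtain ⟨c, hc, k, rfl⟩ := hdec g hg
    have h4 : Commute ⁅a, w⁆ w := (hBB hwB _ (hZB (hcomm a haS w (hBS hwB))))
    have h5 : Commute a (w ^ (-j) * b) := by
      have h6 : ⁅a, b⁆ = ⁅a, w ^ j⁆ := by
        rw [comm_zpow_right h4, ← commutatorElement_inv, ← hj, ← inv_zpow, commutatorElement_inv]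
      calc a * (w ^ (-j) * b) = w ^ (-j) * ⁅a, w ^ j⁆⁻¹ * ⁅a, b⁆ * b * a := by
            simp only [commutatorElement_def]; group
        _ = _ := by rw [h6]; group
    exact ((h5.zpow_left k).mul_left (hBB h3 c hc)).eq
  have hWZ : zpowers w ≤ normalizer (Z : Set G) := (zpowers_le.2 (hBS hwB)).trans
    ((le_centralizer_iff.1 inf_le_right).trans (centralizer_le_normalizer _))
  have hcB : Nat.card B = p ^ 2 := by
    have h3 : B = Z ⊔ zpowers w := le_antisymm (fun b hb => by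
      obtain ⟨j, z, hz, rfl⟩ := hBd b hb
      exact mul_mem (mem_sup_right (zpow_mem_zpowers _ _)) (mem_sup_left hz))
      (sup_le hZB (zpowers_le.2 hwB))
    rw [h3, card_sup_of_disjoint_of_le_normalizer hWZ hZW, hZp, hwo, pow_two]
  have haB : a ∉ B := fun h3 => hn (by rw [← hsup, sup_eq_left.2 (zpowers_le.2 h3)]; exact hBn)
  have hcS : Nat.card (S : Subgroup G) = p ^ 3 := by
    rw [← card_mul_relIndex_of_le hBS, ← hsup, Coprime.relIndex_sup_of_le_normalizer
      le_normalizer_of_normal, PG.relIndex_zpowers_eq_prime hp.out (le_normalizer_of_normal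
      (mem_top a)) haB (hZB hpow), hcB, ← pow_succ]
  have hT1 : ∀ b ∈ B, b ∉ Z → ∀ z ∈ Z, IsConj b (b * z) := fun b hb hbZ z hz => by
    obtain ⟨g, -, rfl⟩ := hfull b⁻¹ (hBS (B.inv_mem hb)) (mt inv_mem_iff.1 hbZ) z hz
    exact isConj_iff.2 ⟨g, by simp only [commutatorElement_def]; group⟩
  have hz1 : z₀ ≠ 1 := fun h3 => hw1 (by rw [hwd, h3]; simp)
  have hZ0 : zpowers z₀ = Z := eq_of_le_of_card_ge (zpowers_le.2 hz₀) (by
    rw [hZp, Nat.card_zpowers, orderOf_eq_prime (hZpow z₀ hz₀) hz1])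
  have hT2 : ∀ b ∈ B, b ∉ zpowers w → ∀ j : ℤ, IsConj b (b * w ^ j) := fun b hb hbw j => by
    have h3 := hT1 (h⁻¹ * b * h) (by simpa using hBn.conj_mem b hb h⁻¹) (fun h4 => hbw (by
      obtain ⟨k, hk⟩ := hZ0.ge h4
      refine ⟨k, ?_⟩
      change w ^ k = b
      rw [hwd, conj_zpow, show z₀ ^ k = _ from hk]; group)) (z₀ ^ j) (Z.zpow_mem hz₀ j)
    refine (isConj_iff.2 ⟨h⁻¹, by group⟩ : IsConj b (h⁻¹ * b * h)).trans (h3.trans
      (isConj_iff.2 ⟨h, ?_⟩))
    rw [hwd, conj_zpow]; group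
  have hzw : ∀ j : ℤ, z₀ * w ^ j ∉ zpowers w := fun j h3 => hz1 (hZW.le (mem_inf.2
    ⟨hz₀, by simpa using (zpowers w).mul_mem h3 (zpow_mem_zpowers w (-j))⟩))
  have hT3 : ∀ b ∈ B, b ∉ Z → IsConj z₀ b := fun b hb hbZ => by
    obtain ⟨j, z, hz, rfl⟩ := hBd b hb
    have h3 := hT1 _ hb hbZ (z⁻¹ * z₀) (Z.mul_mem (Z.inv_mem hz) hz₀)
    have h4 := hT2 z₀ (hZB hz₀) (by simpa using hzw 0) j
    rw [mul_assoc, mul_inv_cancel_left, hz₀.2 _ (hBS (B.zpow_mem hwB j))] at h3
    exact h4.trans h3.symm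
  have hT4 : ∀ b : G, IsConj z₀ b ↔ b ∈ (B : Set G) \ {1} := fun b => by
    refine ⟨fun h3 => ?_, fun h3 => ?_⟩
    · obtain ⟨g, rfl⟩ := isConj_iff.1 h3
      exact ⟨hBn.conj_mem _ (hZB hz₀) g, by simpa using hz1⟩
    · by_cases h4 : b ∈ Z
      · have h5 := hT2 b h3.1 (fun h5 => h3.2 (hZW.le (mem_inf.2 ⟨h4, h5⟩))) 1
        refine (hT3 _ (B.mul_mem h3.1 (B.zpow_mem hwB 1)) fun h6 => hw ?_).trans h5.symm
        simpa using Z.mul_mem (Z.inv_mem h4) h6
      · exact hT3 b h3.1 h4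
  have h3 : p ^ 2 - 1 ∣ r ^ i := by
    refine Dvd.dvd.trans ?_ hi
    have h4 : Nat.card {y : G // IsConj z₀ y} = p ^ 2 - 1 := by
      rw [Nat.card_congr (Equiv.subtypeEquivRight hT4), ← hcB]
      exact Set.ncard_sdiff_singleton_of_mem B.one_mem
    rw [← h4, Frob.card_isConj]
    exact index_dvd_of_le fun s hs => mem_centralizer_singleton_iff.2 (hz₀.2 s hs)
  have h4 : p ≤ 3 := by
    by_contra h5
    have h6 : 6 ∣ p ^ 2 - 1 := by
      have h7 : p % 2 ≠ 0 := fun h8 => by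
        have := (Nat.prime_dvd_prime_iff_eq Nat.prime_two hp.out).1 (Nat.dvd_of_mod_eq_zero h8)
        omega
      have h8 : p % 3 ≠ 0 := fun h8 => by
        have := (Nat.prime_dvd_prime_iff_eq Nat.prime_three hp.out).1 (Nat.dvd_of_mod_eq_zero h8)
        omega
      refine (Nat.modEq_iff_dvd' (Nat.one_le_pow _ _ hp.out.pos)).1 ?_
      have h9 : p % 6 = 1 ∨ p % 6 = 5 := by omega
      rcases h9 with h9 | h9 <;> simp [Nat.ModEq, Nat.pow_mod, h9]
    have h7 := (Nat.prime_dvd_prime_iff_eq Nat.prime_two hr).1 (Nat.prime_two.dvd_of_dvd_pow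
      ((show 2 ∣ 6 by norm_num).trans (h6.trans h3)))
    have h8 := (Nat.prime_dvd_prime_iff_eq Nat.prime_three hr).1 (Nat.prime_three.dvd_of_dvd_pow
      ((show 3 ∣ 6 by norm_num).trans (h6.trans h3)))
    omega
  refine hw ((hmem ⟨w, hBS hwB⟩).1 (hS.small hcS ?_ h4 _ (Subtype.ext hwp)))
  rw [← card_map_subtype, map_subtype_center, hZp]

theorem le_pCore_of_star (hG : IsPSolvable p G) (h0 : pPrimeCore p G = ⊥) (S : Sylow p G)
    (hS : Star p S) : (S : Subgroup G) ≤ pCore p G := by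
  have hC := hG.centralizer_pCore_le h0
  have hQS := pCore_le_sylow S
  set Q := pCore p G with hQ
  let φ := QuotientGroup.mk' Q
  have hφ : Function.Surjective φ := QuotientGroup.mk'_surjective Q
  have hcm : ∀ L : Subgroup G, Q ≤ L → (L.map φ).comap φ = L := fun L hL => by
    rw [comap_map_eq, QuotientGroup.ker_mk', sup_eq_left.2 hL]
  set A := (S : Subgroup G).map φ with hA
  have hAp : IsPGroup p A := S.isPGroup'.map φ
  have : IsMulCommutative A := ⟨⟨by
    rintro ⟨_, u, hu, rfl⟩ ⟨_, v, hv, rfl⟩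
    refine Subtype.ext ?_
    change φ u * φ v = φ v * φ u
    rw [← commutatorElement_eq_one_iff_mul_comm, ← map_commutatorElement]
    refine (QuotientGroup.eq_one_iff _).2 (hC fun g hg => ?_)
    exact congrArg Subtype.val (mem_center_iff.1 (hS.comm ⟨u, hu⟩ ⟨v, hv⟩) ⟨g, hQS hg⟩)⟩⟩
  set L := pPrimeCore p (G ⧸ Q) with hL
  have hcop : (Nat.card A).Coprime (Nat.card L) :=
    coprime_card_of_isPGroup hAp (coprime_card_pPrimeCore p _)
  have h1 : L ≤ normalizer (A : Set (G ⧸ Q)) := by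
    refine Coprime.le_of_forall_cocyclic le_normalizer_of_normal hcop ?_
    rintro B hBA ⟨_, ⟨a, ha, rfl⟩, hsup⟩
    have hAB := Coprime.le_normalizer_of_le_of_comm hBA
    refine Coprime.le_of_forall_invariant_pgroup_le (A := A)
      (le_normalizer_inf_centralizer le_normalizer_of_normal hAB)
      (hcop.coprime_dvd_right (card_dvd_of_le inf_le_left))
      (Or.inl (Coprime.isSolvable_of_isMulCommutative A)) fun r _ R hR hRr hAR => ?_
    set H := (R ⊔ A).comap φ with hH
    have hSH : (S : Subgroup G) ≤ H := map_le_iff_le_comap.1 le_sup_right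
    have hQB : Q ≤ B.comap φ := (QuotientGroup.ker_mk' Q).ge.trans (ker_le_comap φ B)
    have hBS : B.comap φ ≤ S := (comap_mono hBA).trans (hcm _ hQS).le
    have hHB : H ≤ normalizer (B.comap φ : Set G) := (comap_mono (sup_le
      ((hR.trans inf_le_right).trans (centralizer_le_normalizer _)) hAB)).trans
      (le_normalizer_comap φ)
    have : ((B.comap φ).subgroupOf H).Normal := normal_subgroupOf_of_le_normalizer hHB
    obtain ⟨i, hi⟩ := IsPGroup.iff_card.1 hRr
    have h2 := normal_of_cocyclic (S.subtype hSH) (hS.of_equiv (subgroupOfEquivOfLe hSH).symm)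
      (B := (B.comap φ).subgroupOf H) (a := ⟨a, hSH ha⟩) (r := r) (i := i)
      (fun c hc => hQB (hC fun g hg => congrArg Subtype.val (hc ⟨g, hSH (hQS hg)⟩ (hQB hg))))
      (map_injective H.subtype_injective (by
        rw [Subgroup.map_sup, map_subgroupOf_eq_of_le (hBS.trans hSH), MonoidHom.map_zpowers,
          Sylow.coe_subtype, map_subgroupOf_eq_of_le hSH, ← hcm _ hQS, ← hA, ← hsup,
          ← MonoidHom.map_zpowers φ, ← comap_sup_eq _ _ _ hφ, comap_map_eq, QuotientGroup.ker_mk',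
          sup_comm (zpowers a), ← sup_assoc, sup_eq_left.2 hQB]
        rfl)) Fact.out (by
        change (S : Subgroup G).relIndex H ∣ _
        rw [← hcm _ hQS, ← hA, hH, relIndex_comap, map_comap_eq_self_of_surjective hφ, ← hi]
        have h3 := card_sup_dvd_of_le_normalizer hAR
        rw [← card_mul_relIndex_of_le (le_sup_right : A ≤ R ⊔ A), mul_comm (Nat.card R)] at h3
        exact Nat.dvd_of_mul_dvd_mul_left Nat.card_pos h3)
    have h3 : H ≤ normalizer ((S : Subgroup G) : Set G) :=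
      (normal_subgroupOf_iff_le_normalizer hSH).1 h2
    have h4 := (map_mono (f := φ) h3).trans (le_normalizer_map φ)
    rw [hH, map_comap_eq_self_of_surjective hφ] at h4
    exact le_sup_left.trans h4
  have h2 := inf_eq_bot_of_coprime_card hcop
  have h3 := (le_centralizer_of_disjoint le_normalizer_of_normal h1 h2).trans
    ((hG.quotient Q).centralizer_pPrimeCore_le (pCore_quotient_pCore p G))
  rw [inf_eq_left.2 h3, hA, Subgroup.map_eq_bot_iff, QuotientGroup.ker_mk'] at h2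
  exact h2

theorem pLengthLE_one_of_star (hG : IsPSolvable p G) (S : Sylow p G) (hS : Star p S) :
    PLengthLE p 1 G := by
  have hc := coprime_card_pPrimeCore p G
  rw [← pLengthLE_quotient_iff_of_coprime _ hc]
  let φ := QuotientGroup.mk' (pPrimeCore p G)
  have hφ : Function.Surjective φ := QuotientGroup.mk'_surjective _
  have hinj : Function.Injective (φ.subgroupMap S) := by
    rw [injective_iff_map_eq_one]
    intro s hs
    have h1 : (s : G) ∈ pPrimeCore p G := (QuotientGroup.eq_one_iff _).1 (congrArg Subtype.val hs)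
    exact Subtype.ext ((inf_eq_bot_of_coprime_card
      (coprime_card_of_isPGroup S.isPGroup' hc)).le (mem_inf.2 ⟨s.2, h1⟩))
  exact HH.pLengthLE_one_of_sylow_le (S.mapSurjective hφ) ((le_pCore_of_star (hG.quotient _)
    (pPrimeCore_quotient_pPrimeCore p G) _ (hS.of_equiv (MulEquiv.ofBijective _
      ⟨hinj, φ.subgroupMap_surjective S⟩))).trans (pCore_le_pPrimePCore _ _))

theorem star_of_schmidt (hG : IsMinimalNonNilpotent G) (P : Sylow p G)
    (hPn : (P : Subgroup G).Normal) (hP1 : (P : Subgroup G) ≠ ⊥) : Star p P := by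
  obtain ⟨q, p', hq, hp', hqp, Y, P', y, hY, hP'n, hsup, hy⟩ := Schmidt.exists_structure hG
  have : Fact q.Prime := ⟨hq⟩
  have : Fact p'.Prime := ⟨hp'⟩
  have hcard : Nat.card G ∣ Nat.card (P' : Subgroup G) * Nat.card (Y : Subgroup G) := by
    rw [← card_top (G := G), ← hsup, sup_comm]
    exact card_sup_dvd_of_le_normalizer le_normalizer_of_normal
  obtain rfl : p = p' := by
    by_contra hne
    have h1 : p ∣ Nat.card (P : Subgroup G) := by
      obtain ⟨k, hk⟩ := IsPGroup.iff_card.1 P.isPGroup'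
      rw [hk]
      exact dvd_pow_self p fun h => hP1 (card_eq_one.1 (by rw [hk, h, pow_zero]))
    obtain ⟨i, hi⟩ := IsPGroup.iff_card.1 P'.isPGroup'
    obtain ⟨j, hj⟩ := IsPGroup.iff_card.1 Y.isPGroup'
    have h2 := (h1.trans (card_subgroup_dvd_card _)).trans hcard
    rw [hi, hj, hp.out.dvd_mul] at h2
    rcases h2 with h2 | h2
    · exact hne ((Nat.prime_dvd_prime_iff_eq hp.out hp').1 (hp.out.dvd_of_dvd_pow h2))
    · obtain rfl := (Nat.prime_dvd_prime_iff_eq hp.out hq).1 (hp.out.dvd_of_dvd_pow h2)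
      have := Sylow.unique_of_normal P hPn
      rw [Subsingleton.elim Y P] at hY
      refine hy (le_centralizer_of_disjoint (H := P) le_normalizer_of_normal
        le_normalizer_of_normal (inf_eq_bot_of_coprime_card
          (IsPGroup.coprime_card_of_ne p p' hne _ _ P.isPGroup' P'.isPGroup'))
          (hY.ge (mem_zpowers y)))
  have := Sylow.unique_of_normal P hPn
  rw [Subsingleton.elim P' P] at hy hsup
  clear hcard hP'n
  have hYq : IsPGroup q (zpowers y) := hY ▸ Y.isPGroup'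
  rw [hY] at hsup
  have hcop : ∀ A ≤ zpowers y, ∀ U ≤ (P : Subgroup G), (Nat.card A).Coprime (Nat.card U) :=
    fun A hA U hU => IsPGroup.coprime_card_of_ne q p hqp _ _ (hYq.to_le hA) (P.isPGroup'.to_le hU)
  have hnil : ∀ A ≤ zpowers y, ∀ U ≤ (P : Subgroup G), A ⊔ U ≠ ⊤ →
      A ≤ centralizer (U : Set G) := fun A hA U hU h a ha => by
    by_contra h1
    refine h (Schmidt.sup_eq_top hG (Q := U) ?_ h1 (mem_sup_left ha) le_sup_right)
    exact (hcop A hA U hU).coprime_dvd_left (orderOf_dvd_natCard A ha)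
  set Z := (P : Subgroup G) ⊓ centralizer ((P : Subgroup G) : Set G) with hZ
  have hmem : ∀ s : (P : Subgroup G), s ∈ center (P : Subgroup G) ↔ (s : G) ∈ Z := fun s =>
    ⟨fun h => ⟨s.2, fun g hg => congrArg Subtype.val (mem_center_iff.1 h ⟨g, hg⟩)⟩,
      fun h => mem_center_iff.2 fun g => Subtype.ext (h.2 g g.2)⟩
  have hyP : zpowers y ⊓ P = ⊥ := inf_eq_bot_of_coprime_card (hcop _ le_rfl _ le_rfl)
  have hPy : ⁅(P : Subgroup G), zpowers y⁆ = P := by
    by_contra h
    refine hy (commutator_eq_bot_iff_le_centralizer'.1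
      (Coprime.commutator_eq_bot_of_commutator_commutator_eq_bot le_normalizer_of_normal
        (hcop _ le_rfl _ le_rfl) (commutator_eq_bot_iff_le_centralizer'.2
          (hnil _ le_rfl _ (commutator_le_left _ _) fun h1 => h ?_))) (mem_zpowers y))
    have h2 := sup_inf_assoc_of_le_normalizer 
      (right_le_normalizer_commutator (P : Subgroup G) (zpowers y))
      (commutator_le_left (P : Subgroup G) (zpowers y))
    rw [sup_comm, h1, top_inf_eq, hyP, sup_bot_eq] at h2
    exact h2.symm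
  have hU : ∀ U : Subgroup G, U.Normal → U < P → U ≤ center G := fun U hUn hU => by
    have h1 := hnil _ le_rfl U hU.le fun h1 => hU.ne (by
      have h2 := sup_inf_assoc_of_le_normalizer (H := zpowers y) le_normalizer_of_normal hU.le
      rw [sup_comm, h1, top_inf_eq, hyP, sup_bot_eq] at h2
      exact h2.symm)
    have h2 : ⊤ ≤ centralizer (U : Set G) := by
      rw [← hsup, ← hPy]
      exact sup_le h1 ((commutator_mono le_rfl h1).trans (commutator_le_right _ _))
    exact fun u hu => mem_center_iff.2 fun g => (h2 (mem_top g) u hu).symm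
  have hcZ : ∀ u ∈ (P : Subgroup G), u ∈ center G → u ∈ Z := fun u hu h =>
    ⟨hu, fun g _ => mem_center_iff.1 h g⟩
  have : Nontrivial (P : Subgroup G) := (nontrivial_iff_ne_bot _).2 hP1
  have hPnil : Group.IsNilpotent (P : Subgroup G) := P.isPGroup'.isNilpotent
  have hPP : ⁅(P : Subgroup G), (P : Subgroup G)⁆ ≤ center G := hU _ inferInstance
    (lt_of_le_of_ne (commutator_le_self _) fun h =>
      hP1 (eq_bot_of_le_commutator_of_isNilpotent hPnil le_rfl h.ge))
  have hc : ∀ a ∈ (P : Subgroup G), ∀ b ∈ (P : Subgroup G), ⁅a, b⁆ ∈ center G := fun a ha b hb =>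
    hPP (commutator_mem_commutator ha hb)
  have hnorm : ∀ U : Subgroup G, Z ≤ U → U ≤ P → (∀ u ∈ U, y * u * y⁻¹ ∈ U) → U.Normal := by
    intro U h1 h2 h3
    rw [← normalizer_eq_top_iff, eq_top_iff, ← hsup]
    refine sup_le (zpowers_le.2 (mem_normalizer_of_conj_mem h3)) (le_normalizer_iff_commutator_le.2
      (commutator_le.2 fun a ha b hb => h1 (hcZ _ ?_ (hc a (h2 ha) b hb))))
    exact commutator_le_self _ (commutator_mem_commutator (h2 ha) hb)
  have hZn : Z.Normal := inferInstance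
  -- invariant abelian subgroups
  have hI : ∀ w ∈ (P : Subgroup G), w ∉ Z → ∀ U : Subgroup G, w ∈ U → U ≤ P →
      U ≤ centralizer {w} → (∀ u ∈ U, y * u * y⁻¹ ∈ Z ⊔ U) → False := by
    intro w hw hwZ U h1 h2 h3 h4
    have h5 : Z ⊔ U ≤ P := sup_le inf_le_left h2
    refine hwZ (hcZ w hw (hU _ (hnorm _ le_sup_left h5 fun u hu => ?_) (lt_of_le_of_ne h5
      fun h => hwZ ⟨hw, fun g hg => ?_⟩) (mem_sup_right h1)))
    · obtain ⟨z, hz, v, hv, rfl⟩ := (mem_sup_of_le_normalizer le_normalizer_of_normal).1 hu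
      rw [show y * (z * v) * y⁻¹ = y * z * y⁻¹ * (y * v * y⁻¹) by group]
      exact mul_mem (mem_sup_left (hZn.conj_mem z hz y)) (h4 v hv)
    · have h6 : Z ⊔ U ≤ centralizer {w} :=
        sup_le (fun z hz => mem_centralizer_singleton_iff.2 (hz.2 w hw).symm) h3
      exact mem_centralizer_singleton_iff.1 (h6 (h.ge hg))
  have hI1 : ∀ w ∈ (P : Subgroup G), w ∉ Z → ∀ z ∈ Z, ∀ k : ℤ, y * w * y⁻¹ ≠ z * w ^ k := by
    intro w hw hwZ z hz k h
    refine hI w hw hwZ (zpowers w) (mem_zpowers w) (zpowers_le.2 hw)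
      (zpowers_le.2 (mem_centralizer_singleton_iff.2 rfl)) ?_
    rintro _ ⟨j, rfl⟩
    change y * w ^ j * y⁻¹ ∈ _
    rw [← conj_zpow, h]
    exact zpow_mem (mul_mem_sup hz (zpow_mem_zpowers w k)) j
  refine ⟨fun a b => (hmem _).2 (hcZ _ (⁅a, b⁆).2 (hc a a.2 b b.2)), fun a => (hmem _).2
    (hcZ _ (a ^ p).2 (hU ((frattini (P : Subgroup G)).map (P : Subgroup G).subtype)
      (normal_map_subtype_of_char _) ?_ ?_)), fun w hw z hz => ?_, fun h3 hZp hp3 w₀ hwp => ?_⟩
  · refine lt_of_le_of_ne (map_subtype_le _) fun h => ?_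
    have h1 : frattini (P : Subgroup G) = ⊤ := map_injective (P : Subgroup G).subtype_injective
      (by rw [h, ← MonoidHom.range_eq_map, range_subtype])
    have h2 : (⊥ : Subgroup (P : Subgroup G)) = ⊤ :=
      frattini_nongenerating (by rw [h1, sup_top_eq])
    exact bot_ne_top h2
  · refine mem_map_of_mem (P : Subgroup G).subtype (x := a ^ p) ?_
    rw [frattini_eq_commutator_sup_closure P.isPGroup']
    exact mem_sup_right (subset_closure ⟨a, rfl⟩)
  · have hw' : (w : G) ∉ Z := mt (hmem w).2 hw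
    have hz' := (hmem z).1 hz
    let N : Subgroup G :=
      { carrier := {n | ∃ g ∈ (P : Subgroup G), n = ⁅(w : G), g⁆}
        one_mem' := ⟨1, one_mem _, by simp⟩
        mul_mem' := by
          rintro _ _ ⟨a, ha, rfl⟩ ⟨b, hb, rfl⟩
          refine ⟨a * b, mul_mem ha hb, ?_⟩
          have h1 : ⁅(w : G), a * b⁆ = ⁅(w : G), a⁆ * (a * ⁅(w : G), b⁆ * a⁻¹) := by
            simp only [commutatorElement_def]; group
          rw [h1, mem_center_iff.1 (hc _ w.2 b hb) a, mul_inv_cancel_right]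
        inv_mem' := by
          rintro _ ⟨a, ha, rfl⟩
          refine ⟨a⁻¹, inv_mem ha, ?_⟩
          have h1 : ⁅(w : G), a⁻¹⁆ = a⁻¹ * ⁅(w : G), a⁆⁻¹ * a := by
            simp only [commutatorElement_def]; group
          rw [h1, mem_center_iff.1 (inv_mem (hc _ w.2 a ha)) a⁻¹, inv_mul_cancel_right] }
    have hNc : ∀ n ∈ N, n ∈ center G := by
      rintro _ ⟨a, ha, rfl⟩
      exact hc _ w.2 a ha
    have : N.Normal := ⟨fun n hn g => by
      rw [mem_center_iff.1 (hNc n hn) g, mul_inv_cancel_right]; exact hn⟩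
    have hN : (commLe P N).Normal := ⟨fun m hm g => ⟨le_normalizer_of_normal (mem_top _),
      fun b hb => by
        have h3 := ‹N.Normal›.conj_mem _ (hm.2 _ (hPn.conj_mem b hb g⁻¹)) g
        rwa [conjugate_commutatorElement, show g * (g⁻¹ * b * g⁻¹⁻¹) * g⁻¹ = b by group] at h3⟩⟩
    have h1 : (P : Subgroup G) ≤ commLe P N := by
      by_contra h
      exact hw' (hcZ _ w.2 (hU (P ⊓ commLe P N) inferInstance (inf_lt_left.2 h)
        ⟨w.2, le_normalizer_of_normal (mem_top _), fun b hb => ⟨b, hb, rfl⟩⟩))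
    obtain ⟨g, hg, h2⟩ := (le_commLe_iff.1 h1).2 (Trans.center_inf_commutator_inf_sylow_le P
      (mem_inf.2 ⟨mem_inf.2 ⟨hU Z hZn (lt_of_le_of_ne inf_le_left fun h => hw' (h.ge w.2)) hz',
        commutator_mono le_top le_top (hPy.ge z.2)⟩, z.2⟩))
    exact ⟨⟨g, hg⟩, Subtype.ext h2⟩
  · by_contra hw
    have hw' : (w₀ : G) ∉ Z := mt (hmem w₀).2 hw
    have hwp' : (w₀ : G) ^ p = 1 := congrArg Subtype.val hwp
    have hwP := w₀.2
    generalize (w₀ : G) = w at hw' hwp' hwP
    rw [← card_map_subtype, map_subtype_center, ← hZ] at hZp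
    have h1 : (P : Subgroup G) ⊓ centralizer (zpowers y : Set G) = Z := by
      refine le_antisymm (fun u hu => ?_) (le_inf inf_le_left ((hU Z hZn (lt_of_le_of_ne
        inf_le_left fun h => hw' (h.ge hwP))).trans (center_le_centralizer _)))
      by_contra h
      exact hI1 u hu.1 h 1 Z.one_mem 1 (by rw [hu.2 y (mem_zpowers y)]; simp)
    have h2 := card_modEq_card_inf_centralizer hYq (L := P) le_normalizer_of_normal
    rw [h1, h3, hZp] at h2
    have h4 : ∀ u ∈ (P : Subgroup G), y ^ q * u * (y ^ q)⁻¹ = u := fun u hu => by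
      rw [← hnil (zpowers (y ^ q)) (zpowers_le.2 (pow_mem (mem_zpowers y) q)) _ le_rfl
        (fun h => hy ?_) (mem_zpowers _) u hu, mul_inv_cancel_right]
      have h5 := sup_inf_assoc_of_le_normalizer' (N := P) (H := zpowers (y ^ q)) (K := zpowers y)
        le_normalizer_of_normal (zpowers_le.2 (pow_mem (mem_zpowers y) q))
      rw [sup_comm, h, top_inf_eq, inf_comm, hyP, bot_sup_eq] at h5
      have h6 := mem_zpowers_pow_iff.1 (h5.le (mem_zpowers y))
      obtain ⟨k, hk⟩ := IsPGroup.iff_card.1 hYq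
      rw [Nat.card_zpowers] at hk
      rw [hk] at h6
      have h7 : k = 0 := by
        by_contra h7
        exact hq.ne_one (Nat.eq_one_of_dvd_coprimes h6 dvd_rfl (dvd_pow_self q h7))
      rw [h7, pow_zero, orderOf_eq_one_iff] at hk
      rw [hk]
      exact one_mem _
    have hcm : ∀ a ∈ (P : Subgroup G), ∀ b ∈ (P : Subgroup G), ⁅a, b⁆ ∈ Z := fun a ha b hb =>
      hcZ _ (commutator_le_self _ (commutator_mem_commutator ha hb)) (hc a ha b hb)
    have hw1 := hPn.conj_mem w hwP y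
    have h5 := hp.out.two_le
    have h6 := (Nat.modEq_iff_dvd' (Nat.le_self_pow three_ne_zero p)).1 h2.symm
    have hp' : p = 2 ∨ p = 3 := by omega
    rcases hp' with rfl | rfl
    · obtain rfl : q = 3 := by
        rcases (hq.dvd_mul (m := 2) (n := 3)).1 h6 with h | h
        · exact absurd ((Nat.prime_dvd_prime_iff_eq hq Nat.prime_two).1 h) hqp
        · exact (Nat.prime_dvd_prime_iff_eq hq Nat.prime_three).1 h
      have hw2 := hPn.conj_mem _ hw1 y
      have h8 : y * (y * (y * w * y⁻¹) * y⁻¹) * y⁻¹ = w := by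
        refine Eq.trans ?_ (h4 w hwP)
        simp only [pow_succ, pow_zero, one_mul, mul_inv_rev, mul_assoc]
      have h9 : (y * w * y⁻¹) ^ 2 = 1 := by rw [conj_pow, hwp']; simp
      have h10 : (y * (y * w * y⁻¹) * y⁻¹) ^ 2 = 1 := by rw [conj_pow, h9]; simp
      obtain ⟨w₁, h11⟩ : ∃ w₁, w₁ = y * w * y⁻¹ := ⟨_, rfl⟩
      rw [← h11] at hw1 hw2 h8 h9 h10
      obtain ⟨w₂, h12⟩ : ∃ w₂, w₂ = y * w₁ * y⁻¹ := ⟨_, rfl⟩
      rw [← h12] at hw2 h8 h10
      have h13 : w * w₁ * w₂ ∈ Z := by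
        by_contra h
        refine hI1 _ (mul_mem (mul_mem hwP hw1) hw2) h _ (hcm _ (mul_mem hw1 hw2) _ hwP) 1 ?_
        calc y * (w * w₁ * w₂) * y⁻¹ = y * w * y⁻¹ * (y * w₁ * y⁻¹) * (y * w₂ * y⁻¹) := by group
          _ = _ := by rw [← h11, ← h12, h8]; simp only [commutatorElement_def]; group
      have h14 : (w * w₁ * w₂) ^ 2 = 1 := by
        rw [← hZp]
        exact congrArg Subtype.val (pow_card_eq_one' (x := (⟨_, h13⟩ : Z)))
      have h15 : (w * w₁) ^ 2 = 1 := by
        have h16 : Commute (w * w₁ * w₂) w₂⁻¹ := (h13.2 _ (inv_mem hw2)).symm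
        have h17 := h16.mul_pow 2
        rwa [h14, inv_pow, h10, inv_one, one_mul, mul_inv_cancel_right] at h17
      have h16 : w₁ * w = w * w₁ := by
        calc w₁ * w = w * (w ^ 2)⁻¹ * (w * w₁) ^ 2 * (w₁ ^ 2)⁻¹ * w₁ := by
              simp only [pow_two]; group
          _ = _ := by rw [hwp', h15, h9]; group
      have h17 : zpowers w ⊔ zpowers w₁ ≤ (Z ⊔ (zpowers w ⊔ zpowers w₁)).comap
          (MulAut.conj y).toMonoidHom := by
        refine sup_le (zpowers_le.2 ?_) (zpowers_le.2 ?_)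
        · change y * w * y⁻¹ ∈ Z ⊔ (zpowers w ⊔ zpowers w₁)
          rw [← h11]
          exact mem_sup_right (mem_sup_right (mem_zpowers _))
        · change y * w₁ * y⁻¹ ∈ Z ⊔ (zpowers w ⊔ zpowers w₁)
          rw [← h12, show w₂ = (w * w₁)⁻¹ * (w * w₁ * w₂) by group]
          exact mul_mem (mem_sup_right (inv_mem (mul_mem_sup (mem_zpowers _) (mem_zpowers _))))
            (mem_sup_left h13)
      exact hI w hwP hw' (zpowers w ⊔ zpowers w₁) (mem_sup_left (mem_zpowers w))
        (sup_le (zpowers_le.2 hwP) (zpowers_le.2 hw1))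
        (sup_le (zpowers_le.2 (mem_centralizer_singleton_iff.2 rfl))
          (zpowers_le.2 (mem_centralizer_singleton_iff.2 h16))) fun u hu => h17 hu
    · obtain rfl : q = 2 := by
        rcases (hq.dvd_mul (m := 2 ^ 3) (n := 3)).1 h6 with h | h
        · exact (Nat.prime_dvd_prime_iff_eq hq Nat.prime_two).1 (hq.dvd_of_dvd_pow h)
        · exact absurd ((Nat.prime_dvd_prime_iff_eq hq Nat.prime_three).1 h) hqp
      have h8 : y * (y * w * y⁻¹) * y⁻¹ = w := by
        refine Eq.trans ?_ (h4 w hwP)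
        simp only [pow_succ, pow_zero, one_mul, mul_inv_rev, mul_assoc]
      have h13 : w * (y * w * y⁻¹) ∈ Z := by
        by_contra h
        refine hI1 _ (mul_mem hwP hw1) h _ (hcm _ hw1 _ hwP) 1 ?_
        calc y * (w * (y * w * y⁻¹)) * y⁻¹ = y * w * y⁻¹ * (y * (y * w * y⁻¹) * y⁻¹) := by group
          _ = _ := by rw [h8]; simp only [commutatorElement_def]; group
      refine hI1 w hwP hw' _ h13 (-1) ?_
      rw [← h13.2 _ (zpow_mem hwP (-1))]
      group

end Cfsg.Lib.Solv.SchmidtLen
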