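import Mathlib
import Cfsg.Agent.Solv.PGroupNormal
import Cfsg.Agent.Solv.FrattiniP
import Cfsg.Agent.Solv.Omega
import Cfsg.Agent.Solv.MinNormal
import Cfsg.Agent.Solv.Conj
import Cfsg.Agent.Trans.ClassTwo

/-!
Generator bounds for `p`-groups.
* `index_frattini_le_card_omegaOne`: for odd `p`, if all elements of order `p` are central then
  `|G : Φ(G)| ≤ |Ω₁(G)|` (Thompson).
* `card_mul_le_of_normal`: a `p`-group acting on a normal subgroup of order `p ^ r` induces a group
  whose abelianization has order at most `p ^ (r ^ 2 / 4)` (Patterson; by Mantel's theorem).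
-/

set_option autoImplicit false

namespace Cfsg.Lib.Solv.RB

open Subgroup
open scoped commutatorElement

universe u

variable {p : ℕ} [hp : Fact p.Prime]

section PCentral

theorem commutator_pow_eq_one (hp2 : p ≠ 2) (G : Type u) [Group G] [Finite G] :
    IsPGroup p G → (∀ x : G, x ^ p = 1 → x ∈ center G) →
      ∀ x g : G, (x ^ p) ^ p = 1 → ⁅g, x⁆ ^ p = 1 := by
  refine card_induction (P := fun G _ _ => IsPGroup p G → (∀ x : G, x ^ p = 1 → x ∈ center G) →
      ∀ x g : G, (x ^ p) ^ p = 1 → ⁅g, x⁆ ^ p = 1) ?_ G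
  intro G _ _ ih hG h x g hx
  let B := zpowers x ⊔ frattini G
  by_cases hB : B = ⊤
  · have h1 : zpowers x = ⊤ := frattini_nongenerating hB
    obtain ⟨k, rfl⟩ : g ∈ zpowers x := h1 ▸ mem_top g
    rw [(Commute.zpow_self x k).commutator_eq, one_pow]
  · have hxB : x ∈ B := mem_sup_left (mem_zpowers x)
    have hyB : g * x * g⁻¹ ∈ B := by
      have : g * x * g⁻¹ = ⁅g, x⁆ * x := by simp [commutatorElement_def]
      rw [this]
      exact B.mul_mem (mem_sup_right (commutator_le_frattini_of_isPGroup hG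
        (commutator_mem_commutator trivial trivial))) hxB
    have h1 := ih B (card_lt_of_ne_top hB) (hG.to_subgroup B) (fun y hy =>
      mem_center_iff.2 (fun z => Subtype.ext (mem_center_iff.1 (h y (congrArg Subtype.val hy)) z)))
      ⟨x, hxB⟩⁻¹ ⟨_, hyB⟩ (Subtype.ext (by simpa using hx))
    have h2 : ⁅g * x * g⁻¹, x⁻¹⁆ ^ p = 1 := congrArg Subtype.val h1
    have h3 : ⁅x⁻¹, g * x * g⁻¹⁆ ^ p = 1 := by
      rw [← commutatorElement_inv, inv_pow, h2, inv_one]
    have h4 := mem_center_iff.1 (h _ h3)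
    rw [commutatorElement_def, Cfsg.Lib.Trans.mul_pow_of_odd_of_commutator_pow_eq_one
      (h4 _).symm (h4 _).symm (hp.out.odd_of_ne_two hp2) h3, conj_pow,
      mem_center_iff.1 (h _ hx) g]
    simp

theorem mem_omegaOne_iff_of_central {G : Type*} [Group G] (h : ∀ x : G, x ^ p = 1 → x ∈ center G)
    {x : G} : x ∈ omegaOne p (⊤ : Subgroup G) ↔ x ^ p = 1 := by
  rw [PG.mem_omegaOne_iff_of_mul (fun x _ y _ h1 h2 => by
    rw [Commute.mul_pow (mem_center_iff.1 (h y h2) x), h1, h2, one_mul])]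
  simp

/-- Thompson: for odd `p`, if the elements of order `p` are central then `d(G) ≤ d(Ω₁(G))`. -/
theorem index_frattini_le_card_omegaOne (hp2 : p ≠ 2) (G : Type u) [Group G] [Finite G] :
    IsPGroup p G → (∀ x : G, x ^ p = 1 → x ∈ center G) →
      (frattini G).index ≤ Nat.card (omegaOne p (⊤ : Subgroup G)) := by
  refine card_induction (P := fun G _ _ => IsPGroup p G → (∀ x : G, x ^ p = 1 → x ∈ center G) →
      (frattini G).index ≤ Nat.card (omegaOne p (⊤ : Subgroup G))) ?_ G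
  intro G _ _ ih hG h
  rcases subsingleton_or_nontrivial G with h0 | h0
  · rw [Subsingleton.elim (frattini G) ⊤, index_top]; exact Nat.card_pos
  set A := omegaOne p (⊤ : Subgroup G) with hA
  have hA0 : A ≠ ⊥ := PG.omegaOne_ne_bot (PG.isPGroup_top hG) top_ne_bot
  have hmem : ∀ x, x ∈ A ↔ x ^ p = 1 := fun x => mem_omegaOne_iff_of_central h
  have hq : ∀ x : G, (x : G ⧸ A) ^ p = 1 ↔ (x ^ p) ^ p = 1 := fun x => by
    rw [← QuotientGroup.mk_pow, QuotientGroup.eq_one_iff, hmem]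
  have hc : ∀ x : G ⧸ A, x ^ p = 1 → x ∈ center (G ⧸ A) := by
    rintro ⟨x⟩ hx
    refine mem_center_iff.2 ?_
    rintro ⟨g⟩
    refine commutatorElement_eq_one_iff_mul_comm.1 ?_
    exact (QuotientGroup.eq_one_iff ⁅g, x⁆).2 ((hmem _).2
      (commutator_pow_eq_one hp2 G hG h x g ((hq x).1 hx)))
  have h1 := ih (G ⧸ A) (card_quotient_lt hA0) (hG.to_quotient A) hc
  set B := (omegaOne p (⊤ : Subgroup (G ⧸ A))).comap (QuotientGroup.mk' A) with hB
  have hBm : ∀ x, x ∈ B ↔ (x ^ p) ^ p = 1 := fun x =>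
    (mem_omegaOne_iff_of_central hc).trans (hq x)
  let φ : B →* G := MonoidHom.mk' (fun x => (x : G) ^ p) (fun x y => by
    have h2 := commutator_pow_eq_one hp2 G hG h x y ((hBm x).1 x.2)
    have h3 := mem_center_iff.1 (h _ h2)
    exact Cfsg.Lib.Trans.mul_pow_of_odd_of_commutator_pow_eq_one
      (h3 _).symm (h3 _).symm (hp.out.odd_of_ne_two hp2) h2)
  have hAB : A ≤ B := fun x hx => (hBm x).2 (by rw [(hmem x).1 hx, one_pow])
  have hker : φ.ker = A.subgroupOf B := by
    ext x; exact (hmem x).symm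
  have hrange : φ.range ≤ A ⊓ frattini G := by
    rintro _ ⟨x, rfl⟩
    exact ⟨(hmem _).2 ((hBm x).1 x.2), pow_mem_frattini hG _⟩
  have h2 : Nat.card (omegaOne p (⊤ : Subgroup (G ⧸ A))) ≤ Nat.card (A ⊓ frattini G : Subgroup G) := by
    have h3 := φ.ker.card_mul_index
    rw [index_ker, hker, card_subgroupOf_of_le hAB,
      show Nat.card B = _ from card_comap_mk' _ _, mul_comm] at h3
    rw [← Nat.eq_of_mul_eq_mul_right Nat.card_pos h3]
    exact card_le_of_le hrange
  rw [frattini_quotient_of_isPGroup hG, index_map, QuotientGroup.ker_mk',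
    MonoidHom.range_eq_top.2 (QuotientGroup.mk'_surjective A), index_top, mul_one] at h1
  have h3 := card_sup_mul_card_inf_of_normal (frattini G) A
  have h4 := (frattini G).card_mul_index
  have h5 := (frattini G ⊔ A).card_mul_index
  rw [inf_comm] at h2
  have h6 := h1.trans h2
  refine Nat.le_of_mul_le_mul_left (c := Nat.card (frattini G)) ?_ Nat.card_pos
  rw [h4, ← h3, ← h5]
  exact Nat.mul_le_mul_left _ h6

end PCentral

section Mantel

variable {G : Type*} [Group G] [Finite G]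

/-- a chain of normal subgroups with factors of order `p` -/
structure Chain (p r : ℕ) (A : ℕ → Subgroup G) : Prop where
  zero : A 0 = ⊥
  normal : ∀ i, (A i).Normal
  le : ∀ i < r, A i ≤ A (i + 1)
  card : ∀ i < r, Nat.card (A (i + 1)) = p * Nat.card (A i)

theorem exists_chain (hG : IsPGroup p G) (r : ℕ) : ∀ (N : Subgroup G) [N.Normal],
    Nat.card N = p ^ r → ∃ A : ℕ → Subgroup G, Chain p r A ∧ A r = N := by
  induction r with
  | zero =>
    intro N _ hN
    rw [pow_zero, card_eq_one] at hN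
    exact ⟨fun _ => ⊥, ⟨rfl, fun _ => inferInstance, fun _ h => absurd h (by omega),
      fun _ h => absurd h (by omega)⟩, hN.symm⟩
  | succ r ih =>
    intro N _ hN
    obtain ⟨K, hK, hKN, hKc⟩ := PG.exists_normal_card_eq hG N r
      (hN ▸ Nat.pow_le_pow_right hp.out.pos r.le_succ)
    obtain ⟨A, hA, hAr⟩ := ih K hKc
    refine ⟨fun i => if i ≤ r then A i else N, ⟨by simp [hA.zero], fun i => ?_, fun i hi => ?_,
      fun i hi => ?_⟩, by simp⟩
    · split_ifs
      · exact hA.normal i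
      · infer_instance
    · rcases Nat.lt_succ_iff_lt_or_eq.1 hi with h | rfl
      · rw [if_pos h.le, if_pos (Nat.succ_le_of_lt h)]; exact hA.le i h
      · rw [if_pos le_rfl, if_neg (by omega), hAr]; exact hKN
    · rcases Nat.lt_succ_iff_lt_or_eq.1 hi with h | rfl
      · rw [if_pos h.le, if_pos (Nat.succ_le_of_lt h)]; exact hA.card i h
      · rw [if_pos le_rfl, if_neg (by omega), hAr, hKc, hN, pow_succ']

variable {r : ℕ} {A : ℕ → Subgroup G}

omit hp [Finite G] in
theorem Chain.mono (hA : Chain p r A) {i j : ℕ} (hij : i ≤ j) (hj : j ≤ r) : A i ≤ A j := by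
  induction j, hij using Nat.le_induction with
  | base => exact le_rfl
  | succ j _ ih => exact (ih (by omega)).trans (hA.le j hj)

theorem Chain.exists_not_mem (hA : Chain p r A) (j : ℕ) : ∃ v, j < r → v ∈ A (j + 1) ∧ v ∉ A j := by
  by_cases hj : j < r
  · by_contra h
    push Not at h
    have h1 : A (j + 1) ≤ A j := fun v hv => (h v).2 hv
    have h2 := card_le_of_le h1
    rw [hA.card j hj] at h2
    have := Nat.card_pos (α := A j)
    have := hp.out.two_le
    nlinarith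
  · exact ⟨1, fun h => absurd h hj⟩

open scoped Classical in
theorem Chain.card_inf (hA : Chain p r A) (R : Subgroup G) {j : ℕ} (hj : j ≤ r) :
    Nat.card (R ⊓ A j : Subgroup G) =
      p ^ ((Finset.range j).filter (fun i => ∃ w ∈ R, w ∈ A (i + 1) ∧ w ∉ A i)).card := by
  induction j with
  | zero => simp [hA.zero]
  | succ j ih =>
    rw [Finset.range_add_one, Finset.filter_insert]
    have h0 : R ⊓ A (j + 1) ⊓ A j = R ⊓ A j := by rw [inf_assoc, inf_eq_right.2 (hA.le j hj)]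
    split_ifs with h
    · rw [Finset.card_insert_of_notMem (by simp), pow_succ', ← ih (by omega)]
      obtain ⟨w, hw1, hw2, hw3⟩ := h
      haveI := hA.normal j
      have h1 := card_sup_mul_card_inf_of_normal (R ⊓ A (j + 1)) (A j)
      have h2 : R ⊓ A (j + 1) ⊔ A j = A (j + 1) := by
        refine le_antisymm (sup_le inf_le_right (hA.le j hj)) ?_
        conv_lhs => rw [← PG.sup_zpowers_eq_of_card_eq_prime_mul hp.out (hA.le j hj)
          (hA.card j hj) hw2 hw3]
        exact sup_le le_sup_right ((zpowers_le.2 (mem_inf.2 ⟨hw1, hw2⟩)).trans le_sup_left)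
      rw [h2, h0, hA.card j hj, mul_right_comm] at h1
      exact (Nat.eq_of_mul_eq_mul_right Nat.card_pos h1).symm
    · have h1 : R ⊓ A (j + 1) ≤ A j := by
        intro w hw
        by_contra h1
        exact h ⟨w, hw.1, hw.2, h1⟩
      rw [← ih (by omega), ← h0, inf_eq_left.2 h1]

theorem Chain.commutator_mem (hA : Chain p r A) (hG : IsPGroup p G) {j : ℕ} (hj : j < r) {v : G}
    (hv : v ∈ A (j + 1)) (g : G) : ⁅v, g⁆ ∈ A j := by
  haveI := hA.normal j
  haveI := hA.normal (j + 1)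
  exact (PG.commutator_le_of_card_eq_prime_mul (PG.isPGroup_top hG) (hG.to_subgroup _)
    le_normalizer_of_normal le_normalizer_of_normal (hA.le j hj) (hA.card j hj)).1
    (commutator_mem_commutator hv (mem_top g))

theorem Chain.commutator_mem_of (hA : Chain p r A) {j : ℕ} (hj : j < r) {v w x : G}
    (hv : v ∈ A (j + 1)) (hv' : v ∉ A j) (hw : w ∈ A (j + 1))
    (hx : x ∈ centralizer (A j : Set G)) (B : Subgroup G) [hB : B.Normal] (h : ⁅v, x⁆ ∈ B) :
    ⁅w, x⁆ ∈ B := by
  let S : Subgroup G := (centralizer {(x : G ⧸ B)}).comap (QuotientGroup.mk' B)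
  have hS : ∀ y, y ∈ S ↔ ⁅y, x⁆ ∈ B := fun y => by
    rw [← QuotientGroup.eq_one_iff ⁅y, x⁆]
    exact mem_centralizer_singleton_iff.trans commutatorElement_eq_one_iff_mul_comm.symm
  have : A (j + 1) ≤ S := by
    rw [← PG.sup_zpowers_eq_of_card_eq_prime_mul hp.out (hA.le j hj) (hA.card j hj) hv hv']
    refine sup_le (fun a ha => (hS a).2 ?_) (zpowers_le.2 ((hS v).2 h))
    rw [commutatorElement_eq_one_iff_mul_comm.2 (hx a ha)]; exact B.one_mem
  exact (hS w).1 (this hw)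

/-- the leading positions of a subgroup -/
def Pos (A : ℕ → Subgroup G) (v : ℕ → G) (H : Subgroup G) (i j : ℕ) : Prop :=
  ∃ h ∈ H, h ∈ centralizer (A j : Set G) ∧ ⁅v j, h⁆ ∈ A (i + 1) ∧ ⁅v j, h⁆ ∉ A i

variable {v : ℕ → G}

open scoped Classical in
theorem Chain.card_eq (hA : Chain p r A) (hG : IsPGroup p G)
    (hv : ∀ j < r, v j ∈ A (j + 1) ∧ v j ∉ A j) (H : Subgroup G) {k : ℕ} (hk : k ≤ r) :
    Nat.card H = Nat.card (H ⊓ centralizer (A k : Set G) : Subgroup G) *
      p ^ ∑ j ∈ Finset.range k, ((Finset.range j).filter (fun i => Pos A v H i j)).card := by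
  induction k with
  | zero =>
    have : centralizer (A 0 : Set G) = ⊤ := by
      rw [hA.zero, eq_top_iff]
      intro x _ y hy
      rw [SetLike.mem_coe, mem_bot] at hy
      simp [hy]
    simp [this]
  | succ k ih =>
    rw [ih (by omega), Finset.sum_range_succ, pow_add, mul_comm (p ^ _) (p ^ _), ← mul_assoc]
    congr 1
    let φ : (H ⊓ centralizer (A k : Set G) : Subgroup G) →* G :=
      MonoidHom.mk' (fun h => ⁅v k, (h : G)⁆) (fun a b => by
        have h1 : ⁅v k, (b : G)⁆ * a = a * ⁅v k, (b : G)⁆ :=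
          a.2.2 _ (hA.commutator_mem hG hk (hv k hk).1 b)
        calc ⁅v k, (a : G) * b⁆ = ⁅v k, (a : G)⁆ * (a * ⁅v k, (b : G)⁆) * (a : G)⁻¹ := by
              simp only [commutatorElement_def]; group
          _ = _ := by rw [← h1]; group)
    have hle : (H ⊓ centralizer (A (k + 1) : Set G) : Subgroup G) ≤ H ⊓ centralizer (A k : Set G) :=
      inf_le_inf_left _ (centralizer_le (SetLike.coe_subset_coe.2 (hA.le k hk)))
    have hker : φ.ker = (H ⊓ centralizer (A (k + 1) : Set G)).subgroupOf _ := by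
      ext x
      refine ⟨fun hx => ⟨x.2.1, fun w hw => ?_⟩, fun hx => ?_⟩
      · exact commutatorElement_eq_one_iff_mul_comm.1
          (hA.commutator_mem_of hk (hv k hk).1 (hv k hk).2 hw x.2.2 ⊥ hx)
      · exact commutatorElement_eq_one_iff_mul_comm.2 (hx.2 _ (hv k hk).1)
    have hr : φ.range ≤ A k := by
      rintro _ ⟨x, rfl⟩
      exact hA.commutator_mem hG hk (hv k hk).1 _
    have h1 := φ.ker.card_mul_index
    rw [index_ker, hker, card_subgroupOf_of_le hle, ← inf_eq_left.2 hr,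
      hA.card_inf _ (by omega : k ≤ r)] at h1
    rw [← h1]
    congr 3
    refine Finset.filter_congr (fun i _ => ⟨?_, ?_⟩)
    · rintro ⟨_, ⟨x, rfl⟩, h2, h3⟩
      exact ⟨x, x.2.1, x.2.2, h2, h3⟩
    · rintro ⟨x, h2, h3, h4, h5⟩
      exact ⟨_, ⟨⟨x, h2, h3⟩, rfl⟩, h4, h5⟩

theorem Chain.pos_commutator (hA : Chain p r A) (hG : IsPGroup p G)
    (hv : ∀ j < r, v j ∈ A (j + 1) ∧ v j ∉ A j) {H : Subgroup G} {i j k : ℕ} (hj : j < r)
    (hk : k < r) (h1 : Pos A v H i j) (h2 : Pos A v H j k) : Pos A v ⁅H, H⁆ i k := by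
  obtain ⟨x, hxH, hxC, hx1, hx2⟩ := h1
  obtain ⟨y, hyH, hyC, hy1, hy2⟩ := h2
  haveI := hA.normal k
  haveI := hA.normal i
  haveI := hA.normal (i + 1)
  have hw : ⁅(v k)⁻¹, x⁻¹⁆ * y = y * ⁅(v k)⁻¹, x⁻¹⁆ :=
    hyC _ (hA.commutator_mem hG hk (inv_mem (hv k hk).1) _)
  have hconj : x * y * x⁻¹ ∈ centralizer (A k : Set G) := Normal.conj_mem inferInstance _ hyC x
  have hu : ⁅v k, y⁆⁻¹ * (x * y * x⁻¹)⁻¹ = (x * y * x⁻¹)⁻¹ * ⁅v k, y⁆⁻¹ :=
    (inv_mem hconj : _ ∈ centralizer (A k : Set G)) _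
      (inv_mem (hA.commutator_mem hG hk (hv k hk).1 _))
  have hu' : ⁅v k, y⁆ * y = y * ⁅v k, y⁆ := hyC _ (hA.commutator_mem hG hk (hv k hk).1 _)
  have key : ⁅v k, ⁅x, y⁆⁆ = ⁅⁅v k, y⁆, x⁆⁻¹ := by
    have h3 : ⁅v k, x * y * x⁻¹⁆ = x * ⁅v k, y⁆ * x⁻¹ := by
      calc ⁅v k, x * y * x⁻¹⁆ = x * (v k * (⁅(v k)⁻¹, x⁻¹⁆ * y) * ⁅(v k)⁻¹, x⁻¹⁆⁻¹ * (v k)⁻¹ * y⁻¹)
            * x⁻¹ := by simp only [commutatorElement_def]; group
        _ = _ := by rw [hw]; simp only [commutatorElement_def]; group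
    calc ⁅v k, ⁅x, y⁆⁆ = ⁅v k, x * y * x⁻¹⁆ * (x * y * x⁻¹) * (⁅v k, y⁆ * y)⁻¹ * y *
          (x * y * x⁻¹)⁻¹ := by simp only [commutatorElement_def]; group
      _ = ⁅v k, x * y * x⁻¹⁆ * (x * y * x⁻¹) * (⁅v k, y⁆⁻¹ * (x * y * x⁻¹)⁻¹) * 1 := by
          rw [mul_inv_rev, mul_assoc _ (y⁻¹ * _), ← mul_inv_rev, hu']; group
      _ = _ := by
          rw [hu, h3]
          generalize ⁅v k, y⁆ = u
          simp only [commutatorElement_def]; group
  refine ⟨⁅x, y⁆, commutator_mem_commutator hxH hyH, mul_mem hconj (inv_mem hyC), ?_, ?_⟩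
  · rw [key]
    exact inv_mem (hA.commutator_mem_of hj (hv j hj).1 (hv j hj).2 hy1 hxC _ hx1)
  · rw [key, inv_mem_iff]
    exact fun h => hx2 (hA.commutator_mem_of hj hy1 hy2 (hv j hj).1 hxC _ h)

open scoped Classical in
theorem mantel (r : ℕ) (R : ℕ → ℕ → Prop)
    (h : ∀ i j k, i < j → j < k → k < r → R i j → R j k → ¬ R i k) :
    ∑ j ∈ Finset.range r, ((Finset.range j).filter (fun i => R i j)).card ≤ r ^ 2 / 4 := by
  let Γ : SimpleGraph (Fin r) := SimpleGraph.fromRel (fun a b => a < b ∧ R a b)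
  have hΓ : Γ.CliqueFree (2 + 1) := by
    intro s hs
    obtain ⟨a, b, c, hab, hac, hbc, -⟩ := SimpleGraph.is3Clique_iff.1 hs
    simp only [Γ, SimpleGraph.fromRel_adj, Fin.lt_def] at hab hac hbc
    have := a.2
    have := b.2
    have := c.2
    grind
  have h1 := hΓ.card_edgeFinset_le
  simp only [Fintype.card_fin] at h1
  have h2 : (r % 2).choose 2 = 0 := Nat.choose_eq_zero_of_lt (Nat.mod_lt _ two_pos)
  have h3 : (r ^ 2 - (r % 2) ^ 2) * (2 - 1) / (2 * 2) ≤ r ^ 2 / 4 :=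
    Nat.div_le_div_right (by omega)
  refine le_trans ?_ (h1.trans (by omega))
  rw [← Finset.card_sigma]
  refine le_trans (Finset.card_le_card_of_injOn
    (t := Γ.edgeFinset.image (Sym2.map Fin.val)) (fun t => s(t.2, t.1)) ?_ ?_) Finset.card_image_le
  · rintro ⟨j, i⟩ ht
    simp only [Finset.coe_sigma, Set.mem_sigma_iff, Finset.coe_range, Set.mem_Iio,
      Finset.coe_filter, Finset.mem_range, Set.mem_ofPred_eq] at ht
    refine Finset.mem_coe.2 (Finset.mem_image.2 ⟨s(⟨i, by omega⟩, ⟨j, ht.1⟩), ?_, rfl⟩)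
    simp only [SimpleGraph.mem_edgeFinset, SimpleGraph.mem_edgeSet, Γ, SimpleGraph.fromRel_adj]
    exact ⟨fun h => ht.2.1.ne (congrArg Fin.val h), Or.inl ⟨ht.2.1, ht.2.2⟩⟩
  · rintro ⟨j, i⟩ ht ⟨j', i'⟩ ht' he
    simp only [Finset.coe_sigma, Set.mem_sigma_iff, Finset.coe_range, Set.mem_Iio,
      Finset.coe_filter, Finset.mem_range, Set.mem_ofPred_eq] at ht ht'
    rcases Sym2.eq_iff.1 he with ⟨h1, h2⟩ | ⟨h1, h2⟩
    · dsimp only at h1 h2
      rw [h1, h2]
    · dsimp only at h1 h2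
      omega

open scoped Classical in
/-- Patterson's bound. -/
theorem card_mul_le_of_normal (hG : IsPGroup p G) (N : Subgroup G) [N.Normal]
    (hN : Nat.card N = p ^ r) {H K : Subgroup G} (hK : ⁅H, H⁆ ≤ K) :
    Nat.card H * Nat.card (K ⊓ centralizer (N : Set G) : Subgroup G) ≤
      p ^ (r ^ 2 / 4) * Nat.card K * Nat.card (H ⊓ centralizer (N : Set G) : Subgroup G) := by
  obtain ⟨A, hA, rfl⟩ := exists_chain hG r N hN
  choose v hv using hA.exists_not_mem
  rw [hA.card_eq hG hv H le_rfl]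
  conv_rhs => rw [hA.card_eq hG hv K le_rfl]
  have h1 := mantel r (fun i j => Pos A v H i j ∧ ¬ Pos A v K i j)
    (fun i j k hij hjk hk h1 h2 h3 => by
      obtain ⟨x, hx, h4⟩ := hA.pos_commutator hG hv (by omega) hk h1.1 h2.1
      exact h3.2 ⟨x, hK hx, h4⟩)
  have h2 : ∑ j ∈ Finset.range r, ((Finset.range j).filter (fun i => Pos A v H i j)).card ≤
      r ^ 2 / 4 + ∑ j ∈ Finset.range r, ((Finset.range j).filter (fun i => Pos A v K i j)).card := by
    refine le_trans ?_ (Nat.add_le_add_right h1 _)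
    rw [← Finset.sum_add_distrib]
    refine Finset.sum_le_sum (fun j _ => le_trans (Finset.card_le_card ?_) (Finset.card_union_le _ _))
    intro i hi
    simp only [Finset.mem_union, Finset.mem_filter] at hi ⊢
    tauto
  have h3 := Nat.pow_le_pow_right hp.out.pos h2
  rw [pow_add] at h3
  calc _ ≤ Nat.card (H ⊓ centralizer (A r : Set G) : Subgroup G) * (p ^ (r ^ 2 / 4) * p ^ _) *
      Nat.card (K ⊓ centralizer (A r : Set G) : Subgroup G) :=
        Nat.mul_le_mul_right _ (Nat.mul_le_mul_left _ h3)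
    _ = _ := by ring

end Mantel

end Cfsg.Lib.Solv.RB
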