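import Cfsg.Agent.Solv.BGrp2
import Cfsg.Agent.Fus.WeakEmb
import Cfsg.Agent.Perm.FCStruct
import Cfsg.Agent.S4020

/-!
Solvable groups in which subgroups of the same prime power order are conjugate: normality of the
non-cyclic abelian Sylow subgroups and the action of a quaternion Sylow subgroup.
-/

set_option autoImplicit false

universe u

namespace Cfsg.Lib.Solv

open Subgroup Cfsg.Lib.FT Cfsg.Lib.WalCor Pointwise
open scoped commutatorElement

variable {G : Type*} [Group G] [Finite G]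

theorem isCyclic_of_card_stab {V A : Type*} [Group V] [Finite V] [Nontrivial V] [Group A] [Finite A]
    (hA : ∀ a b : A, a * b = b * a) (φ : A →* MulAut V)
    (hφ : Function.Injective φ)
    (h : ∀ v w : V, v ≠ 1 → w ≠ 1 → Nat.card ((MulAction.stabilizer (MulAut V) v).comap φ) ≤
      Nat.card ((MulAction.stabilizer (MulAut V) w).comap φ)) : IsCyclic A := by
  let st : V → Subgroup A := fun v => (MulAction.stabilizer (MulAut V) v).comap φ
  have hst : ∀ v a, a ∈ st v ↔ φ a v = v := fun _ _ => Iff.rfl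
  have h1 : ∀ v w, v ≠ 1 → w ≠ 1 → st v ≤ st w → st v = st w := fun v w hv hw hle =>
    eq_of_le_of_card_ge hle (h w v hw hv)
  have h2 : ∀ v x a, a ∈ st v → φ a (φ x v) = φ x v := fun v x a ha => by
    rw [← MulAut.mul_apply, ← map_mul, hA, map_mul, MulAut.mul_apply, (hst v a).1 ha]
  have key : ∀ v w, v ≠ 1 → w ≠ 1 → st v = st w := fun v w hv hw => by_contra fun hne => by
    have h3 : v * w ≠ 1 := fun e => hne (h1 v w hv hw fun a ha => by
      rw [hst, eq_inv_of_mul_eq_one_right e, map_inv, (hst v a).1 ha])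
    have h4 : st (v * w) ≤ st v ⊓ st w := fun x hx => by
      rw [hst, map_mul] at hx
      have h5 : v⁻¹ * φ x v = w * (φ x w)⁻¹ := by
        rw [inv_mul_eq_iff_eq_mul, ← mul_assoc, ← hx, mul_inv_cancel_right]
      have h6 : v⁻¹ * φ x v = 1 := by_contra fun h6 => hne
        ((h1 v _ hv h6 fun a ha => by
          rw [hst, map_mul, map_inv, h2 v x a ha, (hst v a).1 ha]).trans
        (h1 w _ hw h6 fun a ha => by
          rw [hst, h5, map_mul, map_inv, h2 w x a ha, (hst w a).1 ha]).symm)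
      exact ⟨(inv_mul_eq_one.1 h6).symm, (mul_inv_eq_one.1 (h5 ▸ h6)).symm⟩
    exact hne ((h1 _ v h3 hv (h4.trans inf_le_left)).symm.trans (h1 _ w h3 hw (h4.trans inf_le_right)))
  refine (Perm.IsFC.of_mulAut φ fun a ha v hv => by_contra fun hv1 => ha (hφ ?_)).isCyclic_of_comm hA
  ext w
  by_cases hw : w = 1
  · simp [hw]
  · simpa using (hst w a).1 (key v w hv1 hw ▸ (hst v a).2 hv)

omit [Finite G] in
theorem DG_conj_zpowers (hD : DG G) {p k : ℕ} (hp : p.Prime) {x y : G} (hx : orderOf x = p ^ k)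
    (hy : orderOf y = p ^ k) : ∃ (g : G) (m : ℤ), g * x ^ m * g⁻¹ = y := by
  obtain ⟨g, hg⟩ := hD.exists_conj hp (DG.isPGroup_zpowers hx) (DG.isPGroup_zpowers hy)
    (by rw [Nat.card_zpowers, Nat.card_zpowers, hx, hy])
  obtain ⟨_, ⟨m, rfl⟩, e⟩ := hg y (mem_zpowers y)
  exact ⟨g, m, e⟩

omit [Finite G] in
theorem DG_mem_of_normal (hD : DG G) {p k : ℕ} (hp : p.Prime) {N : Subgroup G} [hN : N.Normal]
    {x y : G} (hx : orderOf x = p ^ k) (hy : orderOf y = p ^ k) (h : x ∈ N) : y ∈ N := by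
  obtain ⟨g, m, rfl⟩ := DG_conj_zpowers hD hp hx hy
  exact hN.conj_mem _ (zpow_mem h m) g

/-- Normal abelian subgroups of the automizer of a normal elementary abelian subgroup are cyclic. -/
theorem DG_isCyclic (hD : DG G) {p : ℕ} (hp : p.Prime) {P : Subgroup G} [P.Normal]
    (hP : IsElementaryAbelian p P) (h0 : P ≠ ⊥)
    (A : Subgroup (MulAut.conjNormal : G →* MulAut P).range) [hA : A.Normal] [IsMulCommutative A] :
    IsCyclic A := by
  have := Fact.mk hp
  have := (nontrivial_iff_ne_bot P).2 h0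
  have := hP.1
  refine isCyclic_of_card_stab (V := P) mul_comm' ((Subgroup.subtype _).comp A.subtype)
    ((subtype_injective _).comp A.subtype_injective) fun v w hv hw => ?_
  obtain ⟨g, m, e⟩ := DG_conj_zpowers hD hp (k := 1) (x := v) (y := w)
    (by rw [pow_one]; exact orderOf_eq_prime (hP.2 v v.2) fun e => hv (Subtype.ext e))
    (by rw [pow_one]; exact orderOf_eq_prime (hP.2 w w.2) fun e => hw (Subtype.ext e))
  let γ := (MulAut.conjNormal : G →* MulAut P).rangeRestrict g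
  have hw' : w = γ.1 (v ^ m) := Subtype.ext e.symm
  refine Nat.card_le_card_of_injective (fun a => ⟨⟨_, hA.conj_mem _ a.1.2 γ⟩, ?_⟩) fun a b e => ?_
  · have h1 : a.1.1.1 v = v := a.2
    change γ.1 (a.1.1.1 (γ.1⁻¹ w)) = w
    rw [hw', MulAut.inv_apply_self, map_zpow, h1]
  · have := congrArg (fun x => x.1.1) e
    exact Subtype.ext (Subtype.ext (by simpa using this))

theorem DG_normal (G : Type u) [Group G] [Finite G] {q : ℕ} [hq : Fact q.Prime] :
    Group.IsSolvable G → DG G → ∀ Q : Sylow q G, IsElementaryAbelian q (Q : Subgroup G) →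
      ¬ IsCyclic (Q : Subgroup G) → (Q : Subgroup G).Normal := by
  refine card_induction (P := fun G _ _ => Group.IsSolvable G → DG G → ∀ Q : Sylow q G,
    IsElementaryAbelian q (Q : Subgroup G) → ¬ IsCyclic (Q : Subgroup G) →
      (Q : Subgroup G).Normal) ?_ G
  intro G _ _ ih hs hD Q hQ hc
  by_cases hO : pPrimeCore q G = ⊥
  · have h1 : pCore q G ≤ Q := (pCore_isPGroup q G).le_sylow_of_normal Q
    rw [le_antisymm (((abelian_le_cent hQ.1).trans (centS h1)).trans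
      ((IsPSolvable.of_isSolvable q G).centralizer_pCore_le hO)) h1]
    infer_instance
  obtain ⟨r, M, hr, hM, hle, h1, h2, h3⟩ := exists_isMinNormal_elementary_le _ hO
  have := hM.normal
  have hf := QuotientGroup.mk'_surjective M
  have hco : M ⊓ Q = ⊥ := pl_inf_eq_bot
    (pl_coprime_pPrimeCore.coprime_dvd_left (card_dvd_of_le hle)) Q.2
  have hQ1 := hQ.1
  have h4 : ((Q.mapSurjective hf : Sylow q _) : Subgroup (G ⧸ M)).Normal := by
    refine ih (G ⧸ M) (card_quotient_lt hM.ne_bot) inferInstance (hD.of_surjective hf)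
      (Q.mapSurjective hf) ⟨map_isMulCommutative _ _, ?_⟩ fun h => hc ?_
    · rintro _ ⟨x, hx, rfl⟩
      rw [← map_pow, hQ.2 x hx, map_one]
    · have : IsCyclic ((Q : Subgroup G).map (QuotientGroup.mk' M)) := h
      refine isCyclic_of_injective ((QuotientGroup.mk' M).subgroupMap Q)
        ((injective_iff_map_eq_one _).2 fun a ha => Subtype.ext ?_)
      exact hco.le (mem_inf.2 ⟨(QuotientGroup.eq_one_iff _).1 (congrArg Subtype.val ha), a.2⟩)
  have h5 : ((Q : Subgroup G) ⊔ M).Normal := by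
    have := h4.comap (QuotientGroup.mk' M)
    rwa [Sylow.coe_mapSurjective, comap_map_eq, QuotientGroup.ker_mk'] at this
  let ψ := (MulAut.conjNormal : G →* MulAut M).rangeRestrict
  have hψ : ∀ x, ψ x = 1 ↔ x ∈ 𝐂 M := fun x => by
    rw [Subtype.ext_iff, mem_centralizer_iff]
    refine ⟨fun e y hy => ?_, fun e => MulEquiv.ext fun y => Subtype.ext ?_⟩
    · have := congrArg (fun a : MulAut M => (a ⟨y, hy⟩ : G)) e
      exact (mul_inv_eq_iff_eq_mul.1 this).symm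
    · exact mul_inv_eq_iff_eq_mul.2 (e y y.2).symm
  have h6 : ((Q : Subgroup G).map ψ).Normal := by
    have := h5.map ψ (MonoidHom.rangeRestrict_surjective _)
    rwa [Subgroup.map_sup, (Subgroup.map_eq_bot_iff M).2 fun x hx =>
      (hψ x).2 (abelian_le_cent h1 hx), sup_bot_eq] at this
  have h7 := DG_isCyclic hD hr ⟨h1, h2⟩ hM.ne_bot ((Q : Subgroup G).map ψ)
  obtain ⟨x, hx, hx1⟩ : ∃ x : (Q : Subgroup G), ψ x = 1 ∧ x ≠ 1 := by
    by_contra! e
    exact hc (isCyclic_of_injective (ψ.subgroupMap Q)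
      ((injective_iff_map_eq_one _).2 fun a ha => e a (congrArg Subtype.val ha)))
  have h8 : (Q : Subgroup G) ≤ 𝐂 M := fun y hy => by
    by_cases hy1 : y = 1
    · exact hy1 ▸ one_mem _
    exact DG_mem_of_normal hD hq.out (k := 1)
      (by rw [pow_one]; exact orderOf_eq_prime (hQ.2 x x.2) fun e => hx1 (Subtype.ext e))
      (by rw [pow_one]; exact orderOf_eq_prime (hQ.2 y hy) hy1) ((hψ x).1 hx)
  have h9 := Sylow.normalizer_sup_eq_top' (N := (Q : Subgroup G) ⊔ M) Q le_sup_left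
  exact normalizer_eq_top_iff.1 (eq_top_iff.2 (h9.ge.trans
    (sup_le le_rfl (sup_le le_normalizer (cents_norm (centsC.1 h8))))))

theorem DG_conj_mem_zpowers (hD : DG G) {p : ℕ} (hp : p.Prime) {P U T : Subgroup G} [hPn : P.Normal]
    [hT : T.Normal] (hP : IsElementaryAbelian p P) (hU : U < P) (h0 : U ≠ ⊥) (hTU : T ≤ 𝐍 U)
    {t v : G} (ht : t ∈ T) (hv : v ∈ P) : t * v * t⁻¹ ∈ zpowers v := by
  have := Fact.mk hp
  have := hP.1
  have hPp : IsPGroup p P := fun x => ⟨1, Subtype.ext (by simpa using hP.2 x x.2)⟩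
  let _ : CommGroup P := ⟨mul_comm'⟩
  have : NeZero (Monoid.exponent P) := ⟨Monoid.exponent_ne_zero_of_finite⟩
  refine mem_subgroupOf.1 ((CommGroup.forall_monoidHom_apply_eq_one_iff ℂ
    ((zpowers v).subgroupOf P) ⟨_, hPn.conj_mem v hv t⟩).1 fun χ hχ => ?_)
  have : NeZero p := ⟨hp.ne_zero⟩
  have h1 : χ.ker.index ≤ p := by
    rw [index_ker]
    refine (card_le_of_le (K := rootsOfUnity p ℂ) ?_).trans (card_rootsOfUnity ℂ p)
    rintro _ ⟨x, rfl⟩
    rw [mem_rootsOfUnity, ← map_pow, show x ^ p = 1 from Subtype.ext (hP.2 x x.2), map_one]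
  obtain ⟨d, hd⟩ := IsPGroup.iff_card.1 (hPp.to_le hU.le)
  obtain ⟨n, hn⟩ := IsPGroup.iff_card.1 hPp
  have h2 : d < n := (Nat.pow_lt_pow_iff_right hp.one_lt).1 (hd ▸ hn ▸ card_lt_of_lt hU)
  obtain ⟨K, h3, h4, h5⟩ := Fus.exists_card_between (A := zpowers v) (B := χ.ker.map P.subtype)
    (p := p) (k := d) (hPp.to_le (map_subtype_le _))
    (zpowers_le.2 ⟨⟨v, hv⟩, hχ _ (mem_zpowers v), rfl⟩)
    (by
      rw [Nat.card_zpowers]
      refine (Nat.le_of_dvd hp.pos (orderOf_dvd_of_pow_eq_one (hP.2 v hv))).trans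
        (Nat.le_self_pow (fun e => h0 (card_eq_one.1 (by rw [hd, e, pow_zero]))) p))
    (by
      rw [card_subtype]
      refine Nat.le_of_mul_le_mul_right (c := p) ?_ hp.pos
      calc p ^ d * p ≤ p ^ n := by rw [← pow_succ]; exact Nat.pow_le_pow_right hp.pos h2
        _ = Nat.card χ.ker * χ.ker.index := by rw [card_mul_index, hn]
        _ ≤ _ := Nat.mul_le_mul_left _ h1)
  obtain ⟨g, hg⟩ := hD p hp U K (hPp.to_le hU.le) (IsPGroup.of_card h5) (hd.trans h5.symm)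
  have h6 : t ∈ 𝐍 K := by
    rw [hg, map_conj_eq_smul, normJ, mem_conj_smul]
    exact hTU (hT.conj_mem' t ht g)
  obtain ⟨y, hy, e⟩ := h4 ((memJ_norm h6).2 (h3 (mem_zpowers v)))
  rwa [show y = ⟨_, hPn.conj_mem v hv t⟩ from Subtype.ext e] at hy

/-- The facts about `Q₈` that are used. -/
structure Q8Data (S : Subgroup G) (i j : G) : Prop where
  hi : i ∈ S
  hj : j ∈ S
  i2 : i ^ 2 ≠ 1
  j2 : j ^ 2 ≠ 1
  ji : ∀ y ∈ S, y * i = i * y → (j * y⁻¹) ^ 2 ≠ 1
  four : ∀ x ∈ S, x ^ 4 = 1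
  gen : ∀ x ∈ S, x ^ 2 ≠ 1 ∨ ∃ a ∈ S, ∃ b ∈ S, a ^ 2 ≠ 1 ∧ b ^ 2 ≠ 1 ∧ x = a * b

omit [Finite G] in
theorem exists_q8Data {S : Subgroup G} (e : S ≃* QuaternionGroup 2) : ∃ i j, Q8Data S i j := by
  have h0 : ∀ (a : QuaternionGroup 2) (n : ℕ), (e.symm a : G) ^ n = 1 ↔ a ^ n = 1 := fun a n => by
    rw [← coe_pow, ← map_pow, OneMemClass.coe_eq_one, MulEquiv.map_eq_one_iff]
  refine ⟨e.symm (.a 1), e.symm (.xa 0), (e.symm _).2, (e.symm _).2, by rw [Ne, h0]; decide,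
    by rw [Ne, h0]; decide, fun y hy h => ?_, fun x hx => ?_, fun x hx => ?_⟩
  · obtain ⟨y, rfl⟩ : ∃ a, (e.symm a : G) = y := ⟨e ⟨y, hy⟩, by simp⟩
    rw [← coe_mul, ← coe_mul, ← map_mul, ← map_mul, Subtype.coe_inj, e.symm.apply_eq_iff_eq] at h
    rw [← coe_inv, ← coe_mul, ← map_inv, ← map_mul, Ne, h0]
    exact (by decide : ∀ y : QuaternionGroup 2, y * .a 1 = .a 1 * y → ¬ (.xa 0 * y⁻¹) ^ 2 = 1) y h
  · obtain ⟨x, rfl⟩ : ∃ a, (e.symm a : G) = x := ⟨e ⟨x, hx⟩, by simp⟩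
    rw [h0]
    exact (by decide : ∀ x : QuaternionGroup 2, x ^ 4 = 1) x
  · obtain ⟨x, rfl⟩ : ∃ a, (e.symm a : G) = x := ⟨e ⟨x, hx⟩, by simp⟩
    have h1 : ∀ x : QuaternionGroup 2, x ^ 2 ≠ 1 ∨ ∃ a b, a ^ 2 ≠ 1 ∧ b ^ 2 ≠ 1 ∧ x = a * b := by
      decide
    refine (h1 x).imp (fun h => by rwa [Ne, h0]) fun ⟨a, b, ha, hb, e'⟩ =>
      ⟨_, (e.symm a).2, _, (e.symm b).2, by rwa [Ne, h0], by rwa [Ne, h0], by
        rw [e', map_mul, coe_mul]⟩

namespace Q8Data

variable {S : Subgroup G} {i j : G}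

omit [Finite G] in
theorem orderOf_eq (h : Q8Data S i j) {x : G} (hx : x ∈ S) (h2 : x ^ 2 ≠ 1) :
    orderOf x = 2 ^ 2 := orderOf_eq_prime_pow (n := 1) h2 (h.four x hx)

omit [Finite G] in
theorem le_of_mem (h : Q8Data S i j) (hD : DG G) {N : Subgroup G} [N.Normal] {x : G} (hx : x ∈ S)
    (h2 : x ^ 2 ≠ 1) (hN : x ∈ N) : S ≤ N := fun y hy => by
  have key : ∀ a ∈ S, a ^ 2 ≠ 1 → a ∈ N := fun a ha h3 =>
    DG_mem_of_normal hD Nat.prime_two (h.orderOf_eq hx h2) (h.orderOf_eq ha h3) hN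
  rcases h.gen y hy with h3 | ⟨a, ha, b, hb, h3, h4, rfl⟩
  · exact key y hy h3
  · exact mul_mem (key a ha h3) (key b hb h4)

omit [Finite G] in
theorem le_ker (h : Q8Data S i j) (hD : DG G) {Γ : Type*} [Group Γ] (θ : G →* Γ)
    (hθ : θ j ∈ zpowers (θ i)) : S ≤ θ.ker := by
  obtain ⟨m, hm⟩ := hθ
  refine h.le_of_mem hD (mul_mem h.hj (inv_mem (zpow_mem h.hi m)))
    (h.ji _ (zpow_mem h.hi m) ((Commute.refl i).zpow_left m)) ?_
  rw [MonoidHom.mem_ker, map_mul, map_inv, map_zpow, ← hm, mul_inv_cancel]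

theorem le_ker_of_isCyclic (h : Q8Data S i j) (hD : DG G) {Γ : Type*} [Group Γ] [Finite Γ]
    (θ : G →* Γ) (hθ : IsCyclic (S.map θ)) : S ≤ θ.ker := by
  obtain ⟨g, m, e⟩ := DG_conj_zpowers hD Nat.prime_two (h.orderOf_eq h.hi h.i2)
    (h.orderOf_eq h.hj h.j2)
  refine h.le_ker hD θ (PG.le_of_card_dvd_of_isCyclic (zpowers_le.2 (mem_map_of_mem θ h.hj))
    (zpowers_le.2 (mem_map_of_mem θ h.hi)) ?_ (mem_zpowers _))
  rw [Nat.card_zpowers, Nat.card_zpowers, ← e, map_mul, map_mul, map_inv, orderJ, map_zpow]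
  exact orderOf_dvd_of_mem_zpowers ⟨m, rfl⟩

theorem le_centralizer [Group.IsSolvable G] {S : Sylow 2 G} (h : Q8Data (S : Subgroup G) i j)
    (hD : DG G) {p : ℕ} (hp : p.Prime) {P U : Subgroup G} [hPn : P.Normal]
    (hP : IsElementaryAbelian p P) (hU : U < P) (h0 : U ≠ ⊥) (hSU : (S : Subgroup G) ≤ 𝐍 U) :
    (S : Subgroup G) ≤ 𝐂 P := by
  let ψ := (MulAut.conjNormal : G →* MulAut P).rangeRestrict
  have hs : Function.Surjective ψ := MonoidHom.rangeRestrict_surjective _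
  have hψ : ψ.ker = 𝐂 P := by
    ext x
    rw [MonoidHom.mem_ker, Subtype.ext_iff, mem_centralizer_iff]
    refine ⟨fun e y hy => ?_, fun e => MulEquiv.ext fun y => Subtype.ext ?_⟩
    · have := congrArg (fun a : MulAut P => (a ⟨y, hy⟩ : G)) e
      exact (mul_inv_eq_iff_eq_mul.1 this).symm
    · exact mul_inv_eq_iff_eq_mul.2 (e y y.2).symm
  have hP0 : P ≠ ⊥ := hU.ne_bot
  have := Group.isSolvable_of_surjective hs
  refine hψ ▸ h.le_ker_of_isCyclic hD ψ ?_
  let F := fittingSubgroup (MulAut.conjNormal : G →* MulAut P).range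
  by_cases hF : IsCyclic F
  · obtain ⟨g, m, e⟩ := DG_conj_zpowers hD Nat.prime_two (h.orderOf_eq h.hi h.i2)
      (h.orderOf_eq h.hj h.j2)
    let θ : G →* MulAut F := MulAut.conjNormal.comp ψ
    have h1 := h.le_ker hD ((IsCyclic.mulAutMulEquiv F).toMonoidHom.comp θ) ⟨m, by
      simp only [← e, map_mul, map_inv, map_zpow, mul_inv_cancel_comm]⟩
    refine cyclicS (K := F) ?_ hF
    rintro _ ⟨s, hs, rfl⟩
    refine centralizer_fitting_le _ (mem_centralizer_iff.2 fun y hy => ?_)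
    have h2 : θ s = 1 := (MulEquiv.map_eq_one_iff (IsCyclic.mulAutMulEquiv F)).1 (h1 hs)
    have := congrArg (fun a : MulAut F => (a ⟨y, hy⟩).1) h2
    exact (mul_inv_eq_iff_eq_mul.1 this).symm
  obtain ⟨r, hr, R, hR⟩ : ∃ r : ℕ, r.Prime ∧ ∃ R : Sylow r F, ¬ IsCyclic R := by
    by_contra! e
    have : IsZGroup F := ⟨e⟩
    exact hF inferInstance
  have := Fact.mk hr
  have := Sylow.characteristic_of_normal R inferInstance
  have hR' : IsPGroup r ((R : Subgroup F).map F.subtype) := R.2.map _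
  have h1 : ¬ IsMulCommutative ((R : Subgroup F).map F.subtype) := fun e => hR (by
    have := DG_isCyclic hD hp hP hP0 ((R : Subgroup F).map F.subtype)
    exact (equivMapOfInjective _ _ F.subtype_injective).isCyclic.2 this)
  obtain rfl : r = 2 := by
    obtain ⟨T, hT⟩ := hR'.exists_le_sylow
    rcases Agent.S4020.result (hD.of_surjective hs) T with h2 | h2 | ⟨⟨e⟩⟩
    · exact absurd (abelianS hT (cyclic_abelian h2)) h1
    · exact absurd (abelianS hT h2.1) h1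
    · obtain ⟨k, hk⟩ := IsPGroup.iff_card.1 T.2
      rw [Nat.card_congr e.toEquiv, Nat.card_eq_fintype_card, QuaternionGroup.card] at hk
      exact ((Nat.prime_dvd_prime_iff_eq Nat.prime_two hr).1
        (Nat.prime_two.dvd_of_dvd_pow (hk ▸ (by norm_num : 2 ∣ 4 * 2)))).symm
  have h2 : (R : Subgroup F).map F.subtype ≤ (S : Subgroup G).map ψ :=
    hR'.le_sylow_of_normal (S.mapSurjective hs)
  obtain ⟨x, hx, hx2⟩ : ∃ x ∈ (R : Subgroup F).map F.subtype, x ^ 2 ≠ 1 := by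
    by_contra! e
    have h3 : ∀ x ∈ (R : Subgroup F).map F.subtype, x⁻¹ = x := fun x hx =>
      inv_eq_of_mul_eq_one_right (by rw [← pow_two]; exact e x hx)
    exact h1 (abelian_of_forall fun x hx y hy => by
      rw [← h3 _ (mul_mem hx hy), mul_inv_rev, h3 x hx, h3 y hy])
  obtain ⟨s, hsS, rfl⟩ := h2 hx
  have h3 : (S : Subgroup G).map ψ = (R : Subgroup F).map F.subtype := le_antisymm
    (map_le_iff_le_comap.2 (h.le_of_mem hD hsS (fun e => hx2 (by rw [← map_pow, e, map_one])) hx)) h2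
  have h4 : ((S : Subgroup G) ⊔ 𝐂 P).Normal := by
    rw [← hψ, ← comap_map_eq, h3]
    infer_instance
  have h5 := fun t (ht : t ∈ (S : Subgroup G)) (v : P) => DG_conj_mem_zpowers hD hp hP hU h0
    (sup_le hSU (cents_norm (centS hU.le))) (mem_sup_left ht) v.2
  refine absurd (h3 ▸ abelian_of_forall ?_) h1
  rintro _ ⟨a, ha, rfl⟩ _ ⟨b, hb, rfl⟩
  refine Subtype.ext (MulEquiv.ext fun v => Subtype.ext ?_)
  obtain ⟨m, hm⟩ := h5 a ha v
  obtain ⟨n, hn⟩ := h5 b hb v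
  change a * (b * v * b⁻¹) * a⁻¹ = b * (a * v * a⁻¹) * b⁻¹
  simp only at hm hn
  rw [← hn, ← conj_zpow, ← hm, ← conj_zpow, ← hn, ← zpow_mul, ← zpow_mul, mul_comm]

end Q8Data

end Cfsg.Lib.Solv
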