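import Cfsg.Agent.Solv.PSolvable
import Cfsg.Agent.Perm.FCStruct

/-!
Solvable groups with one class of involutions (Thompson): general lemmas.
-/

set_option autoImplicit false

namespace Cfsg.Lib.Solv.OneInv

open Subgroup
open scoped commutatorElement

variable {G : Type*} [Group G]

/-- If `x` has odd order, `x d x⁻¹ = w d` with `w` a `2`-element commuting with `x`, then `w = 1`. -/
theorem eq_one_of_conj_eq_mul [Finite G] {x d w : G} (hx : Odd (orderOf x)) (hw : ∃ k, w ^ 2 ^ k = 1)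
    (hc : x * w = w * x) (h : x * d * x⁻¹ = w * d) : w = 1 := by
  have key : ∀ n : ℕ, x ^ n * d * (x ^ n)⁻¹ = w ^ n * d := by
    intro n
    induction n with
    | zero => simp
    | succ n ih =>
      have h1 : x * w ^ n = w ^ n * x := (show Commute x w from hc).pow_right n
      calc x ^ (n + 1) * d * (x ^ (n + 1))⁻¹ = x * (x ^ n * d * (x ^ n)⁻¹) * x⁻¹ := by group
        _ = (x * w ^ n) * d * x⁻¹ := by rw [ih]; group
        _ = w ^ n * (x * d * x⁻¹) := by rw [h1]; group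
        _ = _ := by rw [h]; group
  have h2 := key (orderOf x)
  rw [pow_orderOf_eq_one, one_mul, inv_one, mul_one, eq_comm, mul_eq_right] at h2
  obtain ⟨k, hk⟩ := hw
  have h3 := Nat.dvd_gcd (orderOf_dvd_of_pow_eq_one h2) (orderOf_dvd_of_pow_eq_one hk)
  rwa [(Nat.Coprime.pow_right k (Nat.coprime_two_right.2 hx)).gcd_eq_one, Nat.dvd_one,
    orderOf_eq_one_iff] at h3

theorem eq_one_of_odd_of_two [Finite G] {x : G} (hx : Odd (orderOf x)) (hw : ∃ k, x ^ 2 ^ k = 1) :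
    x = 1 := by
  obtain ⟨k, hk⟩ := hw
  have h3 := Nat.dvd_gcd (dvd_refl (orderOf x)) (orderOf_dvd_of_pow_eq_one hk)
  rwa [(Nat.Coprime.pow_right k (Nat.coprime_two_right.2 hx)).gcd_eq_one, Nat.dvd_one,
    orderOf_eq_one_iff] at h3

theorem pow_two_pow_of_mem {P : Subgroup G} (hP : IsPGroup 2 P) {x : G} (hx : x ∈ P) :
    ∃ k, x ^ 2 ^ k = 1 := by
  obtain ⟨k, hk⟩ := hP ⟨x, hx⟩
  exact ⟨k, congrArg Subtype.val hk⟩

/-- Fibres of equal size. -/
theorem card_eq_mul_fiber {X T : Type*} [Finite X] [Finite T] (f : X → T) (t₀ : T)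
    (h : ∀ t, ∃ e : X ≃ X, ∀ x, f x = t₀ ↔ f (e x) = t) :
    Nat.card X = Nat.card T * Nat.card {x // f x = t₀} := by
  rw [← Nat.card_congr (Equiv.sigmaFiberEquiv f)]
  have := Fintype.ofFinite T
  rw [Nat.card_sigma, Finset.sum_congr rfl (g := fun _ => Nat.card {x // f x = t₀}) fun t _ => ?_]
  · simp
  · obtain ⟨e, he⟩ := h t
    exact (Nat.card_congr (e.subtypeEquiv he)).symm

theorem sum_mul_hom {D : Type*} [Group D] [Fintype D] (φ : D → ℂ)
    (h : ∀ a b, φ (a * b) = φ a * φ b) :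
    (∀ a, φ a = 1) ∨ ∑ a, φ a = 0 := by
  by_cases ha : ∀ a, φ a = 1
  · exact Or.inl ha
  right
  push Not at ha
  obtain ⟨a, ha⟩ := ha
  have h2 : ∑ b, φ (a * b) = ∑ b, φ b := Fintype.sum_equiv (Equiv.mulLeft a) _ _ fun _ => rfl
  simp only [h, ← Finset.mul_sum] at h2
  have : (φ a - 1) * ∑ b, φ b = 0 := by linear_combination h2
  exact (mul_eq_zero.1 this).resolve_left (sub_ne_zero.2 ha)

/-- The square of a "quadratic character sum". -/
theorem sq_sum {D : Type*} [Group D] [Fintype D] (f : D → ℂ) (b : D → D → ℂ) (R : Subgroup D)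
    (hf : ∀ d, f d * f d = 1) (hfb : ∀ d e, f (d * e) = f d * f e * b e d)
    (hb : ∀ e c d, b e (c * d) = b e c * b e d)
    (hR : ∀ e, e ∈ R ↔ ∀ d, b e d = 1) :
    ∑ d, f d = 0 ∨ (∑ d, f d) ^ 2 = Nat.card D * Nat.card R := by
  classical
  have h1 : (∑ d, f d) ^ 2 = ∑ e, f e * ∑ d, b e d := by
    rw [pow_two, Finset.sum_mul_sum]
    simp only [Finset.mul_sum]
    rw [Finset.sum_comm (f := fun e d => f e * b e d)]
    refine Finset.sum_congr rfl fun d _ => ?_
    rw [← Fintype.sum_equiv (Equiv.mulLeft d) (fun e => f d * f (d * e)) _ fun _ => rfl]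
    refine Finset.sum_congr rfl fun e _ => ?_
    rw [hfb]
    linear_combination (f e * b e d) * hf d
  have h2 : ∀ e, f e * ∑ d, b e d = if e ∈ R then f e * Nat.card D else 0 := fun e => by
    split_ifs with he
    · simp [(hR e).1 he]
    · rw [(sum_mul_hom (b e) (hb e)).resolve_left (fun h => he ((hR e).2 h)), mul_zero]
  simp only [h2] at h1
  rw [← Finset.sum_filter, ← Finset.sum_mul, Finset.sum_subtype (p := fun e => e ∈ R)
    (Finset.univ.filter fun e => e ∈ R) (by simp)] at h1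
  rcases sum_mul_hom (fun e : R => f e) (fun a c => by
    simp only [coe_mul, hfb, (hR c).1 c.2 a, mul_one]) with h3 | h3
  · right
    rw [h1]
    simp [h3, mul_comm]
  · left
    rw [h3, zero_mul] at h1
    exact pow_eq_zero_iff two_ne_zero |>.1 h1

theorem numeric {n a m : ℕ} (hn : 2 ≤ n) (h : 2 ^ n + (2 ^ n - 1) * (2 ^ n + 2 ^ a) = 2 ^ m) :
    a = 2 * n := by
  have h0 : 1 ≤ 2 ^ n := Nat.one_le_two_pow
  have h1 : 2 ^ n * 2 ^ n + 2 ^ n * 2 ^ a = 2 ^ m + 2 ^ a := by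
    obtain ⟨k, hk⟩ : ∃ k, 2 ^ n = k + 1 := ⟨2 ^ n - 1, by omega⟩
    rw [← h, hk]; simp; ring
  rw [← pow_add, ← pow_add] at h1
  have key : ∀ {u v w : ℕ}, Odd w → 2 ^ u * w = 2 ^ v → w = 1 := fun {u v w} hw e => by
    have : w ∣ 2 ^ v := ⟨2 ^ u, by rw [← e, mul_comm]⟩
    exact Nat.Coprime.eq_one_of_dvd (Nat.Coprime.pow_right v (Nat.coprime_two_right.2 hw)) this
  rcases lt_trichotomy a (2 * n) with h2 | h2 | h2
  · exfalso
    obtain ⟨c, hc⟩ : ∃ c, n + n = a + (c + 1) := ⟨2 * n - a - 1, by omega⟩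
    obtain ⟨n', rfl⟩ : ∃ k, n = k + 2 := ⟨n - 2, by omega⟩
    have h3 : 2 ^ a * (2 * (2 ^ c + 2 ^ (n' + 1) - 1) + 1) = 2 ^ m := by
      have : 1 ≤ 2 ^ c := Nat.one_le_two_pow
      obtain ⟨k, hk⟩ : ∃ k, 2 ^ c = k + 1 := ⟨2 ^ c - 1, by omega⟩
      have e1 : 2 ^ (a + (c + 1)) = 2 ^ a * ((k + 1) * 2) := by rw [← hk]; ring
      have e2 : 2 ^ (n' + 2 + a) = 2 ^ a * (2 * 2 ^ (n' + 1)) := by ring
      rw [hc, e1, e2] at h1
      rw [hk, show k + 1 + 2 ^ (n' + 1) - 1 = k + 2 ^ (n' + 1) by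
        rw [Nat.add_right_comm, Nat.add_sub_cancel]]
      nlinarith
    have h4 := key ⟨_, rfl⟩ h3
    have : 1 ≤ 2 ^ c := Nat.one_le_two_pow
    have : 1 ≤ 2 ^ n' := Nat.one_le_two_pow
    rw [pow_succ] at h4
    omega
  · exact h2
  · exfalso
    obtain ⟨c, rfl⟩ : ∃ c, a = n + n + (c + 1) := ⟨a - 2 * n - 1, by omega⟩
    obtain ⟨k, hk⟩ : ∃ k, 2 ^ n = k + 1 := ⟨2 ^ n - 1, by omega⟩
    have h3 : 2 ^ (n + n) * (2 * (k * 2 ^ c) + 1) = 2 ^ m := by
      have e1 : 2 ^ (n + (n + n + (c + 1))) = (k + 1) * (2 ^ (n + n) * (2 ^ c * 2)) := by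
        rw [← hk]; ring
      have e2 : 2 ^ (n + n + (c + 1)) = 2 ^ (n + n) * (2 ^ c * 2) := by ring
      rw [e1, e2] at h1
      nlinarith
    have h4 := key ⟨_, rfl⟩ h3
    have : 1 ≤ 2 ^ c := Nat.one_le_two_pow
    have : 2 ^ 2 ≤ 2 ^ n := Nat.pow_le_pow_right two_pos hn
    have : 1 ≤ k := by omega
    nlinarith

/-- An abelian `2`-group whose involutions are permuted transitively by automorphisms is
homocyclic. -/
theorem homocyclic {S : Type*} [Group S] [Finite S] (hS : IsPGroup 2 S) [IsMulCommutative S]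
    (h : ∀ x y : S, x ≠ 1 → x ^ 2 = 1 → y ≠ 1 → y ^ 2 = 1 → ∃ a : MulAut S, a x = y) :
    ∃ m r : ℕ, Nonempty (S ≃* (Fin r → Multiplicative (ZMod (2 ^ m)))) := by
  classical
  let _ : CommGroup S := ⟨mul_comm'⟩
  obtain ⟨ι, _, n, hn, ⟨e⟩⟩ := CommGroup.equiv_prod_multiplicative_zmod_of_finite S
  have ho : ∀ i, ∃ k, n i = 2 ^ (k + 1) := fun i => by
    have h1 : orderOf (e.symm (Pi.mulSingle i (Multiplicative.ofAdd (1 : ZMod (n i))))) = n i := by
      rw [MulEquiv.orderOf_eq, orderOf_piMulSingle, orderOf_ofAdd_eq_addOrderOf,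
        ZMod.addOrderOf_one]
    obtain ⟨k, hk⟩ := IsPGroup.iff_orderOf.1 hS
      (e.symm (Pi.mulSingle i (Multiplicative.ofAdd (1 : ZMod (n i)))))
    rw [h1] at hk
    rcases k with _ | k
    · have := hn i; omega
    · exact ⟨k, hk⟩
  choose k hk using ho
  let z : ι → S := fun i =>
    e.symm (Pi.mulSingle i (Multiplicative.ofAdd (1 : ZMod (n i)))) ^ 2 ^ k i
  have hz0 : ∀ i, e (z i) i ≠ 1 := fun i h1 => by
    simp only [z, map_pow, MulEquiv.apply_symm_apply, Pi.pow_apply, Pi.mulSingle_eq_same] at h1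
    have := orderOf_dvd_of_pow_eq_one h1
    rw [orderOf_ofAdd_eq_addOrderOf, ZMod.addOrderOf_one, hk,
      Nat.pow_dvd_pow_iff_le_right one_lt_two] at this
    omega
  have hz1 : ∀ i, z i ≠ 1 := fun i h1 => hz0 i (by simp [h1])
  have hz2 : ∀ i, z i ^ 2 = 1 := fun i => by
    simp only [z]
    rw [← pow_mul, ← pow_succ, ← hk, ← map_pow, ← Pi.mulSingle_pow, ← ofAdd_nsmul]
    simp
  have hle : ∀ i j, k j ≤ k i := fun i j => by
    by_contra hlt
    obtain ⟨a, ha⟩ := h (z j) (z i) (hz1 j) (hz2 j) (hz1 i) (hz2 i)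
    refine hz0 i ?_
    obtain ⟨c, hc⟩ : ∃ c, k j = k i + 1 + c := ⟨k j - k i - 1, by omega⟩
    rw [← ha]
    simp only [z, map_pow, Pi.pow_apply]
    rw [hc, pow_add, ← hk, pow_mul]
    have : ∀ y : Multiplicative (ZMod (n i)), y ^ n i = 1 := fun y => by
      rw [← ofAdd_toAdd y, ← ofAdd_nsmul]; simp
    rw [this, one_pow]
  by_cases hι : Nonempty ι
  · obtain ⟨i₀⟩ := hι
    have h2 : n = fun _ => 2 ^ (k i₀ + 1) := funext fun i => by
      rw [hk, le_antisymm (hle i₀ i) (hle i i₀)]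
    subst h2
    exact ⟨k i₀ + 1, Fintype.card ι, ⟨e.trans (MulEquiv.arrowCongr (Fintype.equivFin ι)
      (MulEquiv.refl _))⟩⟩
  · have : IsEmpty ι := not_nonempty_iff.1 hι
    have : Unique S := (e.toEquiv.unique)
    exact ⟨0, 0, ⟨MulEquiv.ofUnique⟩⟩

/-- A solvable group with trivial `O₂` and a normal subgroup `H` whose odd Sylow subgroups are
cyclic has an abelian quotient in which a given non-trivial `2`-element of `H` survives. -/
theorem exists_abelian_quotient {Γ : Type*} [Group Γ] [Finite Γ] [Group.IsSolvable Γ]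
    (H : Subgroup Γ) [H.Normal]
    (h2 : ∀ P : Subgroup Γ, P.Normal → IsPGroup 2 P → P = ⊥)
    (hc : ∀ p : ℕ, p.Prime → p ≠ 2 → ∀ P : Subgroup Γ, P ≤ H → IsPGroup p P → IsCyclic P)
    {s : Γ} (hs : s ∈ H) (hs1 : s ≠ 1) (hs2 : ∃ k, s ^ 2 ^ k = 1) :
    ∃ K : Subgroup Γ, K.Normal ∧ (∀ a b : Γ, ⁅a, b⁆ ∈ K) ∧ s ∉ K := by
  let F := (fittingSubgroup H).map H.subtype
  have hFn : F.Normal := inferInstance
  have hFnil : Group.IsNilpotent F := (isNilpotent_map_subtype_iff _).2 inferInstance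
  have hF2 : ∀ P : Sylow 2 F, (P : Subgroup F) = ⊥ := fun P => by
    have := Sylow.characteristic_of_normal P inferInstance
    have h3 := h2 ((P : Subgroup F).map F.subtype) inferInstance (P.2.map _)
    exact (map_eq_bot_iff_of_injective _ F.subtype_injective).1 h3
  have hZ : IsZGroup F := ⟨fun p hp P => by
    by_cases hp2 : p = 2
    · subst hp2
      rw [hF2 P]; infer_instance
    · have := hc p hp hp2 ((P : Subgroup F).map F.subtype)
        ((map_subtype_le _).trans (map_subtype_le _)) (P.2.map _)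
      exact (equivMapOfInjective _ _ F.subtype_injective).isCyclic.2 this⟩
  have hcyc : IsCyclic F := inferInstance
  refine ⟨(MulAut.conjNormal : Γ →* MulAut F).ker, inferInstance, fun a b => ?_, fun hK => ?_⟩
  · rw [MonoidHom.mem_ker, map_commutatorElement, commutatorElement_eq_one_iff_mul_comm]
    apply (IsCyclic.mulAutMulEquiv F).injective
    rw [map_mul, map_mul, mul_comm]
  · have h3 : (⟨s, hs⟩ : H) ∈ fittingSubgroup H := by
      refine centralizer_fitting_le H (mem_centralizer_iff.2 fun y hy => Subtype.ext ?_)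
      have := congrArg (fun a : MulAut F => (a ⟨y, mem_map_of_mem _ hy⟩ : Γ)) hK
      simp only [MulAut.conjNormal_apply, MulAut.one_apply] at this
      simpa using (mul_inv_eq_iff_eq_mul.1 this).symm
    have h4 : s ∈ F := mem_map_of_mem H.subtype h3
    obtain ⟨k, hk⟩ := hs2
    have h5 : IsPGroup 2 (zpowers (⟨s, h4⟩ : F)) := by
      rintro ⟨_, j, rfl⟩
      refine ⟨k, Subtype.ext (Subtype.ext ?_)⟩
      change (s ^ j) ^ 2 ^ k = 1
      rw [← zpow_natCast, ← zpow_mul, mul_comm, zpow_mul, zpow_natCast, hk, one_zpow]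
    obtain ⟨P, hP⟩ := h5.exists_le_sylow
    have := hP (mem_zpowers _)
    rw [hF2 P, mem_bot] at this
    exact hs1 (congrArg Subtype.val this)

end Cfsg.Lib.Solv.OneInv
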