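import Cfsg.Agent.Solv.BGrp2
import Cfsg.Agent.Solv.OneInvA
import Cfsg.Agent.Solv.CardModEq
import Cfsg.Agent.WalCor.DGrp2

/-!
Solvable groups with a normal elementary abelian Sylow subgroup whose subgroups of the same order
are conjugate.
-/

set_option autoImplicit false

namespace Cfsg.Lib.Solv

open Subgroup Cfsg.Lib.FT Cfsg.Lib.WalCor Cfsg.Lib.Known Pointwise

variable {G : Type*} [Group G] [Finite G]

/-- Subgroups of `V` of the same order are conjugate. -/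
def ConjSub (V : Subgroup G) : Prop :=
  ∀ A B : Subgroup G, A ≤ V → B ≤ V → Nat.card A = Nat.card B → ∃ g : G, B = g •ᶜ A

theorem card_indep_pairs {p : ℕ} [hp : Fact p.Prime] {U : Subgroup G} (hU : ∀ x ∈ U, x ^ p = 1) :
    Nat.card {x : G × G // x.1 ∈ U ∧ x.2 ∈ U ∧ x.1 ≠ 1 ∧ x.2 ∉ zpowers x.1} =
      (Nat.card U - 1) * (Nat.card U - p) := by
  classical
  have := Fintype.ofFinite G
  let e : {x : G × G // x.1 ∈ U ∧ x.2 ∈ U ∧ x.1 ≠ 1 ∧ x.2 ∉ zpowers x.1} ≃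
      Σ v : {v : U // v ≠ 1}, {w : U // ¬ w ∈ zpowers v.1} :=
    ⟨fun x => ⟨⟨⟨x.1.1, x.2.1⟩, fun e => x.2.2.2.1 (congrArg Subtype.val e)⟩, ⟨x.1.2, x.2.2.1⟩,
        fun ⟨k, e⟩ => x.2.2.2.2 ⟨k, congrArg Subtype.val e⟩⟩,
      fun y => ⟨(y.1.1, y.2.1), y.1.1.2, y.2.1.2, fun e => y.1.2 (Subtype.ext e),
        fun ⟨k, e⟩ => y.2.2 ⟨k, Subtype.ext e⟩⟩, fun _ => rfl, fun _ => rfl⟩
  rw [Nat.card_congr e, Nat.card_sigma, Finset.sum_congr rfl (g := fun _ => Nat.card U - p)]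
  · simp [Fintype.card_subtype_compl]
  · intro v _
    rw [Nat.card_eq_fintype_card, Fintype.card_subtype_compl, ← Nat.card_eq_fintype_card,
      ← Nat.card_eq_fintype_card]
    congr 1
    exact (Nat.card_zpowers v.1).trans (orderOf_eq_prime (Subtype.ext (hU _ v.1.2)) v.2)

theorem ConjSub.dvd_card {V : Subgroup G} [hn : V.Normal] (h : ConjSub V)
    (hV : IsElementaryAbelian 3 V) (hc : Nat.card V = 81) : 130 ∣ Nat.card G := by
  have := Fact.mk Nat.prime_three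
  let S := {U : Subgroup G // U ≤ V ∧ Nat.card U = 9}
  have hp : IsPGroup 3 V := IsPGroup.of_card (n := 4) hc
  obtain ⟨U₀, h0, h1⟩ := exists_le_card_pow (n := 2) hp (by rw [hc]; norm_num)
  let t₀ : S := ⟨U₀, h0, h1⟩
  have hJ : ∀ (g : G) (U : Subgroup G), U ≤ V → g •ᶜ U ≤ V := fun g U hU =>
    conj_sub_norm (le_normalizer_of_normal (mem_top g)) hU
  have h2 := OneInv.card_eq_mul_fiber
    (fun g : G => (⟨g •ᶜ U₀, hJ g _ h0, (card_conj_smul g U₀).trans h1⟩ : S)) t₀ fun t => by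
      obtain ⟨k, hk⟩ := h U₀ t.1 h0 t.2.1 (h1.trans t.2.2.symm)
      refine ⟨Equiv.mulLeft k, fun g => ?_⟩
      simp only [Subtype.ext_iff, Equiv.coe_mulLeft, conj_mul_smul, hk, conjsg_inj, t₀]
  have h3 : ∀ x : G × G, x.1 ∈ V → x.2 ∈ V → x.1 ≠ 1 → x.2 ∉ zpowers x.1 →
      Nat.card (zpowers x.1 ⊔ zpowers x.2 : Subgroup G) = 9 := fun x a b c d =>
    card_pnElem (pnElem_sup_zpowers (p1Elem_zpowers a (orderOf_eq_prime (hV.2 _ a) c)) b
      (abelian_le_cent hV.1 |>.trans (centS (zpowers_le.2 a)) b) (hV.2 _ b) d)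
  let P := {x : G × G // x.1 ∈ V ∧ x.2 ∈ V ∧ x.1 ≠ 1 ∧ x.2 ∉ zpowers x.1}
  let f : P → S := fun x => ⟨zpowers x.1.1 ⊔ zpowers x.1.2,
    sup_le (zpowers_le.2 x.2.1) (zpowers_le.2 x.2.2.1), h3 _ x.2.1 x.2.2.1 x.2.2.2.1 x.2.2.2.2⟩
  have h4 := OneInv.card_eq_mul_fiber f t₀ fun t => by
    obtain ⟨k, hk⟩ := h U₀ t.1 h0 t.2.1 (h1.trans t.2.2.symm)
    refine ⟨((MulAut.conj k).toEquiv.prodCongr (MulAut.conj k).toEquiv).subtypeEquiv fun x => ?_,
      fun x => ?_⟩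
    · change _ ↔ k * x.1 * k⁻¹ ∈ V ∧ k * x.2 * k⁻¹ ∈ V ∧ k * x.1 * k⁻¹ ≠ 1 ∧
        k * x.2 * k⁻¹ ∉ zpowers (k * x.1 * k⁻¹)
      rw [memJ_norm (le_normalizer_of_normal (mem_top k)),
        memJ_norm (le_normalizer_of_normal (mem_top k)), Ne, Ne, conjg_eq1, ← conj_smul_zpowers,
        conj_mem_conj_smul_iff]
    · rw [Subtype.ext_iff, Subtype.ext_iff, hk]
      change zpowers x.1.1 ⊔ zpowers x.1.2 = U₀ ↔
        zpowers (k * x.1.1 * k⁻¹) ⊔ zpowers (k * x.1.2 * k⁻¹) = _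
      rw [← conj_smul_zpowers, ← conj_smul_zpowers, ← conjYg, conjsg_inj]
  have h5 : Nat.card {x // f x = t₀} =
      Nat.card {x : G × G // x.1 ∈ U₀ ∧ x.2 ∈ U₀ ∧ x.1 ≠ 1 ∧ x.2 ∉ zpowers x.1} :=
    Nat.card_congr ⟨fun x => ⟨x.1.1, (congrArg Subtype.val x.2).le (mem_sup_left (mem_zpowers _)),
        (congrArg Subtype.val x.2).le (mem_sup_right (mem_zpowers _)), x.1.2.2.2⟩,
      fun x => ⟨⟨x.1, h0 x.2.1, h0 x.2.2.1, x.2.2.2⟩, Subtype.ext (eq_of_le_of_card_ge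
        (sup_le (zpowers_le.2 x.2.1) (zpowers_le.2 x.2.2.1))
        (h1.trans (h3 _ (h0 x.2.1) (h0 x.2.2.1) x.2.2.2.1 x.2.2.2.2).symm).le)⟩,
      fun _ => rfl, fun _ => rfl⟩
  rw [h5, card_indep_pairs (p := 3) hV.2, card_indep_pairs (p := 3) fun x hx => hV.2 x (h0 hx),
    hc, h1] at h4
  exact ⟨_, by rw [h2, show Nat.card S = 130 by omega]⟩

theorem ConjSub.ne_81 [Group.IsSolvable G] {V : Subgroup G} [hn : V.Normal] (h : ConjSub V)
    (hV : IsElementaryAbelian 3 V) (hC : 𝐂 V ≤ V) : Nat.card V ≠ 81 := fun hc => by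
  have := Fact.mk Nat.prime_three
  have h5 : Fact (Nat.Prime 5) := ⟨by norm_num⟩
  have h13 : Fact (Nat.Prime 13) := ⟨by norm_num⟩
  have hp : IsPGroup 3 V := IsPGroup.of_card (n := 4) hc
  have hd := h.dvd_card hV hc
  have hfix : ∀ (r : ℕ) [Fact r.Prime], r ≠ 3 → ∀ R : Subgroup G, IsPGroup r R → R ≠ ⊥ →
      ∃ k < 4, Nat.card (V ⊓ 𝐂 R : Subgroup G) = 3 ^ k ∧ 81 ≡ 3 ^ k [MOD r] := by
    intro r _ hr R hR h0
    obtain ⟨k, hk, e⟩ := (Nat.dvd_prime_pow Nat.prime_three (m := 4)).1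
      (show Nat.card (V ⊓ 𝐂 R : Subgroup G) ∣ 3 ^ 4 from (card_dvd_of_le inf_le_left).trans hc.dvd)
    refine ⟨k, lt_of_le_of_ne hk fun e' => h0 ?_, e,
      hc ▸ e ▸ card_modEq_card_inf_centralizer hR le_normalizer_of_normal⟩
    have h1 : V ⊓ 𝐂 R = V := eq_of_le_of_card_ge inf_le_left (by rw [e, e', hc]; rfl)
    exact (IsPGroup.disjoint_of_ne r 3 hr R V hR hp).eq_bot_of_le
      ((centsC.1 (h1.ge.trans inf_le_right)).trans hC)
  have key : ∀ R S : Subgroup G, IsPGroup 13 R → R ≠ ⊥ → IsPGroup 5 S → S ≠ ⊥ → ¬ S ≤ 𝐍 R := by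
    intro R S hR hR0 hS hS0 hn
    obtain ⟨k, hk, h1, h2⟩ := hfix 13 (by norm_num) R hR hR0
    obtain ⟨l, hl, h3, h4⟩ := hfix 5 (by norm_num) S hS hS0
    have h6 := card_modEq_card_inf_centralizer hS
      (norms_subcent (le_normalizer_of_normal (H := V)) hn)
    have h7 := card_dvd_of_le (inf_le_inf_right (𝐂 S) (inf_le_left : V ⊓ 𝐂 R ≤ V))
    obtain rfl : l = 0 := by
      unfold Nat.ModEq at h4
      interval_cases l <;> omega
    rw [h3, pow_zero, Nat.dvd_one] at h7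
    rw [h1, h7] at h6
    unfold Nat.ModEq at h2 h6
    interval_cases k <;> omega
  obtain ⟨Y, hY⟩ := Hall_exists (M := (⊤ : Subgroup G)) {5, 13} inferInstance
  have hr : ∀ (r : ℕ) [Fact r.Prime], r ∈ ({5, 13} : Set ℕ) → r ∣ 130 →
      ∃ x ∈ Y, Nat.card (zpowers x) = r := fun r hr h1 h2 => by
    have h3 := h2.trans hd
    rw [← Y.card_mul_index] at h3
    obtain ⟨x, hx⟩ := exists_prime_orderOf_dvd_card' (G := Y) r
      ((hr.out.dvd_mul.1 h3).resolve_right fun e => hY.2.2 r hr.out h1 (by rwa [relIndex_top_right]))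
    exact ⟨x, x.2, by rw [Nat.card_zpowers, orderOf_coe, hx]⟩
  obtain ⟨y, hy, hy5⟩ := hr 5 (by simp) (by norm_num)
  obtain ⟨x, hx, hx13⟩ := hr 13 (by simp) (by norm_num)
  have hx0 : zpowers x ≠ ⊥ := fun e => by simp [e] at hx13
  have hy0 : zpowers y ≠ ⊥ := fun e => by simp [e] at hy5
  have : Nontrivial Y := (nontrivial_iff_ne_bot Y).2 fun e => hx0 (le_bot_iff.1 (e ▸ zpowers_le.2 hx))
  obtain ⟨r, M, hr, hM, -, -, hMr⟩ := exists_isMinNormal_elementary Y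
  have := Fact.mk hr
  have hM0 : M.map Y.subtype ≠ ⊥ := fun e =>
    hM.ne_bot ((map_eq_bot_iff_of_injective _ Y.subtype_injective).1 e)
  have hMn := normal_map_subtype M hM.normal
  rcases hY.2.1 r hr ((pgroup_dvd_card hMr hM.ne_bot).trans (card_subgroup_dvd_card M)) with rfl | rfl
  · obtain ⟨k, hk⟩ := IsPGroup.iff_card.1 (hMr.map Y.subtype)
    have hE : ElemAb 3 V := ElemAb.of_isElementaryAbelian hV
    have h1 : Nat.card G ∣ 81 * Nat.card (MulAut V) := by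
      rw [← V.card_mul_index, hc]
      refine Nat.mul_dvd_mul_left _ ((index_dvd_of_le (H := (MulAut.conjNormal : G →* MulAut V).ker)
        fun g hg => hC fun v hv => ?_).trans ?_)
      · have := congrArg (fun a : MulAut V => (a ⟨v, hv⟩ : G)) hg
        exact (mul_inv_eq_iff_eq_mul.1 this).symm
      · rw [index_ker]; exact card_subgroup_dvd_card _
    rw [Vec.card_mulAut (p := 3) (n := 4) hc] at h1
    have h2 : k ≤ 1 := by
      by_contra h3
      have := ((pow_dvd_pow 5 (by omega : 2 ≤ k)).trans (hk ▸ card_subgroup_dvd_card _)).trans h1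
      revert this
      decide
    have h3 := card_modEq_card_inf_centralizer (IsPGroup.of_card (p := 13) (n := 1) hx13)
      ((zpowers_le.2 hx).trans hMn.2)
    obtain ⟨l, hl, h4⟩ := (Nat.dvd_prime_pow hr).1
      (hk ▸ card_dvd_of_le (inf_le_left : M.map Y.subtype ⊓ 𝐂 (zpowers x) ≤ _))
    have h6 : M.map Y.subtype ⊓ 𝐂 (zpowers x) = M.map Y.subtype :=
      eq_of_le_of_card_ge inf_le_left (by
        rw [hk, h4] at h3 ⊢
        unfold Nat.ModEq at h3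
        interval_cases k <;> interval_cases l <;> omega)
    exact key _ _ (IsPGroup.of_card (p := 13) (n := 1) hx13) hx0 (hMr.map _) hM0
      (cents_norm (h6.ge.trans inf_le_right))
  · exact key _ _ (hMr.map _) hM0 (IsPGroup.of_card (p := 5) (n := 1) hy5) hy0 ((zpowers_le.2 hy).trans hMn.2)

end Cfsg.Lib.Solv
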