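import Cfsg.Prelude.Def_TwoFusion
import Cfsg.Agent.Solv.CoprimeSylow
import Cfsg.Agent.Solv.SylowNumber
import Cfsg.Agent.Solv.PGroupNormal
import Cfsg.Agent.Solv.ClassSize

/-! If a Sylow 2-subgroup `T` has exponent dividing `2 m`, the `m`-th powers of the central elements
of `T` form a strongly closed subgroup. -/

set_option autoImplicit false

namespace Cfsg.Lib.Solv

open Subgroup
open scoped Pointwise

variable {G : Type*} [Group G]

/-- The `m`-th powers of the central elements of `T`. -/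
def centerPow (m : ℕ) (T : Subgroup G) : Subgroup G where
  carrier := {y | ∃ z ∈ T, z ∈ centralizer (T : Set G) ∧ z ^ m = y}
  one_mem' := ⟨1, T.one_mem, Subgroup.one_mem _, one_pow m⟩
  mul_mem' := by
    rintro _ _ ⟨a, ha, ha', rfl⟩ ⟨b, hb, hb', rfl⟩
    exact ⟨a * b, T.mul_mem ha hb, Subgroup.mul_mem _ ha' hb',
      Commute.mul_pow (hb' a ha) m⟩
  inv_mem' := by
    rintro _ ⟨a, ha, ha', rfl⟩
    exact ⟨a⁻¹, T.inv_mem ha, Subgroup.inv_mem _ ha', inv_pow a m⟩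

theorem centerPow_le (m : ℕ) (T : Subgroup G) : centerPow m T ≤ T ⊓ centralizer (T : Set G) := by
  rintro _ ⟨a, ha, ha', rfl⟩
  exact ⟨T.pow_mem ha m, Subgroup.pow_mem _ ha' m⟩

theorem conj_mem_centerPow {m : ℕ} {T : Subgroup G} {y : G} (hy : y ∈ centerPow m T) (g : G) :
    g * y * g⁻¹ ∈ centerPow m (MulAut.conj g • T) := by
  obtain ⟨a, ha, ha', rfl⟩ := hy
  refine ⟨g * a * g⁻¹, conj_mem_conj_smul g ha, ?_, conj_pow⟩
  rw [← conj_smul_centralizer]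
  exact conj_mem_conj_smul g ha'

theorem not_dvd_relIndex_inf_of_le_normalizer [Finite G] {p : ℕ} {S K M : Subgroup G} (hSM : S ≤ M)
    (hKM : K ≤ M) (hn : S ≤ normalizer (K : Set G)) (hi : ¬ p ∣ S.relIndex M) :
    ¬ p ∣ (S ⊓ K).relIndex K := by
  rw [inf_relIndex_right, ← relIndex_sup_of_le_normalizer hn]
  intro h
  apply hi
  rw [← relIndex_mul_relIndex S (S ⊔ K) M le_sup_left (sup_le hSM hKM)]
  exact h.mul_right _

theorem exists_mem_pow_mem_of_lt [Finite G] {p : ℕ} [Fact p.Prime] {U S : Subgroup G}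
    (hS : IsPGroup p S) (h : U < S) : ∃ t ∈ S, t ∉ U ∧ t ^ p ∈ U := by
  obtain ⟨x, hxS, hxU⟩ := SetLike.exists_of_lt h
  obtain ⟨k, hk⟩ := hS ⟨x, hxS⟩
  have hk' : x ^ p ^ k ∈ U := by
    rw [show x ^ p ^ k = 1 from congrArg Subtype.val hk]; exact U.one_mem
  clear hk
  induction k with
  | zero => exact absurd (by simpa using hk') hxU
  | succ k ih =>
    by_cases h1 : x ^ p ^ k ∈ U
    · exact ih h1
    · exact ⟨x ^ p ^ k, S.pow_mem hxS _, h1, by rwa [← pow_mul, ← pow_succ]⟩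

theorem mem_centerPow_of_le [Finite G] {m : ℕ}
    (hexp : ∀ T : Sylow 2 G, ∀ x ∈ (T : Subgroup G), x ^ (2 * m) = 1) (U : Subgroup G) :
    ∀ T T' : Sylow 2 G, U ≤ T → U ≤ T' → ∀ y ∈ U, y ∈ centerPow m (T : Subgroup G) →
      y ∈ centerPow m (T' : Subgroup G) := by
  induction U using WellFoundedGT.induction with
  | _ U ih =>
  intro T T' hT hT' y hyU hy
  by_cases h1 : U = T
  · rwa [show T' = T from Sylow.ext (T.is_maximal' T'.isPGroup' (h1 ▸ hT'))]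
  by_cases h2 : U = T'
  · rwa [show T' = T from (Sylow.ext (T'.is_maximal' T.isPGroup' (h2 ▸ hT))).symm]
  have hN := PG.lt_inf_normalizer T.isPGroup' (lt_of_le_of_ne hT h1)
  have hN' := PG.lt_inf_normalizer T'.isPGroup' (lt_of_le_of_ne hT' h2)
  obtain ⟨M, hM⟩ : ∃ M, M = normalizer (U : Set G) := ⟨_, rfl⟩
  rw [← hM] at hN hN'
  obtain ⟨S, hS1, hSM, hS, hSi⟩ := Coprime.exists_le_sylow_ambient
    (inf_le_right : (T : Subgroup G) ⊓ M ≤ M) T.isPGroup'.to_inf_left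
  obtain ⟨S', hS1', hSM', hS', hSi'⟩ := Coprime.exists_le_sylow_ambient
    (inf_le_right : (T' : Subgroup G) ⊓ M ≤ M) T'.isPGroup'.to_inf_left
  obtain ⟨a, haM, ha⟩ := Coprime.exists_conj_eq_of_sylow hSM hS hSi hSM' hS' hSi'
  obtain ⟨Q, hQ⟩ := hS.exists_le_sylow
  have hyQ := ih _ hN T Q inf_le_left (hS1.trans hQ) y (hN.le hyU) hy
  refine ih _ hN' (a • Q) T' (hS1'.trans (ha ▸ conj_smul_mono a hQ)) inf_le_left y (hN'.le hyU) ?_
  have hUS : U < S := hN.trans_le hS1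
  have hconj : ∀ b ∈ M, ∀ u ∈ U, b * u * b⁻¹ ∈ U := fun b hb u hu =>
    conj_mem_of_mem_normalizer (hM ▸ hb) hu
  have hcent : ∀ b ∈ M, ∀ z ∈ centralizer (U : Set G), b * z * b⁻¹ ∈ centralizer (U : Set G) :=
    fun b hb z hz => conj_mem_of_mem_normalizer
      (normalizer_le_normalizer_centralizer U (hM ▸ hb)) hz
  have hyc : y ∈ centralizer (U : Set G) := fun u hu =>
    (centerPow_le m _ hyQ).2 u (hQ (hUS.le hu))
  obtain ⟨W, hW⟩ : ∃ W : Set G, W = {w | ∃ b ∈ M, b * y * b⁻¹ = w} := ⟨_, rfl⟩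
  obtain ⟨K, hK⟩ : ∃ K, K = M ⊓ centralizer W := ⟨_, rfl⟩
  have hKM : K ≤ M := hK ▸ inf_le_left
  have hMK : M ≤ normalizer (K : Set G) := by
    intro b hb
    refine mem_normalizer_of_conj_mem fun k hk => ?_
    rw [hK] at hk ⊢
    refine ⟨M.mul_mem (M.mul_mem hb hk.1) (M.inv_mem hb), ?_⟩
    rw [hW] at hk ⊢
    rintro _ ⟨c, hc, rfl⟩
    have := hk.2 _ ⟨b⁻¹ * c, M.mul_mem (M.inv_mem hb) hc, rfl⟩
    calc c * y * c⁻¹ * (b * k * b⁻¹) = b * (b⁻¹ * c * y * (b⁻¹ * c)⁻¹ * k) * b⁻¹ := by group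
      _ = _ := by rw [this]; group
  have hUK : U ≤ K := by
    intro u hu
    rw [hK, hW]
    refine ⟨hM ▸ le_normalizer hu, ?_⟩
    rintro _ ⟨c, hc, rfl⟩
    exact (hcent c hc y hyc u hu).symm
  have hUR : U < S ⊓ K := by
    refine lt_of_le_of_ne (le_inf hUS.le hUK) fun hR => ?_
    have hR' : ∀ t ∈ S, (∀ b ∈ M, b * y * b⁻¹ * t = t * (b * y * b⁻¹)) → t ∈ U := by
      intro t ht h
      rw [hR, hK, hW]
      refine ⟨ht, hSM ht, ?_⟩
      rintro _ ⟨c, hc, rfl⟩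
      exact h c hc
    obtain ⟨z, hzQ, hzc, rfl⟩ := hyQ
    have hzU : z ∈ centralizer (U : Set G) := fun u hu => hzc u (hQ (hUS.le hu))
    have hzS : z ∈ S := by
      rw [← Coprime.eq_of_sylow_le hS hSi (le_inf hQ hSM) inf_le_right Q.isPGroup'.to_inf_left]
      exact ⟨hzQ, hM ▸ centralizer_le_normalizer _ hzU⟩
    have hzU' : z ∈ U := hR' z hzS fun b hb => hzU _ (hconj b hb _ hyU)
    obtain ⟨t, htS, htU, ht2⟩ := exists_mem_pow_mem_of_lt hS hUS
    refine htU (hR' t htS fun b hb => ?_)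
    have hv1 := hconj b hb z hzU'
    have hv2 := hcent b hb z hzU
    rw [← conj_pow]
    generalize b * z * b⁻¹ = v at hv1 hv2
    have hw1 := hconj _ (M.inv_mem (hSM htS)) v hv1
    have hw2 := hcent _ (M.inv_mem (hSM htS)) v hv2
    have e1 : (t * v) ^ 2 = t ^ 2 * ((t⁻¹ * v * t⁻¹⁻¹) * v) := by rw [sq, sq]; group
    have e2 := hexp Q (t * v) (hQ (S.mul_mem htS (hUS.le hv1)))
    have c1 : Commute (t ^ 2) ((t⁻¹ * v * t⁻¹⁻¹) * v) :=
      Commute.mul_right (hw2 _ ht2) (hv2 _ ht2)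
    have c2 : Commute (t⁻¹ * v * t⁻¹⁻¹) v := hv2 _ hw1
    rw [pow_mul, e1, c1.mul_pow, c2.mul_pow, ← pow_mul, hexp Q t (hQ htS), one_mul,
      conj_pow] at e2
    have e3 := hexp Q v (hQ (hUS.le hv1))
    rw [two_mul, pow_add] at e3
    have e4 : t⁻¹ * v ^ m * t⁻¹⁻¹ = v ^ m := mul_right_cancel (e2.trans e3.symm)
    calc v ^ m * t = t * (t⁻¹ * v ^ m * t⁻¹⁻¹) := by group
      _ = _ := by rw [e4]
  have hRi := not_dvd_relIndex_inf_of_le_normalizer hSM hKM (hSM.trans hMK) hSi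
  have haK := conj_smul_eq_of_mem_normalizer (hMK haM)
  obtain ⟨k, hk, hk2⟩ := Coprime.exists_conj_eq_of_sylow (K := K) (P := S ⊓ K)
    (Q := MulAut.conj a • (S ⊓ K)) inf_le_right hS.to_inf_left hRi
    ((conj_smul_mono a inf_le_right).trans haK.le) (isPGroup_conj_smul hS.to_inf_left a)
    (by have := relIndex_conj_smul a (S ⊓ K) K; rw [haK] at this; rwa [this])
  have hlt : U < MulAut.conj a • (S ⊓ K) := by
    rw [← conj_smul_eq_of_mem_normalizer (hM ▸ haM : a ∈ normalizer (U : Set G))]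
    refine lt_of_le_of_ne (conj_smul_mono a hUR.le) fun h => hUR.ne ?_
    exact MulAction.injective _ h
  refine ih _ hlt (k • Q) (a • Q) (hk2 ▸ conj_smul_mono k (inf_le_left.trans hQ))
    (conj_smul_mono a (inf_le_left.trans hQ)) y (hlt.le hyU) ?_
  have h3 : k * y * k⁻¹ = y := by
    rw [hK, hW] at hk
    rw [← hk.2 y ⟨1, M.one_mem, by simp⟩]; simp
  rw [← h3]
  exact conj_mem_centerPow hyQ k

theorem isStronglyClosed_centerPow [Finite G] {m : ℕ} (T : Sylow 2 G)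
    (hexp : ∀ x ∈ (T : Subgroup G), x ^ (2 * m) = 1) :
    IsStronglyClosed (centerPow m (T : Subgroup G)) T := by
  refine ⟨(centerPow_le m _).trans inf_le_left, fun x hx g hg => ?_⟩
  refine mem_centerPow_of_le (fun Q y hy => ?_) ((T : Subgroup G) ⊓ (g • T : Sylow 2 G))
    (g • T) T inf_le_right inf_le_left _
    ⟨hg, conj_mem_conj_smul g (centerPow_le m _ hx).1⟩ (conj_mem_centerPow hx g)
  obtain ⟨c, rfl⟩ := MulAction.exists_smul_eq G T Q
  obtain ⟨u, hu, rfl⟩ := mem_conj_smul_iff_exists.mp hy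
  rw [conj_pow, hexp u hu]; simp

end Cfsg.Lib.Solv
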