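import Cfsg.Agent.Solv.ClassNumber
import Cfsg.Agent.Solv.Mann
import Cfsg.Agent.Solv.AvgDeg

/-!
# Counting the conjugacy classes that meet a subset
-/

set_option autoImplicit false

namespace Cfsg.Lib.Solv.Many

open Cfsg.Lib.FT Cfsg.Lib.Solv.ClassNum Subgroup

theorem ncard_mul_le {α β : Type*} [Finite α] [Finite β] {S : Set α} {T : Set β}
    (R : α → β → Prop) {m n : ℕ} (hm : ∀ a ∈ S, m ≤ {b ∈ T | R a b}.ncard)
    (hn : ∀ b ∈ T, {a ∈ S | R a b}.ncard ≤ n) : S.ncard * m ≤ T.ncard * n := by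
  classical
  have := Fintype.ofFinite α
  have := Fintype.ofFinite β
  rw [Set.ncard_eq_toFinset_card', Set.ncard_eq_toFinset_card']
  refine Finset.card_mul_le_card_mul R (fun a ha => (hm a (by simpa using ha)).trans_eq ?_)
    fun b hb => le_of_eq_of_le ?_ (hn b (by simpa using hb))
  · rw [Set.ncard_eq_toFinset_card']
    congr 1
    ext b
    simp
  · rw [Set.ncard_eq_toFinset_card']
    congr 1
    ext a
    simp

theorem ncard_le_of_rel {α β : Type*} [Finite α] [Finite β] {S : Set α} {T : Set β}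
    (R : α → β → Prop) {n : ℕ} (hm : ∀ a ∈ S, ∃ b ∈ T, R a b)
    (hn : ∀ b ∈ T, {a ∈ S | R a b}.ncard ≤ n) : S.ncard ≤ T.ncard * n := by
  simpa using ncard_mul_le R (m := 1) (fun a ha => (Set.ncard_pos (Set.toFinite _)).2
    (let ⟨b, hb, h⟩ := hm a ha; ⟨b, hb, h⟩)) hn

variable {G : Type*} [Group G] [Finite G] {X Y Z : Set G} {π σ τ : Set ℕ}

/-- The number of conjugacy classes meeting `X`. -/
noncomputable def kc (X : Set G) : ℕ := (ConjClasses.mk '' X).ncard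

omit [Finite G] in
theorem mk_conj (g x : G) : ConjClasses.mk (g * x * g⁻¹) = ConjClasses.mk x :=
  (ConjClasses.mk_eq_mk_iff_isConj.2 (isConj_iff.2 ⟨g, rfl⟩)).symm

omit [Finite G] in
theorem kPi_eq_kc (π : Set ℕ) : kPi π G = kc {x : G | PiElt π x} := by
  rw [kPi_eq_of_iff (Q := (· ∈ ConjClasses.mk '' {x : G | PiElt π x})) fun x => ⟨?_, fun h =>
    ⟨x, h, rfl⟩⟩]
  · rfl
  · rintro ⟨y, hy, e⟩
    obtain ⟨g, rfl⟩ := isConj_iff.1 (ConjClasses.mk_eq_mk_iff_isConj.1 e)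
    exact (p_eltJ g).2 hy

theorem kc_le_of (h : ∀ x ∈ X, ∃ g, g * x * g⁻¹ ∈ Y) : kc X ≤ kc Y := by
  refine Set.ncard_le_ncard ?_
  rintro _ ⟨x, hx, rfl⟩
  obtain ⟨g, hg⟩ := h x hx
  exact ⟨_, hg, mk_conj g x⟩

theorem kc_le_ncard (X : Set G) : kc X ≤ X.ncard := Set.ncard_image_le

theorem kc_le_card (H : Subgroup G) : kc (H : Set G) ≤ Nat.card H := kc_le_ncard _

theorem kc_le_add (h : ∀ x ∈ X, (∃ g, g * x * g⁻¹ ∈ Y) ∨ ∃ g, g * x * g⁻¹ ∈ Z) :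
    kc X ≤ kc Y + kc Z := by
  refine le_trans (Set.ncard_le_ncard ?_) (Set.ncard_union_le _ _)
  rintro _ ⟨x, hx, rfl⟩
  rcases h x hx with ⟨g, hg⟩ | ⟨g, hg⟩
  · exact Or.inl ⟨_, hg, mk_conj g x⟩
  · exact Or.inr ⟨_, hg, mk_conj g x⟩

theorem kc_add_le (hY : Y ⊆ X) (hZ : Z ⊆ X) (h : ∀ y ∈ Y, ∀ g, g * y * g⁻¹ ∉ Z) :
    kc Y + kc Z ≤ kc X := by
  rw [kc, kc, ← Set.ncard_union_eq]
  · exact Set.ncard_le_ncard (Set.union_subset (Set.image_mono hY) (Set.image_mono hZ))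
  · rw [Set.disjoint_left]
    rintro _ ⟨y, hy, rfl⟩ ⟨z, hz, e⟩
    obtain ⟨g, rfl⟩ := isConj_iff.1 (ConjClasses.mk_eq_mk_iff_isConj.1 e.symm)
    exact h y hy g hz

theorem kc_le_kPi (H : Subgroup G) : kc {x | x ∈ H ∧ PiElt π x} ≤ kPi π H := by
  rw [kPi_eq_kc]
  refine le_trans (Set.ncard_le_ncard ?_)
    (Set.ncard_image_le (f := ConjClasses.map H.subtype))
  rintro _ ⟨x, hx, rfl⟩
  exact ⟨_, ⟨⟨x, hx.1⟩, (piElt_coe ⟨x, hx.1⟩).1 hx.2, rfl⟩, rfl⟩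

theorem kc_mul_le {r : ℕ} (h : ∀ x ∈ X, r ≤ {y ∈ X | IsConj x y}.ncard) :
    kc X * r ≤ X.ncard := by
  simpa [kc] using ncard_mul_le (S := ConjClasses.mk '' X) (T := X)
    (fun C y => ConjClasses.mk y = C) (m := r) (n := 1) (by
      rintro _ ⟨x, hx, rfl⟩
      refine (h x hx).trans (Set.ncard_le_ncard fun y hy => ⟨hy.1, ?_⟩)
      exact ConjClasses.mk_eq_mk_iff_isConj.2 hy.2.symm)
    fun y _ => (Set.ncard_le_one (Set.toFinite _)).2 fun a ha b hb => ha.2.symm.trans hb.2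

/-- Counting classes by the class of the `σ`-part. -/
theorem kc_le_mul {m : ℕ} (hX : ∀ z ∈ X, constt σ z ∈ Y ∧ PiElt τ (constt σᶜ z))
    (hm : ∀ y ∈ Y, kPi τ (𝐂₁ y) ≤ m) : kc X ≤ kc Y * m := by
  refine ncard_le_of_rel (fun C D => ∃ z, ConjClasses.mk z = C ∧ PiElt τ (constt σᶜ z) ∧
    ConjClasses.mk (constt σ z) = D) ?_ ?_
  · rintro _ ⟨z, hz, rfl⟩
    exact ⟨_, ⟨_, (hX z hz).1, rfl⟩, z, rfl, (hX z hz).2, rfl⟩
  rintro _ ⟨y, hy, rfl⟩
  refine le_trans ?_ (hm y hy)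
  rw [kPi_eq_kc]
  refine (ncard_le_of_rel (n := 1) (fun C E => ∃ w : 𝐂₁ y, ConjClasses.mk w = E ∧
    ConjClasses.mk (y * w) = C) ?_ ?_).trans_eq (mul_one _)
  · rintro _ ⟨-, z, rfl, hz, e⟩
    obtain ⟨g, rfl⟩ := isConj_iff.1 (ConjClasses.mk_eq_mk_iff_isConj.1 e)
    rw [← consttJ]
    refine ⟨_, ⟨⟨constt σᶜ (g * z * g⁻¹), mem_cent1_iff_commute.2
      (commute_constt_constt _ _ (Commute.refl _))⟩, (piElt_coe _).1 ?_, rfl⟩, _, rfl, ?_⟩
    · simpa only [consttJ, p_eltJ] using hz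
    · rw [consttC, mk_conj]
  · refine fun E _ => (Set.ncard_le_one (Set.toFinite _)).2 ?_
    rintro _ ⟨-, w, e, rfl⟩ _ ⟨-, w', e', rfl⟩
    obtain ⟨c, rfl⟩ := isConj_iff.1 (ConjClasses.mk_eq_mk_iff_isConj.1 (e.trans e'.symm))
    rw [← mk_conj (c : G) (y * w), ← mul_assoc, mem_cent1.1 c.2]
    simp [mul_assoc]

theorem le_relIndex {A B : Subgroup G} {r : ℕ} (h : ¬ B ≤ A)
    (hr : ∀ s : ℕ, s.Prime → s ∣ Nat.card B → r ≤ s) : r ≤ A.relIndex B := by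
  obtain ⟨s, hs, hd⟩ := Nat.exists_prime_and_dvd (mt relIndex_eq_one.1 h)
  exact (hr s hs (hd.trans (relIndex_dvd_card A B))).trans
    (Nat.le_of_dvd (Nat.pos_of_ne_zero FiniteIndex.index_ne_zero) hd)

omit [Finite G] in
theorem mul_card_inf_le {A B : Subgroup G} {r : ℕ} (h : r ≤ A.relIndex B) :
    r * Nat.card ↥(A ⊓ B) ≤ Nat.card B := by
  rw [← relIndex_mul_card_inf A B]
  exact Nat.mul_le_mul_right _ h

/-- Classes meeting a subgroup normalized by an element `u` all of whose orbits outside the fixed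
points have length at least `r`. -/
theorem kc_subgroup_le {H : Subgroup G} {u : G} (hu : u ∈ 𝐍 H) {r : ℕ}
    (hr : ∀ s : ℕ, s.Prime → s ∣ orderOf u → r ≤ s) :
    kc (H : Set G) * r + Nat.card ↥(𝐂₁ u ⊓ H) ≤ Nat.card ↥(𝐂₁ u ⊓ H) * r + Nat.card H := by
  have h1 : kc (H : Set G) ≤ kc ((𝐂₁ u ⊓ H : Subgroup G) : Set G) +
      kc ((H : Set G) \ (𝐂₁ u ⊓ H : Subgroup G)) := kc_le_add fun x hx => by
    by_cases h : x ∈ 𝐂₁ u ⊓ H
    · exact Or.inl ⟨1, by simpa using h⟩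
    · exact Or.inr ⟨1, by rw [one_mul, inv_one, mul_one]; exact ⟨hx, h⟩⟩
  have h2 := kc_mul_le (X := (H : Set G) \ (𝐂₁ u ⊓ H : Subgroup G)) (r := r) fun x hx => by
    have hxu : ¬ zpowers u ≤ 𝐂₁ x := fun e => hx.2 ⟨cent1C.1 (e (mem_zpowers u)), hx.1⟩
    refine (le_relIndex hxu (by rwa [Nat.card_zpowers])).trans ?_
    rw [← ClassSize.ncard_orbit_eq_relIndex]
    refine Set.ncard_le_ncard ?_
    rintro _ ⟨n, hn, rfl⟩
    refine ⟨⟨(memJ_norm (zpowers_le.2 hu hn)).2 hx.1, fun e => hx.2 ⟨?_, hx.1⟩⟩,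
      isConj_iff.2 ⟨n, rfl⟩⟩
    have hn' : n ∈ 𝐂₁ u := cent1C.1 (cent1_le_cent1_of_mem_zpowers hn (cent1id u))
    have := mul_mem (mul_mem (inv_mem hn') e.1) hn'
    simpa [mul_assoc] using this
  have h3 := Set.ncard_sdiff_add_ncard_of_subset
    (s := ((𝐂₁ u ⊓ H : Subgroup G) : Set G)) (t := (H : Set G)) fun x hx => hx.2
  have h4 := kc_le_card (𝐂₁ u ⊓ H)
  change _ + Nat.card ↥(𝐂₁ u ⊓ H) = Nat.card H at h3
  nlinarith

/-- The character bound on the number of classes. -/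
theorem card_conjClasses_bound {r : ℕ} (hr : ∀ s : ℕ, s.Prime → s ∣ Nat.card G → r ≤ s) :
    r ^ 2 * Nat.card (ConjClasses G) + (commutator G).index ≤
      Nat.card G + r ^ 2 * (commutator G).index := by
  have h1 := Avg.sum_nonlin_sq (G := G)
  have h2 := Avg.card_nonlin (G := G)
  have h3 := Finset.card_nsmul_le_sum (Avg.nonlin G)
    (fun χ => (charDegree (χ : G → ℂ) : ℤ) ^ 2) ((r : ℤ) ^ 2) fun χ hχ => by
      obtain ⟨s, hs, hd⟩ := Nat.exists_prime_and_dvd (Avg.mem_nonlin.1 hχ)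
      have h4 := (hr s hs (hd.trans (Char.Deg.deg_dvd_card χ.2))).trans (Nat.le_of_dvd
        (Nat.pos_of_dvd_of_pos (Char.Deg.deg_dvd_card χ.2) Nat.card_pos) hd)
      exact pow_le_pow_left₀ (by positivity) (by exact_mod_cast h4) 2
  rw [h1, nsmul_eq_mul, h2] at h3
  zify
  nlinarith

end Cfsg.Lib.Solv.Many
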