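import Cfsg.Agent.Solv.SylowChain
import Cfsg.Agent.Solv.CyclicIndexP
import Cfsg.Agent.Solv.UniqueInvol
import Cfsg.Agent.Solv.Quaternion
import Cfsg.Agent.Solv.ElemLift
import Cfsg.Agent.Solv.ExtraSub

/-!
# `p`-groups whose subgroups of equal order look alike
-/

set_option autoImplicit false

open scoped commutatorElement Pointwise
open Subgroup

namespace Cfsg.Lib.Solv.PG

variable {G : Type*} [Group G] [Finite G] {p : ℕ} [hp : Fact p.Prime]

/-- If a cyclic subgroup of order `p²` forces every abelian subgroup of that order to be cyclic, then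
either all abelian subgroups are cyclic or the exponent divides `p`. -/
theorem forall_comm_isCyclic_or_pow_eq_one {P : Subgroup G} (hP : IsPGroup p P)
    (h : ∀ A B : Subgroup G, A ≤ P → B ≤ P → IsCyclic A → IsMulCommutative B →
      Nat.card A = Nat.card B → IsCyclic B) :
    (∀ A : Subgroup G, A ≤ P → IsMulCommutative A → IsCyclic A) ∨ ∀ x ∈ P, x ^ p = 1 := by
  refine or_iff_not_imp_right.2 fun hx A hA hc => by_contra fun hnc => ?_
  push Not at hx
  obtain ⟨x, hxP, hx⟩ := hx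
  obtain ⟨k, hk⟩ := exists_orderOf_eq_pow_of_mem hP hxP
  have hk2 : 2 ≤ k := by
    by_contra hk2
    exact hx (orderOf_dvd_iff_pow_eq_one.1
      (hk ▸ (pow_dvd_pow p (by omega : k ≤ 1)).trans (pow_one p).dvd))
  obtain ⟨V, hVA, -, hV, hVp, hVc⟩ := exists_invariant_elementary_sq (P := ⊥) IsPGroup.of_bot
    (hP.to_le hA) bot_le hnc (Or.inr hc)
  refine not_isCyclic_of_card_eq_sq hp.out hVc hVp (h (zpowers (x ^ p ^ (k - 2))) V
    (zpowers_le.2 (pow_mem hxP _)) (hVA.trans hA) inferInstance hV ?_)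
  rw [Nat.card_zpowers, orderOf_pow_prime_pow hp.out hk (by omega), hVc]
  congr 1
  omega

/-- A nonabelian group of exponent `p` has a nonabelian subgroup of order `p³`. -/
theorem exists_not_comm_card_cube (h : ∀ x : G, x ^ p = 1) (hna : ¬ IsMulCommutative G) :
    ∃ H : Subgroup G, ¬ IsMulCommutative H ∧ Nat.card H = p ^ 3 := by
  have hG : IsPGroup p G := fun x => ⟨1, by rw [pow_one, h]⟩
  obtain ⟨a, -, ha, -, hc⟩ := exists_normal_step_elt hG (M := center G) (N := ⊤)
    fun h => hna ⟨⟨fun x y => (mem_center_iff.1 (h (mem_top y)) x)⟩⟩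
  rw [mem_center_iff, not_forall] at ha
  obtain ⟨x, hx⟩ := ha
  have hz : ∀ y : G, Nat.card (zpowers y) ∣ p := fun y => by
    rw [Nat.card_zpowers]; exact orderOf_dvd_iff_pow_eq_one.2 (h y)
  have h1 : ∀ y : G, zpowers y ≤ normalizer ((zpowers ⁅a, x⁆ : Subgroup G) : Set G) := fun y =>
    zpowers_le.2 (mem_normalizer_zpowers (by
      rw [mem_center_iff.1 (hc x) y, mul_inv_cancel_right]; exact mem_zpowers _))
  have h2 : zpowers x ≤ normalizer ((zpowers ⁅a, x⁆ ⊔ zpowers a : Subgroup G) : Set G) := by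
    refine zpowers_le.2 (mem_normalizer_iff_conj_smul_eq.2 (eq_of_le_of_card_ge ?_
      (card_conj_smul _ _).ge))
    rw [smul_sup, conj_smul_eq_of_mem_normalizer (h1 x (mem_zpowers x)), conj_smul_zpowers]
    refine sup_le le_sup_left (zpowers_le.2 ?_)
    rw [show x * a * x⁻¹ = ⁅a, x⁆⁻¹ * a by simp [commutatorElement_def, mul_assoc]]
    exact mul_mem (inv_mem (mem_sup_left (mem_zpowers _))) (mem_sup_right (mem_zpowers _))
  have hn : ¬ IsMulCommutative (zpowers ⁅a, x⁆ ⊔ zpowers a ⊔ zpowers x : Subgroup G) := fun _ =>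
    hx (setLike_mul_comm (s := zpowers ⁅a, x⁆ ⊔ zpowers a ⊔ zpowers x)
      (mem_sup_right (mem_zpowers x)) (mem_sup_left (mem_sup_right (mem_zpowers a))))
  refine ⟨_, hn, ?_⟩
  have h3 := (card_sup_dvd_of_le_normalizer h2).trans (mul_dvd_mul
    ((card_sup_dvd_of_le_normalizer (h1 a)).trans (mul_dvd_mul (hz _) (hz _))) (hz _))
  rw [← sq, ← pow_succ] at h3
  obtain ⟨k, hk, hc⟩ := (Nat.dvd_prime_pow hp.out).1 h3
  rw [hc]
  congr 1
  by_contra hk3
  refine hn ?_
  obtain rfl | hk := eq_or_ne k 2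
  · exact isMulCommutative_of_card_eq_sq hc
  have : IsCyclic (zpowers ⁅a, x⁆ ⊔ zpowers a ⊔ zpowers x : Subgroup G) :=
    isCyclic_of_card_dvd_prime (p := p) (hc ▸ (pow_dvd_pow p (by omega : k ≤ 1)).trans (pow_one p).dvd)
  infer_instance

/-- A `p`-group in which any two subgroups of the same order are isomorphic. -/
theorem structure_of_forall_card_eq (hG : IsPGroup p G)
    (h : ∀ H K : Subgroup G, Nat.card H = Nat.card K → Nonempty (H ≃* K)) :
    IsCyclic G ∨ (IsMulCommutative G ∧ ∀ x : G, x ^ p = 1) ∨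
      (p = 2 ∧ Nonempty (G ≃* QuaternionGroup 2)) ∨
      (p ≠ 2 ∧ ¬ IsMulCommutative G ∧ Nat.card G = p ^ 3 ∧ ∀ x : G, x ^ p = 1) := by
  have hc : ∀ H K : Subgroup G, Nat.card H = Nat.card K → IsCyclic H → IsCyclic K :=
    fun H K hHK hH => (h H K hHK).elim fun e => isCyclic_of_surjective e e.surjective
  rcases forall_comm_isCyclic_or_pow_eq_one (isPGroup_top hG)
    (fun A B _ _ hA _ hAB => hc A B hAB hA) with h1 | h1
  · by_cases hp2 : p = 2
    swap
    · exact Or.inl (isCyclic_of_forall_normal_abelian_isCyclic hG hp2 fun A _ => h1 A le_top)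
    subst hp2
    have hz : ∀ x : G, orderOf x = 2 → x ∈ center G → ∀ y, orderOf y = 2 → y = x :=
      fun x hx hxc y hy => by
      have := h1 _ le_top (isMulCommutative_zpowers_sup (mem_center_iff.1 hxc y))
      have h2 := eq_of_card_eq_of_isCyclic (A := zpowers y ⊔ zpowers x) le_sup_left le_sup_right
        (by rw [Nat.card_zpowers, Nat.card_zpowers, hx, hy])
      obtain ⟨k, hk⟩ := exists_pow_eq_of_mem_zpowers (h2 ▸ mem_zpowers y : y ∈ zpowers x)
      rw [← pow_mod_orderOf, hx] at hk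
      rcases Nat.mod_two_eq_zero_or_one k with h | h <;> rw [h] at hk
      · rw [hk] at hy; simp at hy
      · rw [hk, pow_one]
    refine (isCyclic_or_exists_gens_of_unique_involution hG fun x y hx hy => ?_).imp_right ?_
    · obtain ⟨z, -, hzc, hz2⟩ := exists_mem_center_orderOf_eq hG ⊤ fun h0 => by
        rw [mem_bot.1 (h0 ▸ mem_top x : x ∈ (⊥ : Subgroup G))] at hx; simp at hx
      rw [hz z hz2 hzc x hx, hz z hz2 hzc y hy]
    rintro ⟨a, x, n, hn, ha, hxa, htop, hcard, hxax, hx⟩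
    have ha2 : ∀ k : ℕ, x * a ^ k = a ^ k * x → 2 ^ n ∣ k * 2 := fun k hk => by
      have : x * a ^ k * x⁻¹ = (a ^ k)⁻¹ := by rw [← conj_pow, hxax, inv_pow]
      rw [hk, mul_inv_cancel_right] at this
      rw [← ha, orderOf_dvd_iff_pow_eq_one, pow_mul, sq]
      exact mul_eq_one_iff_eq_inv.2 this
    obtain ⟨M, -, hxM, hM⟩ := exists_normal_index_eq_prime hG (H := zpowers x) fun h => by
      have := ha2 1 (by
        rw [pow_one]
        exact setLike_mul_comm (s := zpowers x) (mem_zpowers x) (h ▸ mem_top a))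
      exact absurd (Nat.le_of_dvd (by decide) ((pow_dvd_pow 2 hn).trans this)) (by decide)
    have hMc : IsCyclic M := hc (zpowers a) M (by
      have := card_eq_index_mul M
      rw [hcard, hM, pow_succ'] at this
      rw [Nat.card_zpowers, ha]; omega) inferInstance
    have h4 := ha2 2 (setLike_mul_comm (s := M) (hxM (mem_zpowers x))
      (pow_mem_of_index_eq_prime hG hM a))
    obtain rfl : n = 2 :=
      le_antisymm ((Nat.pow_dvd_pow_iff_le_right one_lt_two).1 (show 2 ^ n ∣ 2 ^ 2 from h4)) hn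
    exact Or.inr (Or.inl ⟨rfl, nonempty_mulEquiv_quaternionGroup ha hx hxax hxa htop⟩)
  replace h1 : ∀ x : G, x ^ p = 1 := fun x => h1 x (mem_top x)
  by_cases hna : IsMulCommutative G
  · exact Or.inr (Or.inl ⟨hna, h1⟩)
  refine Or.inr (Or.inr (Or.inr ⟨?_, hna, ?_, h1⟩))
  · rintro rfl
    exact hna ⟨⟨fun x y => (Commute.of_orderOf_dvd_two
      (fun g => orderOf_dvd_iff_pow_eq_one.2 (h1 g)) x y).eq⟩⟩
  obtain ⟨H, hH, hHc⟩ := exists_not_comm_card_cube h1 hna
  obtain ⟨k, hk⟩ := hG.exists_card_eq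
  have h3 := H.card_le_card_group
  rw [hHc, hk, Nat.pow_le_pow_iff_right hp.out.one_lt] at h3
  by_contra h4
  obtain ⟨B, -, hB, hBc⟩ := exists_normal_abelian_card_eq_cube hG (by
    rw [hk, Nat.pow_right_inj hp.out.one_lt] at h4
    rw [hk]
    exact Nat.pow_le_pow_right hp.out.pos (by omega))
  obtain ⟨e⟩ := h B H (hBc.trans hHc.symm)
  exact hH ⟨⟨fun x y => e.symm.injective (by rw [map_mul, map_mul, hB.is_comm.comm])⟩⟩

end Cfsg.Lib.Solv.PG
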