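import Mathlib

/-!
# Normal bases for group actions on semilocal rings, and free modules
-/

set_option autoImplicit false

namespace Cfsg.Lib.Solv.GalFree

open scoped Pointwise commutatorElement

/-- Normal basis theorem in matrix form. -/
theorem exists_normal_field {S K : Type*} [Group S] [Fintype S] [Field K]
    [MulSemiringAction S K] [FaithfulSMul S K] :
    ∃ α : K, ∀ c : S → K, (∀ t : S, ∑ s, c s * (s * t) • α = 0) → ∀ s, c s = 0 := by
  classical
  let L := FixedPoints.subfield S K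
  let e := FixedPoints.toAlgAutMulEquiv S K
  let b := IsGalois.normalBasis L K
  refine ⟨b 1, fun c hc => ?_⟩
  have he : ∀ (s : S) (x : K), e s x = s • x := fun s x => rfl
  have hlin := (linearIndependent_algHom_toLinearMap L K K).comp
    (fun s : S => ((e s : K ≃ₐ[L] K) : K →ₐ[L] K))
    (fun s t h => e.injective (AlgEquiv.coe_toAlgHom_injective h))
  refine Fintype.linearIndependent_iff.1 hlin c ?_
  refine b.ext fun σ => ?_
  obtain ⟨t, rfl⟩ := e.surjective σ
  rw [IsGalois.normalBasis_apply]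
  have := hc t
  simp only [LinearMap.sum_apply, LinearMap.smul_apply, Function.comp_apply, smul_eq_mul,
    LinearMap.zero_apply, AlgHom.toLinearMap_apply]
  rw [← this]
  refine Finset.sum_congr rfl fun s _ => ?_
  rw [mul_smul]
  rfl

/-- Normal basis theorem for a semilocal ring with trivial inertia groups. -/
theorem exists_normal_ring {H R : Type*} [Group H] [Fintype H] [DecidableEq H] [CommRing R]
    [Finite (MaximalSpectrum R)] [MulSemiringAction H R]
    (hin : ∀ m : Ideal R, m.IsMaximal → ∀ h : H, (∀ x : R, h • x - x ∈ m) → h = 1) :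
    ∃ r : R, IsUnit (Matrix.of fun g h : H => (g * h) • r).det := by
  classical
  -- a normal basis element at each maximal ideal
  have hα : ∀ m : Ideal R, m.IsMaximal → ∃ a : R, ∀ c : MulAction.stabilizer H m → R,
      (∀ t : MulAction.stabilizer H m, ∑ s, c s * ((s : H) * t) • a ∈ m) → ∀ s, c s ∈ m := by
    intro m hm
    let := Ideal.Quotient.field m
    let φ := Ideal.Quotient.stabilizerHom m (m.under ℤ) H
    let : MulSemiringAction (MulAction.stabilizer H m) (R ⧸ m) :=
      MulSemiringAction.compHom _ φ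
    have hs : ∀ (s : MulAction.stabilizer H m) (x : R),
        s • (Ideal.Quotient.mk m x) = Ideal.Quotient.mk m ((s : H) • x) := fun s x => rfl
    have : FaithfulSMul (MulAction.stabilizer H m) (R ⧸ m) := by
      refine ⟨fun {s t} h => ?_⟩
      have : (t⁻¹ * s : MulAction.stabilizer H m) = 1 := by
        refine Subtype.ext (hin m hm _ fun x => ?_)
        rw [← Ideal.Quotient.eq, ← hs, mul_smul, h, inv_smul_smul]
      exact (inv_mul_eq_one.1 this).symm
    obtain ⟨α, hα⟩ := exists_normal_field (S := MulAction.stabilizer H m) (K := R ⧸ m)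
    obtain ⟨a, rfl⟩ := Ideal.Quotient.mk_surjective α
    refine ⟨a, fun c hc s => ?_⟩
    rw [← Ideal.Quotient.eq_zero_iff_mem]
    refine hα (fun s => Ideal.Quotient.mk m (c s)) (fun t => ?_) s
    have := Ideal.Quotient.eq_zero_iff_mem.2 (hc t)
    rw [← this, map_sum]
    refine Finset.sum_congr rfl fun s _ => ?_
    rw [map_mul, hs]
    rfl
  choose! a ha using hα
  -- orbit representatives
  let rep : Ideal R → Ideal R := fun m =>
    (Quotient.mk (MulAction.orbitRel H (Ideal R)) m).out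
  have hrep : ∀ m, ∃ x : H, x • rep m = m := fun m => by
    have : (MulAction.orbitRel H (Ideal R)) m (rep m) :=
      Quotient.exact (Quotient.out_eq _).symm
    exact this
  have hrep' : ∀ (m : Ideal R) (x : H), rep (x • m) = rep m := fun m x => by
    have : (Quotient.mk (MulAction.orbitRel H (Ideal R)) (x • m)) = Quotient.mk _ m :=
      Quotient.sound (MulAction.mem_orbit m x)
    simp only [rep, this]
  have hmax : ∀ (m : Ideal R) (x : H), m.IsMaximal → (x • m).IsMaximal := fun m x hm => by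
    rw [Ideal.pointwise_smul_eq_comap]
    exact Ideal.comap_isMaximal_of_equiv _
  obtain ⟨r, hr⟩ := Ideal.exists_forall_sub_mem_ideal
    (I := fun m : MaximalSpectrum R => m.asIdeal)
    (fun m n hmn => Ideal.isCoprime_iff_sup_eq.2
      (m.isMaximal.coprime_of_ne n.isMaximal fun h => hmn (MaximalSpectrum.ext h)))
    (fun m => if rep m.asIdeal = m.asIdeal then a m.asIdeal else 0)
  refine ⟨r, ?_⟩
  by_contra hnu
  obtain ⟨m, hm, hdm⟩ := exists_max_ideal_of_mem_nonunits hnu
  obtain ⟨x, hx⟩ := hrep m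
  set n := rep m with hn
  have hnm : n.IsMaximal := by
    have : n = x⁻¹ • m := by rw [← hx, inv_smul_smul]
    rw [this]; exact hmax m _ hm
  have hnn : rep n = n := by
    have : n = x⁻¹ • m := by rw [← hx, inv_smul_smul]
    rw [hn]
    conv_lhs => rw [← hn, this, hrep']
  have h1 : r - a n ∈ n := by simpa [hnn] using hr ⟨n, hnm⟩
  have h2 : ∀ y : H, y ∉ MulAction.stabilizer H n → y • r ∈ n := by
    intro y hy
    have h3 : rep (y⁻¹ • n) ≠ y⁻¹ • n := by
      rw [hrep', hnn]
      intro h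
      apply hy
      rw [MulAction.mem_stabilizer_iff]
      conv_lhs => rw [h]
      rw [smul_inv_smul]
    have h4 : r ∈ y⁻¹ • n := by simpa [h3] using hr ⟨y⁻¹ • n, hmax n _ hnm⟩
    rwa [Ideal.mem_inv_pointwise_smul_iff] at h4
  let := Ideal.Quotient.field m
  have h5 : ((Ideal.Quotient.mk m).mapMatrix (Matrix.of fun g h : H => (g * h) • r)).det = 0 := by
    rw [← RingHom.map_det, Ideal.Quotient.eq_zero_iff_mem]
    exact hdm
  obtain ⟨c, hc0, hc⟩ := Matrix.exists_vecMul_eq_zero_iff.2 h5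
  apply hc0
  funext g0
  choose d hd using fun g => Ideal.Quotient.mk_surjective (c g)
  have h6 : ∀ h : H, ∑ g, d g * (g * h) • r ∈ m := fun h => by
    rw [← Ideal.Quotient.eq_zero_iff_mem, map_sum]
    have := congrFun hc h
    simp only [Matrix.vecMul, dotProduct, RingHom.mapMatrix_apply, Matrix.map_apply,
      Matrix.of_apply, Pi.zero_apply] at this
    rw [← this]
    refine Finset.sum_congr rfl fun g _ => ?_
    rw [map_mul, hd]
  have h7 : ∀ h : H, ∑ g, (x⁻¹ • d (x * g)) * (g * h) • r ∈ n := fun h => by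
    have h8 := h6 h
    rw [← hx, Ideal.mem_pointwise_smul_iff_inv_smul_mem, Finset.smul_sum,
      ← Equiv.sum_comp (Equiv.mulLeft x)] at h8
    convert h8 using 2 with g
    rw [smul_mul', smul_smul, Equiv.coe_mulLeft]
    congr 2
    group
  have h9 := ha n hnm (fun s => x⁻¹ • d (x * (s * (x⁻¹ * g0)))) (fun t => ?_) 1
  · rw [← hd, Pi.zero_apply, Ideal.Quotient.eq_zero_iff_mem, ← hx,
      Ideal.mem_pointwise_smul_iff_inv_smul_mem]
    simpa using h9
  · have h10 := h7 ((x⁻¹ * g0)⁻¹ * t)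
    rw [← Equiv.sum_comp (Equiv.mulRight (x⁻¹ * g0)),
      ← Finset.sum_filter_add_sum_filter_not Finset.univ
        (fun g => g ∈ MulAction.stabilizer H n)] at h10
    have h11 : ∑ g ∈ Finset.univ.filter (fun g => ¬ g ∈ MulAction.stabilizer H n),
        (x⁻¹ • d (x * (Equiv.mulRight (x⁻¹ * g0) g))) *
          ((Equiv.mulRight (x⁻¹ * g0) g) * ((x⁻¹ * g0)⁻¹ * t)) • r ∈ n := by
      refine Ideal.sum_mem _ fun g hg => Ideal.mul_mem_left _ _ (h2 _ fun h => ?_)
      rw [Finset.mem_filter] at hg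
      apply hg.2
      have h12 : (Equiv.mulRight (x⁻¹ * g0) g) * ((x⁻¹ * g0)⁻¹ * t) = g * t := by
        simp only [Equiv.coe_mulRight]; group
      rw [h12] at h
      simpa using (MulAction.stabilizer H n).mul_mem h ((MulAction.stabilizer H n).inv_mem t.2)
    have h13 := (Ideal.add_mem_iff_left _ h11).1 h10
    rw [Finset.sum_subtype (p := fun g => g ∈ MulAction.stabilizer H n) _ (by simp)] at h13
    have h14 : ∑ s : MulAction.stabilizer H n, (x⁻¹ • d (x * (s * (x⁻¹ * g0)))) *
        ((s : H) * t) • (r - a n) ∈ n := by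
      refine Ideal.sum_mem _ fun s _ => Ideal.mul_mem_left _ _ ?_
      have h15 : ((s : H) * t) • n = n := (s * t).2
      have h17 := Ideal.smul_mem_pointwise_smul ((s : H) * t) _ _ h1
      rwa [h15] at h17
    have h16 := n.sub_mem h13 h14
    rw [← Finset.sum_sub_distrib] at h16
    convert h16 using 2 with s
    have h12 : (Equiv.mulRight (x⁻¹ * g0) (s : H)) * ((x⁻¹ * g0)⁻¹ * t) = s * t := by
      simp only [Equiv.coe_mulRight]; group
    rw [h12, smul_sub, mul_sub, Equiv.coe_mulRight]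
    ring

section Rep

variable {k V A : Type*} [Field k] [AddCommGroup V] [Module k V] [Group A]

/-- `V` is a free `kH`-module. -/
def FreeRep (ρ : Representation k A V) (H : Subgroup A) [Fintype H] : Prop :=
  ∃ W : Submodule k V, (∀ v, ∃ w : H → V, (∀ h, w h ∈ W) ∧ ∑ h : H, ρ h (w h) = v) ∧
    ∀ w : H → V, (∀ h, w h ∈ W) → ∑ h : H, ρ h (w h) = 0 → ∀ h, w h = 0

theorem FreeRep.isInternal {ρ : Representation k A V} {H : Subgroup A} [Fintype H]
    [DecidableEq H] (h : FreeRep ρ H) :
    ∃ W : Submodule k V, DirectSum.IsInternal (fun h : H => W.map (ρ (h : A))) := by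
  obtain ⟨W, h1, h2⟩ := h
  refine ⟨W, (DirectSum.isInternal_submodule_iff_iSupIndep_and_iSup_eq_top _).2 ⟨?_, ?_⟩⟩
  · rw [iSupIndep_iff_finsetSum_eq_zero_imp_eq_zero]
    intro s v hv hs i hi
    have : ∀ j : H, ∃ w ∈ W, ρ j w = if j ∈ s then v j else 0 := fun j => by
      split_ifs with hj
      · exact hv j hj
      · exact ⟨0, W.zero_mem, map_zero _⟩
    choose w hw hw' using this
    have h3 := h2 w hw (by
      simp only [hw']
      rw [Finset.sum_ite_mem, Finset.univ_inter, hs]) i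
    have h4 := hw' i
    rw [if_pos hi, h3, map_zero] at h4
    exact h4.symm
  · rw [eq_top_iff]
    intro v _
    obtain ⟨w, hw, rfl⟩ := h1 v
    exact Submodule.sum_mem _ fun j _ => Submodule.mem_iSup_of_mem j ⟨w j, hw j, rfl⟩

open scoped IsMulCommutative in
theorem freeRep_of_comm [FiniteDimensional k V] (ρ : Representation k A V) (H Z : Subgroup A)
    [Fintype H] [Finite Z] [hZ : Z.Normal] (hcomm : ∀ a ∈ Z, ∀ b ∈ Z, ρ a * ρ b = ρ b * ρ a)
    (hcard : (Nat.card Z : k) ≠ 0) (hfix : ∀ v, (∀ z ∈ Z, ρ z v = v) → v = 0)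
    (hfpf : ∀ h ∈ H, h ≠ 1 → ∀ z ∈ Z, ∃ y ∈ Z, y * z = h * y * h⁻¹) : FreeRep ρ H := by
  classical
  let R := Algebra.adjoin k (ρ '' (Z : Set A))
  have : IsMulCommutative R := Algebra.isMulCommutative_adjoin k (by
    rintro _ ⟨a, ha, rfl⟩ _ ⟨b, hb, rfl⟩
    exact hcomm a ha b hb)
  have hinv : ∀ a : A, ρ a⁻¹ * ρ a = 1 := fun a => by rw [← map_mul, inv_mul_cancel, map_one]
  have hinv' : ∀ a : A, ρ a * ρ a⁻¹ = 1 := fun a => by rw [← map_mul, mul_inv_cancel, map_one]
  have hconj : ∀ (a : A) (x : Module.End k V), x ∈ R → ρ a * x * ρ a⁻¹ ∈ R := by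
    intro a x hx
    induction hx using Algebra.adjoin_induction with
    | mem x hx =>
      obtain ⟨z, hz, rfl⟩ := hx
      rw [← map_mul, ← map_mul]
      exact Algebra.subset_adjoin ⟨_, hZ.conj_mem z hz a, rfl⟩
    | algebraMap c =>
      rw [← Algebra.commutes, mul_assoc, hinv', mul_one]
      exact R.algebraMap_mem c
    | add x y _ _ hx hy =>
      rw [mul_add, add_mul]
      exact R.add_mem hx hy
    | mul x y _ _ hx hy =>
      have : ρ a * (x * y) * ρ a⁻¹ = (ρ a * x * ρ a⁻¹) * (ρ a * y * ρ a⁻¹) := by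
        simp only [mul_assoc]
        rw [← mul_assoc (ρ a⁻¹), hinv, one_mul]
      rw [this]
      exact R.mul_mem hx hy
  let : MulSemiringAction H R :=
    { smul := fun h x => ⟨ρ h * x * ρ (h : A)⁻¹, hconj _ _ x.2⟩
      one_smul := fun x => Subtype.ext (by
        change ρ (1 : A) * x * ρ (1 : A)⁻¹ = x
        simp)
      mul_smul := fun g h x => Subtype.ext (by
        change ρ ((g : A) * h) * x * ρ ((g : A) * h)⁻¹ =
          ρ g * (ρ h * x * ρ (h : A)⁻¹) * ρ (g : A)⁻¹
        simp only [mul_inv_rev, map_mul, mul_assoc])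
      smul_zero := fun h => Subtype.ext (by
        change ρ h * 0 * ρ (h : A)⁻¹ = 0
        simp)
      smul_add := fun h x y => Subtype.ext (by
        change ρ h * ((x : Module.End k V) + y) * ρ (h : A)⁻¹ =
          ρ h * x * ρ (h : A)⁻¹ + ρ h * y * ρ (h : A)⁻¹
        rw [mul_add, add_mul])
      smul_one := fun h => Subtype.ext (by
        change ρ h * 1 * ρ (h : A)⁻¹ = 1
        rw [mul_one, hinv'])
      smul_mul := fun h x y => Subtype.ext (by
        change ρ h * ((x : Module.End k V) * y) * ρ (h : A)⁻¹ =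
          (ρ h * x * ρ (h : A)⁻¹) * (ρ h * y * ρ (h : A)⁻¹)
        simp only [mul_assoc]
        rw [← mul_assoc (ρ (h : A)⁻¹), hinv, one_mul]) }
  have hsm : ∀ (h : H) (x : R), ((h • x : R) : Module.End k V) = ρ h * x * ρ (h : A)⁻¹ :=
    fun _ _ => rfl
  have : IsArtinianRing R := IsArtinianRing.of_finite k R
  have := Fintype.ofFinite Z
  let ι : Z → R := fun z => ⟨ρ z, Algebra.subset_adjoin ⟨z, z.2, rfl⟩⟩
  have hsum : ∑ z : Z, ι z = 0 := by
    apply Subtype.ext
    rw [AddSubmonoidClass.coe_finsetSum]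
    ext v
    refine hfix _ fun y hy => ?_
    simp only [LinearMap.sum_apply, map_sum, ι]
    rw [← Equiv.sum_comp (Equiv.mulLeft (⟨y, hy⟩ : Z)) (fun z : Z => ρ z v)]
    refine Finset.sum_congr rfl fun z _ => ?_
    simp
  obtain ⟨r, hr⟩ := exists_normal_ring (H := H) (R := R) (fun m hm h hh => by
    by_contra hne
    have h1 : ∀ z : Z, ι z - 1 ∈ m := fun z => by
      obtain ⟨y, hy, hyz⟩ := hfpf h h.2 (fun e => hne (Subtype.ext e)) z z.2
      have h2 := m.mul_mem_left (ι ⟨y⁻¹, Z.inv_mem hy⟩) (hh (ι ⟨y, hy⟩))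
      convert h2 using 1
      apply Subtype.ext
      simp only [ι, AddSubgroupClass.coe_sub, MulMemClass.coe_mul, hsm, OneMemClass.coe_one]
      rw [← map_mul, ← map_mul, ← hyz, mul_sub, ← map_mul, hinv, inv_mul_cancel_left]
    have h2 := m.sum_mem (fun z (_ : z ∈ Finset.univ) => h1 z)
    rw [Finset.sum_sub_distrib, hsum, zero_sub, Finset.sum_const, Finset.card_univ,
      ← Nat.card_eq_fintype_card, neg_mem_iff, nsmul_one] at h2
    refine hm.ne_top (Ideal.eq_top_of_isUnit_mem _ h2 ?_)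
    have : ((Nat.card Z : ℕ) : R) = algebraMap k R (Nat.card Z) := by simp
    rw [this]
    exact (IsUnit.mk0 _ hcard).map _)
  set M : Matrix H H R := Matrix.of fun g h : H => (g * h) • r with hM
  have hMg : ∀ g h : H, M g h = (g * h) • r := fun _ _ => rfl
  have hmul : ∀ (P Q : Matrix H H R) (u : H → V) (i : H),
      ∑ g, (P i g : Module.End k V) (∑ h, (Q g h : Module.End k V) (u h)) =
        ∑ h, ((P * Q) i h : Module.End k V) (u h) := fun P Q u i => by
    simp only [map_sum, Matrix.mul_apply, AddSubmonoidClass.coe_finsetSum, LinearMap.sum_apply,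
      MulMemClass.coe_mul, Module.End.mul_apply]
    exact Finset.sum_comm
  have hone : ∀ (u : H → V) (i : H), ∑ h, ((1 : Matrix H H R) i h : Module.End k V) (u h) = u i :=
    fun u i => by
      rw [Finset.sum_eq_single i (fun j _ hj => by simp [Matrix.one_apply_ne hj.symm]) (by simp)]
      simp
  have hinj : ∀ u : H → V, (∀ g, ∑ h, (M g h : Module.End k V) (u h) = 0) → ∀ h, u h = 0 :=
    fun u hu i => by
      rw [← hone u i, ← Matrix.nonsing_inv_mul M hr, ← hmul]
      simp [hu]
  have hact : ∀ (g : H) (x : R) (v : V), ρ g ((x : Module.End k V) v) =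
      ((g • x : R) : Module.End k V) (ρ g v) := fun g x v => by
    rw [hsm, Module.End.mul_apply, Module.End.mul_apply, ← Module.End.mul_apply (ρ (g : A)⁻¹),
      hinv, Module.End.one_apply]
  let U : Submodule k V := ⨅ h : H, LinearMap.eqLocus (ρ h) LinearMap.id
  have hU : ∀ v, v ∈ U ↔ ∀ h : H, ρ h v = v := fun v => by simp [U]
  refine ⟨U.map (r : Module.End k V), fun v => ?_, fun w hw hs => ?_⟩
  · let u : H → V := fun h => ∑ g, (M⁻¹ h g : Module.End k V) (ρ g v)
    have h1 : ∀ g, ∑ h, (M g h : Module.End k V) (u h) = ρ g v := fun g => by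
      rw [hmul, Matrix.mul_nonsing_inv M hr, hone]
    have h2 : ∀ h, u h ∈ U := fun h => by
      rw [hU]
      intro x
      rw [← sub_eq_zero]
      refine hinj (fun h => ρ x (u h) - u h) (fun g => ?_) h
      simp only [map_sub, Finset.sum_sub_distrib, h1]
      have h3 := congrArg (ρ x) (h1 (x⁻¹ * g))
      rw [map_sum, ← Module.End.mul_apply, ← map_mul] at h3
      simp only [hact, hMg, smul_smul, ← mul_assoc, mul_inv_cancel, one_mul] at h3
      rw [sub_eq_zero]
      simpa [hMg] using h3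
    refine ⟨fun h => (r : Module.End k V) (u h), fun h => ⟨u h, h2 h, rfl⟩, ?_⟩
    have h4 := h1 1
    simp only [hMg, one_mul, OneMemClass.coe_one, map_one, Module.End.one_apply] at h4
    rw [← h4]
    refine Finset.sum_congr rfl fun h _ => ?_
    rw [hact, (hU _).1 (h2 h)]
  · choose u hu hu' using hw
    have h1 := hinj u fun g => by
      have h2 := congrArg (ρ g) hs
      rw [map_sum, map_zero] at h2
      rw [← h2]
      refine Finset.sum_congr rfl fun h _ => ?_
      rw [← hu', hact, hact, (hU _).1 (hu h), (hU _).1 (hu h), smul_smul, hMg]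
    intro h
    rw [← hu', h1, map_zero]

theorem FreeRep.of_isCompl (ρ : Representation k A V) (H : Subgroup A) [Fintype H]
    {U₁ U₂ : Submodule k V} (hc : IsCompl U₁ U₂) (h₁ : ∀ g, U₁ ≤ U₁.comap (ρ g))
    (h₂ : ∀ g, U₂ ≤ U₂.comap (ρ g)) (f₁ : FreeRep (ρ.subrepresentation U₁ h₁) H)
    (f₂ : FreeRep (ρ.subrepresentation U₂ h₂) H) : FreeRep ρ H := by
  obtain ⟨W₁, a₁, b₁⟩ := f₁
  obtain ⟨W₂, a₂, b₂⟩ := f₂
  refine ⟨W₁.map U₁.subtype ⊔ W₂.map U₂.subtype, fun v => ?_, fun w hw hs => ?_⟩
  · obtain ⟨x, hx, y, hy, rfl⟩ := Submodule.mem_sup.1 (hc.sup_eq_top ▸ Submodule.mem_top (x := v))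
    obtain ⟨w₁, hw₁, e₁⟩ := a₁ ⟨x, hx⟩
    obtain ⟨w₂, hw₂, e₂⟩ := a₂ ⟨y, hy⟩
    refine ⟨fun h => w₁ h + w₂ h, fun h => Submodule.add_mem_sup ⟨_, hw₁ h, rfl⟩ ⟨_, hw₂ h, rfl⟩,
      ?_⟩
    have e₃ := congrArg Subtype.val e₁
    have e₄ := congrArg Subtype.val e₂
    rw [AddSubmonoidClass.coe_finsetSum] at e₃ e₄
    simp only [map_add, Finset.sum_add_distrib]
    exact congrArg₂ (· + ·) e₃ e₄
  · have : ∀ h, ∃ x ∈ W₁, ∃ y ∈ W₂, (x : V) + y = w h := fun h => by
      obtain ⟨_, ⟨x, hx, rfl⟩, _, ⟨y, hy, rfl⟩, e⟩ := Submodule.mem_sup.1 (hw h)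
      exact ⟨x, hx, y, hy, e⟩
    choose x hx y hy e using this
    have h1 : ((∑ h : H, ρ.subrepresentation U₁ h₁ h (x h) : U₁) : V) +
        ((∑ h : H, ρ.subrepresentation U₂ h₂ h (y h) : U₂) : V) = 0 := by
      rw [← hs, AddSubmonoidClass.coe_finsetSum, AddSubmonoidClass.coe_finsetSum,
        ← Finset.sum_add_distrib]
      refine Finset.sum_congr rfl fun h _ => ?_
      rw [← e, map_add]
      rfl
    have h2 := (Submodule.disjoint_iff_add_eq_zero.1 hc.disjoint) (Subtype.prop _)
      (Subtype.prop _) h1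
    intro h
    rw [← e, b₁ x hx (Subtype.ext h2.1) h, b₂ y hy (Subtype.ext h2.2) h]
    simp

theorem freeRep_of_solvable (H N : Subgroup A) [Fintype H] [Finite N] [hN : N.Normal]
    [Group.IsSolvable N] (hcard : (Nat.card N : k) ≠ 0)
    (hfpf : ∀ Z : Subgroup A, Z.Normal → Z ≤ N →
      ∀ h ∈ H, h ≠ 1 → ∀ z ∈ Z, ∃ y ∈ Z, y * z = h * y * h⁻¹) (n : ℕ) :
    ∀ (V : Type _) [AddCommGroup V] [Module k V] [FiniteDimensional k V]
      (ρ : Representation k A V), Module.finrank k V = n →
      (∀ v, (∀ z ∈ N, ρ z v = v) → v = 0) → FreeRep ρ H := by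
  induction n using Nat.strong_induction_on with
  | _ n ih =>
  intro V _ _ _ ρ hn hfix
  by_cases hker : N ≤ ρ.ker
  · have hV : ∀ v : V, v = 0 := fun v => hfix v fun z hz => by
      rw [MonoidHom.mem_ker.1 (hker hz), Module.End.one_apply]
    exact ⟨⊥, fun v => ⟨0, fun _ => Submodule.zero_mem _, (hV _).trans (hV _).symm⟩,
      fun w _ _ h => hV _⟩
  have hfin : Finite {Z : Subgroup A // Z ≤ N} :=
    Finite.of_injective (fun Z => Z.1.subgroupOf N) fun Z Z' h => Subtype.ext (by
      have := congrArg (Subgroup.map N.subtype) h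
      simpa only [Subgroup.map_subgroupOf_eq_of_le Z.2, Subgroup.map_subgroupOf_eq_of_le Z'.2]
        using this)
  obtain ⟨⟨Z, hZN⟩, ⟨hZ, hZk⟩, hmin⟩ := WellFounded.has_min
    (wellFounded_lt (α := {Z : Subgroup A // Z ≤ N})) {Z | Z.1.Normal ∧ ¬ Z.1 ≤ ρ.ker}
    ⟨⟨N, le_rfl⟩, hN, hker⟩
  simp only at hZ hZk
  have : Finite Z := Finite.of_injective _ (Subgroup.inclusion_injective hZN)
  have hZs : Group.IsSolvable Z := solvable_of_solvable_injective (Subgroup.inclusion_injective hZN)
  have hZ0 : Z ≠ ⊥ := fun h => hZk (h ▸ bot_le)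
  have hlt : ⁅Z, Z⁆ < Z := by
    have : Nontrivial Z := (Subgroup.nontrivial_iff_ne_bot Z).2 hZ0
    have h1 := IsSolvable.commutator_lt_top_of_nontrivial Z
    refine lt_of_le_of_ne (Subgroup.commutator_le_left Z Z) fun h => h1.ne ?_
    apply Subgroup.map_injective Z.subtype_injective
    rw [Subgroup.map_subtype_commutator, h, ← MonoidHom.range_eq_map, Subgroup.range_subtype]
  have hcomm : ∀ a ∈ Z, ∀ b ∈ Z, ρ a * ρ b = ρ b * ρ a := fun a ha b hb => by
    have h1 : ⁅Z, Z⁆ ≤ ρ.ker := by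
      by_contra h
      exact hmin ⟨⁅Z, Z⁆, hlt.le.trans hZN⟩ ⟨inferInstance, h⟩ hlt
    have h2 := MonoidHom.mem_ker.1 (h1 (Subgroup.commutator_mem_commutator ha hb))
    have h3 : a * b = ⁅a, b⁆ * (b * a) := by rw [commutatorElement_def]; group
    rw [← map_mul, ← map_mul, h3, map_mul, h2, one_mul]
  have hcZ : (Nat.card Z : k) ≠ 0 := fun h => hcard (by
    obtain ⟨c, hc⟩ := Subgroup.card_dvd_of_le hZN
    rw [hc, Nat.cast_mul, h, zero_mul])
  have := Fintype.ofFinite Z
  let s : Module.End k V := ∑ z : Z, ρ z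
  have hs1 : ∀ y ∈ Z, ∀ v, ρ y (s v) = s v := fun y hy v => by
    simp only [s, LinearMap.sum_apply, map_sum]
    rw [← Equiv.sum_comp (Equiv.mulLeft (⟨y, hy⟩ : Z)) (fun z : Z => ρ z v)]
    refine Finset.sum_congr rfl fun z _ => ?_
    simp
  have hs2 : ∀ v, (∀ z ∈ Z, ρ z v = v) → s v = (Nat.card Z : k) • v := fun v hv => by
    simp only [s, LinearMap.sum_apply]
    rw [Finset.sum_congr rfl fun (z : Z) _ => hv z z.2, Finset.sum_const, Finset.card_univ,
      Nat.card_eq_fintype_card, Nat.cast_smul_eq_nsmul]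
  have hs3 : ∀ g v, s (ρ g v) = ρ g (s v) := fun g v => by
    simp only [s, LinearMap.sum_apply, map_sum]
    rw [← Equiv.sum_comp (MulAut.conjNormal g : MulAut Z).toEquiv (fun z : Z => ρ z (ρ g v))]
    refine Finset.sum_congr rfl fun z _ => ?_
    rw [← Module.End.mul_apply, ← Module.End.mul_apply, ← map_mul, ← map_mul]
    simp
  let U₁ : Submodule k V := ⨅ z : Z, LinearMap.eqLocus (ρ z) LinearMap.id
  have hU₁ : ∀ v, v ∈ U₁ ↔ ∀ z ∈ Z, ρ z v = v := fun v => by simp [U₁]
  have h₁ : ∀ g, U₁ ≤ U₁.comap (ρ g) := fun g v hv => by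
    rw [Submodule.mem_comap, hU₁]
    intro z hz
    have h1 := (hU₁ v).1 hv _ (hZ.conj_mem' z hz g)
    conv_rhs => rw [← h1]
    rw [← Module.End.mul_apply, ← Module.End.mul_apply, ← map_mul, ← map_mul]
    congr 2
    group
  have h₂ : ∀ g, LinearMap.ker s ≤ (LinearMap.ker s).comap (ρ g) := fun g v hv => by
    rw [Submodule.mem_comap, LinearMap.mem_ker, hs3, LinearMap.mem_ker.1 hv, map_zero]
  have hdisj : ∀ v, (∀ z ∈ Z, ρ z v = v) → s v = 0 → v = 0 := fun v h1 h2 => by
    rw [hs2 v h1] at h2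
    exact (smul_eq_zero.1 h2).resolve_left hcZ
  have hc : IsCompl U₁ (LinearMap.ker s) := by
    refine ⟨Submodule.disjoint_def.2 fun v h1 h2 => hdisj v ((hU₁ v).1 h1) h2,
      codisjoint_iff.2 (eq_top_iff.2 fun v _ => Submodule.mem_sup.2
        ⟨(Nat.card Z : k)⁻¹ • s v, U₁.smul_mem _ ((hU₁ _).2 fun z hz => hs1 z hz v),
          v - (Nat.card Z : k)⁻¹ • s v, ?_, add_sub_cancel _ _⟩)⟩
    rw [LinearMap.mem_ker, map_sub, map_smul, hs2 (s v) fun z hz => hs1 z hz v, smul_smul,
      inv_mul_cancel₀ hcZ, one_smul, sub_self]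
  refine FreeRep.of_isCompl ρ H hc h₁ h₂ (ih _ ?_ _ _ rfl fun v hv => ?_)
    (freeRep_of_comm _ H Z (fun a ha b hb => ?_) hcZ (fun v hv => ?_) (hfpf Z hZ hZN))
  · rw [← hn]
    refine Submodule.finrank_lt fun h => hZk fun z hz => ?_
    rw [MonoidHom.mem_ker]
    ext v
    exact (hU₁ v).1 (h ▸ Submodule.mem_top) z hz
  · exact Subtype.ext (hfix _ fun z hz => congrArg Subtype.val (hv z hz))
  · ext v
    exact congrArg (fun f : Module.End k V => f v) (hcomm a ha b hb)
  · exact Subtype.ext (hdisj _ (fun z hz => congrArg Subtype.val (hv z hz)) v.2)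

/-- A nilpotent group without fixed vectors: a normal subgroup of index a power of the
characteristic has no fixed vectors either. -/
theorem fixed_eq_zero_of_pow_mem (ρ : Representation k A V) {p : ℕ} [Fact p.Prime] [CharP k p]
    (F N : Subgroup A) [Finite F] (hF : Group.IsNilpotent F) (hNF : N ≤ F)
    (hpow : ∀ x ∈ F, ∃ n : ℕ, x ^ p ^ n ∈ N) (hfix : ∀ v, (∀ z ∈ F, ρ z v = v) → v = 0) :
    ∀ v, (∀ z ∈ N, ρ z v = v) → v = 0 := by
  have key : ∀ L : Subgroup F, N.subgroupOf F ≤ L → ∀ v, (∀ z ∈ L, ρ z v = v) → v = 0 := by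
    intro L
    induction L using WellFoundedGT.induction with
    | _ L ih =>
    intro hL v hv
    by_cases hT : L = ⊤
    · exact hfix v fun z hz => hv ⟨z, hz⟩ (hT ▸ Subgroup.mem_top _)
    obtain ⟨x, hx, hxL⟩ := SetLike.exists_of_lt
      (normalizerCondition_of_isNilpotent L (lt_top_iff_ne_top.2 hT))
    obtain ⟨n, hn⟩ := hpow x x.2
    have h1 : ∀ j : ℕ, ∀ z ∈ L, ρ z (((ρ x - 1) ^ j) v) = ((ρ x - 1) ^ j) v := by
      intro j
      induction j with
      | zero => simpa using hv
      | succ j ihj =>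
        intro z hz
        rw [pow_succ', Module.End.mul_apply, LinearMap.sub_apply, Module.End.one_apply, map_sub,
          ihj z hz]
        congr 1
        have h2 := ihj _ ((Subgroup.mem_normalizer_iff''.1 hx z).1 hz)
        conv_rhs => rw [← h2]
        rw [← Module.End.mul_apply, ← Module.End.mul_apply (ρ x), ← map_mul, ← map_mul]
        congr 2
        simp only [Subgroup.coe_mul, Subgroup.coe_inv]
        group
    have h2 : ∀ j : ℕ, ((ρ x - 1) ^ j) v = 0 → v = 0 := by
      intro j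
      induction j with
      | zero => simp
      | succ j ihj =>
        intro h
        refine ihj (ih (L ⊔ Subgroup.zpowers x) (lt_of_le_of_ne le_sup_left fun e => hxL ?_)
          (hL.trans le_sup_left) _ ?_)
        · rw [e]; exact Subgroup.mem_sup_right (Subgroup.mem_zpowers x)
        · let S : Subgroup F :=
            { carrier := {z | ρ z (((ρ x - 1) ^ j) v) = ((ρ x - 1) ^ j) v}
              one_mem' := by simp
              mul_mem' := fun {a b} ha hb => by
                simp only [Set.mem_setOf_eq, Subgroup.coe_mul, map_mul, Module.End.mul_apply]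
                  at ha hb ⊢
                rw [hb, ha]
              inv_mem' := fun {a} ha => by
                simp only [Set.mem_setOf_eq, Subgroup.coe_inv] at ha ⊢
                conv_lhs => rw [← ha]
                rw [← Module.End.mul_apply, ← map_mul, inv_mul_cancel, map_one,
                  Module.End.one_apply] }
          have : L ⊔ Subgroup.zpowers x ≤ S := by
            refine sup_le (h1 j) (Subgroup.zpowers_le.2 ?_)
            rwa [pow_succ', Module.End.mul_apply, LinearMap.sub_apply, Module.End.one_apply,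
              sub_eq_zero] at h
          exact this
    by_contra hv0
    have : Nontrivial V := nontrivial_of_ne v 0 hv0
    have : CharP (Module.End k V) p := charP_of_injective_algebraMap (algebraMap k _).injective p
    refine hv0 (h2 (p ^ n) ?_)
    rw [sub_pow_char_pow_of_commute _ _ (Commute.one_right _), one_pow, ← map_pow,
      LinearMap.sub_apply, Module.End.one_apply, sub_eq_zero]
    exact hv (x ^ p ^ n) (hL hn)
  intro v hv
  exact key _ le_rfl v fun z hz => hv z hz

end Rep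

end Cfsg.Lib.Solv.GalFree
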