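import Cfsg.Agent.Solv.HaradaE8

/-!
# Harada's theorem on self-centralising elementary abelian subgroups of order eight, part II
-/

set_option autoImplicit false

open scoped commutatorElement Pointwise
open Subgroup

namespace Cfsg.Lib.Solv.PG

variable {G : Type*} [Group G]

namespace E8Setup

variable {A U : Subgroup G} (h : E8Setup A U) [Finite G] (hG : IsPGroup 2 G)
  (h4 : Nat.card (A ⊓ U : Subgroup G) = 4) {a : G} (ha : a ∈ A) (haU : a ∉ U)
include h h4 ha haU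

theorem sup_eq : A ⊓ U ⊔ zpowers a = A :=
  sup_zpowers_eq_of_card_eq_prime_mul Nat.prime_two inf_le_left (by rw [h4, h.cardA]) ha
    fun h1 => haU h1.2

theorem mem_of_cent {c : G} (h1 : ⁅c, a⁆ = 1) (h2 : c ∈ centralizer ((A ⊓ U : Subgroup G) : Set G)) :
    c ∈ A := by
  apply h.centA
  rw [← h.sup_eq h4 ha haU, ← zpowers_le, le_centralizer_iff, sup_le_iff, zpowers_le,
    ← le_centralizer_iff, zpowers_le, zpowers_eq_closure, centralizer_closure]
  exact ⟨h2, mem_centralizer_singleton_iff.mpr (commutatorElement_eq_one_iff_mul_comm.mp h1).symm⟩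

theorem not_mem_cent : a ∉ centralizer (U : Set G) := fun h1 => by
  have h2 : U ≤ A := fun u hu => h.mem_of_cent h4 ha haU
    (commutatorElement_eq_one_iff_mul_comm.mpr (h1 u hu)) fun v hv => h.commU hv.2 hu
  have := h.le_card
  rw [inf_eq_right.mpr h2] at h4
  omega

theorem mem_inf_of_cent {c : G} (h1 : ⁅c, a⁆ = 1) (h2 : c ∈ centralizer (U : Set G)) :
    c ∈ A ⊓ U := by
  have h3 := h.mem_of_cent h4 ha haU h1 (centralizer_le inf_le_right h2)
  refine ⟨h3, by_contra fun h5 => h.not_mem_cent h4 h3 h5 h2⟩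

theorem cent_inf_eq {X : Subgroup G} (h1 : U ≤ X) (h2 : X ≤ centralizer (U : Set G)) :
    centralizer ({a} : Set G) ⊓ X = A ⊓ U :=
  le_antisymm (fun _ hc => h.mem_inf_of_cent h4 ha haU (mem_cent_iff.mp hc.1) (h2 hc.2))
    fun _ hc => ⟨mem_centralizer_singleton_iff.mpr (h.commA hc.1 ha), h1 hc.2⟩

theorem comm_mem {s : G} (hs : ⁅s, a⁆ ∈ U) : ⁅s, a⁆ ∈ A ⊓ U :=
  h.mem_inf_of_cent h4 ha haU (commute_commutator_of_sq (h.sqA a ha) (h.sqU _ hs)) (h.le_cent hs)

theorem card_le_sixteen' {X : Subgroup G} (h1 : U ≤ X) (h2 : X ≤ centralizer (U : Set G))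
    (hX : ∀ x ∈ X, ⁅x, a⁆ ∈ U) : Nat.card X ≤ 16 := by
  have := card_le_mul_card_centralizer fun x hx => h.comm_mem h4 ha haU (hX x hx)
  rwa [h.cent_inf_eq h4 ha haU h1 h2, h4] at this

theorem exists_comm_eq {X : Subgroup G} (h1 : U ≤ X) (h2 : X ≤ centralizer (U : Set G))
    (hX : ∀ x ∈ X, ⁅x, a⁆ ∈ U) (h16 : 16 ≤ Nat.card X) {c : G} (hc : c ∈ A ⊓ U) :
    ∃ x ∈ X, ⁅x, a⁆ = c :=
  exists_commutator_eq (fun x hx => h.comm_mem h4 ha haU (hX x hx))
    (by rwa [h.cent_inf_eq h4 ha haU h1 h2, h4]) hc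

theorem exists_not_cent : ∃ u ∈ U, ⁅u, a⁆ ≠ 1 := by
  by_contra! h1
  exact h.not_mem_cent h4 ha haU fun u hu => commutatorElement_eq_one_iff_mul_comm.mp (h1 u hu)

include hG

theorem card_cent_le_sixteen : Nat.card (centralizer ({a} : Set G)) ≤ 16 := by
  have : Fact (Nat.Prime 2) := ⟨Nat.prime_two⟩
  have := h.normalU
  set C := centralizer ({a} : Set G)
  have h1 : A ⊓ U = C ⊓ U := (h.cent_inf_eq h4 ha haU le_rfl h.le_cent).symm
  have h2 : (A ⊓ U).subgroupOf C = U.subgroupOf C := by rw [h1, inf_subgroupOf_left]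
  have h3 := FT.BG4.index_centralizer_le (hG.to_subgroup C) (U.subgroupOf C)
    (by rw [card_subgroupOf, inf_comm, ← h1, h4]; rfl)
  have h5 : centralizer (U.subgroupOf C : Set C) ≤ A.subgroupOf C := fun c hc =>
    h.mem_of_cent h4 ha haU (mem_cent_iff.mp c.2) fun u hu =>
      congrArg Subtype.val (hc ⟨u, (h1.le hu).1⟩ hu.2)
  have h6 := card_le_of_le h5
  have h7 := card_le_of_le (inf_le_left : A ⊓ C ≤ A)
  rw [card_subgroupOf] at h6
  rw [card_eq_index_mul (centralizer (U.subgroupOf C : Set C))]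
  exact Nat.mul_le_mul h3 (h6.trans (h7.trans_eq h.cardA))

theorem secRank_of_sixteen (h16 : 16 ≤ Nat.card U) : SectionalPRankLE 2 4 G := by
  have : Fact (Nat.Prime 2) := ⟨Nat.prime_two⟩
  have := h.normalU
  have h1 := h.card_le_sixteen' h4 ha haU le_rfl h.le_cent fun _ hx => commutator_mem_left hx a
  have hC : centralizer (U : Set G) ≤ U := by
    by_contra h2
    obtain ⟨t, ht, htU, ht2, h3⟩ := exists_normal_step_elt hG h2
    have h5 := h.card_le_sixteen' h4 ha haU le_sup_left (sup_le h.le_cent (zpowers_le.mpr ht))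
      fun x hx => mem_cmod_singleton.mp
        (sup_le (le_cmod U _) (zpowers_le.mpr (mem_cmod_singleton.mpr (h3 a))) hx)
    rw [card_sup_zpowers Nat.prime_two (le_normalizer_of_normal (mem_top t)) htU ht2] at h5
    omega
  refine secRank_four_of_card_centralizer hG U h1 hC (x := QuotientGroup.mk' U a) ?_
    fun z hz h2 => not_lt.mp fun h3 => ?_
  · have h2 := card_le_mul_card_centralizer (H := cmod U {a}) fun x hx =>
      h.comm_mem h4 ha haU (mem_cmod_singleton.mp hx)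
    have h3 := (card_le_of_le (inf_le_left : _ ⊓ cmod U {a} ≤ _)).trans
      (h.card_cent_le_sixteen hG h4 ha haU)
    rw [card_cmod, Set.image_singleton, h4] at h2
    nlinarith
  set W := centralizer ({z} : Set G) ⊓ U with hW
  have h5 : W.Normal := ⟨fun u hu g => ⟨mem_centralizer_singleton_iff.mpr ?_, this.conj_mem u hu.2 g⟩⟩
  swap
  · have h6 := ((h.commU hu.2 (inv_mem (h2 g⁻¹))).mul_right
      (mem_centralizer_singleton_iff.mp hu.1)).conj g
    rwa [show g * (⁅z, g⁻¹⁆⁻¹ * z) * g⁻¹ = z by simp only [commutatorElement_def]; group] at h6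
  have h6 : 2 * Nat.card W ≤ Nat.card U := prime_mul_card_le_of_lt (hG.to_subgroup U)
    (inf_lt_right.mpr fun h6 : U ≤ _ => hz (hC fun u hu => mem_centralizer_singleton_iff.mp (h6 hu)))
  have h7 : Nat.card U = 2 * Nat.card W := by
    obtain ⟨n, hn⟩ := IsPGroup.exists_card_eq (hG.to_subgroup W)
    have : 2 < n := (Nat.pow_lt_pow_iff_right one_lt_two).mp (by omega)
    have := Nat.pow_le_pow_right two_pos this
    omega
  have h8 := (commutator_le_of_card_eq_prime_mul (isPGroup_top hG) (hG.to_subgroup U)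
    le_normalizer_of_normal le_normalizer_of_normal inf_le_right h7).1
  have h9 := fun c => h.exists_comm_eq h4 ha haU le_rfl h.le_cent
    (fun _ hx => commutator_mem_left hx a) h16 (c := c)
  obtain ⟨u, hu, h10⟩ := h9 _ (h.comm_mem h4 ha haU (h2 a))
  have h11 : u⁻¹ * z ∈ A := h.mem_of_cent h4 ha haU (inv_mul_mem_cent h10.symm)
    (mul_mem (inv_mem fun v hv => h.commU hv.2 hu) fun c hc => by
      obtain ⟨v, hv, rfl⟩ := h9 c hc
      exact mem_centralizer_singleton_iff.mp (h8 (commutator_mem_commutator hv (mem_top a))).1)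
  have h12 := h.cent_inf_eq h4 h11 (fun h12 => hz ((mul_mem_cancel_left (inv_mem hu)).mp h12))
    le_rfl h.le_cent
  have h13 : W ≤ A ⊓ U := h12 ▸ fun w hw => ⟨mem_centralizer_singleton_iff.mpr
    ((h.commU hw.2 (inv_mem hu)).mul_right (mem_centralizer_singleton_iff.mp hw.1)), hw.2⟩
  have := card_le_of_le h13
  omega

theorem secRank_of_cyclic (h8 : Nat.card U = 8) {t : G}
    (ht : centralizer (U : Set G) = U ⊔ zpowers t) : SectionalPRankLE 2 4 G := by
  have : Fact (Nat.Prime 2) := ⟨Nat.prime_two⟩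
  have := h.normalU
  have := isMulCommutative_of_sq_eq_one h.sqU
  set T := centralizer (U : Set G) with hT
  have hUT : U ≤ T := h.le_cent
  by_cases hTU : T ≤ U
  · exact secRank_four_of_card_centralizer_eq hG U h8 ((card_le_of_le hTU).trans_eq h8)
  have htT : t ∈ T := ht ▸ mem_sup_right (mem_zpowers t)
  have hTc : IsMulCommutative T := ht ▸ isMulCommutative_sup_zpowers htT
  have hcomm : ∀ {x y : G}, x ∈ T → y ∈ T → Commute x y := fun hx hy => mul_comm_of_mem hx hy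
  have hΩ : omegaOne 2 T = U := (eq_of_le_of_card_ge (le_omegaOne hUT h.sqU)
    (h.max _ inferInstance (isElementaryAbelian_omegaOne T).2)).symm
  have hU : ∀ x ∈ T, x ^ 2 = 1 → x ∈ U := fun x hx h1 => hΩ ▸ mem_omegaOne hx h1
  set P := powerClosure 2 1 T with hP
  have hY : Nat.card (U ⊓ P : Subgroup G) ≤ 2 := by
    have h1 : P ≤ zpowers (t ^ 2) := powerClosure_le_iff.mpr fun x hx => by
      obtain ⟨u, hu, n, rfl⟩ := (mem_sup_zpowers_iff (le_normalizer_of_normal (mem_top t))).mp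
        (ht ▸ hx)
      rw [pow_one, (hcomm (hUT hu) (zpow_mem htT n)).mul_pow, h.sqU u hu, one_mul,
        ← zpow_natCast (t ^ n), ← zpow_mul, mul_comm, zpow_mul, zpow_natCast]
      exact zpow_mem (mem_zpowers _) n
    have := isCyclic_of_le (inf_le_right.trans h1 : U ⊓ P ≤ _)
    rw [← IsCyclic.exponent_eq_card]
    exact Nat.le_of_dvd two_pos (Monoid.exponent_dvd_of_forall_pow_eq_one fun y =>
      Subtype.ext (h.sqU y y.2.1))
  have hYZ : U ⊓ P ≤ center G := by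
    by_cases h1 : U ⊓ P = ⊥
    · exact h1 ▸ bot_le
    · exact le_center_of_card_eq_prime hG _ (le_antisymm hY ((one_lt_card_iff_ne_bot _).mpr h1))
  have hYA : U ⊓ P ≤ A ⊓ U := le_inf (hYZ.trans ((center_le_centralizer _).trans h.centA))
    inf_le_left
  have haT := h.not_mem_cent h4 ha haU
  have hconj : ∀ {x : G} (g : G), x ∈ T → g * x * g⁻¹ ∈ T := fun g hx =>
    Normal.conj_mem inferInstance _ hx g
  -- the subgroup `[T, a]`
  set J := ⁅zpowers a, T⁆ with hJ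
  have hJ' : ∀ c, c ∈ J ↔ ∃ τ ∈ T, ⁅a, τ⁆ = c := fun c =>
    mem_commutator_zpowers_iff T (le_normalizer_of_normal (mem_top a))
  have hAJ : A ⊓ U ≤ J := fun c hc => by
    obtain ⟨t₁, h1, h2, h3, h5⟩ := exists_normal_step_elt hG hTU
    obtain ⟨x, hx, rfl⟩ := h.exists_comm_eq h4 ha haU le_sup_left (sup_le hUT (zpowers_le.mpr h1))
      (fun x hx => mem_cmod_singleton.mp
        (sup_le (le_cmod U _) (zpowers_le.mpr (mem_cmod_singleton.mpr (h5 a))) hx))
      (by rw [card_sup_zpowers Nat.prime_two (le_normalizer_of_normal (mem_top _)) h2 h3, h8]) hc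
    rw [← commutatorElement_inv]
    exact inv_mem ((hJ' _).mpr ⟨x, sup_le hUT (zpowers_le.mpr h1) hx, rfl⟩)
  have hinv : ∀ {b τ : G}, b ^ 2 = 1 → τ ∈ T → ⁅b * τ * b⁻¹ * τ, b⁆ = 1 := fun {b τ} hb hτ => by
    rw [commutatorElement_eq_one_iff_mul_comm, show b * (b * τ * b⁻¹ * τ) =
      b ^ 2 * τ * (b ^ 2)⁻¹ * (b * τ * b⁻¹) * b by simp only [sq]; group, hb, one_mul, inv_one,
      mul_one, (hcomm (hconj b hτ) hτ).eq]
  have hinvA : ∀ {τ : G}, τ ∈ T → a * τ * a⁻¹ * τ ∈ A ⊓ U := fun hτ =>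
    h.mem_inf_of_cent h4 ha haU (hinv (h.sqA a ha) hτ) (mul_mem (hconj a hτ) hτ)
  have hPJ : P ≤ J := powerClosure_le_iff.mpr fun τ hτ => by
    rw [show τ ^ 2 ^ 1 = ⁅a, τ⁆⁻¹ * (a * τ * a⁻¹ * τ) by simp [commutatorElement_def, sq, mul_assoc]]
    exact mul_mem (inv_mem ((hJ' _).mpr ⟨τ, hτ, rfl⟩)) (hAJ (hinvA hτ))
  obtain ⟨hQ, hQ8⟩ := secRank_quotient_of_card_eight hG U h8
  refine secRank_of_le fun H K hKH h1 h2 => not_lt.mp fun h3 => ?_
  rw [relIndex_eq_mul_of_normal T hKH h1] at h3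
  have h5 : ∀ x ∈ H.map (QuotientGroup.mk' T), x ^ 2 ∈ K.map (QuotientGroup.mk' T) := by
    rintro _ ⟨x, hx, rfl⟩; exact ⟨_, h2 x hx, map_pow _ x 2⟩
  have h6 := relIndex_le_of_secRank_two hQ h5
  have : IsMulCommutative (T ⊓ H : Subgroup G) :=
    isMulCommutative_of_forall fun x hx y hy => hcomm hx.1 hy.1
  have h7 := relIndex_mul_relIndex_eq_card_omegaOne (H := T ⊓ H) fun x hx => h2 x hx.2
  have h9 : omegaOne 2 (T ⊓ H) ≤ U := hΩ ▸ omegaOne_mono inf_le_left
  have h10 := card_le_of_le h9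
  have h11 : (powerClosure 2 1 (T ⊓ H)).relIndex (K ⊓ (T ⊓ H)) ≠ 0 := index_ne_zero_of_finite
  have h12 : 4 < K.relIndex (T ⊓ H) := by nlinarith
  have h13 : (powerClosure 2 1 (T ⊓ H)).relIndex (K ⊓ (T ⊓ H)) = 1 := by
    by_contra h13
    have : 2 ≤ (powerClosure 2 1 (T ⊓ H)).relIndex (K ⊓ (T ⊓ H)) := by omega
    nlinarith
  rw [h13, one_mul] at h7
  have hUH : U ≤ H := by
    rcases h9.eq_or_lt with h14 | h14
    · exact h14 ▸ (omegaOne_le _).trans inf_le_right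
    · have := prime_mul_card_le_of_lt (hG.to_subgroup U) h14
      omega
  have hK : ∀ k ∈ K, k ∈ T → k ∈ powerClosure 2 1 (T ⊓ H) := fun k hk h14 =>
    relIndex_eq_one.mp h13 ⟨hk, h14, hKH hk⟩
  have hKP : ∀ k ∈ K, k ∈ T → k ∈ P := fun k hk h14 => powerClosure_mono 1 inf_le_left (hK k hk h14)
  have haD : a ∉ T ⊔ H := fun haD => by
    obtain ⟨τ, hτ, x, hx, rfl⟩ := (mem_sup_iff_of_le_normalizer le_normalizer_of_normal).mp haD
    have h14 : ∀ y ∈ T ⊓ H, ⁅y, τ * x⁆ ∈ K := fun y hy => by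
      rw [commutatorElement_mul_right_of_commute (hcomm hτ (commutator_mem_left hy.1 x)),
        commutatorElement_eq_one_iff_commute.mpr (hcomm hy.1 hτ), one_mul]
      exact h1 (commutator_mem_commutator hy.2 hx)
    obtain ⟨u, hu, hu1⟩ := h.exists_not_cent h4 ha haU
    have h15 := h14 u ⟨hUT hu, hUH hu⟩
    have h16 := commutator_mem_left hu (τ * x)
    obtain ⟨t₀, ht₀, h17⟩ := mem_powerClosure_iff_of_comm.mp (hK _ h15 (hUT h16))
    have h18 := commutator_mem_left ht₀.1 (τ * x)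
    have h19 : ⁅t₀, τ * x⁆ ∈ U ⊓ P := ⟨hU _ h18 (by
      rw [sq, ← commutatorElement_mul_left_of_commute (hcomm ht₀.1 h18) (Commute.refl _), ← sq,
        commutatorElement_eq_one_iff_mul_comm]
      exact (mem_center_iff.mp (hYZ ⟨h17 ▸ h16, pow_mem_powerClosure (n := 1) ht₀.1⟩) _).symm),
      hKP _ (h14 _ ht₀) h18⟩
    refine hu1 (h17.trans (h.sqU _ ?_))
    by_cases h20 : ⁅t₀, τ * x⁆ = 1
    · exact (h.mem_inf_of_cent h4 ha haU h20 ht₀.1).2
    · exact (mul_mem_cancel_left (inv_mem hu)).mp (h.mem_inf_of_cent h4 ha haU (inv_mul_mem_cent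
        (eq_of_card_le_two hY h19 ⟨h16, hKP _ h15 (hUT h16)⟩ h20 hu1))
          (mul_mem (inv_mem (hUT hu)) ht₀.1)).2
  have hD : (H.map (QuotientGroup.mk' T)).comap (QuotientGroup.mk' T) = T ⊔ H := by
    rw [comap_map_eq, QuotientGroup.ker_mk', sup_comm]
  have h14 := (H.map (QuotientGroup.mk' T)).index_mul_card
  have h15 := relIndex_mul_card (map_mono hKH : K.map (QuotientGroup.mk' T) ≤ _)
  have h16 := one_lt_index_of_ne_top (H := H.map (QuotientGroup.mk' T)) fun h16 =>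
    haD (hD ▸ h16 ▸ mem_top _)
  have h17 : 0 < Nat.card (K.map (QuotientGroup.mk' T)) := Nat.card_pos
  have h18 : Nat.card (G ⧸ T) ≤ 8 := hQ8
  have h19 : 2 < (K.map (QuotientGroup.mk' T)).relIndex (H.map (QuotientGroup.mk' T)) := by
    nlinarith
  have h20 : Nat.card (K.map (QuotientGroup.mk' T)) = 1 := by
    by_contra h20
    have : 2 ≤ Nat.card (K.map (QuotientGroup.mk' T)) := by omega
    nlinarith
  have h21 : (H.map (QuotientGroup.mk' T)).index = 2 := by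
    by_contra h21
    have : 3 ≤ (H.map (QuotientGroup.mk' T)).index := by omega
    nlinarith
  rw [h20, mul_one] at h15
  rw [card_eq_one] at h20
  have hKT : K ≤ T := ((Subgroup.map_eq_bot_iff K).mp h20).trans (QuotientGroup.ker_mk' T).le
  have hD2 : (T ⊔ H).index = 2 := by
    rw [← hD, index_comap_of_surjective _ (QuotientGroup.mk'_surjective T), h21]
  obtain ⟨b, hb, hab⟩ : ∃ b ∈ H, ⁅a, b⁆ ∉ T := by
    by_contra! h22
    have h23 : ∀ x ∈ T ⊔ H, x ^ 2 ∈ T ∧ ⁅a, x⁆ ∈ T := fun y hy => by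
      obtain ⟨τ, hτ, x, hx, rfl⟩ := (mem_sup_iff_of_le_normalizer le_normalizer_of_normal).mp hy
      rw [show (τ * x) ^ 2 = τ * (x * τ * x⁻¹) * x ^ 2 by simp [sq, mul_assoc],
        commutatorElement_mul_right_eq_mul_conj]
      exact ⟨mul_mem (mul_mem hτ (hconj x hτ)) (hKT (h2 x hx)), mul_mem (mul_mem (mul_mem
        (commutator_mem_right hτ a) hτ) (h22 x hx)) (inv_mem hτ)⟩
    have h24 := relIndex_le_of_secRank_two hQ (H := ⊤) (K := ⊥) fun q _ => by
      obtain ⟨g, rfl⟩ := QuotientGroup.mk'_surjective T q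
      rw [← map_pow]
      refine (QuotientGroup.eq_one_iff _).mpr ?_
      by_cases hg : g ∈ T ⊔ H
      · exact (h23 g hg).1
      · have h24 := h23 _ ((mul_mem_iff_of_index_two hD2).mpr (iff_of_false haD hg))
        rw [show g ^ 2 = (a ^ 2)⁻¹ * ⁅a, a * g⁆ * (a * g) ^ 2 by
          simp only [commutatorElement_def, sq]; group, h.sqA a ha, inv_one, one_mul]
        exact mul_mem h24.2 h24.1
    rw [relIndex_bot_left, card_top] at h24
    nlinarith
  have hb' : ∀ c ∈ H, ∀ α ∈ A ⊓ U, c * α * c⁻¹ ∈ A ⊓ U := fun c hc α hα => by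
    rw [← inv_mul_cancel_right (c * α * c⁻¹) α]
    exact mul_mem (hYA ⟨commutator_mem_right hα.2 c, hKP _ (h1 (commutator_mem_commutator hc
      (hUH hα.2))) (hUT (commutator_mem_right hα.2 c))⟩) hα
  set a' := b * a * b⁻¹ with ha'
  have ha'2 : a' ^ 2 = 1 := by rw [conj_pow, h.sqA a ha, mul_one, mul_inv_cancel]
  have haa' : a * a' = ⁅a, b⁆ := by
    rw [commutatorElement_def, inv_eq_self_of_sq (h.sqA a ha), ha', ← mul_assoc, ← mul_assoc]
  have hinvA' : ∀ {τ : G}, τ ∈ T → a' * τ * a'⁻¹ * τ ∈ A ⊓ U := fun {τ} hτ => by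
    have h22 := hb' b hb _ (h.mem_inf_of_cent h4 ha haU (c := b⁻¹ * (a' * τ * a'⁻¹ * τ) * b⁻¹⁻¹)
      (by rw [show a = b⁻¹ * a' * b⁻¹⁻¹ by simp [ha', mul_assoc], ← conjugate_commutatorElement,
        hinv ha'2 hτ, mul_one, mul_inv_cancel]) (hconj _ (mul_mem (hconj a' hτ) hτ)))
    simpa [mul_assoc] using h22
  have ha'D : a' ∉ T ⊔ H := fun h22 => haD (by
    simpa [ha', mul_assoc] using (normal_of_index_eq_two hD2).conj_mem _ h22 b⁻¹)
  obtain ⟨τ, hτ, s, hs, h22⟩ := (mem_sup_iff_of_le_normalizer le_normalizer_of_normal).mp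
    ((mul_mem_iff_of_index_two hD2).mpr (iff_of_false haD ha'D))
  have h23 : (a * a') ^ 2 ∈ J := by
    have h23 : s * τ * s⁻¹ = a * a' * τ * (a * a')⁻¹ := by
      rw [h22, mul_inv_rev, mul_assoc τ, mul_assoc τ, ← mul_assoc _ s⁻¹, (hcomm hτ (mul_mem
        (hconj s hτ) (inv_mem hτ))).eq, inv_mul_cancel_right]
    rw [h22, show (τ * s) ^ 2 = τ * (s * τ * s⁻¹) * s ^ 2 by simp [sq, mul_assoc], h23,
      show a * a' * τ * (a * a')⁻¹ = a * (a' * τ * a'⁻¹ * τ) * a⁻¹ * τ * (a * τ * a⁻¹ * τ)⁻¹ by group,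
      (h.commA ha (hinvA' hτ).1).eq, mul_inv_cancel_right, (hcomm (hUT (hinvA' hτ).2) hτ).eq,
      ← mul_assoc, ← mul_assoc, ← sq]
    exact mul_mem (mul_mem (mul_mem (hPJ (pow_mem_powerClosure (n := 1) hτ)) (hAJ (hinvA' hτ)))
      (inv_mem (hAJ (hinvA hτ)))) (hPJ (hKP _ (h2 s hs) (hKT (h2 s hs))))
  obtain ⟨σ, hσ, h24⟩ := (hJ' _).mp h23
  have h25 : σ⁻¹ * a' ∈ A := h.mem_of_cent h4 ha haU (inv_mul_mem_cent (by
    rw [← commutatorElement_inv a, ← commutatorElement_inv a, h24, commutatorElement_def,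
      inv_eq_self_of_sq (h.sqA a ha), inv_eq_self_of_sq ha'2, sq, mul_assoc (a * a') a a']))
    (mul_mem (inv_mem (centralizer_le inf_le_right hσ)) fun α hα => by
      have h25 := (h.commA (hb' b⁻¹ (inv_mem hb) α hα).1 ha).eq
      calc α * a' = b * (b⁻¹ * α * b⁻¹⁻¹ * a) * b⁻¹ := by rw [ha']; group
        _ = a' * α := by rw [h25, ha']; group)
  refine hab (haa' ▸ ?_)
  have h26 := mul_mem_of_card_eq_two_mul (inf_le_left : A ⊓ U ≤ A) (by rw [h4, h.cardA]) ha h25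
    (fun h26 => haU h26.2) fun h26 => ha'D (mem_sup_left ((mul_mem_cancel_left (inv_mem hσ)).mp
      (hUT h26.2)))
  rw [show a * a' = a * σ * a⁻¹ * (a * (σ⁻¹ * a')) by group]
  exact mul_mem (hconj a hσ) (hUT h26.2)

end E8Setup

end Cfsg.Lib.Solv.PG
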