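import Cfsg.Agent.Solv.ThompsonWrap
import Cfsg.Agent.Solv.ClassSize
import Cfsg.Agent.Solv.MinNormal
import Cfsg.Agent.Solv.NilpotentHall
import Cfsg.Agent.Solv.ElemLift
import Cfsg.Agent.Solv.CoprimeFixed

/-!
# The theorems of Hughes–Thompson and Kegel

Let `H` be a proper normal subgroup of the finite group `G` such that all elements outside `H`
have order `p`.  Then `H` is nilpotent, and of index `p` unless `G` is a `p`-group.
-/

set_option autoImplicit false

open scoped Pointwise IsMulCommutative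
open Cfsg.Agent Cfsg.Lib.Trans

namespace Cfsg.Lib.Solv.Hughes

universe u

/-- The averaging identity: `v ^ |S|` centralizes `S`. -/
theorem pow_card_mem_centralizer {G : Type*} [Group G] [Finite G] {p : ℕ} (hp : p.Prime)
    {H V S : Subgroup G} (hH : ∀ g : G, g ∉ H → g ^ p = 1) [V.Normal] [IsMulCommutative V]
    (hVH : V ≤ H) (hSH : S ≤ H) {x : G} (hx : x ∉ H) (hxS : x ∈ Subgroup.normalizer (S : Set G))
    {v : G} (hv : v ∈ V) : v ^ Nat.card S ∈ Subgroup.centralizer (S : Set G) := by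
  classical
  have := Fintype.ofFinite S
  let φ : G →* MulAut V := MulAut.conjNormal
  have hφ : ∀ (g : G) (w : V), ((φ g w : V) : G) = g * w * g⁻¹ := fun g w => rfl
  have hN : ∀ g : G, g ∉ H → ∀ w : V, ∏ i ∈ Finset.range p, φ (g ^ i) w = 1 := by
    intro g hg w
    have key : ∀ n : ℕ, ((∏ i ∈ Finset.range n, φ (g ^ i) w : V) : G) * g ^ n =
        ((w : G) * g) ^ n := by
      intro n
      induction n with
      | zero => simp
      | succ n ih =>
        rw [Finset.prod_range_succ, pow_succ ((w : G) * g), ← ih, Subgroup.coe_mul, hφ]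
        group
    have hwg : (w : G) * g ∉ H := fun h =>
      hg (by simpa using H.mul_mem (H.inv_mem (hVH w.2)) h)
    have h1 := key p
    rw [hH g hg, hH _ hwg, mul_one] at h1
    exact Subtype.ext h1
  set w : V := ⟨v, hv⟩ with hw
  set T : V := ∏ s : S, φ s w with hT
  set C : Subgroup V := (Subgroup.centralizer (S : Set G)).subgroupOf V with hC
  have hTC : T ∈ C := by
    rw [hC, Subgroup.mem_subgroupOf, Subgroup.mem_centralizer_iff]
    intro s hs
    have h1 : φ s T = T := by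
      rw [hT, map_prod]
      refine Fintype.prod_equiv (Equiv.mulLeft (⟨s, hs⟩ : S)) _ _ fun t => ?_
      simp [map_mul]
    have h2 := congrArg Subtype.val h1
    rw [hφ] at h2
    exact mul_inv_eq_iff_eq_mul.1 h2
  have hxC : ∀ i : ℕ, φ (x ^ i) T ∈ C := by
    intro i
    rw [hC, Subgroup.mem_subgroupOf, hφ]
    exact conj_mem_of_mem_normalizer
      (normalizer_le_normalizer_centralizer S (Subgroup.pow_mem _ hxS i)) hTC
  have hxs : ∀ s : S, x * s ∉ H := fun s h =>
    hx (by simpa using H.mul_mem h (H.inv_mem (hSH s.2)))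
  have hmem : ∀ (i : ℕ) (s : S), (x ^ i)⁻¹ * (x * s) ^ i ∈ S := by
    intro i s
    induction i with
    | zero => simp
    | succ i ih =>
      have : (x ^ (i + 1))⁻¹ * (x * s) ^ (i + 1) =
          x⁻¹ * ((x ^ i)⁻¹ * (x * s) ^ i) * x * s := by
        rw [pow_succ (x * s), pow_succ x]
        group
      rw [this]
      exact S.mul_mem (inv_conj_mem_of_mem_normalizer hxS ih) s.2
  have hsum : ∀ i : ℕ, ¬ p ∣ i → ∏ s : S, φ ((x * s) ^ i) w = φ (x ^ i) T := by
    intro i hi
    let f : S → S := fun s => ⟨(x ^ i)⁻¹ * (x * s) ^ i, hmem i s⟩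
    have hf : Function.Injective f := by
      intro s t hst
      have h1 : (x * s) ^ i = (x * t) ^ i := mul_left_cancel (congrArg Subtype.val hst)
      have hco : i.Coprime p := ((Nat.Prime.coprime_iff_not_dvd hp).2 hi).symm
      obtain ⟨j, hj⟩ := Nat.exists_mul_mod_eq_one_of_coprime hco hp.one_lt
      have h2 : ∀ g : G, g ^ p = 1 → (g ^ i) ^ j = g := by
        intro g hg
        rw [← pow_mul, pow_eq_pow_mod _ hg, hj.2, pow_one]
      have h3 : x * s = x * t := by
        rw [← h2 _ (hH _ (hxs s)), h1, h2 _ (hH _ (hxs t))]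
      exact Subtype.ext (mul_left_cancel h3)
    rw [hT, map_prod]
    refine Fintype.prod_bijective f (Finite.injective_iff_bijective.1 hf) _ _ fun s => ?_
    rw [← MulAut.mul_apply, ← map_mul]
    simp [f]
  have htot : ∏ i ∈ Finset.range p, ∏ s : S, φ ((x * s) ^ i) w = 1 := by
    rw [Finset.prod_comm]
    exact Finset.prod_eq_one fun s _ => hN _ (hxs s) w
  obtain ⟨m, rfl⟩ : ∃ m, p = m + 1 := ⟨p - 1, (Nat.sub_add_cancel hp.one_le).symm⟩
  rw [Finset.prod_range_succ'] at htot
  have h0 : ∏ s : S, φ ((x * s) ^ 0) w = w ^ Nat.card S := by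
    simp
  rw [h0] at htot
  have h1 : ∏ i ∈ Finset.range m, ∏ s : S, φ ((x * s) ^ (i + 1)) w ∈ C := by
    refine Subgroup.prod_mem _ fun i hi => ?_
    rw [hsum _ (Nat.not_dvd_of_pos_of_lt (Nat.succ_pos i)
      (Nat.succ_lt_succ (Finset.mem_range.1 hi)))]
    exact hxC _
  have h2 : w ^ Nat.card S ∈ C := by
    rw [eq_inv_of_mul_eq_one_right htot]
    exact C.inv_mem h1
  exact h2

theorem le_centralizer_of_coprime {G : Type*} [Group G] [Finite G] {p : ℕ} (hp : p.Prime)
    {H V S : Subgroup G} (hH : ∀ g : G, g ∉ H → g ^ p = 1) [V.Normal] [IsMulCommutative V]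
    (hVH : V ≤ H) (hSH : S ≤ H) {x : G} (hx : x ∉ H) (hxS : x ∈ Subgroup.normalizer (S : Set G))
    (hco : (Nat.card S).Coprime (Nat.card V)) : V ≤ Subgroup.centralizer (S : Set G) := by
  intro v hv
  have h1 := pow_card_mem_centralizer hp hH hVH hSH hx hxS hv
  obtain ⟨m, hm⟩ := exists_pow_eq_self_of_coprime (x := v) (n := Nat.card S)
    (Nat.Coprime.coprime_dvd_right (by
      rw [← Subgroup.orderOf_mk v hv]; exact orderOf_dvd_natCard _) hco)
  rw [← hm]
  exact Subgroup.pow_mem _ h1 m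

/-- Frattini argument: a Sylow subgroup of a normal subgroup `L ≤ H` is normalized by an element
outside the proper subgroup `H`. -/
theorem exists_not_mem_mem_normalizer {G : Type*} [Group G] [Finite G] {H L : Subgroup G}
    [L.Normal] (hLH : L ≤ H) (hH : H ≠ ⊤) {s : ℕ} [Fact s.Prime] (S : Sylow s L) :
    ∃ x : G, x ∉ H ∧ x ∈ Subgroup.normalizer (((S : Subgroup L).map L.subtype : Subgroup G) : Set G) := by
  by_contra hne
  push Not at hne
  refine hH (top_le_iff.1 ?_)
  rw [← S.normalizer_sup_eq_top]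
  exact sup_le (fun x hx => by_contra fun h => hne x h hx) hLH

/-- The inductive step in the presence of an abelian normal `r`-subgroup. -/
theorem isNilpotent_of_quotient {G : Type*} [Group G] [Finite G] {p : ℕ} (hp : p.Prime)
    {H V : Subgroup G} [H.Normal] (hHt : H ≠ ⊤) (hH : ∀ g : G, g ∉ H → g ^ p = 1) [V.Normal]
    [IsMulCommutative V] {r : ℕ} (hr : r.Prime) (hV : IsPGroup r V) (hVH : V ≤ H)
    (hnil : Group.IsNilpotent (H.map (QuotientGroup.mk' V))) : Group.IsNilpotent H := by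
  have hrf : Fact r.Prime := ⟨hr⟩
  have hHF : H.map (QuotientGroup.mk' V) ≤ fittingSubgroup (G ⧸ V) :=
    le_fitting (Subgroup.Normal.map inferInstance _ (QuotientGroup.mk'_surjective V)) hnil
  have hK : H ⊓ Subgroup.centralizer (V : Set G) ≤ fittingSubgroup G :=
    le_fitting inferInstance (isNilpotent_of_map_mk'_of_le_centralizer inf_le_right
      (isNilpotent_of_le (Subgroup.map_mono inf_le_left) hnil))
  refine isNilpotent_of_le_fitting (le_of_forall_prime_pow_mem fun s hs k y hy hyo => ?_)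
  have hsf : Fact s.Prime := ⟨hs⟩
  have := pCore_characteristic s (G ⧸ V)
  have hyc : (y : G ⧸ V) ∈ pCore s (G ⧸ V) := by
    obtain ⟨j, -, hj⟩ := (Nat.dvd_prime_pow hs).1
      (hyo ▸ orderOf_map_dvd (QuotientGroup.mk' V) y)
    exact mem_pCore_of_mem_fitting (hHF ⟨y, hy, rfl⟩) hj
  by_cases hsr : s = r
  · subst hsr
    have h1 : IsPGroup s ((pCore s (G ⧸ V)).comap (QuotientGroup.mk' V)) :=
      (pCore_isPGroup s _).comap_of_ker_isPGroup _ (by rw [QuotientGroup.ker_mk']; exact hV)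
    exact pCore_le_fitting s G (le_pCore inferInstance h1 hyc)
  · set L := (pCore s (G ⧸ V)).comap (QuotientGroup.mk' V) ⊓ H with hL
    have hyL : y ∈ L := ⟨hyc, hy⟩
    obtain ⟨S, hS⟩ := ClassSize.exists_sylow_mem_of_pow_eq_one (p := s) (k := k)
      (x := (⟨y, hyL⟩ : L)) (Subtype.ext (by
        show y ^ s ^ k = 1
        rw [← hyo, pow_orderOf_eq_one]))
    obtain ⟨x, hx, hxS⟩ := exists_not_mem_mem_normalizer (L := L) inf_le_right hHt S
    obtain ⟨a, ha⟩ := S.isPGroup'.exists_card_eq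
    obtain ⟨b, hb⟩ := hV.exists_card_eq
    have h1 := le_centralizer_of_coprime hp hH hVH
      ((Subgroup.map_subtype_le _).trans inf_le_right) hx hxS (by
        rw [card_map_subtype, ha, hb]
        exact Nat.coprime_pow_primes _ _ hs hr hsr)
    refine hK ⟨hy, ?_⟩
    rw [Subgroup.le_centralizer_iff] at h1
    exact h1 ⟨⟨y, hyL⟩, hS, rfl⟩

/-- **Kegel's theorem**. -/
theorem isNilpotent_aux [Gate.S0108.{u}] {p : ℕ} (hp : p.Prime) :
    ∀ (G : Type u) [Group G] [Finite G], ∀ (H : Subgroup G), H.Normal → H ≠ ⊤ →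
      (∀ g : G, g ∉ H → g ^ p = 1) → Group.IsNilpotent H := by
  refine card_induction fun G _ _ ih => ?_
  intro H hHn hHt hH
  have hpf : Fact p.Prime := ⟨hp⟩
  -- subgroups not contained in `H`
  have hsub : ∀ U : Subgroup G, U ≠ ⊤ → ¬ U ≤ H → Group.IsNilpotent (H ⊓ U : Subgroup G) := by
    intro U hU hUH
    have h1 := ih U (card_lt_of_ne_top hU) (H.subgroupOf U) inferInstance
      (fun h => hUH (Subgroup.subgroupOf_eq_top.1 h))
      (fun g hg => Subtype.ext (hH g hg))
    rw [← Subgroup.subgroupOf_map_subtype]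
    exact isNilpotent_map _ _ h1
  by_cases hsol : ∀ S : Subgroup G, S.Normal → S ≤ H → Group.IsSolvable S → S = ⊥
  swap
  · push Not at hsol
    obtain ⟨S, hSn, hSH, hSs, hS⟩ := hsol
    obtain ⟨r, V, hr, hV, hVS, hVc, -, hVp⟩ := exists_isMinNormal_elementary_le S hS
    have := hV.normal
    have hVH : V ≤ H := hVS.trans hSH
    refine isNilpotent_of_quotient hp hHt hH hr hVp hVH
      (ih (G ⧸ V) (card_quotient_lt hV.ne_bot) _
        (Subgroup.Normal.map inferInstance _ (QuotientGroup.mk'_surjective V)) ?_ ?_)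
    · intro h
      have h1 := congrArg (Subgroup.comap (QuotientGroup.mk' V)) h
      rw [Subgroup.comap_map_eq, QuotientGroup.ker_mk', sup_eq_left.2 hVH, Subgroup.comap_top] at h1
      exact hHt h1
    · intro g hg
      obtain ⟨g, rfl⟩ := QuotientGroup.mk_surjective g
      rw [← QuotientGroup.mk_pow, hH g fun h => hg ⟨g, h, rfl⟩]
      rfl
  by_cases hodd : ∃ q : ℕ, q.Prime ∧ q ≠ 2 ∧ q ∣ Nat.card H
  swap
  · push Not at hodd
    have h2 : Fact (Nat.Prime 2) := ⟨Nat.prime_two⟩
    have hP : IsPGroup 2 H := IsPGroup.of_card (Nat.eq_prime_pow_of_unique_prime_dvd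
      Nat.card_pos.ne' fun {q} hq hqd => by_contra fun h => hodd q hq h hqd)
    exact hP.isNilpotent
  exfalso
  obtain ⟨q, hq, hq2, hqH⟩ := hodd
  have hqf : Fact q.Prime := ⟨hq⟩
  obtain ⟨Q⟩ : Nonempty (Sylow q H) := inferInstance
  obtain ⟨x, hx, hxQ⟩ := exists_not_mem_mem_normalizer le_rfl hHt Q
  have hnpc : HasNormalPComplement q H := by
    refine hasNormalPComplement_of_forall_invariant hq2 Q fun W hWQ hW hWi => ?_
    have hxW := normalizer_le_normalizer_of_invariant hWi hxQ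
    have hNt : Subgroup.normalizer (W : Set G) ≠ ⊤ := by
      intro h
      have hWp : IsPGroup q W := (Q.isPGroup'.map H.subtype).to_le hWQ
      exact hW (hsol W (Subgroup.normalizer_eq_top_iff.1 h) (hWQ.trans (Subgroup.map_subtype_le _))
        (Coprime.isSolvable_of_isPGroup hWp))
    have := hsub _ hNt fun h => hx (h hxW)
    exact hasNormalPComplement_of_isNilpotent q
  have hKc : ¬ q ∣ Nat.card (pResidual q H) := hasNormalPComplement_iff_not_dvd.1 hnpc
  have := pResidual_characteristic q H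
  set K := (pResidual q H).map H.subtype with hK
  have hKn : K.Normal := normal_map_subtype_of_char _
  have hKH : K ≤ H := Subgroup.map_subtype_le _
  have hxo : orderOf x = p := orderOf_eq_prime_iff.2 ⟨hH x hx, fun h => hx (h ▸ H.one_mem)⟩
  have hUt : K ⊔ Subgroup.zpowers x ≠ ⊤ := by
    intro h
    have h1 := sup_inf_assoc_of_le_normalizer (N := K) (H := Subgroup.zpowers x) (K := H)
      (by rw [Subgroup.normalizer_eq_top]; exact le_top) hKH
    have h2 : Subgroup.zpowers x ⊓ H = ⊥ := by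
      have h3 : Fact (Nat.card (Subgroup.zpowers x)).Prime := ⟨by rw [Nat.card_zpowers, hxo]; exact hp⟩
      rcases Subgroup.eq_bot_or_eq_top_of_prime_card (H.subgroupOf (Subgroup.zpowers x)) with h4 | h4
      · rw [Subgroup.subgroupOf_eq_bot, disjoint_iff] at h4
        rw [inf_comm, h4]
      · exact absurd (Subgroup.subgroupOf_eq_top.1 h4 (Subgroup.mem_zpowers x)) hx
    rw [h, h2, top_inf_eq, sup_bot_eq] at h1
    rw [h1, hK, card_map_subtype] at hqH
    exact hKc hqH
  have hKnil : Group.IsNilpotent K := isNilpotent_of_le (le_inf hKH le_sup_left)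
    (hsub _ hUt fun h => hx (h (Subgroup.mem_sup_right (Subgroup.mem_zpowers x))))
  have hKb : K = ⊥ := hsol K hKn hKH inferInstance
  rw [hK, Subgroup.map_eq_bot_iff_of_injective _ H.subtype_injective, pResidual_eq_bot_iff] at hKb
  have hHb := hsol H hHn le_rfl (Coprime.isSolvable_of_isPGroup hKb)
  rw [hHb, Subgroup.card_bot] at hqH
  exact hq.one_lt.ne' (Nat.dvd_one.1 hqH)

theorem isNilpotent [Gate.S0108.{u}] {p : ℕ} (hp : p.Prime) {G : Type u} [Group G] [Finite G]
    {H : Subgroup G} [hn : H.Normal] (hHt : H ≠ ⊤) (hH : ∀ g : G, g ∉ H → g ^ p = 1) :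
    Group.IsNilpotent H :=
  isNilpotent_aux hp G H hn hHt hH

/-- **Hughes–Thompson theorem**. -/
theorem index_eq [Gate.S0108.{u}] {p : ℕ} (hp : p.Prime) {G : Type u} [Group G] [Finite G]
    {H : Subgroup G} [hn : H.Normal] (hHt : H ≠ ⊤) (hH : ∀ g : G, g ∉ H → g ^ p = 1)
    (hG : ¬ IsPGroup p G) : H.index = p := by
  have hpf : Fact p.Prime := ⟨hp⟩
  have hQ : ∀ a : G ⧸ H, a ^ p = 1 := by
    intro a
    obtain ⟨g, rfl⟩ := QuotientGroup.mk_surjective a
    by_cases hg : g ∈ H
    · rw [(QuotientGroup.eq_one_iff g).2 hg, one_pow]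
    · rw [← QuotientGroup.mk_pow, hH g hg]; rfl
  have hP : IsPGroup p (G ⧸ H) := fun a => ⟨1, by rw [pow_one, hQ]⟩
  have hnt : Nontrivial (G ⧸ H) := QuotientGroup.nontrivial_iff.2 hHt
  have := hP.center_nontrivial
  obtain ⟨⟨z, hz⟩, hz1⟩ := exists_ne (1 : Subgroup.center (G ⧸ H))
  have hz1' : z ≠ 1 := fun h => hz1 (Subtype.ext h)
  have hzn : (Subgroup.zpowers z).Normal := by
    refine ⟨fun n hn g => ?_⟩
    have h1 := Subgroup.mem_center_iff.1 (Subgroup.zpowers_le.2 hz hn) g
    rw [h1, mul_inv_cancel_right]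
    exact hn
  by_cases htop : Subgroup.zpowers z = ⊤
  · rw [Subgroup.index_eq_card, ← Subgroup.card_top, ← htop, Nat.card_zpowers]
    exact orderOf_eq_prime_iff.2 ⟨hQ z, hz1'⟩
  exfalso
  set H' := (Subgroup.zpowers z).comap (QuotientGroup.mk' H) with hH'
  have hHH' : H ≤ H' := fun g hg => by
    rw [hH', Subgroup.mem_comap, QuotientGroup.mk'_apply, (QuotientGroup.eq_one_iff g).2 hg]
    exact Subgroup.one_mem _
  have hH't : H' ≠ ⊤ := fun h => htop (by
    rw [← Subgroup.map_comap_eq_self_of_surjective (QuotientGroup.mk'_surjective H)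
      (Subgroup.zpowers z), ← hH', h, Subgroup.map_top_of_surjective _
      (QuotientGroup.mk'_surjective H)])
  have hnil : Group.IsNilpotent H' := isNilpotent hp hH't fun g hg => hH g fun h => hg (hHH' h)
  obtain ⟨z₀, rfl⟩ := QuotientGroup.mk_surjective z
  have hz₀ : z₀ ∉ H := fun h => hz1' ((QuotientGroup.eq_one_iff z₀).2 h)
  have hz₀' : z₀ ∈ H' := Subgroup.mem_zpowers _
  have hzo : orderOf z₀ = p := orderOf_eq_prime_iff.2 ⟨hH _ hz₀, fun h => hz₀ (h ▸ H.one_mem)⟩
  obtain ⟨q, hq, hqG, hqp⟩ : ∃ q : ℕ, q.Prime ∧ q ∣ Nat.card G ∧ q ≠ p := by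
    by_contra hne
    push Not at hne
    exact hG (IsPGroup.of_card (Nat.eq_prime_pow_of_unique_prime_dvd Nat.card_pos.ne'
      fun {q} hq hqd => hne q hq hqd))
  have hqf : Fact q.Prime := ⟨hq⟩
  obtain ⟨y, hy⟩ := exists_prime_orderOf_dvd_card' (G := G) q hqG
  have hyp : y ^ p ≠ 1 := fun h => hqp ((Nat.prime_dvd_prime_iff_eq hq hp).1
    (hy ▸ orderOf_dvd_of_pow_eq_one h))
  have hyH : y ∈ H := by_contra fun h => hyp (hH y h)
  have hc : Commute z₀ y := commute_of_mem_of_coprime_of_isNilpotent hnil hz₀' (hHH' hyH)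
    (by rw [hzo, hy]; exact (Nat.coprime_primes hp hq).2 hqp.symm)
  have hzy : z₀ * y ∉ H := fun h => hz₀ (by simpa using H.mul_mem h (H.inv_mem hyH))
  have h1 := hH _ hzy
  rw [hc.mul_pow, hH _ hz₀, one_mul] at h1
  exact hyp h1

end Cfsg.Lib.Solv.Hughes
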