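import Cfsg.Agent.Solv.FixedPointFree
import Cfsg.Agent.Solv.ActionTransport
import Cfsg.Agent.Solv.Glauberman
import Cfsg.Agent.Local.Bar

/-!
# Frobenius groups of automorphisms: the linear lemmas
-/

set_option autoImplicit false

namespace Cfsg.Lib.Solv.KMS

open Subgroup Cfsg.Lib.Trans Cfsg.Lib.Local
open scoped commutatorElement

theorem exists_equivariant {B Y : Type*} [Group B] (ρ : B →* Equiv.Perm Y) :
    ∃ c : Y → B, ∀ y, (∀ b, ρ b y = y → b = 1) → ∀ b, c (ρ b y) = b * c y := by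
  let _ := MulAction.compHom Y ρ
  have h : ∀ y : Y, ∃ b : B, ρ b (Quotient.mk (MulAction.orbitRel B Y) y).out = y := fun y =>
    (MulAction.orbitRel B Y).symm (Quotient.mk_out y)
  choose c hc using h
  refine ⟨c, fun y hy b => ?_⟩
  have h1 : Quotient.mk (MulAction.orbitRel B Y) (ρ b y) = Quotient.mk _ y :=
    Quotient.sound ⟨b, rfl⟩
  have h2 := hc (ρ b y)
  rw [h1] at h2
  have h4 : ρ (c y)⁻¹ y = (Quotient.mk (MulAction.orbitRel B Y) y).out := by
    rw [map_inv, Equiv.Perm.inv_eq_iff_eq, hc]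
  have h3 := hy (b⁻¹ * c (ρ b y) * (c y)⁻¹) (by
    rw [map_mul, map_mul, Equiv.Perm.mul_apply, Equiv.Perm.mul_apply, h4, h2, map_inv,
      Equiv.Perm.inv_eq_iff_eq])
  rwa [mul_inv_eq_one, inv_mul_eq_iff_eq_mul] at h3

variable {A V : Type*} [Group A] [Finite A] [CommGroup V] [Finite V] [MulDistribMulAction A V]
  {U F H : Subgroup A}

/-- The first cohomology of the complement vanishes. -/
theorem exists_cobound (hHF : H ≤ normalizer (F : Set A))
    (hfr : ∀ h ∈ H, h ≠ 1 → F ⊓ centralizer {h} = ⊥)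
    (hV : ∀ v : V, (∀ f ∈ F, f • v = v) → v = 1) (hc : (Nat.card V).Coprime (Nat.card F))
    (δ : H → V) (hδ : ∀ g h : H, δ (g * h) = δ g * (g : A) • δ h) :
    ∃ n : V, ∀ h : H, δ h * (h : A) • n = n := by
  have := Fintype.ofFinite F
  obtain ⟨c, hc'⟩ := exists_equivariant
    ((MulAction.toPermHom (MulAut A) A).comp (MulAut.conj.comp H.subtype))
  have hc2 : ∀ (f : F) (g : H), (f : A) ≠ 1 → c (g * f * (g : A)⁻¹) = g * c f := fun f g hf =>
    hc' f (fun b hb => by
      by_contra h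
      exact hf (Fpf.eq_one_of_conj_eq (hfr b b.2 fun e => h (Subtype.ext e)) f.2 hb)) g
  have key : ∀ g : H, δ g ^ Nat.card F * (g : A) • ∏ f : F, δ (c f) * ((f : A) • δ (c f))⁻¹ =
      ∏ f : F, δ (c f) * ((f : A) • δ (c f))⁻¹ := by
    intro g
    have h1 : ∏ f : F, (f : A) • δ g = 1 := hV _ fun f hf => Fpf.smul_prod_smul F _ hf
    have h2 : (g : A) • ∏ f : F, δ (c f) * ((f : A) • δ (c f))⁻¹ =
        ∏ f : F, δ (c f) * ((f : A) • δ (c f))⁻¹ * ((δ g)⁻¹ * (f : A) • δ g) := by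
      rw [Finset.smul_prod']
      refine Fintype.prod_equiv (F.normalizerMonoidHom ⟨g, hHF g.2⟩).toEquiv _ _ fun f => ?_
      have h3 : (((F.normalizerMonoidHom ⟨g, hHF g.2⟩).toEquiv f : F) : A) = g * f * (g : A)⁻¹ :=
        rfl
      rw [h3]
      by_cases hf : (f : A) = 1
      · simp [hf]
      · rw [hc2 f g hf, hδ]
        simp only [smul_mul', smul_inv', mul_smul, inv_smul_smul, mul_inv]
        apply Additive.ofMul.injective
        simp only [ofMul_mul, ofMul_inv]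
        abel
    rw [h2, Finset.prod_mul_distrib (g := fun f : F => (δ g)⁻¹ * (f : A) • δ g),
      Finset.prod_mul_distrib (f := fun _ : F => (δ g)⁻¹), h1, Finset.prod_const, Finset.card_univ,
      Nat.card_eq_fintype_card, mul_one, mul_comm, inv_pow, inv_mul_cancel_right]
  obtain ⟨k, hk⟩ : ∃ k : ℕ, ∀ x : V, (x ^ Nat.card F) ^ k = x := by
    obtain ⟨k, hk⟩ := Nat.exists_mul_mod_eq_of_coprime 1 hc.symm Nat.card_pos.ne'
    exact ⟨k, fun x => by rw [← pow_mul, ← pow_mod_natCard, hk.2, pow_mod_natCard, pow_one]⟩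
  refine ⟨(∏ f : F, δ (c f) * ((f : A) • δ (c f))⁻¹) ^ k, fun g => ?_⟩
  conv_rhs => rw [← key g]
  rw [mul_pow, hk, smul_pow']

/-- Two complements meeting a subgroup `S` non-trivially are conjugate in `S`. -/
theorem mem_of_conj_mem (hHF : H ≤ normalizer (F : Set A)) (hs : Group.IsSolvable F)
    (hfr : ∀ h ∈ H, h ≠ 1 → F ⊓ centralizer {h} = ⊥) {S : Subgroup A} {a b f : A} (ha : a ∈ H)
    (ha1 : a ≠ 1) (haS : a ∈ S) (hb : b ∈ H) (hb1 : b ≠ 1) (hf : f ∈ F) (h : f * b * f⁻¹ ∈ S) :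
    f ∈ S := by
  have key : ∀ x ∈ H, x ≠ 1 → x ∈ S → ∀ y ∈ F, y * x * y⁻¹ ∈ S → y ∈ S := fun x hx h1 h2 y hy h3 =>
    (Fpf.mem_of_commutator_mem (N := F ⊓ S) (hfr x hx h1) inf_le_left
      (inf_normalizer_le_normalizer_inf ⟨hHF hx, le_normalizer h2⟩) hy (mem_inf.2
        ⟨by simpa only [mul_assoc] using mul_mem hy (mem_normalizer_conj (hHF hx) (inv_mem hy)),
          mul_mem h3 (inv_mem h2)⟩)).2
  have h1 : F ⊔ S ⊓ (F ⊔ H) = F ⊔ H ⊓ (F ⊔ S ⊓ (F ⊔ H)) := by
    refine le_antisymm (fun x hx => ?_) (sup_le le_sup_left inf_le_right)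
    obtain ⟨y, hy, z, hz, rfl⟩ := exists_mul_of_mem_sup_of_le_normalizer hHF
      ((sup_le le_sup_left inf_le_right : _ ≤ F ⊔ H) hx)
    exact mul_mem (mem_sup_left hy) (mem_sup_right
      ⟨hz, by simpa using mul_mem (inv_mem (mem_sup_left hy)) hx⟩)
  obtain ⟨k, hk, h2⟩ := exists_conj_le_of_sup_eq F _ _ (inf_le_left.trans hHF)
    ((Fpf.coprime_card hHF hfr).coprime_dvd_left (card_dvd_of_le inf_le_left)) (Or.inr hs) h1
  rw [conj_smul_eq_cj, cj_le_iff] at h2
  have h3 := key a ha ha1 haS k hk (h2 a ⟨ha, mem_sup_right ⟨haS, mem_sup_right ha⟩⟩).1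
  have h4 : f * b * f⁻¹ ∈ F ⊔ S ⊓ (F ⊔ H) := mem_sup_right (mem_inf.2 ⟨h, mul_mem (mul_mem
    (mem_sup_left hf) (mem_sup_right hb)) (mem_sup_left (inv_mem hf))⟩)
  have h5 := (h2 b ⟨hb, by
    simpa [mul_assoc] using mul_mem (mul_mem (inv_mem (mem_sup_left hf)) h4) (mem_sup_left hf)⟩).1
  exact key b hb hb1 (by simpa [mul_assoc] using mul_mem (mul_mem (inv_mem h3) h5) h3) f hf h

omit [Finite A] in
open scoped IsMulCommutative in
theorem commutator_mem_of_cyclic {K : Subgroup A} {a x y u : A} (hK : K ≤ U) (ha : a ∈ U)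
    (h : K ⊔ zpowers a = U) (hU : U ≤ normalizer (K : Set A))
    (hx : x ∈ normalizer (U : Set A) ⊓ normalizer (K : Set A))
    (hy : y ∈ normalizer (U : Set A) ⊓ normalizer (K : Set A)) (hu : u ∈ U) :
    ⁅⁅x, y⁆, u⁆ ∈ K := by
  set E := normalizer (U : Set A) ⊓ normalizer (K : Set A)
  have : (K.subgroupOf E).Normal := normal_subgroupOf_of_le_normalizer' inf_le_right
  have hUE : U ≤ E := le_inf le_normalizer hU
  have h1 : (bar E K U).Normal := bar_normal inf_le_left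
  have h2 : IsCyclic (bar E K U) := by
    rw [← h, bar_sup (hK.trans hUE) (zpowers_le.2 (hUE ha)), (bar_eq_bot_iff (hK.trans hUE)).2 le_rfl,
      bot_sup_eq, ← range_barHom (zpowers_le.2 (hUE ha))]
    exact isCyclic_of_surjective _ (MonoidHom.rangeRestrict_surjective _)
  have h4 : ⁅bar E K E, bar E K E⁆ ≤ centralizer (bar E K U : Set (E ⧸ K.subgroupOf E)) := by
    have h2 : ⁅bar E K E, bar E K E⁆ ≤ (MulAut.conjNormal (H := bar E K U)).ker := by
      rw [commutator_le]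
      intro a _ b _
      rw [MonoidHom.mem_ker, map_commutatorElement, commutatorElement_eq_one_iff_mul_comm]
      exact (IsCyclic.mulAutMulEquiv _).injective (by rw [map_mul, map_mul, mul_comm])
    intro x hx y hy
    have h3 := congrArg (fun f : MulAut (bar E K U) => (f ⟨y, hy⟩).1) (h2 hx)
    exact (mul_inv_eq_iff_eq_mul.1 h3).symm
  rw [← bar_commutator le_rfl le_rfl, ← commutator_eq_bot_iff_le_centralizer,
    commutator_bar_eq_bot_iff (commutator_le_self E) hUE] at h4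
  exact h4 (commutator_mem_commutator (commutator_mem_commutator hx hy) hu)

open scoped IsMulCommutative in
theorem core [IsMulCommutative U] (hFU : F ≤ normalizer (U : Set A))
    (hHU : H ≤ normalizer (U : Set A)) (hHF : H ≤ normalizer (F : Set A))
    (hs : Group.IsSolvable F) (hfr : ∀ h ∈ H, h ≠ 1 → F ⊓ centralizer {h} = ⊥)
    (hUF : U ⊓ centralizer (F : Set A) = ⊥) (hc1 : (Nat.card U).Coprime (Nat.card F))
    (hc2 : (Nat.card U).Coprime (Nat.card V)) {u : A} (hu : u ∈ U)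
    (huH : u ∈ centralizer (H : Set A)) (hfix : ∀ v : V, (∀ h ∈ H, h • v = v) → u • v = v)
    (v₀ : V) : u • v₀ = v₀ := by
  classical
  by_contra h0
  have hcomm : ∀ x ∈ U, ∀ y ∈ U, x * y = y * x := fun x hx y hy =>
    congrArg Subtype.val (mul_comm (⟨x, hx⟩ : U) ⟨y, hy⟩)
  let W : Subgroup V := (MulDistribMulAction.toMonoidHom V u / MonoidHom.id V).range
  have hW : ∀ v : V, u • v / v ∈ W := fun v => ⟨v, rfl⟩
  have hWs : ∀ a : A, a * u = u * a → ∀ w ∈ W, a • w ∈ W := by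
    rintro a ha _ ⟨v, rfl⟩
    refine ⟨a • v, ?_⟩
    change u • a • v / a • v = a • (u • v / v)
    rw [smul_div', ← mul_smul, ← ha, mul_smul]
  have hpow : ∀ (K : Subgroup A) (w : V), K ≤ U → w ^ Nat.card K = 1 → w = 1 := fun K w hK h =>
    (pow_eq_one_iff_of_coprime (hc2.coprime_dvd_left (card_dvd_of_le hK))).1
      ⟨h, pow_card_eq_one'⟩
  have hWu : ∀ w ∈ W, u • w = w → w = 1 := by
    rintro _ ⟨v, rfl⟩ h
    change u • (u • v / v) = u • v / v at h
    change u • v / v = 1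
    have h1 : ∀ n : ℕ, u ^ n • v = (u • v / v) ^ n * v := fun n => by
      induction n with
      | zero => simp
      | succ n ih => rw [pow_succ', mul_smul, ih, smul_mul', smul_pow', h, pow_succ, mul_assoc,
          div_mul_cancel]
    have h2 := h1 (Nat.card U)
    rw [orderOf_dvd_iff_pow_eq_one.1 (U.orderOf_dvd_natCard hu), one_smul] at h2
    exact hpow U _ le_rfl (by simpa using h2)
  let St : V → Subgroup A := fun w => U ⊓ MulAction.stabilizer A w
  obtain ⟨v, ⟨hv, hv1⟩, hmax⟩ := Set.exists_max_image {w : V | w ∈ W ∧ w ≠ 1}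
    (fun w => Nat.card (St w)) (Set.toFinite _) ⟨_, hW v₀, fun h => h0 (div_eq_one.1 h)⟩
  have heq : ∀ (K : Subgroup A) (w : V), w ∈ W → w ≠ 1 → Nat.card (St v) ≤ Nat.card K →
      K ≤ St w → St w = K := fun K w hw h1 h2 h3 =>
    (eq_of_le_of_card_ge h3 ((hmax w ⟨hw, h1⟩).trans h2)).symm
  have hA : ∀ w ∈ W, w ≠ 1 → Nat.card (St v) ≤ Nat.card (St w) →
      ∃ h ∈ H, h ≠ 1 ∧ h ∈ normalizer (St w : Set A) := by
    intro w hw hw1 hc
    by_contra hcon
    have := Fintype.ofFinite H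
    have := Fintype.ofFinite (St w)
    have hwH : ∀ h : H, (h : A) • w ∈ W := fun h => hWs h (mem_centralizer_iff.1 huH h h.2) w hw
    have h1 : ∏ h : H, (h : A) • w = 1 := hWu _ (W.prod_mem fun h _ => hwH h)
      (hfix _ fun h hh => Fpf.smul_prod_smul H w hh)
    have h2 : ∏ h : H, ∏ k : St w, (k : A) • (h : A) • w = 1 := by
      rw [Finset.prod_comm]
      exact Finset.prod_eq_one fun k _ => by rw [← Finset.smul_prod', h1, smul_one]
    rw [Finset.prod_eq_single (1 : H) (fun h _ hh => ?_) (by simp)] at h2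
    · refine hw1 (hpow (St w) w inf_le_left ?_)
      rw [← h2, Nat.card_eq_fintype_card, ← Finset.card_univ, ← Finset.prod_const]
      exact Finset.prod_congr rfl fun k _ => by rw [coe_one, one_smul, k.2.2]
    by_contra h3
    have h4 := heq (St w) (∏ k : St w, (k : A) • (h : A) • w)
      (W.prod_mem fun k _ => hWs k (hcomm _ k.2.1 _ hu) _ (hwH h)) h3 hc
      fun x hx => ⟨hx.1, Fpf.smul_prod_smul (St w) _ hx⟩
    refine hcon ⟨h, h.2, fun e => hh (Subtype.ext e), mem_normalizer_of_cj_le (cj_le_iff.2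
      fun x hx => h4.le ⟨mem_normalizer_conj (hHU h.2) hx.1, ?_⟩)⟩
    change _ • _ = _
    rw [Finset.smul_prod']
    refine Finset.prod_congr rfl fun k _ => ?_
    rw [← mul_smul, hcomm _ (mem_normalizer_conj (hHU h.2) hx.1) _ k.2.1, mul_smul, mul_smul,
      mul_smul, inv_smul_smul, show x • w = w from hx.2]
  obtain ⟨a, ha, hB⟩ : ∃ a ∈ U, St v ⊔ zpowers a = U := by
    by_contra hcon
    let φ := MulDistribMulAction.toMulAut A V
    have h1 := Act.le_of_forall_cocyclic (φ := φ) (B := U) (H := W ⊓ Act.fix φ (St v)) (U := ⊥)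
      (fun b hb x hx => ⟨hWs b (hcomm _ hb _ hu) x hx.1, fun k hk => by
        change k • b • x = b • x
        rw [← mul_smul, hcomm k hk.1 b hb, mul_smul, show k • x = x from hx.2 k hk]⟩)
      (hc2.coprime_dvd_right (card_subgroup_dvd_card _)) fun C hC ⟨a, ha, h⟩ w hw => by
        by_contra h1
        have h2 := heq _ w hw.1.1 h1 le_rfl fun k hk => ⟨hk.1, hw.1.2 k hk⟩
        refine hcon ⟨a, ha, le_antisymm (sup_le inf_le_left (zpowers_le.2 ha)) ?_⟩
        rw [← h, ← h2]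
        exact sup_le_sup_right (fun k hk => ⟨hC hk, hw.2 k hk⟩) _
    exact hv1 (h1 ⟨hv, fun k hk => hk.2⟩)
  obtain ⟨h₁, hh₁, hh₁', hh₁''⟩ := hA v hv hv1 le_rfl
  have hC : ∀ f ∈ F, f ∉ normalizer (St v : Set A) → f * u * f⁻¹ ∈ St v := by
    intro f hf hf'
    by_contra h1
    have h2 : u • f⁻¹ • v / f⁻¹ • v ≠ 1 := fun h => h1 ⟨mem_normalizer_conj (hFU hf) hu, by
      change _ • _ = _
      rw [mul_smul, mul_smul, div_eq_one.1 h, smul_inv_smul]⟩
    have h3 := heq (cj f⁻¹ (St v)) _ (hW _) h2 (card_cj _ _).ge fun x hx => by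
      have h4 := mem_cj_inv.1 hx
      have h5 : x ∈ U := by simpa [mul_assoc] using mem_normalizer_conj' (hFU hf) h4.1
      have h6 : x • f⁻¹ • v = f⁻¹ • v := by
        rw [eq_inv_smul_iff, ← mul_smul, ← mul_smul]
        exact h4.2
      refine ⟨h5, ?_⟩
      change _ • _ = _
      rw [smul_div', ← mul_smul x u, hcomm x h5 u hu, mul_smul, h6]
    obtain ⟨h₂, h4, h5, h6⟩ := hA _ (hW _) h2 (by rw [h3, card_cj])
    rw [h3, ← cj_normalizer, mem_cj_inv] at h6
    exact hf' (mem_of_conj_mem hHF hs hfr hh₁ hh₁' hh₁'' h4 h5 hf h6)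
  have hUK : U ≤ normalizer (St v : Set A) := Coprime.le_normalizer_of_le_of_comm inf_le_left
  have hD : ∀ f ∈ F, f ∈ normalizer (St v : Set A) → f * u * f⁻¹ * u⁻¹ ∈ St v := by
    intro f hf hf'
    obtain ⟨y, hy, h1⟩ := Fpf.exists_conj_eq_mul (K := F ⊓ normalizer (St v : Set A))
      (inf_normalizer_le_normalizer_inf ⟨hHF hh₁, le_normalizer hh₁''⟩)
      (Fpf.mono_left (hfr h₁ hh₁ hh₁') inf_le_left) ⟨hf, hf'⟩
    have h2 := commutator_mem_of_cyclic inf_le_left ha hB hUK ⟨hFU hy.1, hy.2⟩ ⟨hHU hh₁, hh₁''⟩ hu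
    rwa [commutatorElement_def y, h1, mul_inv_cancel_right] at h2
  let F' := F.subgroupOf (normalizer (U : Set A))
  have := Fintype.ofFinite F'
  have h1 : ∏ f : F', (f : normalizer (U : Set A)) • (⟨u, hu⟩ : U) = 1 := by
    refine Subtype.ext (mem_bot.1 (hUF.le ⟨Subtype.coe_prop _, mem_centralizer_iff.2 fun f hf => ?_⟩))
    exact mul_inv_eq_iff_eq_mul.1 (congrArg Subtype.val
      (Fpf.smul_prod_smul F' (⟨u, hu⟩ : U) (u := ⟨f, hFU hf⟩) hf))
  let S : Subgroup F' := (normalizer (St v : Set A)).comap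
    ((normalizer (U : Set A)).subtype.comp F'.subtype)
  have h2 := congrArg (QuotientGroup.mk' ((St v).subgroupOf U)) h1
  rw [map_prod, map_one, Finset.prod_congr rfl (g := fun f => if f ∈ S then
    QuotientGroup.mk' ((St v).subgroupOf U) ⟨u, hu⟩ else 1) fun f _ => ?_, Finset.prod_ite,
    Finset.prod_const_one, mul_one, Finset.prod_const, ← Fintype.card_subtype,
    ← Nat.card_eq_fintype_card] at h2
  · have h3 : (Nat.card S).Coprime (Nat.card (U ⧸ (St v).subgroupOf U)) :=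
      (hc1.symm.coprime_dvd_right (card_quotient_dvd_card _)).coprime_dvd_left
        ((card_subgroup_dvd_card S).trans (card_subgroupOf_of_le hFU).dvd)
    have h4 := (pow_eq_one_iff_of_coprime h3).1 ⟨h2, pow_card_eq_one'⟩
    exact hv1 (hWu v hv ((QuotientGroup.eq_one_iff _).1 h4).2)
  · split_ifs with h
    · exact QuotientGroup.eq_iff_div_mem.2 (by rw [div_eq_mul_inv]; exact hD _ f.2 h)
    · exact (QuotientGroup.eq_one_iff _).2 (hC _ f.2 h)

end Cfsg.Lib.Solv.KMS
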