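import Cfsg.Agent.Solv.KMSCore
import Cfsg.Agent.Solv.CoprimeAbelian

/-!
# Frobenius groups of automorphisms: kernels on the fixed points of the complement
-/

set_option autoImplicit false

namespace Cfsg.Lib.Solv.KMS

open Subgroup Cfsg.Lib.Trans Cfsg.Lib.Local
open scoped commutatorElement

variable {A V : Type*} [Group A] [Finite A] [CommGroup V] [Finite V] [MulDistribMulAction A V]
  {U F H : Subgroup A}

open scoped IsMulCommutative in
theorem core2 [IsMulCommutative U] [Fintype H] (hFU : F ≤ normalizer (U : Set A))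
    (hHU : H ≤ normalizer (U : Set A)) (hHF : H ≤ normalizer (F : Set A))
    (hs : Group.IsSolvable F) (hfr : ∀ h ∈ H, h ≠ 1 → F ⊓ centralizer {h} = ⊥)
    (hUF : U ⊓ centralizer (F : Set A) = ⊥) (hc1 : (Nat.card U).Coprime (Nat.card F))
    (hc2 : (Nat.card U).Coprime (Nat.card V)) {W : Subgroup V}
    (hWU : ∀ a ∈ U, ∀ w ∈ W, a • w ∈ W) (hWH : ∀ a ∈ H, ∀ w ∈ W, a • w ∈ W)
    (hinj : ∀ K ≤ U, (∀ w ∈ W, (∀ k ∈ K, k • w = w) → ∏ h : H, (h : A) • w = 1 → w = 1) →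
      ∀ w ∈ W, (∀ k ∈ K, k • w = w) → w = 1) (h0 : W ≠ ⊥) :
    ∃ v ∈ W, v ≠ 1 ∧ ∀ u ∈ U, (∀ v : V, u • v / v ∈ W) → u • v = v := by
  classical
  have hcomm : ∀ x ∈ U, ∀ y ∈ U, x * y = y * x := fun x hx y hy =>
    congrArg Subtype.val (mul_comm (⟨x, hx⟩ : U) ⟨y, hy⟩)
  have hpow : ∀ (K : Subgroup A) (w : V), K ≤ U → w ^ Nat.card K = 1 → w = 1 := fun K w hK h =>
    (pow_eq_one_iff_of_coprime (hc2.coprime_dvd_left (card_dvd_of_le hK))).1
      ⟨h, pow_card_eq_one'⟩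
  let St : V → Subgroup A := fun w => U ⊓ MulAction.stabilizer A w
  obtain ⟨v, ⟨hv, hv1⟩, hmax⟩ := Set.exists_max_image {w : V | w ∈ W ∧ w ≠ 1}
    (fun w => Nat.card (St w)) (Set.toFinite _) (by
      obtain ⟨⟨w, hw⟩, h1⟩ := (ne_bot_iff_exists_ne_one).1 h0
      exact ⟨w, hw, fun e => h1 (Subtype.ext e)⟩)
  have heq : ∀ (K : Subgroup A) (w : V), w ∈ W → w ≠ 1 → Nat.card (St v) ≤ Nat.card K →
      K ≤ St w → St w = K := fun K w hw h1 h2 h3 =>
    (eq_of_le_of_card_ge h3 ((hmax w ⟨hw, h1⟩).trans h2)).symm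
  have hA : ∀ w ∈ W, w ≠ 1 → Nat.card (St v) ≤ Nat.card (St w) →
      ∃ h ∈ H, h ≠ 1 ∧ h ∈ normalizer (St w : Set A) := by
    intro w₀ hw₀ hw₀1 hc
    by_contra hcon
    refine hw₀1 (hinj (St w₀) inf_le_left (fun w hw hw' h1 => ?_) w₀ hw₀ fun k hk => hk.2)
    have := Fintype.ofFinite (St w₀)
    have hwH : ∀ h : H, (h : A) • w ∈ W := fun h => hWH h h.2 w hw
    have h2 : ∏ h : H, ∏ k : St w₀, (k : A) • (h : A) • w = 1 := by
      rw [Finset.prod_comm]
      exact Finset.prod_eq_one fun k _ => by rw [← Finset.smul_prod', h1, smul_one]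
    rw [Finset.prod_eq_single (1 : H) (fun h _ hh => ?_) (by simp)] at h2
    · refine hpow (St w₀) w inf_le_left ?_
      rw [← h2, Nat.card_eq_fintype_card, ← Finset.card_univ, ← Finset.prod_const]
      exact Finset.prod_congr rfl fun k _ => by rw [coe_one, one_smul, hw' k k.2]
    by_contra h3
    have h4 := heq (St w₀) (∏ k : St w₀, (k : A) • (h : A) • w)
      (W.prod_mem fun k _ => hWU k k.2.1 _ (hwH h)) h3 hc
      fun x hx => ⟨hx.1, Fpf.smul_prod_smul (St w₀) _ hx⟩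
    refine hcon ⟨h, h.2, fun e => hh (Subtype.ext e), mem_normalizer_of_cj_le (cj_le_iff.2
      fun x hx => h4.le ⟨mem_normalizer_conj (hHU h.2) hx.1, ?_⟩)⟩
    change _ • _ = _
    rw [Finset.smul_prod']
    refine Finset.prod_congr rfl fun k _ => ?_
    rw [← mul_smul, hcomm _ (mem_normalizer_conj (hHU h.2) hx.1) _ k.2.1, mul_smul, mul_smul,
      mul_smul, inv_smul_smul, hw' x hx]
  obtain ⟨a, ha, hB⟩ : ∃ a ∈ U, St v ⊔ zpowers a = U := by
    by_contra hcon
    let φ := MulDistribMulAction.toMulAut A V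
    have h1 := Act.le_of_forall_cocyclic (φ := φ) (B := U) (H := W ⊓ Act.fix φ (St v)) (U := ⊥)
      (fun b hb x hx => ⟨hWU b hb x hx.1, fun k hk => by
        change k • b • x = b • x
        rw [← mul_smul, hcomm k hk.1 b hb, mul_smul, show k • x = x from hx.2 k hk]⟩)
      (hc2.coprime_dvd_right (card_subgroup_dvd_card _)) fun C hC ⟨a, ha, h⟩ w hw => by
        by_contra h1
        have h2 := heq _ w hw.1.1 h1 le_rfl fun k hk => ⟨hk.1, hw.1.2 k hk⟩
        refine hcon ⟨a, ha, le_antisymm (sup_le inf_le_left (zpowers_le.2 ha)) ?_⟩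
        rw [← h, ← h2]
        exact sup_le_sup_right (fun k hk => ⟨hC hk, hw.2 k hk⟩) _
    exact hv1 (h1 ⟨hv, fun k hk => hk.2⟩)
  obtain ⟨h₁, hh₁, hh₁', hh₁''⟩ := hA v hv hv1 le_rfl
  refine ⟨v, hv, hv1, fun u hu hW => ?_⟩
  have hC : ∀ f ∈ F, f ∉ normalizer (St v : Set A) → f * u * f⁻¹ ∈ St v := by
    intro f hf hf'
    by_contra h1
    have h2 : u • f⁻¹ • v / f⁻¹ • v ≠ 1 := fun h => h1 ⟨mem_normalizer_conj (hFU hf) hu, by
      change _ • _ = _
      rw [mul_smul, mul_smul, div_eq_one.1 h, smul_inv_smul]⟩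
    have h3 := heq (cj f⁻¹ (St v)) _ (hW _) h2 (card_cj _ _).ge fun x hx => by
      have h4 := mem_cj_inv.1 hx
      have h5 : x ∈ U := by simpa [mul_assoc] using mem_normalizer_conj' (hFU hf) h4.1
      have h6 : x • f⁻¹ • v = f⁻¹ • v := by
        rw [eq_inv_smul_iff, ← mul_smul, ← mul_smul]
        exact h4.2
      refine ⟨h5, ?_⟩
      change _ • _ = _
      rw [smul_div', ← mul_smul x u, hcomm x h5 u hu, mul_smul, h6]
    obtain ⟨h₂, h4, h5, h6⟩ := hA _ (hW _) h2 (by rw [h3, card_cj])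
    rw [h3, ← cj_normalizer, mem_cj_inv] at h6
    exact hf' (mem_of_conj_mem hHF hs hfr hh₁ hh₁' hh₁'' h4 h5 hf h6)
  have hUK : U ≤ normalizer (St v : Set A) := Coprime.le_normalizer_of_le_of_comm inf_le_left
  have hD : ∀ f ∈ F, f ∈ normalizer (St v : Set A) → f * u * f⁻¹ * u⁻¹ ∈ St v := by
    intro f hf hf'
    obtain ⟨y, hy, h1⟩ := Fpf.exists_conj_eq_mul (K := F ⊓ normalizer (St v : Set A))
      (inf_normalizer_le_normalizer_inf ⟨hHF hh₁, le_normalizer hh₁''⟩)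
      (Fpf.mono_left (hfr h₁ hh₁ hh₁') inf_le_left) ⟨hf, hf'⟩
    have h2 := commutator_mem_of_cyclic inf_le_left ha hB hUK ⟨hFU hy.1, hy.2⟩ ⟨hHU hh₁, hh₁''⟩ hu
    rwa [commutatorElement_def y, h1, mul_inv_cancel_right] at h2
  let F' := F.subgroupOf (normalizer (U : Set A))
  have := Fintype.ofFinite F'
  have h1 : ∏ f : F', (f : normalizer (U : Set A)) • (⟨u, hu⟩ : U) = 1 := by
    refine Subtype.ext (mem_bot.1 (hUF.le ⟨Subtype.coe_prop _, mem_centralizer_iff.2 fun f hf => ?_⟩))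
    exact mul_inv_eq_iff_eq_mul.1 (congrArg Subtype.val
      (Fpf.smul_prod_smul F' (⟨u, hu⟩ : U) (u := ⟨f, hFU hf⟩) hf))
  let S : Subgroup F' := (normalizer (St v : Set A)).comap
    ((normalizer (U : Set A)).subtype.comp F'.subtype)
  have h2 := congrArg (QuotientGroup.mk' ((St v).subgroupOf U)) h1
  rw [map_prod, map_one, Finset.prod_congr rfl (g := fun f => if f ∈ S then
    QuotientGroup.mk' ((St v).subgroupOf U) ⟨u, hu⟩ else 1) fun f _ => ?_, Finset.prod_ite,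
    Finset.prod_const_one, mul_one, Finset.prod_const, ← Fintype.card_subtype,
    ← Nat.card_eq_fintype_card] at h2
  · have h3 : (Nat.card S).Coprime (Nat.card (U ⧸ (St v).subgroupOf U)) :=
      (hc1.symm.coprime_dvd_right (card_quotient_dvd_card _)).coprime_dvd_left
        ((card_subgroup_dvd_card S).trans (card_subgroupOf_of_le hFU).dvd)
    have h4 := (pow_eq_one_iff_of_coprime h3).1 ⟨h2, pow_card_eq_one'⟩
    exact ((QuotientGroup.eq_one_iff _).1 h4).2
  · split_ifs with h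
    · exact QuotientGroup.eq_iff_div_mem.2 (by rw [div_eq_mul_inv]; exact hD _ f.2 h)
    · exact (QuotientGroup.eq_one_iff _).2 (hC _ f.2 h)

open scoped IsMulCommutative in
/-- An element of `C_Q(H)` acting trivially on `C_V(H)` acts trivially on `V`. -/
theorem core3 {Q : Subgroup A} {q : ℕ} [Fact q.Prime] (hQ : IsPGroup q Q)
    (hFQ : F ≤ normalizer (Q : Set A)) (hHQ : H ≤ normalizer (Q : Set A))
    (hHF : H ≤ normalizer (F : Set A)) (hs : Group.IsSolvable F)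
    (hfr : ∀ h ∈ H, h ≠ 1 → F ⊓ centralizer {h} = ⊥) (hQF : Q ⊓ centralizer (F : Set A) = ⊥)
    (hc1 : (Nat.card Q).Coprime (Nat.card F)) (hc2 : (Nat.card Q).Coprime (Nat.card V))
    (faith : ∀ x ∈ Q, (∀ v : V, x • v = v) → x = 1) {c : A} (hc : c ∈ Q)
    (hcH : c ∈ centralizer (H : Set A)) (hfix : ∀ v : V, (∀ h ∈ H, h • v = v) → c • v = v) :
    c = 1 := by
  by_contra h0
  have := Fintype.ofFinite H
  let φ := MulDistribMulAction.toMulAut A V
  let M : Subgroup A := Q ⊓ ⨅ v : {v : V // ∀ x ∈ Q, c • x • v = x • v}, MulAction.stabilizer A v.1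
  have hM : ∀ x, x ∈ M ↔ x ∈ Q ∧ ∀ v : V, (∀ y ∈ Q, c • y • v = y • v) → x • v = v := fun x => by
    simp [M, mem_iInf]
  have hMn : ∀ g ∈ normalizer (Q : Set A), g ∈ Q ∨ g ∈ H → g ∈ normalizer (M : Set A) :=
    fun g hg h1 => mem_normalizer_of_cj_le (cj_le_iff.2 fun x hx => (hM _).2
      ⟨mem_normalizer_conj hg ((hM x).1 hx).1, fun v hv => by
        rw [mul_smul, mul_smul, ((hM x).1 hx).2 (g⁻¹ • v) fun y hy => ?_, smul_inv_smul]
        rcases h1 with h1 | h1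
        · rw [← mul_smul y]
          exact hv _ (mul_mem hy (inv_mem h1))
        · have h2 := hv _ (mem_normalizer_conj hg hy)
          rw [← mul_smul y, show y * g⁻¹ = g⁻¹ * (g * y * g⁻¹) by group, mul_smul, ← mul_smul c,
            ← mem_centralizer_iff.1 hcH _ (inv_mem h1), mul_smul, h2]⟩)
  have hcM : c ∈ M := (hM c).2 ⟨hc, fun v hv => by simpa using hv 1 (one_mem _)⟩
  have h1 := PG.inf_centralizer_ne_bot hQ (hQ.to_le (inf_le_left : M ≤ Q))
    (fun g hg => hMn g (le_normalizer hg) (Or.inl hg)) fun e => h0 (mem_bot.1 (e.le hcM))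
  set U := Q ⊓ centralizer (Q : Set A)
  set U₀ := M ⊓ centralizer (Q : Set A)
  have hU₀ : U₀ ≤ U := inf_le_inf_right _ inf_le_left
  have : IsMulCommutative U := ⟨⟨fun a b => Subtype.ext (b.2.2 a a.2.1)⟩⟩
  have nU : ∀ g ∈ normalizer (Q : Set A), g ∈ normalizer (U : Set A) := fun g hg =>
    inf_normalizer_le_normalizer_inf ⟨hg, Trans.normalizer_le_normalizer_centralizer Q hg⟩
  have hW : ∀ g ∈ normalizer (Q : Set A), g ∈ Q ∨ g ∈ H → ∀ w ∈ Act.comm φ ⊤ U₀,
      g • w ∈ Act.comm φ ⊤ U₀ := fun g hg h2 w hw => by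
    have h3 : g ∈ normalizer (U₀ : Set A) := inf_normalizer_le_normalizer_inf
      ⟨hMn g hg h2, Trans.normalizer_le_normalizer_centralizer Q hg⟩
    suffices h : Act.comm φ ⊤ U₀ ≤ (Act.comm φ ⊤ U₀).comap (φ g).toMonoidHom from h hw
    refine Act.comm_le.2 fun x _ b hb => ?_
    have h4 := Act.mul_inv_mem_comm (φ := φ) (mem_top (g • x)) (mem_normalizer_conj h3 hb)
    change g • x * ((g * b * g⁻¹) • g • x)⁻¹ ∈ _ at h4
    change g • (x * (b • x)⁻¹) ∈ Act.comm φ ⊤ U₀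
    rwa [mul_smul, mul_smul, inv_smul_smul, ← smul_inv', ← smul_mul'] at h4
  have hWu : ∀ w ∈ Act.comm φ ⊤ U₀, (∀ u ∈ U₀, u • w = w) → w = 1 := fun w hw h2 =>
    mem_bot.1 ((Act.fix_inf_comm_eq_bot (φ := φ) (H := ⊤) (B := U₀) (Act.inv_top _) (by
      rw [card_top]
      exact hc2.coprime_dvd_left (card_dvd_of_le (hU₀.trans inf_le_left)))).le ⟨⟨trivial, h2⟩, hw⟩)
  obtain ⟨v, hv, hv1, h2⟩ := core2 (U := U) (W := Act.comm φ ⊤ U₀) (fun g hg => nU g (hFQ hg))
    (fun g hg => nU g (hHQ hg)) hHF hs hfr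
    (le_bot_iff.1 (hQF ▸ inf_le_inf_right _ inf_le_left))
    (hc1.coprime_dvd_left (card_dvd_of_le inf_le_left))
    (hc2.coprime_dvd_left (card_dvd_of_le inf_le_left))
    (fun g hg => hW g (le_normalizer hg.1) (Or.inl hg.1)) (fun g hg => hW g (hHQ hg) (Or.inr hg))
    (fun K hK hi w hw hw' => hWu w hw fun u hu => ((hM u).1 hu.1).2 w fun y hy => by
      have h3 : ∀ z ∈ Q, ∀ k ∈ K, k • z • w = z • w := fun z hz k hk => by
        rw [← mul_smul, ← mem_centralizer_iff.1 (hK hk).2 z hz, mul_smul, hw' k hk]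
      refine div_eq_one.1 (hi _ (div_mem (hW c (le_normalizer hc) (Or.inl hc) _
        (hW y (le_normalizer hy) (Or.inl hy) w hw)) (hW y (le_normalizer hy) (Or.inl hy) w hw))
        (fun k hk => ?_) ?_)
      · rw [smul_div', ← mul_smul c, h3 _ (mul_mem hc hy) k hk, h3 y hy k hk]
      · have h4 := hfix _ fun h hh => Fpf.smul_prod_smul H (y • w) hh
        simp only [smul_div', Finset.prod_div_distrib]
        rw [div_eq_one, ← h4, Finset.smul_prod']
        exact Finset.prod_congr rfl fun h _ => by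
          rw [← mul_smul, mem_centralizer_iff.1 hcH h h.2, mul_smul])
    (fun e => h1 (eq_bot_iff.2 fun u hu => faith u (hU₀ hu).1 fun v =>
      Act.comm_eq_bot_iff.1 e (mem_top v) u hu))
  exact hv1 (hWu v hv fun u hu => h2 u (hU₀ hu) fun x => by
    rw [div_eq_mul_inv]
    exact Act.apply_mul_inv_mem_comm (φ := φ) (mem_top x) hu)

end Cfsg.Lib.Solv.KMS
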