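import Cfsg.Agent.Solv.KhuCore
import Cfsg.Agent.Solv.GaloisFree
import Cfsg.Agent.Solv.ElemAb
import Cfsg.Agent.Solv.FitHeight
import Cfsg.Agent.NF.Basic

/-!
# Frobenius groups of automorphisms with fixed-point-free kernel: solvable groups
-/

set_option autoImplicit false
set_option linter.unusedSectionVars false

namespace Cfsg.Lib.Solv.KMS

open Subgroup Cfsg.Lib.Trans Cfsg.Lib.Local Cfsg.Lib.NF QuotientGroup
open scoped commutatorElement

universe u

theorem card_of_freeRep {k V A : Type*} [Field k] [AddCommGroup V] [Module k V] [Group A]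
    {ρ : Representation k A V} {H : Subgroup A} [Fintype H] (h : GalFree.FreeRep ρ H) :
    Nat.card V = Nat.card {v : V // ∀ a ∈ H, ρ a v = v} ^ Nat.card H := by
  obtain ⟨W, h1, h2⟩ := h
  have inj : ∀ w w' : H → W, ∑ a : H, ρ a (w a) = ∑ a : H, ρ a (w' a) → w = w' := fun w w' e =>
    funext fun a => Subtype.ext (sub_eq_zero.1 (h2 (fun a => w a - w' a)
      (fun a => sub_mem (w a).2 (w' a).2) (by simp [e]) a))
  have sh : ∀ (w : H → V) (g : H), ρ g (∑ a : H, ρ a (w a)) = ∑ a : H, ρ a (w (g⁻¹ * a)) :=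
    fun w g => by
      rw [map_sum]
      exact Fintype.sum_equiv (Equiv.mulLeft g) _ _ fun a => by simp
  rw [← Nat.card_eq_of_bijective (fun w : H → W => ∑ a : H, ρ a (w a)) ⟨inj, fun v => by
      obtain ⟨w, hw, e⟩ := h1 v
      exact ⟨fun a => ⟨w a, hw a⟩, e⟩⟩, Nat.card_fun,
    Nat.card_eq_of_bijective (β := {v : V // ∀ a ∈ H, ρ a v = v})
      (fun w : W => ⟨∑ a : H, ρ a w, fun g hg => sh (fun _ => w) ⟨g, hg⟩⟩)
      ⟨fun w w' e => congrFun (inj (fun _ => w) (fun _ => w') (congrArg Subtype.val e)) 1, fun v => ?_⟩]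
  obtain ⟨w, hw, e⟩ := h1 v
  refine ⟨⟨w 1, hw 1⟩, Subtype.ext (e ▸ Finset.sum_congr rfl fun g _ => congrArg _ ?_)⟩
  have h3 := inj (fun a => ⟨w (g⁻¹ * a), hw _⟩) (fun a => ⟨w a, hw a⟩)
    (by rw [← sh w g, e]; exact v.2 g g.2)
  simpa using congrArg Subtype.val (congrFun h3 g)

variable {X : Type u} [Group X] [Finite X] {G F H K N Q D : Subgroup X} {p q : ℕ}

theorem card_ab [Fact p.Prime] (h : Hyp N F H) [N.Normal] [ElemAb p N] :
    Nat.card N = Nat.card (N ⊓ centralizer (H : Set X) : Subgroup X) ^ Nat.card H := by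
  have hN := ElemAb.isPGroup p N
  have h1 := h.toPP hN
  set E := normalizer (pp p F : Set X)
  have := Fintype.ofFinite (H.subgroupOf E)
  have : ((pp p F).subgroupOf E).Normal := normal_in_normalizer
  have hc : Nat.card ((pp p F).subgroupOf E) = Nat.card (pp p F) :=
    card_subgroupOf_of_le Subgroup.le_normalizer
  have := h1.nil
  have := isSolvable_subgroupOf (G := pp p F) inferInstance E
  have h2 := card_of_freeRep (GalFree.freeRep_of_solvable (k := ZMod p) (H.subgroupOf E)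
    ((pp p F).subgroupOf E) (by
      rw [hc, Ne, CharP.cast_eq_zero_iff (ZMod p) p]
      exact coprime_iff_not_dvd'.1 (coprime_card_map_pPrimeCore p F))
    (fun Z _ hZ a ha ha1 z hz => by
      obtain ⟨y, hy, e⟩ := Fpf.exists_conj_eq_mul (K := Z) (Fpf.mem_normalizer_of_normal Z a)
        (Fpf.mono_left (Fpf.fpf_subgroupOf E h1.frob a ha ha1) hZ) hz
      refine ⟨y⁻¹, inv_mem hy, ?_⟩
      rw [eq_mul_inv_iff_mul_eq, mul_assoc, ← e]
      group)
    _ (Vec p N) (Vec.rep p ((MulAut.conjNormal (H := N)).comp E.subtype)) rfl fun v hv =>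
      Vec.toMul_eq_one.1 (Subtype.ext (mem_bot.1 (h1.fpf.le ⟨(Vec.toMul v).2,
        mem_centralizer_of_conj_eq' fun f hf => congrArg (fun x : Vec p N => ((Vec.toMul x : N) : X))
          (hv ⟨f, Subgroup.le_normalizer hf⟩ hf)⟩))))
  rw [Vec.card_vec, card_subgroupOf_of_le h1.hHF] at h2
  rw [h2]
  congr 1
  refine Nat.card_eq_of_bijective (fun v => ⟨((Vec.toMul v.1 : N) : X), (Vec.toMul v.1).2,
    mem_centralizer_of_conj_eq' fun f hf => congrArg (fun x : Vec p N => ((Vec.toMul x : N) : X))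
      (v.2 ⟨f, h1.hHF hf⟩ hf)⟩) ⟨fun v w e => Subtype.ext (Vec.toMul.injective
        (Subtype.ext (Subtype.mk.inj e))), fun x => ⟨⟨Vec.ofMul p ⟨x, x.2.1⟩, fun a ha =>
          congrArg (Vec.ofMul p) (Subtype.ext (mul_inv_eq_iff_eq_mul.2
            (mem_centralizer_iff.1 x.2.2 a ha)))⟩, rfl⟩⟩

open scoped IsMulCommutative in
theorem lift_ab [Fact p.Prime] (h : Hyp N F H) [N.Normal] [IsMulCommutative N] (hN : IsPGroup p N)
    {g : X} (key : ∀ a ∈ H, g⁻¹ * (a * g * a⁻¹) ∈ N) :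
    ∃ n ∈ N, g * n ∈ centralizer (H : Set X) := by
  have h1 := h.toPP hN
  let _ : MulDistribMulAction X N := MulDistribMulAction.compHom N (MulAut.conjNormal (H := N))
  obtain ⟨n, hn⟩ := exists_cobound (V := N) h1.hHF h1.frob (fun v hv => Subtype.ext (mem_bot.1
    (h1.fpf.le ⟨v.2, mem_centralizer_of_conj_eq' fun f hf => congrArg Subtype.val (hv f hf)⟩)))
    (coprime_pp hN F) (fun a => ⟨_, key a a.2⟩) fun a b => Subtype.ext (by
      change g⁻¹ * (a * b * g * (a * b : X)⁻¹) =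
        g⁻¹ * (a * g * (a : X)⁻¹) * (a * (g⁻¹ * (b * g * (b : X)⁻¹)) * (a : X)⁻¹)
      group)
  refine ⟨n, n.2, mem_centralizer_of_conj_eq' fun a ha => ?_⟩
  have h2 : g⁻¹ * (a * g * a⁻¹) * (a * n * a⁻¹) = n := congrArg Subtype.val (hn ⟨a, ha⟩)
  conv_rhs => rw [← h2]
  group

omit [Finite X] in
theorem solv_map {Y : Type*} [Group Y] (hs : Group.IsSolvable G) (f : X →* Y) :
    Group.IsSolvable (G.map f) := Group.isSolvable_of_surjective (f.subgroupMap_surjective G)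

omit [Finite X] in
theorem solv_le (hs : Group.IsSolvable G) (h : K ≤ G) : Group.IsSolvable K :=
  Group.isSolvable_of_isSolvable_injective (inclusion_injective h)

omit [Finite X] in
theorem mk_mem_centralizer [N.Normal] {g : X} :
    mk' N g ∈ centralizer (H.map (mk' N) : Set (X ⧸ N)) ↔ ∀ a ∈ H, g⁻¹ * (a * g * a⁻¹) ∈ N := by
  simp only [mem_centralizer_iff, SetLike.mem_coe, mem_map, forall_exists_index, and_imp,
    forall_apply_eq_imp_iff₂, ← QuotientGroup.eq, mk_mul, mk_inv, mk'_apply,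
    eq_mul_inv_iff_mul_eq]
  exact forall₂_congr fun _ _ => eq_comm

theorem lift_aux (X : Type u) [Group X] [Finite X] : ∀ N F H : Subgroup X, Hyp N F H → N.Normal →
    Group.IsSolvable N → ∀ g : X, (∀ a ∈ H, g⁻¹ * (a * g * a⁻¹) ∈ N) →
      ∃ n ∈ N, g * n ∈ centralizer (H : Set X) := by
  refine card_induction (P := fun X _ _ => ∀ N F H : Subgroup X, Hyp N F H → N.Normal →
    Group.IsSolvable N → ∀ g : X, (∀ a ∈ H, g⁻¹ * (a * g * a⁻¹) ∈ N) →
      ∃ n ∈ N, g * n ∈ centralizer (H : Set X)) (fun X _ _ ih N F H h _ hs g hg => ?_) X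
  by_cases h0 : N = ⊥
  · subst h0
    exact ⟨1, one_mem _, mem_centralizer_of_conj_eq' fun a ha => by
      rw [mul_one, eq_comm, ← inv_mul_eq_one]
      exact hg a ha⟩
  obtain ⟨p, W, hp, hW, le, _, -, pW⟩ := exists_isMinNormal_elementary_le N h0
  have := Fact.mk hp
  have := hW.normal
  obtain ⟨_, ⟨n, hn, rfl⟩, h1⟩ := ih _ (card_quotient_lt hW.ne_bot) _ _ _ (h.map le pW)
    (Normal.map ‹_› _ (mk'_surjective W)) (solv_map hs _) (mk' W g) (by
      rintro _ ⟨a, ha, rfl⟩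
      simpa using mem_map_of_mem (mk' W) (hg a ha))
  rw [← map_mul, mk_mem_centralizer] at h1
  obtain ⟨w, hw, h2⟩ := lift_ab (h.sub le le_normalizer_of_normal) pW h1
  exact ⟨n * w, mul_mem hn (le hw), by rwa [← mul_assoc]⟩

theorem Hyp.lift (h : Hyp N F H) [N.Normal] (hs : Group.IsSolvable N) {g : X}
    (hg : ∀ a ∈ H, g⁻¹ * (a * g * a⁻¹) ∈ N) : ∃ n ∈ N, g * n ∈ centralizer (H : Set X) :=
  lift_aux X N F H h ‹_› hs g hg

theorem Hyp.map' (h : Hyp G F H) [N.Normal] (hNG : N ≤ G) (hs : Group.IsSolvable N) :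
    Hyp (G.map (mk' N)) (F.map (mk' N)) (H.map (mk' N)) := by
  refine ⟨(map_mono h.hF).trans (le_normalizer_map _), (map_mono h.hH).trans (le_normalizer_map _),
    (map_mono h.hHF).trans (le_normalizer_map _), isNilpotent_map _ _ h.nil,
    Fpf.fpf_map _ h.hHF h.frob, ?_, ((Fp.of_hyp h).map_of_cj hNG
      (((Fp.of_hyp h).sub hNG le_normalizer_of_normal).cj_of_solv hs)).fpf⟩
  rw [← Subgroup.map_sup, eq_bot_iff]
  rintro _ ⟨⟨a, ha, rfl⟩, g, hg, he⟩
  have h1 : a ∈ G := by simpa using mul_mem hg (hNG (QuotientGroup.eq.1 he))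
  rw [mem_bot.1 (h.disj.le ⟨ha, h1⟩), map_one]
  exact one_mem _

theorem Hyp.map_cent' (h : Hyp G F H) [N.Normal] (hNG : N ≤ G) (hs : Group.IsSolvable N) :
    G.map (mk' N) ⊓ centralizer (H.map (mk' N) : Set (X ⧸ N)) =
      (G ⊓ centralizer (H : Set X)).map (mk' N) := by
  refine le_antisymm ?_ ?_
  · rintro _ ⟨⟨g, hg, rfl⟩, hc⟩
    obtain ⟨n, hn, h1⟩ := (h.sub hNG le_normalizer_of_normal).lift hs (mk_mem_centralizer.1 hc)
    exact ⟨g * n, ⟨mul_mem hg (hNG hn), h1⟩,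
      by rw [map_mul, show mk' N n = 1 from (eq_one_iff _).2 hn, mul_one]⟩
  · rintro _ ⟨g, hg, rfl⟩
    exact ⟨mem_map_of_mem _ hg.1, mk_mem_centralizer.2 fun a ha => by
      rw [mem_centralizer_iff.1 hg.2 a ha]
      simpa using one_mem N⟩

theorem card_aux (X : Type u) [Group X] [Finite X] : ∀ G F H : Subgroup X, Hyp G F H →
    Group.IsSolvable G →
      Nat.card G = Nat.card (G ⊓ centralizer (H : Set X) : Subgroup X) ^ Nat.card H := by
  refine card_induction (P := fun X _ _ => ∀ G F H : Subgroup X, Hyp G F H → Group.IsSolvable G →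
    Nat.card G = Nat.card (G ⊓ centralizer (H : Set X) : Subgroup X) ^ Nat.card H)
    (fun X _ _ ih G F H h hs => ?_) X
  by_cases ht : G ⊔ (F ⊔ H) = ⊤
  swap
  · have hG : G ≤ G ⊔ (F ⊔ H) := le_sup_left
    have hH : H ≤ G ⊔ (F ⊔ H) := le_sup_right.trans le_sup_right
    have h1 := ih _ (card_lt_of_ne_top ht) _ _ _ (h.subgroupOf (le_sup_left.trans le_sup_right) hH)
      (isSolvable_subgroupOf hs _)
    rw [card_subgroupOf_of_le hG, card_subgroupOf_of_le hH] at h1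
    rw [h1, ← card_subgroupOf_of_le (inf_le_left.trans hG)]
    congr 3
    ext x
    exact and_congr_right' ⟨fun hx f hf => congrArg Subtype.val (hx ⟨f, hH hf⟩ hf),
      fun hx f hf => Subtype.ext (hx f hf)⟩
  have : G.Normal := normalizer_eq_top_iff.1
    (eq_top_iff.2 (ht.ge.trans (sup_le Subgroup.le_normalizer h.le_normalizer)))
  by_cases h0 : G = ⊥
  · simp [h0]
  obtain ⟨p, W, hp, hW, le, _, e, pW⟩ := exists_isMinNormal_elementary_le G h0
  have := Fact.mk hp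
  have := hW.normal
  have : ElemAb p W := ElemAb.of_subgroup e
  have h1 := ih _ (card_quotient_lt hW.ne_bot) _ _ _ (h.map le pW) (solv_map hs _)
  have h2 := card_map_mk'_mul_card_inf W H
  rw [le_bot_iff.1 (h.disj ▸ le_inf (inf_le_right.trans le_sup_right) (inf_le_left.trans le) :
    W ⊓ H ≤ ⊥), card_bot, mul_one] at h2
  rw [h.map_cent' le (solv_le hs le), h2] at h1
  rw [← card_map_mk'_mul_card_inf W G, ← card_map_mk'_mul_card_inf W (G ⊓ _), ← inf_assoc,
    inf_eq_left.2 le, mul_pow, ← h1, ← card_ab (p := p) (h.sub le le_normalizer_of_normal)]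

/-- The order formula. -/
theorem Hyp.card_eq (h : Hyp G F H) (hs : Group.IsSolvable G) :
    Nat.card G = Nat.card (G ⊓ centralizer (H : Set X) : Subgroup X) ^ Nat.card H :=
  card_aux X G F H h hs

theorem Hyp.le_of_cent (h : Hyp G F H) (hs : Group.IsSolvable G) (hK : K ≤ G)
    (h1 : F ⊔ H ≤ normalizer (K : Set X)) (h2 : G ⊓ centralizer (H : Set X) ≤ K) : K = G := by
  refine eq_of_le_of_card_ge hK (le_of_eq ?_)
  rw [h.card_eq hs, (h.sub hK h1).card_eq (solv_le hs hK),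
    le_antisymm (le_inf h2 inf_le_right) (inf_le_inf_right _ hK)]

theorem Hyp.sylow_cent [hq : Fact q.Prime] (h : Hyp G F H) (hs : Group.IsSolvable G)
    (hQ : IsSylowIn q Q G) (h1 : F ⊔ H ≤ normalizer (Q : Set X)) :
    IsSylowIn q (Q ⊓ centralizer (H : Set X)) (G ⊓ centralizer (H : Set X)) := by
  have h2 : Q ⊓ centralizer (H : Set X) ≤ G ⊓ centralizer (H : Set X) := inf_le_inf_right _ hQ.le
  refine ⟨h2, hQ.isPGroup.to_le inf_le_left, fun hd => hQ.not_dvd ?_⟩
  have h3 := h.card_eq hs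
  rw [← card_mul_relIndex h2, mul_pow, ← (h.sub hQ.le h1).card_eq (solv_le hs hQ.le),
    ← card_mul_relIndex hQ.le, Nat.mul_right_inj Nat.card_pos.ne'] at h3
  exact h3 ▸ dvd_pow hd Nat.card_pos.ne'

theorem Hyp.exists_sylow' (h : Hyp G F H) (hs : Group.IsSolvable G) (q : ℕ) [Fact q.Prime] :
    ∃ Q, IsSylowIn q Q G ∧ F ⊔ H ≤ normalizer (Q : Set X) := by
  obtain ⟨Q, hQ, h1⟩ := ((Fp.of_hyp h).cj_of_solv hs).exists_sylow (p := q) (Fp.of_hyp h)
  refine ⟨Q, hQ, fun a ha => cj_eq_self_iff.1 ((Fp.of_hyp h).sylow_unique hQ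
    (hQ.cj_of_mem_normalizer (h.le_normalizer ha)) h1 ?_ (solv_le hs inf_le_left)).symm⟩
  rw [← cj_Ns, ← cj_eq_of_mem_normalizer (h.le_normalizer_F ha)]
  exact cj_mono a h1

theorem le_of_central [Fact p.Prime] {π : Set ℕ} [N.Normal] (hN : IsPGroup p N) (hp : p ∉ π)
    (h1 : N ≤ K) (h2 : K ≤ centralizer (N : Set X)) (h3 : IsPiNum π (N.relIndex K))
    (h4 : (piCore π K).map K.subtype = ⊥) : K ≤ N := by
  obtain ⟨S, hS⟩ := exists_right_complement'_of_coprime (N := N.subgroupOf K)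
    (h3.coprime (isPiNum_card_of_isPGroup (π := πᶜ) hp (isPGroup_subgroupOf hN K))).symm
  have h5 : S.Normal := normalizer_eq_top_iff.1 (eq_top_iff.2 (hS.sup_eq_top.ge.trans (sup_le
    (fun x hx => centralizer_le_normalizer _ fun s _ => Subtype.ext (h2 s.2 x hx).symm)
    Subgroup.le_normalizer)))
  have h6 := le_piCore (π := π) h5 (hS.symm.index_eq_card ▸ (h3 : IsPiNum π (N.subgroupOf K).index))
  rw [(map_eq_bot_iff_of_injective _ K.subtype_injective).1 h4, le_bot_iff] at h6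
  rw [← subgroupOf_eq_top, ← hS.sup_eq_top, h6, sup_bot_eq]

open scoped IsMulCommutative in
theorem pi_aux (π : Set ℕ) (X : Type u) [Group X] [Finite X] : ∀ G F H D : Subgroup X, Hyp G F H →
    G.Normal → Group.IsSolvable G → D ≤ G ⊓ centralizer (H : Set X) →
    G ⊓ centralizer (H : Set X) ≤ normalizer (D : Set X) → IsPiNum π (Nat.card D) →
      ∃ K : Subgroup X, K.Normal ∧ K ≤ G ∧ IsPiNum π (Nat.card K) ∧ D ≤ K := by
  refine card_induction (P := fun X _ _ => ∀ G F H D : Subgroup X, Hyp G F H →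
    G.Normal → Group.IsSolvable G → D ≤ G ⊓ centralizer (H : Set X) →
    G ⊓ centralizer (H : Set X) ≤ normalizer (D : Set X) → IsPiNum π (Nat.card D) →
      ∃ K : Subgroup X, K.Normal ∧ K ≤ G ∧ IsPiNum π (Nat.card K) ∧ D ≤ K)
    (fun X _ _ ih G F H D h _ hs h1 h2 h3 => ?_) X
  have key : ∀ (M : Subgroup X), M.Normal → M ≤ G → M ≠ ⊥ → ∃ (p : ℕ) (N K : Subgroup X), p.Prime ∧
      N.Normal ∧ N ≠ ⊥ ∧ N ≤ M ∧ IsMulCommutative N ∧ IsPGroup p N ∧ K.Normal ∧ K ≤ G ∧ N ≤ K ∧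
      IsPiNum π (N.relIndex K) ∧ D ≤ K := fun M _ hM h0 => by
    have := solv_le hs hM
    obtain ⟨p, N, hp, hN, le, _, -, pN⟩ := exists_isMinNormal_elementary_le M h0
    have := Fact.mk hp
    have := hN.normal
    have e := h.map_cent' (le.trans hM) (solv_le ‹_› le)
    obtain ⟨K, _, h5, h6, h7⟩ := ih _ (card_quotient_lt hN.ne_bot) _ _ _ (D.map (mk' N))
      (h.map (le.trans hM) pN) (Normal.map ‹_› _ (mk'_surjective N)) (solv_map hs _)
      (e ▸ map_mono h1) (e ▸ (map_mono h2).trans (le_normalizer_map _)) (h3.card_map _)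
    refine ⟨p, N, K.comap (mk' N), hp, ‹_›, hN.ne_bot, le, ‹_›, pN, inferInstance,
      (comap_mono h5).trans (by rw [comap_map_mk', sup_eq_right.2 (le.trans hM)]),
      le_comap_mk' N K, ?_, map_le_iff_le_comap.1 h7⟩
    have h8 := relIndex_ker (K.comap (mk' N)) (mk' N)
    rw [ker_mk', map_comap_eq_self_of_surjective (mk'_surjective _)] at h8
    rwa [h8]
  by_cases h0 : ∃ M : Subgroup X, M.Normal ∧ M ≤ G ∧ M ≠ ⊥ ∧ IsPiNum π (Nat.card M)
  · obtain ⟨M, h4, h5, h6, h7⟩ := h0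
    obtain ⟨p, N, K, -, -, -, h8, -, -, h9, h10, h11, h12, h13⟩ := key M h4 h5 h6
    exact ⟨K, h9, h10, card_mul_relIndex h11 ▸ (h7.card_of_le h8).mul h12, h13⟩
  refine ⟨⊥, inferInstance, bot_le, by rw [card_bot]; exact IsPiNum.one π, ?_⟩
  by_contra hD
  obtain ⟨q, hq, hd⟩ := Nat.exists_prime_and_dvd (fun e => hD (card_eq_one.1 e).le)
  obtain ⟨p, N, K, hp, _, h4, h5, _, pN, _, h6, h7, h8, h9⟩ := key G ‹_› le_rfl
    fun e => hD (e ▸ h1.trans inf_le_left)
  have := Fact.mk hp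
  have := Fact.mk hq
  have hpπ : p ∉ π := fun e => h0 ⟨N, ‹_›, h5, h4, isPiNum_card_of_isPGroup e pN⟩
  have hqp : q ≠ p := fun e => hpπ (e ▸ h3 q hq hd)
  have hK := h.sub h6 le_normalizer_of_normal
  obtain ⟨Q, hQ, h10⟩ := hK.exists_sylow' (solv_le hs h6) q
  obtain ⟨⟨c, hc⟩, hc1⟩ := ne_bot_iff_exists_ne_one.1 fun e =>
    ((hK.sylow_cent (solv_le hs h6) hQ h10).inf_normal_of_le
      ((inf_le_inf_right _ h6).trans h2) (le_inf h9 (h1.trans inf_le_right))).eq_bot_iff.1 e hd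
  have h11 := (hK.sub hQ.le h10).toPP hQ.isPGroup
  have := h11.nil
  have h12 : K ⊓ centralizer (N : Set X) ≤ N := le_of_central pN hpπ (le_inf h7 (le_centralizer N))
    inf_le_right (h8.of_dvd (relIndex_dvd_relIndex_of_le_right_of_normal N inf_le_left)) (by
      by_contra e
      exact h0 ⟨_, inferInstance, (map_subtype_le _).trans (inf_le_left.trans h6), e,
        isPiNum_card_map_piCore π _⟩)
  let _ : MulDistribMulAction X N := MulDistribMulAction.compHom N (MulAut.conjNormal (H := N))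
  refine hc1 (Subtype.ext (core3 (V := N) hQ.isPGroup h11.hF h11.hH h11.hHF inferInstance h11.frob
    h11.fpf (coprime_pp hQ.isPGroup F) (IsPGroup.coprime_card_of_ne q p hqp _ _ hQ.isPGroup pN)
    (fun x hx hv => mem_bot.1 ((IsPGroup.disjoint_of_ne q p hqp _ _ hQ.isPGroup pN).eq_bot.le
      ⟨hx, h12 ⟨hQ.le hx, mem_centralizer_of_conj_eq fun v hv' => congrArg Subtype.val
        (hv ⟨v, hv'⟩)⟩⟩)) hc.1.1 hc.1.2 fun v hv => Subtype.ext ?_))
  have h13 : c * v * c⁻¹ * (v : X)⁻¹ ∈ D ⊓ N := mem_inf.2 ⟨by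
    simpa only [mul_assoc] using D.mul_mem hc.2 (mem_normalizer_conj (h2 ⟨h5 v.2,
      mem_centralizer_of_conj_eq' fun a ha => congrArg Subtype.val (hv a ha)⟩) (D.inv_mem hc.2)),
    mul_mem (‹N.Normal›.conj_mem _ v.2 c) (inv_mem v.2)⟩
  rw [inf_eq_bot_of_isPiNum h3 (isPiNum_card_of_isPGroup (π := πᶜ) hpπ pN), mem_bot,
    mul_inv_eq_one] at h13
  exact h13

/-- Normal `π`-subgroups of `C_G(H)` lie in normal `π`-subgroups, relative form. -/
theorem Hyp.exists_pi {π : Set ℕ} (h : Hyp G F H) [G.Normal] (hs : Group.IsSolvable G) [N.Normal]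
    (hN : N ≤ G) (h1 : D ≤ G ⊓ centralizer (H : Set X))
    (h2 : G ⊓ centralizer (H : Set X) ≤ normalizer (D : Set X)) (h3 : IsPiNum π (N.relIndex D)) :
    ∃ K : Subgroup X, K.Normal ∧ K ≤ G ∧ IsPiNum π (N.relIndex K) ∧ D ≤ K := by
  have e := h.map_cent' hN (solv_le hs hN)
  obtain ⟨K, _, h5, h6, h7⟩ := pi_aux π _ _ _ _ (D.map (mk' N)) (h.map' hN (solv_le hs hN))
    (Normal.map ‹_› _ (mk'_surjective N)) (solv_map hs _) (e ▸ map_mono h1)
    (e ▸ (map_mono h2).trans (le_normalizer_map _)) (by rwa [← relIndex_ker, ker_mk'])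
  refine ⟨K.comap (mk' N), inferInstance,
    (comap_mono h5).trans (by rw [comap_map_mk', sup_eq_right.2 hN]), ?_,
    map_le_iff_le_comap.1 h7⟩
  have h8 := relIndex_ker (K.comap (mk' N)) (mk' N)
  rw [ker_mk', map_comap_eq_self_of_surjective (mk'_surjective _)] at h8
  rwa [h8]

theorem Hyp.fittingOf_le (h : Hyp G F H) [G.Normal] (hs : Group.IsSolvable G) :
    fittingOf (G ⊓ centralizer (H : Set X)) ≤ fittingOf G := by
  refine fittingOf_le_of_forall_pCore_le fun p _ => ?_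
  obtain ⟨K, _, h1, h2, h3⟩ := pi_aux {p} X G F H _ h ‹_› hs (map_subtype_le _)
    (Subgroup.le_normalizer.trans (normalizer_le_normalizer_map_pCore p _))
    (isPGroup_iff_isPiNum.1 (isPGroup_map_pCore p _))
  exact h3.trans (le_fittingOf h1 le_normalizer_of_normal (isPGroup_iff_isPiNum.2 h2).isNilpotent)

theorem fit_aux (n : ℕ) : ∀ (X : Type u) [Group X] [Finite X] (G F H : Subgroup X), Hyp G F H →
    G.Normal → Group.IsSolvable G → FH.nilRes^[n] (G ⊓ centralizer (H : Set X)) = ⊥ →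
      FH.nilRes^[n] G = ⊥ := by
  induction n with
  | zero => exact fun X _ _ G F H h _ hs e =>
      (h.le_of_cent hs bot_le le_normalizer_of_normal e.le).symm
  | succ n ih =>
    intro X _ _ G F H h _ hs e
    have h1 := solv_le hs (fittingOf_le G)
    refine FH.iter_succ_eq_bot_iff_map.2 (ih _ _ _ _ (h.map' (fittingOf_le G) h1)
      (Normal.map ‹_› _ (mk'_surjective _)) (solv_map hs _) ?_)
    rw [h.map_cent' (fittingOf_le G) h1, ← FH.iter_le_iff_map]
    exact (FH.iter_succ_eq_bot_iff.1 e).trans (h.fittingOf_le hs)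

end Cfsg.Lib.Solv.KMS
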