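import Cfsg.Agent.Solv.Count
import Cfsg.Agent.Solv.CyclicP
import Cfsg.Agent.Trans.ClassTwo

/-!
# Hall's enumeration principle modulo `p ^ 2` and Kulakoff's theorem for odd `p`
-/

set_option autoImplicit false

namespace Cfsg.Lib.Solv.Count

open Subgroup Finset
open scoped Pointwise commutatorElement

variable {G : Type*} [Group G] [Finite G] {p : ℕ} [hp : Fact p.Prime]

theorem frattini_le_of_index_eq (hG : IsPGroup p G) {M : Subgroup G} (hM : M.index = p) :
    frattini G ≤ M :=
  frattini_le_coatom ((PG.isCoatom_iff_index_eq_prime hG).mpr hM)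

theorem normal_of_frattini_le (hG : IsPGroup p G) {K : Subgroup G} (h : frattini G ≤ K) :
    K.Normal :=
  Normal.of_commutator_le G ((commutator_le_frattini_of_isPGroup hG).trans h)

theorem cnt_max_above (hG : IsPGroup p G) (H : Subgroup G) :
    1 + cnt (fun M : Subgroup G => M.index = p ∧ H ≤ M) * (p - 1) = (H ⊔ frattini G).index := by
  have hn := normal_of_frattini_le hG (le_sup_right : frattini G ≤ H ⊔ frattini G)
  have hE : ElemAb p (G ⧸ (H ⊔ frattini G)) :=
    (frattini_le_iff_elemAb_quotient hG _).mp le_sup_right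
  have := ElemAb.isMulCommutative p (G ⧸ (H ⊔ frattini G))
  rw [index, ← cnt_card_prime_of_elemAb (p := p), ← cnt_index_eq_cnt_card, cnt_index_quotient]
  congr 2
  exact cnt_congr fun M => and_congr_right fun hM =>
    ⟨fun h => sup_le h (frattini_le_of_index_eq hG hM), fun h => le_sup_left.trans h⟩

theorem cnt_max_above_eq_one (hG : IsPGroup p G) {H : Subgroup G} (hH : H ≠ ⊤)
    (h : ¬ p ^ 2 ∣ (H ⊔ frattini G).index) :
    cnt (fun M : Subgroup G => M.index = p ∧ H ≤ M) = 1 := by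
  have h1 := cnt_max_above hG H
  obtain ⟨j, hj⟩ := hG.index (H ⊔ frattini G)
  have hj1 : j = 1 := by
    rcases j with _ | _ | j
    · exact absurd (frattini_nongenerating (index_eq_one.mp hj)) hH
    · rfl
    · exact absurd (hj ▸ pow_dvd_pow p (by omega)) h
  rw [hj, hj1, pow_one] at h1
  have h2 := hp.out.two_le
  apply Nat.eq_of_mul_eq_mul_right (m := p - 1) (by omega)
  omega

theorem cnt_max_above_modEq (hG : IsPGroup p G) {H : Subgroup G}
    (h : p ^ 2 ∣ (H ⊔ frattini G).index) :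
    cnt (fun M : Subgroup G => M.index = p ∧ H ≤ M) ≡ 1 + p [MOD p ^ 2] :=
  modEq_one_add_of_sq_dvd (by rwa [cnt_max_above hG H])

/-- A non-cyclic `p`-group has `1 + p` maximal subgroups modulo `p ^ 2`. -/
theorem cnt_max_modEq (hG : IsPGroup p G) (h : ¬ IsCyclic G) :
    cnt (fun M : Subgroup G => M.index = p) ≡ 1 + p [MOD p ^ 2] := by
  have := cnt_max_above_modEq hG (H := ⊥)
    (by rw [bot_sup_eq]; exact sq_dvd_index_frattini_of_not_isCyclic hG h)
  simpa using this

theorem cnt_max_above_modEq_one (hG : IsPGroup p G) {H : Subgroup G} (hH : H ≠ ⊤) :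
    cnt (fun M : Subgroup G => M.index = p ∧ H ≤ M) ≡ 1 [MOD p] := by
  apply modEq_one_of_dvd
  rw [cnt_max_above hG H]
  obtain ⟨j, hj⟩ := hG.index (H ⊔ frattini G)
  rw [hj]
  refine dvd_pow_self p ?_
  rintro rfl
  exact hH (frattini_nongenerating (index_eq_one.mp hj))

theorem cnt_index_sq_above_modEq (hG : IsPGroup p G) {H : Subgroup G}
    (h : p ^ 2 ∣ (H ⊔ frattini G).index) :
    cnt (fun K : Subgroup G => (K.index = p ^ 2 ∧ frattini G ≤ K) ∧ H ≤ K) ≡ 1 [MOD p] := by
  have hn := normal_of_frattini_le hG (le_sup_right : frattini G ≤ H ⊔ frattini G)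
  have h1 := cnt_index_pow_modEq (hG.to_quotient (H ⊔ frattini G)) h
  rw [cnt_index_quotient] at h1
  refine eq_trans_modEq (cnt_congr fun K => ?_) h1
  rw [sup_le_iff]
  tauto

/-- Hall's enumeration principle modulo `p ^ 2`. -/
theorem hall_enumeration [Fintype (Subgroup G)] [DecidablePred fun M : Subgroup G => M.index = p]
    (hG : IsPGroup p G) (hnc : ¬ IsCyclic G) {k : ℕ} (hk : p ^ (k + 2) ∣ Nat.card G) :
    ∑ M ∈ univ.filter (fun M : Subgroup G => M.index = p),
        cnt (fun H : Subgroup G => Nat.card H = p ^ k ∧ H ≤ M) ≡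
      cnt (fun H : Subgroup G => Nat.card H = p ^ k) + p [MOD p ^ 2] := by
  classical
  let J : Subgroup G → Prop := fun H => p ^ 2 ∣ (H ⊔ frattini G).index
  have hne : ∀ H : Subgroup G, Nat.card H = p ^ k → H ≠ ⊤ := by
    rintro H hH rfl
    rw [card_top] at hH
    rw [hH, Nat.pow_dvd_pow_iff_le_right hp.out.one_lt] at hk
    omega
  rw [sum_cnt_comm _ (fun H : Subgroup G => Nat.card H = p ^ k) (fun M H => H ≤ M),
    sum_filter_split _ J, cnt_add _ J]
  have h1 := sum_modEq_cnt_mul (fun H : Subgroup G => Nat.card H = p ^ k ∧ J H)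
    (fun H => cnt (fun M : Subgroup G => M.index = p ∧ H ≤ M))
    (fun H hH => cnt_max_above_modEq hG hH.2)
  have h2 := sum_eq_cnt_mul (fun H : Subgroup G => Nat.card H = p ^ k ∧ ¬ J H)
    (fun H => cnt (fun M : Subgroup G => M.index = p ∧ H ≤ M))
    (fun H hH => cnt_max_above_eq_one hG (hne H hH.1) hH.2)
  have h3 : cnt (fun H : Subgroup G => Nat.card H = p ^ k ∧ J H) ≡ 1 [MOD p] := by
    have h4 := cnt_mul_modEq_cnt_mul (fun H : Subgroup G => Nat.card H = p ^ k ∧ J H)
      (fun K : Subgroup G => K.index = p ^ 2 ∧ frattini G ≤ K) (fun H K => H ≤ K)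
      (c := 1) (d := 1) (n := p) (fun H hH => cnt_index_sq_above_modEq hG hH.2) ?_
    · rw [mul_one, mul_one] at h4
      refine h4.trans ?_
      have := cnt_index_sq_above_modEq hG (H := ⊥)
        (by rw [bot_sup_eq]; exact sq_dvd_index_frattini_of_not_isCyclic hG hnc)
      simpa using this
    · rintro K ⟨hK1, hK2⟩
      have h5 : p ^ k ∣ Nat.card K := by
        rw [← K.card_mul_index, hK1, pow_add] at hk
        exact Nat.dvd_of_mul_dvd_mul_right (pow_pos hp.out.pos 2) hk
      refine eq_trans_modEq (cnt_congr fun H => ?_) (cnt_card_pow_le_modEq K h5)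
      refine ⟨fun h => ⟨h.1.1, h.2⟩, fun h => ⟨⟨h.1, ?_⟩, h.2⟩⟩
      change p ^ 2 ∣ _
      rw [← hK1]
      exact index_dvd_of_le (sup_le h.2 hK2)
  rw [h2, mul_one]
  refine (h1.add_right _).trans ?_
  have h6 : cnt (fun H : Subgroup G => Nat.card H = p ^ k ∧ J H) * p ≡ 1 * p [MOD p * p] :=
    h3.mul_right' p
  rw [one_mul, ← pow_two] at h6
  rw [mul_add, mul_one, add_right_comm]
  exact h6.add_left _

/-- A cyclic group has exactly one subgroup of each order dividing its order. -/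
theorem cnt_card_eq_one_of_isCyclic (M : Subgroup G) [IsCyclic M] {k : ℕ}
    (hk : p ^ k ∣ Nat.card M) : cnt (fun H : Subgroup G => Nat.card H = p ^ k ∧ H ≤ M) = 1 := by
  obtain ⟨H, hH⟩ := Sylow.exists_subgroup_card_pow_prime p hk
  refine cnt_eq_one (a := H.map M.subtype) ⟨by rw [card_map_subtype, hH], map_subtype_le H⟩ ?_
  rintro K ⟨h1, h2⟩
  exact PG.eq_of_card_eq_of_isCyclic h2 (map_subtype_le H) (by rw [card_map_subtype, hH, h1])

/-- The inductive step: `B` marks the maximal subgroups with one subgroup of order `p ^ k`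
modulo `p ^ 2`. -/
theorem cnt_add_mul_modEq (hG : IsPGroup p G) (hnc : ¬ IsCyclic G) {k : ℕ}
    (hk : p ^ (k + 2) ∣ Nat.card G) (B : Subgroup G → Prop)
    (h1 : ∀ M : Subgroup G, M.index = p → B M →
      cnt (fun H : Subgroup G => Nat.card H = p ^ k ∧ H ≤ M) ≡ 1 [MOD p ^ 2])
    (h2 : ∀ M : Subgroup G, M.index = p → ¬ B M →
      cnt (fun H : Subgroup G => Nat.card H = p ^ k ∧ H ≤ M) ≡ 1 + p [MOD p ^ 2]) :
    cnt (fun H : Subgroup G => Nat.card H = p ^ k) +
      cnt (fun M : Subgroup G => M.index = p ∧ B M) * p ≡ 1 + p [MOD p ^ 2] := by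
  classical
  have := Fintype.ofFinite (Subgroup G)
  have h3 := hall_enumeration hG hnc hk
  rw [sum_filter_split _ B] at h3
  have h4 := sum_modEq_cnt_mul (fun M : Subgroup G => M.index = p ∧ B M) _
    (fun M hM => h1 M hM.1 hM.2)
  have h5 := sum_modEq_cnt_mul (fun M : Subgroup G => M.index = p ∧ ¬ B M) _
    (fun M hM => h2 M hM.1 hM.2)
  have h6 := cnt_max_modEq hG hnc
  rw [cnt_add _ B] at h6
  have h7 := h3.symm.trans (h4.add h5)
  set s := cnt (fun H : Subgroup G => Nat.card H = p ^ k)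
  set b := cnt (fun M : Subgroup G => M.index = p ∧ B M)
  set c := cnt (fun M : Subgroup G => M.index = p ∧ ¬ B M)
  apply Nat.ModEq.add_right_cancel' p
  have e1 : s + b * p + p = (s + p) + b * p := by ring
  have e2 : b * 1 + c * (1 + p) + b * p = (b + c) * (1 + p) := by ring
  have e3 : (1 + p) * (1 + p) = 1 + p + p + p ^ 2 := by ring
  rw [e1]
  refine (h7.add_right _).trans ?_
  rw [e2]
  refine (h6.mul_right _).trans ?_
  rw [e3]
  exact Nat.add_modulus_modEq_iff.mpr rfl

/-! ### Groups with a cyclic maximal subgroup -/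

section CyclicMax

variable {a : G} {m : ℕ}

theorem index_zpowers_eq (hG : Nat.card G = p ^ (m + 3)) (ha : orderOf a = p ^ (m + 2)) :
    (zpowers a).index = p :=
  (card_eq_iff_index_eq (hG.trans (pow_succ p (m + 2))) _).mp (by rw [Nat.card_zpowers, ha])

theorem frattini_eq_zpowers_pow (hG : Nat.card G = p ^ (m + 3)) (hnc : ¬ IsCyclic G)
    (ha : orderOf a = p ^ (m + 2)) : frattini G = zpowers (a ^ p) := by
  have hP : IsPGroup p G := IsPGroup.of_card hG
  symm
  apply eq_of_le_of_card_ge (zpowers_le.mpr (pow_mem_frattini hP a))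
  have h1 := PG.orderOf_pow_prime_pow hp.out ha (k := 1) (by omega)
  rw [pow_one] at h1
  rw [Nat.card_zpowers, h1]
  obtain ⟨c, hc⟩ := sq_dvd_index_frattini_of_not_isCyclic hP hnc
  have h2 := (frattini G).card_mul_index
  rw [hG, hc, show m + 3 = 2 + (m + 2 - 1) by omega, pow_add, mul_left_comm] at h2
  exact Nat.le_of_dvd (pow_pos hp.out.pos _)
    (Dvd.intro _ (Nat.eq_of_mul_eq_mul_left (pow_pos hp.out.pos 2) h2))

theorem zpowers_pow_normal (hG : Nat.card G = p ^ (m + 3)) (ha : orderOf a = p ^ (m + 2))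
    (j : ℕ) : (zpowers (a ^ j)).Normal := by
  have hP : IsPGroup p G := IsPGroup.of_card hG
  have := normal_of_frattini_le hP (frattini_le_of_index_eq hP (index_zpowers_eq hG ha))
  exact PG.normal_of_le_of_isCyclic (A := zpowers a) (zpowers_le.mpr (pow_mem (mem_zpowers a) j))

/-- A maximal subgroup is cyclic iff it contains an element whose `p`-th power is not in
`⟨a ^ p ^ 2⟩`. -/
theorem isCyclic_max_iff (hG : Nat.card G = p ^ (m + 3)) (hnc : ¬ IsCyclic G)
    (ha : orderOf a = p ^ (m + 2)) {M : Subgroup G} (hM : M.index = p) :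
    IsCyclic M ↔ ∃ x ∈ M, x ^ p ∉ zpowers (a ^ p ^ 2) := by
  have hP : IsPGroup p G := IsPGroup.of_card hG
  have hMc : Nat.card M = p ^ (m + 2) :=
    (card_eq_iff_index_eq (hG.trans (pow_succ p (m + 2))) _).mpr hM
  have hN : Nat.card (zpowers (a ^ p ^ 2)) = p ^ m := by
    rw [Nat.card_zpowers, PG.orderOf_pow_prime_pow hp.out ha (by omega)]; rfl
  constructor
  · intro h
    obtain ⟨x, rfl⟩ := PG.exists_zpowers_eq M
    refine ⟨x, mem_zpowers x, fun hx => ?_⟩
    rw [Nat.card_zpowers] at hMc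
    have h1 := PG.orderOf_pow_prime_pow hp.out hMc (k := 1) (by omega)
    have h2 := orderOf_dvd_natCard (⟨_, hx⟩ : zpowers (a ^ p ^ 2))
    rw [pow_one] at h1
    rw [orderOf_mk, h1, hN, Nat.pow_dvd_pow_iff_le_right hp.out.one_lt] at h2
    omega
  · rintro ⟨x, hxM, hx⟩
    obtain ⟨j, hj⟩ := IsPGroup.iff_orderOf.mp hP x
    have h1 : j ≤ m + 2 := by
      have := orderOf_dvd_natCard (⟨_, hxM⟩ : M)
      rwa [orderOf_mk, hj, hMc, Nat.pow_dvd_pow_iff_le_right hp.out.one_lt] at this
    have h2 : ¬ j ≤ m + 1 := by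
      intro h
      apply hx
      have h3 : x ^ p ∈ zpowers a := by
        have := pow_mem_frattini hP x
        rw [frattini_eq_zpowers_pow hG hnc ha] at this
        exact zpowers_le.mpr (pow_mem (mem_zpowers a) p) this
      refine PG.mem_of_pow_card_eq_one (A := zpowers a)
        (zpowers_le.mpr (pow_mem (mem_zpowers a) _)) h3 ?_
      rw [hN, ← pow_mul, ← pow_succ', ← orderOf_dvd_iff_pow_eq_one, hj]
      exact pow_dvd_pow p h
    apply PG.isCyclic_of_zpowers_eq (a := x)
    apply eq_of_le_of_card_ge (zpowers_le.mpr hxM)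
    rw [hMc, Nat.card_zpowers, hj]
    exact Nat.pow_le_pow_right hp.out.pos (by omega)

/-- The number of cyclic maximal subgroups is divisible by `p` when `x ↦ x ^ p` is a
homomorphism modulo `⟨a ^ p ^ 2⟩`. -/
theorem dvd_cnt_cyclic_max_aux (hG : Nat.card G = p ^ (m + 3)) (hnc : ¬ IsCyclic G)
    (ha : orderOf a = p ^ (m + 2))
    (h : p ≠ 2 ∨ _root_.commutator G ≤ zpowers (a ^ p ^ 2)) :
    p ∣ cnt (fun M : Subgroup G => M.index = p ∧ IsCyclic M) := by
  have hP : IsPGroup p G := IsPGroup.of_card hG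
  set N := zpowers (a ^ p ^ 2) with hN
  have hNn : N.Normal := zpowers_pow_normal hG ha _
  have hF := frattini_eq_zpowers_pow hG hnc ha
  set π := QuotientGroup.mk' N
  have hFc : Nat.card ((frattini G).map π) = p := by
    rw [hF, MonoidHom.map_zpowers, Nat.card_zpowers]
    apply orderOf_eq_prime
    · rw [← map_pow, ← pow_mul, ← pow_two]
      exact (QuotientGroup.eq_one_iff _).mpr (mem_zpowers _)
    · intro h1
      have h2 : a ^ p ∈ N := (QuotientGroup.eq_one_iff _).mp h1
      have h3 := orderOf_dvd_natCard (⟨_, h2⟩ : N)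
      have h4 := PG.orderOf_pow_prime_pow hp.out ha (k := 1) (by omega)
      rw [pow_one] at h4
      rw [orderOf_mk, h4, hN, Nat.card_zpowers, PG.orderOf_pow_prime_pow hp.out ha (by omega),
        Nat.pow_dvd_pow_iff_le_right hp.out.one_lt] at h3
      omega
  have hFn : ((frattini G).map π).Normal := Normal.map inferInstance π (QuotientGroup.mk'_surjective N)
  have hFZ := PG.le_center_of_card_eq_prime (hP.to_quotient N) _ hFc
  have hcomm : ∀ x y : G, ⁅π y, π x⁆ ∈ (frattini G).map π := fun x y =>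
    ⟨⁅y, x⁆, commutator_le_frattini_of_isPGroup hP
      (commutator_mem_commutator (mem_top y) (mem_top x)), map_commutatorElement π y x⟩
  have hmul : ∀ x y : G, (π x * π y) ^ p = π x ^ p * π y ^ p := by
    intro x y
    rw [Cfsg.Lib.Trans.mul_pow_of_commute_commutator
      (mem_center_iff.mp (hFZ (hcomm x y)) _).symm (mem_center_iff.mp (hFZ (hcomm x y)) _).symm]
    suffices ⁅π y, π x⁆ ^ p.choose 2 = 1 by rw [this, mul_one]
    rcases h with h | h
    · obtain ⟨c, hc⟩ := hp.out.dvd_choose_self (k := 2) (by omega)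
        (lt_of_le_of_ne hp.out.two_le h.symm)
      have := PG.pow_card_eq_one_of_mem (hcomm x y)
      rw [hFc] at this
      rw [hc, pow_mul, this, one_pow]
    · rw [← map_commutatorElement, show π ⁅y, x⁆ = 1 from (QuotientGroup.eq_one_iff _).mpr
        (h (commutator_mem_commutator (mem_top y) (mem_top x))), one_pow]
  let f : G →* G ⧸ N := MonoidHom.mk' (fun x => π x ^ p) fun x y => by rw [map_mul, hmul]
  have hker : ∀ x, x ∈ f.ker ↔ x ^ p ∈ N := fun x => by
    rw [MonoidHom.mem_ker, ← QuotientGroup.eq_one_iff]; rfl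
  have hidx : f.ker.index = p := by
    rw [index_ker]
    apply le_antisymm
    · rw [← hFc]
      apply card_le_of_le
      rintro _ ⟨x, rfl⟩
      exact ⟨x ^ p, pow_mem_frattini hP x, map_pow π x p⟩
    · rw [← hFc, hF, MonoidHom.map_zpowers]
      exact card_le_of_le (zpowers_le.mpr ⟨a, (map_pow π a p).symm⟩)
  have hiff : ∀ M : Subgroup G, M.index = p → (¬ IsCyclic M ↔ M = f.ker) := by
    intro M hM
    rw [isCyclic_max_iff hG hnc ha hM]
    push Not
    constructor
    · intro h1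
      have hle : M ≤ f.ker := fun x hx => (hker x).mpr (h1 x hx)
      exact (((PG.isCoatom_iff_index_eq_prime hP).mpr hM).le_iff_eq
        ((PG.isCoatom_iff_index_eq_prime hP).mpr hidx).1).mp hle |>.symm
    · rintro rfl x hx
      exact (hker x).mp hx
  have h1 := cnt_index_pow_modEq hP (s := 1) (hG ▸ pow_dvd_pow p (by omega))
  rw [pow_one, cnt_add _ (fun M : Subgroup G => IsCyclic M),
    cnt_eq_one (P := fun M : Subgroup G => M.index = p ∧ ¬ IsCyclic M) (a := f.ker)
      ⟨hidx, (hiff _ hidx).mpr rfl⟩ (fun M hM => (hiff M hM.1).mp hM.2)] at h1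
  exact Nat.modEq_zero_iff_dvd.mp (Nat.ModEq.add_right_cancel' 1 (by rwa [zero_add]))

end CyclicMax

theorem exists_orderOf_of_isCyclic_max {m : ℕ} (hG : Nat.card G = p ^ (m + 1)) {A : Subgroup G}
    (hA : A.index = p) [IsCyclic A] : ∃ a : G, zpowers a = A ∧ orderOf a = p ^ m := by
  obtain ⟨a, rfl⟩ := PG.exists_zpowers_eq A
  refine ⟨a, rfl, ?_⟩
  rw [← Nat.card_zpowers]
  exact (card_eq_iff_index_eq (hG.trans (pow_succ p m)) _).mpr hA

theorem dvd_cnt_cyclic_max_of_odd (hp2 : p ≠ 2) {m : ℕ} (hG : Nat.card G = p ^ (m + 3))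
    (hnc : ¬ IsCyclic G) : p ∣ cnt (fun M : Subgroup G => M.index = p ∧ IsCyclic M) := by
  by_cases h : cnt (fun M : Subgroup G => M.index = p ∧ IsCyclic M) = 0
  · rw [h]; exact dvd_zero p
  · obtain ⟨A, hA1, hA2⟩ := exists_of_cnt_ne_zero h
    obtain ⟨a, -, ha⟩ := exists_orderOf_of_isCyclic_max hG hA1
    exact dvd_cnt_cyclic_max_aux hG hnc ha (Or.inl hp2)

theorem cnt_card_modEq_of_card_eq_succ {k : ℕ} (hG : Nat.card G = p ^ (k + 1))
    (hnc : ¬ IsCyclic G) : cnt (fun H : Subgroup G => Nat.card H = p ^ k) ≡ 1 + p [MOD p ^ 2] := by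
  rw [cnt_congr (card_eq_iff_index_eq (hG.trans (pow_succ p k)))]
  exact cnt_max_modEq (IsPGroup.of_card hG) hnc

universe u in
theorem kulakoff_aux (hp2 : p ≠ 2) {k : ℕ} (hk : 1 ≤ k) (d : ℕ) :
    ∀ (G : Type u) [Group G] [Finite G], Nat.card G = p ^ (k + 1 + d) → ¬ IsCyclic G →
      cnt (fun H : Subgroup G => Nat.card H = p ^ k) ≡ 1 + p [MOD p ^ 2] := by
  induction d with
  | zero => exact fun G _ _ hG hnc => cnt_card_modEq_of_card_eq_succ hG hnc
  | succ d ih =>
    intro G _ _ hG hnc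
    have hP : IsPGroup p G := IsPGroup.of_card hG
    have hM : ∀ M : Subgroup G, M.index = p → Nat.card M = p ^ (k + 1 + d) := fun M hM =>
      (card_eq_iff_index_eq (hG.trans (pow_succ p _)) _).mpr hM
    have h1 := cnt_add_mul_modEq hP hnc (k := k) (hG ▸ pow_dvd_pow p (by omega))
      (fun M : Subgroup G => IsCyclic M)
      (fun M h1 h2 => by
        rw [cnt_card_eq_one_of_isCyclic M (hM M h1 ▸ pow_dvd_pow p (by omega))])
      (fun M h1 h2 => by
        rw [← cnt_card_subgroup]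
        exact ih M (hM M h1) h2)
    obtain ⟨c, hc⟩ := dvd_cnt_cyclic_max_of_odd hp2 (m := k - 1 + d)
      (hG.trans (by congr 1; omega)) hnc
    rw [hc, mul_right_comm, ← pow_two] at h1
    exact (Nat.add_modulus_mul_modEq_iff.mp h1)

/-- Kulakoff's theorem. -/
theorem kulakoff (hp2 : p ≠ 2) {m k : ℕ} (hG : Nat.card G = p ^ m) (hnc : ¬ IsCyclic G)
    (hk : 1 ≤ k) (hkm : k < m) :
    cnt (fun H : Subgroup G => Nat.card H = p ^ k) ≡ 1 + p [MOD p ^ 2] :=
  kulakoff_aux hp2 hk (m - (k + 1)) G (hG.trans (by congr 1; omega)) hnc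

end Cfsg.Lib.Solv.Count
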