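import Mathlib
import Cfsg.Agent.Solv.HallHigmanRep
import Cfsg.Agent.Solv.DerivedLength
import Cfsg.Agent.Perm.PermModule

/-! The derived length of a linear `p`-group of degree `n` is at most `log₂ n + 1`. -/

set_option autoImplicit false

open Module
open scoped commutatorElement

namespace Cfsg.Lib.Solv.LinP

open HH

universe u v

variable {K : Type*} [Field K]

section
variable {Q : Type*} [Group Q] {W : Type*} [AddCommGroup W] [Module K W]

/-- Maschke: a completely reducible module is the sum of its irreducible submodules. -/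
theorem eq_top_of_forall_irr [Finite Q] [FiniteDimensional K W] (hQ : (Nat.card Q : K) ≠ 0)
    (σ : Q →* End K W) (T : Submodule K W)
    (h : ∀ (U : Submodule K W) (hU : Inv σ U), Irr (res σ U hU) → U ≤ T) : T = ⊤ := by
  let S : Submodule K W := sSup {U | Inv σ U ∧ U ≤ T}
  have hS : Inv σ S := by
    intro g w hw
    have : S ≤ S.comap (σ g) := sSup_le (fun U hU w hw => le_sSup hU (hU.1 g w hw))
    exact this hw
  have hST : S ≤ T := sSup_le (fun U hU => hU.2)
  obtain ⟨π, h1, h2⟩ := exists_leftInverse hQ (res σ S hS) σ (h := S.subtype)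
    S.subtype_injective (fun g w => rfl)
  have hker : LinearMap.ker π = ⊥ := by
    by_contra h0
    obtain ⟨U, hU, hle, hne, hirr⟩ := exists_irr_le σ (U := LinearMap.ker π)
      (fun g w hw => by rw [LinearMap.mem_ker] at hw ⊢; rw [h2, hw, map_zero]) h0
    apply hne
    rw [eq_bot_iff]
    intro w hw
    have h3 : w ∈ S := le_sSup (s := {U | Inv σ U ∧ U ≤ T}) ⟨hU, h U hU hirr⟩ hw
    have h4 := h1 ⟨w, h3⟩
    have h5 : π w = 0 := hle hw
    exact congrArg Subtype.val (h4.symm.trans h5)
  rw [eq_top_iff]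
  intro w _
  have : w - π w ∈ LinearMap.ker π := by
    rw [LinearMap.mem_ker, map_sub, sub_eq_zero]; exact (h1 (π w)).symm
  rw [hker, Submodule.mem_bot, sub_eq_zero] at this
  rw [this]; exact hST (π w).2

theorem eq_one_of_forall_irr [Finite Q] [FiniteDimensional K W] (hQ : (Nat.card Q : K) ≠ 0)
    (σ : Q →* End K W) (g : Q)
    (h : ∀ (U : Submodule K W) (hU : Inv σ U), Irr (res σ U hU) → res σ U hU g = 1) :
    σ g = 1 := by
  have := eq_top_of_forall_irr hQ σ (LinearMap.eqLocus (σ g) 1) (fun U hU hirr w hw =>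
    congrArg Subtype.val (LinearMap.congr_fun (h U hU hirr) ⟨w, hw⟩))
  ext w
  exact (this ▸ Submodule.mem_top : w ∈ LinearMap.eqLocus (σ g) 1)

/-- the ascending fixed point series -/
def asc (σ : Q →* End K W) : ℕ → Submodule K W
  | 0 => ⊥
  | i + 1 => ⨅ g : Q, (asc σ i).comap (σ g - 1)

theorem mem_asc_succ {σ : Q →* End K W} {i : ℕ} {w : W} :
    w ∈ asc σ (i + 1) ↔ ∀ g, σ g w - w ∈ asc σ i := by
  simp [asc]

theorem asc_inv (σ : Q →* End K W) (i : ℕ) : Inv σ (asc σ i) := by
  induction i with
  | zero => intro g w hw; rw [asc, Submodule.mem_bot] at hw ⊢; simp [hw]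
  | succ i ih =>
    intro g w hw
    rw [mem_asc_succ] at hw ⊢
    intro h
    have := ih g _ (hw (g⁻¹ * h * g))
    rwa [map_sub, ← End.mul_apply, ← map_mul, ← mul_assoc, ← mul_assoc, mul_inv_cancel, one_mul,
      map_mul, End.mul_apply] at this

theorem asc_mono (σ : Q →* End K W) : Monotone (asc σ) :=
  monotone_nat_of_le_succ (fun i w hw => mem_asc_succ.2 (fun g => sub_mem (asc_inv σ i g w hw) hw))

theorem asc_eq_top_or [Finite Q] [FiniteDimensional K W] {p : ℕ} [Fact p.Prime] [CharP K p]
    (hQ : IsPGroup p Q) (σ : Q →* End K W) (i : ℕ) : asc σ i = ⊤ ∨ i ≤ finrank K (asc σ i) := by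
  induction i with
  | zero => exact Or.inr (Nat.zero_le _)
  | succ i ih =>
    by_cases h : asc σ i = ⊤
    · exact Or.inl (top_le_iff.1 (h ▸ asc_mono σ i.le_succ))
    · right
      let τ : Representation K Q (W ⧸ asc σ i) :=
        Representation.quotient σ (asc σ i) (fun g w hw => asc_inv σ i g w hw)
      haveI := Submodule.Quotient.nontrivial_iff.2 h
      obtain ⟨v, -, hv0, hv⟩ := Cfsg.Lib.Perm.exists_fixed_vector_of_isPGroup hQ τ ⊤
        (fun _ _ _ => trivial) top_ne_bot
      obtain ⟨w, rfl⟩ := Submodule.Quotient.mk_surjective _ v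
      have h1 : asc σ i < asc σ (i + 1) := by
        refine lt_of_le_of_ne (asc_mono σ i.le_succ) (fun h2 => hv0 ?_)
        rw [Submodule.Quotient.mk_eq_zero, h2, mem_asc_succ]
        exact fun g => (Submodule.Quotient.eq _).1 (hv g)
      have := Submodule.finrank_lt_finrank_of_lt h1
      have := ih.resolve_left h
      omega

/-- elements lowering the fixed point series by `m` steps -/
def stab (σ : Q →* End K W) (m : ℕ) : Subgroup Q where
  carrier := {g | ∀ i, ∀ w ∈ asc σ (i + m), σ g w - w ∈ asc σ i}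
  one_mem' i w _ := by simp
  mul_mem' {a b} ha hb i w hw := by
    have := add_mem (ha i _ (asc_inv σ _ b w hw)) (hb i w hw)
    rwa [sub_add_sub_cancel, ← End.mul_apply, ← map_mul] at this
  inv_mem' {a} ha i w hw := by
    have := neg_mem (ha i _ (asc_inv σ _ a⁻¹ w hw))
    rwa [apply_inv_apply, neg_sub] at this

theorem commutator_stab_le (σ : Q →* End K W) (a b : ℕ) :
    ⁅stab σ a, stab σ b⁆ ≤ stab σ (a + b) := by
  refine Subgroup.commutator_le.2 (fun x hx y hy i w hw => ?_)
  set v := σ (x⁻¹ * y⁻¹) w with hv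
  have hv' : v ∈ asc σ (i + (a + b)) := asc_inv σ _ _ w hw
  have h1 := hx i _ (hy (i + a) v (by rwa [add_assoc]))
  have h2 := hy i _ (hx (i + b) v (by rwa [add_assoc, add_comm b]))
  have h3 : σ ⁅x, y⁆ w = σ x (σ y v) := by
    rw [hv, ← End.mul_apply, ← End.mul_apply, ← map_mul, ← map_mul, commutatorElement_def]
    congr 2; group
  have h4 : w = σ y (σ x v) := by
    rw [hv, ← End.mul_apply, ← End.mul_apply, ← map_mul, ← map_mul]
    simp [mul_assoc]
  have := sub_mem h1 h2
  rw [h3]
  convert this using 1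
  conv_lhs => rw [h4]
  simp only [map_sub]
  abel

theorem derivedSeries_le_stab (σ : Q →* End K W) (j : ℕ) : derivedSeries Q j ≤ stab σ (2 ^ j) := by
  induction j with
  | zero => exact fun g _ i w hw => mem_asc_succ.1 hw g
  | succ j ih =>
    rw [derivedSeries_succ, pow_succ, mul_two]
    exact (Subgroup.commutator_mono ih ih).trans (commutator_stab_le σ _ _)

theorem derivedSeries_apply_eq_of_charP [Finite Q] [FiniteDimensional K W] {p : ℕ} [Fact p.Prime]
    [CharP K p] (hQ : IsPGroup p Q) (σ : Q →* End K W) {k : ℕ} (hk : finrank K W ≤ 2 ^ k) {g : Q}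
    (hg : g ∈ derivedSeries Q k) : σ g = 1 := by
  have h1 : asc σ (2 ^ k) = ⊤ := by
    rcases asc_eq_top_or hQ σ (2 ^ k) with h | h
    · exact h
    · exact Submodule.eq_top_of_finrank_eq (le_antisymm (Submodule.finrank_le _) (hk.trans h))
  ext w
  have := derivedSeries_le_stab σ k hg 0 w (by rw [zero_add, h1]; trivial)
  exact sub_eq_zero.1 this

end

theorem derivedSeries_apply_eq_of_ne [IsAlgClosed K] {p : ℕ} [hp : Fact p.Prime] (hpK : (p : K) ≠ 0)
    (k : ℕ) : ∀ (Q : Type u) [Group Q] [Finite Q], IsPGroup p Q → ∀ (W : Type v) [AddCommGroup W]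
      [Module K W] [FiniteDimensional K W] (σ : Q →* End K W), finrank K W < 2 ^ k →
      ∀ g ∈ derivedSeries Q k, σ g = 1 := by
  induction k with
  | zero =>
    intro Q _ _ _ W _ _ _ σ hW g _
    haveI : Subsingleton W := finrank_zero_iff.1 (by simpa using hW)
    exact Subsingleton.elim _ _
  | succ k ih =>
    intro Q _ _ hQ V _ _ _ τ hV g hg
    have hcard : (Nat.card Q : K) ≠ 0 := by
      obtain ⟨n, hn⟩ := IsPGroup.iff_card.1 hQ
      rw [hn, Nat.cast_pow]; exact pow_ne_zero _ hpK
    refine eq_one_of_forall_irr hcard τ g (fun U hU hirr => ?_)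
    have hW : finrank K U < 2 ^ (k + 1) := (Submodule.finrank_le U).trans_lt hV
    generalize res τ U hU = σ at hirr
    rcases subsingleton_or_nontrivial U with h0 | h0
    · exact Subsingleton.elim _ _
    let Z : Subgroup Q :=
      { carrier := {x | ∀ h, σ x * σ h = σ h * σ x}
        one_mem' := fun h => by simp
        mul_mem' := fun {a b} ha hb h => by
          rw [map_mul, mul_assoc, hb, ← mul_assoc, ha, mul_assoc]
        inv_mem' := fun {a} ha h => by
          have h1 : σ a⁻¹ * σ a = 1 := by rw [← map_mul, inv_mul_cancel, map_one]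
          have h2 : σ a * σ a⁻¹ = 1 := by rw [← map_mul, mul_inv_cancel, map_one]
          calc σ a⁻¹ * σ h = σ a⁻¹ * σ h * (σ a * σ a⁻¹) := by rw [h2, mul_one]
            _ = σ a⁻¹ * (σ h * σ a) * σ a⁻¹ := by simp only [mul_assoc]
            _ = σ h * σ a⁻¹ := by rw [← ha, ← mul_assoc, h1, one_mul] }
    by_cases hZ : Z = ⊤
    · have h1 : commutator Q ≤ σ.ker := Subgroup.commutator_le.2 (fun a _ b _ => by
        have : σ a * σ b = σ b * σ a := (hZ ▸ Subgroup.mem_top a : a ∈ Z) b
        rw [MonoidHom.mem_ker, commutatorElement_def, map_mul, map_mul, map_mul, this,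
          mul_assoc (σ b), ← map_mul, mul_inv_cancel, map_one, mul_one, ← map_mul, mul_inv_cancel,
          map_one])
      exact h1 (derivedSeries_one Q ▸ derivedSeries_antitone Q (by omega : 1 ≤ k + 1) hg)
    -- an element of the second centre
    obtain ⟨a, haZ, ha⟩ : ∃ a ∉ Z, ∀ h, ⁅a, h⁆ ∈ Z := by
      classical
      haveI := hQ.isNilpotent
      have h1 : ∃ j, (⊤ : Subgroup Q).lowerCentralSeries j ≤ Z := by
        obtain ⟨j, hj⟩ := Subgroup.nilpotent_iff_lowerCentralSeries.1 ‹Group.IsNilpotent Q›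
        exact ⟨j, hj ▸ bot_le⟩
      have h2 := Nat.find_spec h1
      obtain ⟨j, hj⟩ : ∃ j, Nat.find h1 = j + 1 := Nat.exists_eq_succ_of_ne_zero (fun h => by
        rw [h] at h2; exact hZ (top_le_iff.1 h2))
      obtain ⟨a, ha1, ha2⟩ := SetLike.not_le_iff_exists.1 (Nat.find_min h1 (m := j) (by omega))
      rw [hj] at h2
      exact ⟨a, ha2, fun h => h2 (Subgroup.commutator_mem_commutator ha1 trivial)⟩
    have hc : ∀ h, ∃ c : K, σ a * σ h = c • (σ h * σ a) := fun h => by
      obtain ⟨c, hc⟩ := hirr.exists_scalar (ha h)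
      refine ⟨c, ?_⟩
      rw [← map_mul, ← map_mul, show a * h = ⁅a, h⁆ * (h * a) by simp [commutatorElement_def],
        map_mul, hc, smul_mul_assoc, one_mul]
    choose c hc using hc
    have hcu : ∀ (h : Q) (d : K), σ a * σ h = d • (σ h * σ a) → c h = d := fun h d hd => by
      rw [hc, ← map_mul] at hd
      obtain ⟨w, hw⟩ := exists_ne (0 : U)
      have h1 := LinearMap.congr_fun hd w
      simp only [LinearMap.smul_apply] at h1
      exact smul_left_injective K (fun h2 => hw (rep_injective σ _ (h2.trans (map_zero _).symm))) h1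
    let c' : Q →* K :=
      { toFun := c
        map_one' := hcu 1 1 (by simp)
        map_mul' := fun x y => hcu _ _ (by
          rw [map_mul, ← mul_assoc, hc, smul_mul_assoc, mul_assoc, hc, mul_smul_comm, smul_smul,
            mul_assoc]) }
    let M : Subgroup Q := c'.toHomUnits.ker
    have hM : ∀ x ∈ M, c x = 1 := fun x hx => congrArg Units.val (MonoidHom.mem_ker.1 hx)
    have hmap : ∀ (h : Q) (l : K), ∀ w ∈ End.eigenspace (σ a) l,
        σ h w ∈ End.eigenspace (σ a) (c h * l) := fun h l w hw => by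
      rw [End.mem_eigenspace_iff] at hw ⊢
      rw [← End.mul_apply, hc, LinearMap.smul_apply, End.mul_apply, hw, map_smul, smul_smul]
    have htop : ⨆ l, End.eigenspace (σ a) l = ⊤ := by
      refine (hirr _ (fun h w hw => ?_)).resolve_left (fun h => ?_)
      · have : (⨆ l, End.eigenspace (σ a) l) ≤ (⨆ l, End.eigenspace (σ a) l).comap (σ h) :=
          iSup_le (fun l w hw => le_iSup (fun l => End.eigenspace (σ a) l) _ (hmap h l w hw))
        exact this hw
      · obtain ⟨l, hl⟩ := End.exists_eigenvalue (σ a)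
        exact hl (le_bot_iff.1 (h ▸ le_iSup (fun l => End.eigenspace (σ a) l) l))
    obtain ⟨h0, hh0⟩ : ∃ h, c h ≠ 1 := by
      by_contra h1
      push Not at h1
      exact haZ (fun h => by rw [hc, h1, one_smul])
    have hdim : ∀ l, finrank K (End.eigenspace (σ a) l) < 2 ^ k := fun l => by
      by_cases hl : l = 0
      · have : End.eigenspace (σ a) l = ⊥ := by
          rw [hl, End.eigenspace_zero, LinearMap.ker_eq_bot]; exact rep_injective σ a
        rw [this, finrank_bot]; positivity
      · have h1 : finrank K (End.eigenspace (σ a) l) ≤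
            finrank K (End.eigenspace (σ a) (c h0 * l)) :=
          LinearMap.finrank_le_finrank_of_injective (f := (σ h0).restrict (hmap h0 l))
            (fun x y hxy => Subtype.ext (rep_injective σ h0 (congrArg Subtype.val hxy)))
        have h2 : End.eigenspace (σ a) l ⊓ End.eigenspace (σ a) (c h0 * l) = ⊥ :=
          ((End.eigenspaces_iSupIndep (σ a)).pairwiseDisjoint
            (fun h => hh0 (mul_right_cancel₀ hl (h.symm.trans (one_mul l).symm)))).eq_bot
        have h3 := Submodule.finrank_sup_add_finrank_inf_eq (End.eigenspace (σ a) l)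
          (End.eigenspace (σ a) (c h0 * l))
        rw [h2, finrank_bot] at h3
        have h4 := Submodule.finrank_le (End.eigenspace (σ a) l ⊔ End.eigenspace (σ a) (c h0 * l))
        rw [pow_succ] at hW
        omega
    have h1 : derivedSeries Q 1 ≤ M := by
      rw [derivedSeries_one]; exact Abelianization.commutator_subset_ker _
    obtain ⟨g', hg', rfl⟩ := derivedSeries_add_le_map h1 k (by rwa [add_comm])
    have h2 : LinearMap.eqLocus (σ g') 1 = ⊤ := by
      rw [eq_top_iff, ← htop]
      refine iSup_le (fun l w hw => ?_)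
      have hinv : Inv (σ.comp M.subtype) (End.eigenspace (σ a) l) := fun x w hw => by
        have := hmap x l w hw
        rwa [hM x x.2, one_mul] at this
      exact congrArg Subtype.val (LinearMap.congr_fun
        (ih M (hQ.to_subgroup M) _ (res _ _ hinv) (hdim l) g' hg') ⟨w, hw⟩)
    ext w
    exact congrArg Subtype.val (h2 ▸ Submodule.mem_top : w ∈ LinearMap.eqLocus (σ g') 1)

/-- matrix form over an arbitrary field -/
theorem derivedSeries_matrix_eq {p : ℕ} [hp : Fact p.Prime] {Q : Type*} [Group Q] [Finite Q]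
    (hQ : IsPGroup p Q) {ι : Type*} [Fintype ι] [DecidableEq ι] (ρ : Q →* Matrix ι ι K) {k : ℕ}
    (hk : Fintype.card ι < 2 ^ k) {g : Q} (hg : g ∈ derivedSeries Q k) : ρ g = 1 := by
  let L := AlgebraicClosure K
  let f : Matrix ι ι K →* End L (ι → L) :=
    (Matrix.toLinAlgEquiv' (R := L) (n := ι)).toMonoidHom.comp
      (algebraMap K L).mapMatrix.toMonoidHom
  have hf : Function.Injective f :=
    (Matrix.toLinAlgEquiv' (R := L) (n := ι)).injective.comp
      (Matrix.map_injective (algebraMap K L).injective)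
  have hr : finrank L (ι → L) < 2 ^ k := by simpa using hk
  apply hf
  rw [map_one]
  by_cases h : (p : L) = 0
  · haveI : CharP L p := (CharP.charP_iff_prime_eq_zero hp.out).2 h
    exact derivedSeries_apply_eq_of_charP hQ (f.comp ρ) hr.le hg
  · exact derivedSeries_apply_eq_of_ne h k Q hQ _ (f.comp ρ) hr g hg

/-- A `p`-group acting on a space of dimension less than `2 ^ k` over any field: the `k`-th derived
subgroup acts trivially. -/
theorem derivedSeries_apply_eq {p : ℕ} [hp : Fact p.Prime] {Q : Type*} [Group Q] [Finite Q]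
    (hQ : IsPGroup p Q) {W : Type*} [AddCommGroup W] [Module K W] [FiniteDimensional K W]
    (σ : Q →* End K W) {k : ℕ} (hk : finrank K W < 2 ^ k) {g : Q} (hg : g ∈ derivedSeries Q k) :
    σ g = 1 := by
  let e := LinearMap.toMatrixAlgEquiv (Module.finBasis K W)
  apply e.injective
  rw [map_one]
  exact derivedSeries_matrix_eq hQ (e.toMonoidHom.comp σ) (by simpa using hk) hg

end Cfsg.Lib.Solv.LinP
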