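import Cfsg.Agent.Solv.ClassMeet
import Cfsg.Agent.Solv.HallWielandt
import Cfsg.Agent.Solv.CoprimeSylow
import Cfsg.Agent.Solv.CoprimeAbelian
import Cfsg.Agent.FT.BG1.Transfer
import Cfsg.Agent.FT.BG1.Coprime
import Cfsg.Agent.Solv.PGroupNormal

/-!
# Groups with many classes of `π`-elements have nilpotent Hall `π`-subgroups
-/

set_option autoImplicit false
set_option linter.unusedSectionVars false

namespace Cfsg.Lib.Solv.Many

open Cfsg.Lib.FT Cfsg.Lib.Solv.ClassNum Subgroup Pointwise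

variable {G : Type*} [Group G] [Finite G] {τ : Set ℕ} {L P R M K : Subgroup G} {p : ℕ}

theorem exists_conj_mem (hL : IsPiHallOf τ L M) (hn : Group.IsNilpotent L) {x : G} (hx : x ∈ M)
    (hτ : PiElt τ x) : ∃ m ∈ M, m * x * m⁻¹ ∈ L := by
  obtain ⟨m, hm, h⟩ := exists_conj_le_of_isPiHallOf_of_isNilpotent hL hn (pgroup_zpowers.2 hτ)
    (zpowers_le.2 hx)
  exact ⟨m, hm, conj_smul_le_iff.1 h x (mem_zpowers x)⟩

theorem exists_conj_mem_sylow [Fact p.Prime] (hP : IsSylowOf p P M) {x : G} (hx : x ∈ M)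
    (h : PiElt {p} x) : ∃ m ∈ M, m * x * m⁻¹ ∈ P :=
  exists_conj_mem hP (pgroup_nil (Sylow_pgroup hP)) hx h

theorem frattini_nil (hL : IsPiHallOf τ L K) (hn : Group.IsNilpotent L) {n : G} (h : n ∈ 𝐍 K) :
    ∃ k ∈ K, k * n ∈ 𝐍 L := by
  obtain ⟨k, hk, h⟩ := exists_conj_le_of_isPiHallOf_of_isNilpotent hL hn
    ((pgroupJ n).2 (pHall_pgroup hL)) (conj_sub_norm h hL.1)
  refine ⟨k, hk, normP.2 (eq_of_le_of_card_le (by rwa [map_mul, mul_smul]) ?_)⟩
  rw [card_conj_smul]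

theorem eq_of_prime_relIndex (hp : p.Prime) (h : R.relIndex P = p) (hR : R ≤ P) {x : G}
    (hx : x ∈ P) (hxR : x ∉ R) : R ⊔ zpowers x = P := by
  have h1 : R ⊔ zpowers x ≤ P := sup_le hR (zpowers_le.2 hx)
  have h2 := relIndex_mul_relIndex R _ P le_sup_left h1
  rw [h] at h2
  rcases (Nat.dvd_prime hp).1 (Dvd.intro_left _ h2) with e | e
  · exact le_antisymm h1 (relIndex_eq_one.1 e)
  · rw [e, mul_eq_right₀ hp.ne_zero, relIndex_eq_one] at h2
    exact absurd (h2 (mem_sup_right (mem_zpowers x))) hxR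

theorem mem_of_coprime {H : Subgroup G} (h : H ≤ 𝐍 K) {x : G} (hx : x ∈ K ⊔ H)
    (hc : (orderOf x).Coprime (Nat.card H)) : x ∈ K := by
  have := (normalYl h).subgroupOf
  obtain ⟨m, hm⟩ := exists_pow_eq_self_of_coprime
    (hc.symm.coprime_dvd_left (relIndex_sup_dvd_card_of_le_normalizer' h))
  exact hm ▸ pow_mem (pow_index_mem (K.subgroupOf (K ⊔ H)) ⟨x, hx⟩ :) m

/-- A nilpotent Hall subgroup centralized by its normalizer has a normal complement. -/
theorem exists_normal_compl (hL : IsPiHallOf τ L ⊤) (h : 𝐍 L ≤ 𝐂 L) :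
    ∃ K : Subgroup G, K.Normal ∧ IsPiHallOf τᶜ K ⊤ := by
  have hc : IsMulCommutative L := abelian_iff.2 ((normG L).trans h)
  let _ : CommGroup L := { (inferInstance : Group L) with mul_comm := hc.is_comm.comm }
  let V := MonoidHom.transfer (MonoidHom.id L)
  have hV : ∀ x : L, V x = x ^ L.index := fun x => by
    refine MonoidHom.transfer_eq_pow _ _ fun k g hg => ?_
    have hx := pow_mem x.2 k
    generalize (x : G) ^ k = y at hg hx
    have h1 : L ≤ 𝐂₁ (g⁻¹ * y * g) := le_cent1_iff.2 (abelian_le_cent hc hg)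
    have h2 : g⁻¹ •ᶜ L ≤ 𝐂₁ (g⁻¹ * y * g) := by
      have := cent1J g⁻¹ y
      rw [inv_inv] at this
      rw [this, conjSg]
      exact le_cent1_iff.2 (abelian_le_cent hc hx)
    obtain ⟨c, hcc, h3⟩ := exists_conj_le_of_isPiHallOf_of_isNilpotent
      (pHall_subl h1 le_top hL) (abelian_nil hc) ((pgroupJ _).2 (pHall_pgroup hL)) h2
    have h4 : c * g⁻¹ ∈ 𝐂 L := h (normP.2 (eq_of_le_of_card_le (by rwa [map_mul, mul_smul])
      (by rw [card_conj_smul])))
    calc _ = c * (g⁻¹ * y * g) * c⁻¹ := by rw [mem_cent1.1 hcc]; group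
      _ = (c * g⁻¹) * y * (c * g⁻¹)⁻¹ := by group
      _ = y := by rw [← h4 y hx]; group
  have hco : (Nat.card L).Coprime L.index := by simpa using pHall_coprime hL
  have hs : V.range = ⊤ := MonoidHom.range_eq_top.2 fun x => by
    obtain ⟨y, rfl⟩ := (powCoprime hco).surjective x
    exact ⟨y, hV y⟩
  have h1 : V.ker.index = Nat.card L := by rw [index_ker, hs, card_top]
  have h2 : Nat.card V.ker = L.index := by
    have := V.ker.card_mul_index
    rw [h1, ← L.card_mul_index, mul_comm] at this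
    exact Nat.eq_of_mul_eq_mul_left Nat.card_pos this
  refine ⟨V.ker, inferInstance, pHall_of le_top ?_ ?_⟩
  · rw [isPiSubgroup_iff, h2]
    simpa using pHall_index hL
  · rw [compl_compl, relIndex_top_right, h1]
    exact pHall_pgroup hL

/-- The data of the induction step. -/
structure Step (p : ℕ) (τ : Set ℕ) (L R P : Subgroup G) : Prop where
  lt : ∀ s ∈ τ, p < s
  hall : IsPiHallOf τ L ⊤
  nil : Group.IsNilpotent L
  ih : ∀ C : Subgroup G, partn τ (Nat.card C) < (p + 1) * kPi τ C →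
    ∃ H : Subgroup C, IsPiHall τ H ∧ Group.IsNilpotent H
  sylR : IsSylowOf p R (𝐂 L)
  sylP : IsSylowOf p P ⊤
  le : R ≤ P
  ne : R ≠ P

namespace Step

variable [hp : Fact p.Prime]

theorem le_relIndex' (h : Step p τ L R P) {A : Subgroup G} (hA : ¬ L ≤ A) :
    (p + 1) * Nat.card ↥(A ⊓ L) ≤ Nat.card L :=
  mul_card_inf_le (le_relIndex hA fun s hs hd => h.lt s (h.hall.2.1 s hs hd))

theorem typeA (h : Step p τ L R P) (C : Subgroup G) (hC : Nat.card L < (p + 1) * kPi τ C) :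
    ∃ g : G, g •ᶜ L ≤ C := by
  have h1 : partn τ (Nat.card C) ≤ Nat.card L := by
    rw [card_Hall h.hall]
    exact Nat.le_of_dvd (part_gt0 _ _) (partn_dvd _ (cardG_ne0 _) (cardSg le_top))
  obtain ⟨H, hH, -⟩ := h.ih C (h1.trans_lt hC)
  have hH' := pHall_map_subtype.2 hH
  obtain ⟨m, -, hm⟩ := exists_conj_le_of_isPiHallOf_of_isNilpotent h.hall h.nil
    (pHall_pgroup hH') le_top
  refine ⟨m⁻¹, ?_⟩
  by_contra hc
  have h2 := h.le_relIndex' (A := m •ᶜ H.map C.subtype) fun e => hc (by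
    rw [← conjSg m, smul_smul, ← map_mul, mul_inv_cancel, map_one, one_smul]
    exact e.trans ((conjSg m).2 hH'.1))
  rw [inf_eq_left.2 hm, card_conj_smul, card_Hall hH'] at h2
  have := Nat.mul_le_mul_left (p + 1) (kPi_le_partn (G := C) τ)
  omega

theorem card_lt (h : Step p τ L R P) {g : G} : ¬ g •ᶜ L ≤ 𝐂 P := fun e => by
  have h1 : g⁻¹ •ᶜ P ≤ 𝐂 L := by
    rw [← conjSg g, smul_smul, ← map_mul, mul_inv_cancel, map_one, one_smul, ← centJ]
    exact centsC.1 e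
  have h2 := pgroup_card_dvd_Hall h.sylR ((pgroupJ _).2 (pHall_pgroup h.sylP)) h1
  rw [card_conj_smul] at h2
  exact h.ne (eq_of_le_of_card_le h.le (Nat.le_of_dvd (cardG_gt0 _) h2))

theorem notMem (h : Step p τ L R P) : p ∉ τ := fun e => (h.lt p e).false

/-- counting by the `p`-part -/
theorem bound1 (h : Step p τ L R P) : (p + 1) * kPi (insert p τ) G ≤
    (p + 1) * kc ((R ⊔ L : Subgroup G) : Set G) + kc ((P : Set G) \ R) * Nat.card L := by
  have hτ : ∀ z : G, PiElt (insert p τ) z → PiElt τ (constt ({p}ᶜ : Set ℕ) z) :=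
    fun z hz s hs hd => (p_elt_of_mem_zpowers hz (cycle_constt _ z) s hs hd).resolve_left
      (p_elt_constt _ z s hs hd)
  have h1 : kPi (insert p τ) G ≤ kc ((R ⊔ L : Subgroup G) : Set G) +
      kc {z | PiElt (insert p τ) z ∧ ∀ g, g * constt {p} z * g⁻¹ ∉ R} := by
    rw [kPi_eq_kc]
    refine kc_le_add fun z hz => ?_
    by_cases hc : ∀ g, g * constt {p} z * g⁻¹ ∉ R
    · exact Or.inr ⟨1, by simpa using ⟨hz, hc⟩⟩
    push Not at hc
    obtain ⟨g, hg⟩ := hc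
    rw [← consttJ] at hg
    obtain ⟨m, hm, hm'⟩ := exists_conj_mem (pHall_subl (le_cent1_iff.2 (h.sylR.1 hg)) le_top
      h.hall) h.nil (mem_cent1_iff_commute.2 (commute_constt_constt _ _ (Commute.refl _)))
      (hτ _ ((p_eltJ g).2 hz))
    refine Or.inl ⟨m * g, ?_⟩
    have := mul_mem_sup hg hm'
    rw [← mul_assoc, ← mul_assoc, ← mem_cent1.1 hm, mul_assoc m, consttC] at this
    simpa [mul_assoc] using this
  have h2 := kc_le_mul (X := {z | PiElt (insert p τ) z ∧ ∀ g, g * constt {p} z * g⁻¹ ∉ R})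
    (Y := {y | PiElt {p} y ∧ ∀ g, g * y * g⁻¹ ∉ R}) (σ := {p}) (τ := τ)
    (m := Nat.card L / (p + 1)) (fun z hz => ⟨⟨p_elt_constt _ z, hz.2⟩, hτ z hz.1⟩) fun y hy => by
      rw [Nat.le_div_iff_mul_le (by omega), mul_comm]
      by_contra hc
      obtain ⟨g, hg⟩ := h.typeA _ (not_le.1 hc)
      have h3 : g⁻¹ * y * g⁻¹⁻¹ ∈ 𝐂 L := by
        rw [← le_cent1_iff, cent1J, ← conjSg g, smul_smul, ← map_mul, mul_inv_cancel, map_one,
          one_smul]
        exact hg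
      obtain ⟨m, -, hm⟩ := exists_conj_mem_sylow h.sylR h3 ((p_eltJ _).2 hy.1)
      exact hy.2 (m * g⁻¹) (by simpa [mul_assoc] using hm)
  have h3 : kc {y | PiElt {p} y ∧ ∀ g, g * y * g⁻¹ ∉ R} ≤ kc ((P : Set G) \ R) :=
    kc_le_of fun y hy => by
      obtain ⟨m, -, hm⟩ := exists_conj_mem_sylow h.sylP (mem_top y) hy.1
      exact ⟨m, hm, hy.2 m⟩
  have h4 := Nat.mul_div_le (Nat.card L) (p + 1)
  calc _ ≤ (p + 1) * (_ + kc ((P : Set G) \ R) * (Nat.card L / (p + 1))) :=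
        Nat.mul_le_mul_left _ (h1.trans (Nat.add_le_add_left
          (h2.trans (Nat.mul_le_mul_right _ h3)) _))
    _ ≤ _ := by
        rw [mul_add, mul_left_comm]
        exact Nat.add_le_add_left (Nat.mul_le_mul_left _ h4) _

/-- counting by the `τ`-part -/
theorem bound2 (h : Step p τ L R P) {u : G} (hu : u ∈ 𝐍 L) (hu' : u ∉ 𝐂 L) (hup : PiElt {p} u) :
    p * kPi (insert p τ) G ≤ Nat.card P * Nat.card L := by
  have hτ : ∀ z : G, PiElt (insert p τ) z → PiElt {p} (constt τᶜ z) :=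
    fun z hz s hs hd => (p_elt_of_mem_zpowers hz (cycle_constt _ z) s hs hd).resolve_right
      (p_elt_constt _ z s hs hd)
  have hS : ∀ x : G, ∃ S : Subgroup G, S ≤ 𝐂₁ x ∧ kPi {p} (𝐂₁ x) ≤ Nat.card S ∧
      ∃ g : G, g •ᶜ S ≤ P := fun x => by
    obtain ⟨S, hS⟩ := Sylow_exists p (𝐂₁ x)
    obtain ⟨g, -, hg⟩ := Sylow_Jsub h.sylP le_top (Sylow_pgroup hS)
    exact ⟨S, hS.1, card_Hall hS ▸ kPi_le_partn _, g, hg⟩
  let A := {x | PiElt τ x ∧ ∃ g, g * x * g⁻¹ ∈ 𝐂 P}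
  let B := {x | PiElt τ x ∧ ∀ g, g * x * g⁻¹ ∉ 𝐂 P}
  have h1 : kPi (insert p τ) G ≤ kc {z | PiElt (insert p τ) z ∧ constt τ z ∈ A} +
      kc {z | PiElt (insert p τ) z ∧ constt τ z ∈ B} := by
    rw [kPi_eq_kc]
    refine kc_le_add fun z hz => ?_
    by_cases hc : ∃ g, g * constt τ z * g⁻¹ ∈ 𝐂 P
    · exact Or.inl ⟨1, by simpa using ⟨hz, p_elt_constt _ z, hc⟩⟩
    · exact Or.inr ⟨1, by simpa using ⟨hz, p_elt_constt _ z, not_exists.1 hc⟩⟩
  have h2 := kc_le_mul (X := {z | PiElt (insert p τ) z ∧ constt τ z ∈ A}) (Y := A) (σ := τ)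
    (τ := {p}) (m := Nat.card P) (fun z hz => ⟨hz.2, hτ z hz.1⟩) fun x _ => by
      obtain ⟨S, -, h2, g, hg⟩ := hS x
      exact h2.trans (card_conj_smul g S ▸ card_le_of_le hg)
  have h3 := kc_le_mul (X := {z | PiElt (insert p τ) z ∧ constt τ z ∈ B}) (Y := B) (σ := τ)
    (τ := {p}) (m := Nat.card P / p) (fun z hz => ⟨hz.2, hτ z hz.1⟩) fun x hx => by
      obtain ⟨S, h1, h2, g, hg⟩ := hS x
      refine h2.trans ?_
      rw [Nat.le_div_iff_mul_le hp.out.pos, mul_comm, ← card_conj_smul g S, ← inf_eq_left.2 hg]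
      refine mul_card_inf_le (le_relIndex (fun e => hx.2 g ?_) fun s hs hd =>
        (h.sylP.2.1 s hs hd).ge)
      rw [← le_cent1_iff, cent1J]
      exact e.trans ((conjSg g).2 h1)
  have h4 : kc A + kc B ≤ kc (L : Set G) :=
    (kc_add_le (X := {x | PiElt τ x}) (fun x hx => hx.1) (fun x hx => hx.1) (by
      rintro x ⟨-, g, hg⟩ k hk
      exact hk.2 (g * k⁻¹) (by simpa [mul_assoc] using hg))).trans (kc_le_of fun x hx => by
        obtain ⟨m, -, hm⟩ := exists_conj_mem h.hall h.nil (mem_top x) hx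
        exact ⟨m, hm⟩)
  have h5 : (p + 1) * kc A ≤ Nat.card L := by
    by_contra hc
    obtain ⟨g, hg⟩ := h.typeA (𝐂 P) ((not_le.1 hc).trans_le (Nat.mul_le_mul_left _
      ((kc_le_of (X := A) (Y := {x | x ∈ 𝐂 P ∧ PiElt τ x})
        fun x ⟨hx, g, hg⟩ => ⟨g, hg, (p_eltJ g).2 hx⟩).trans (kc_le_kPi (𝐂 P)))))
    exact h.card_lt hg
  have h6 := kc_subgroup_le hu (r := p) fun s hs hd => (hup s hs hd).ge
  have h7 := h.le_relIndex' (A := 𝐂₁ u) fun e => hu' (le_cent1_iff.1 e)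
  have h8 := Nat.mul_div_le (Nat.card P) p
  have h9 : p * kc A + kc B ≤ Nat.card L := by
    obtain ⟨q, rfl⟩ : ∃ q, p = q + 1 := ⟨p - 1, by have := hp.out.pos; omega⟩
    refine Nat.le_of_mul_le_mul_left ?_ (show 0 < (q + 1) * (q + 1 + 1) by positivity)
    have := Nat.mul_le_mul_left ((q + 1) * (q + 1 + 1)) h4
    have := Nat.mul_le_mul_left (q + 1 + 1) h6
    have := Nat.mul_le_mul_left q h7
    have := Nat.mul_le_mul_left ((q + 1) * q) h5
    nlinarith
  calc _ ≤ p * (kc A * Nat.card P + kc B * (Nat.card P / p)) :=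
        Nat.mul_le_mul_left _ (h1.trans (Nat.add_le_add h2 h3))
    _ ≤ p * (kc A * Nat.card P) + kc B * Nat.card P := by
        rw [mul_add, mul_left_comm p (kc B)]
        exact Nat.add_le_add_left (Nat.mul_le_mul_left _ h8) _
    _ = Nat.card P * (p * kc A + kc B) := by ring
    _ ≤ _ := Nat.mul_le_mul_left _ h9

theorem caseFocal (h : Step p τ L R P) (hPR : P ≤ 𝐍 R)
    (hf : ∀ x ∈ P, ∀ u ∈ 𝐍 R, u * x * u⁻¹ ∈ P → x⁻¹ * (u * x * u⁻¹) ∈ R) :
    p * kPi (insert p τ) G ≤ Nat.card P * Nat.card L := by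
  have hLR : L ≤ 𝐍 R := cents_norm (centsC.1 h.sylR.1)
  have h1 : P ⊓ ⁅𝐍 R, 𝐍 R⁆ ≤ R := by
    rw [focal_subgroup_gen hp.out (pHall_subl hPR le_top h.sylP), closure_le]
    rintro _ ⟨x, hx, u, hu, h, rfl⟩
    exact hf x hx u hu h
  obtain ⟨y, hy, hyR⟩ := SetLike.not_le_iff_exists.1 (h.le.lt_of_ne h.ne).not_ge
  have hD : ⁅𝐍 R, 𝐍 R⁆ ⊔ R ≤ 𝐍 R := sup_le (der_sub _) (normG R)
  have hM : ⁅𝐍 R, 𝐍 R⁆ ⊔ R ⊔ L ≤ 𝐍 R := sup_le hD hLR
  have hMn := sub_der1_norm (le_sup_left.trans le_sup_left) hM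
  have hyM : y ∉ ⁅𝐍 R, 𝐍 R⁆ ⊔ R ⊔ L := fun e => by
    have := mem_of_coprime (hLR.trans (sub_der1_norm le_sup_left hD)) e
      (IsPiNum.coprime (mem_p_elt (pHall_pgroup h.sylP) hy)
        (pi_p'group (pHall_pgroup h.hall) h.notMem))
    obtain ⟨d, hd, r, hr, rfl⟩ := (mem_sup_of_le_normalizer ((normG R).trans (norms_der
      (normG _)))).1 this
    exact hyR (mul_mem (h1 ⟨(P.mul_mem_cancel_right (h.le hr)).1 hy, hd⟩) hr)
  have hRM : R ≤ ⁅𝐍 R, 𝐍 R⁆ ⊔ R ⊔ L := le_sup_right.trans le_sup_left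
  obtain ⟨k, hk, hu⟩ := frattini_nil (pHall_subl le_sup_right le_top h.hall) h.nil (hMn (hPR hy))
  generalize ⁅𝐍 R, 𝐍 R⁆ ⊔ R ⊔ L = M at *
  refine h.bound2 (groupX_constt {p} hu) (fun e => hyM ?_) (p_elt_constt _ _)
  have h2 : constt {p} (k * y) ∈ 𝐍 R := groupX_constt _ (mul_mem (hM hk) (hPR hy))
  have h3 := sub_Sylow h.sylR (isPGroupY (zpowers_le.2 h2) (Sylow_pgroup h.sylR)
    (p_elt_singleton_iff.1 (p_elt_constt _ _))) le_sup_left (sup_le h.sylR.1 (zpowers_le.2 e))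
  have h4 := mem_of_coprime (hPR.trans hMn) (groupX_constt ({p}ᶜ : Set ℕ) (mul_mem_sup hk hy))
    (IsPiNum.coprime (pHall_pgroup h.sylP) (p_elt_constt _ _)).symm
  rw [← M.mul_mem_cancel_left hk, ← consttC {p} (k * y)]
  exact mul_mem (hRM (h3.le (mem_sup_right (mem_zpowers _)))) h4

theorem not_norm_le (h : Step p τ L R P) (hi : R.relIndex P = p) : ¬ 𝐍 L ≤ 𝐂 L := fun hNC => by
  obtain ⟨K, hKn, hK⟩ := exists_normal_compl h.hall hNC
  have hKN : ∀ A : Subgroup G, A ≤ 𝐍 K := fun A => by rw [normalizer_eq_top]; exact le_top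
  have hRK : R ≤ K := (sub_normal_Hall hK (hKN _) le_top).2
    (pi_singleton_pgroup (pHall_pgroup h.sylR) h.notMem)
  obtain ⟨Q, hRQ, hQK, hQ, hQi, hLQ⟩ := Coprime.exists_le_invariant_sylow' (hKN L)
    (pnat_coprime (pHall_pgroup h.hall) (pHall_pgroup hK)) (Or.inl (nilpotent_sol h.nil)) hRK
    (Sylow_pgroup h.sylR) (cents_norm (centsC.1 h.sylR.1))
  have hQs : IsSylowOf p Q ⊤ := subHall_Sylow hK h.notMem (Sylow_of hQK hQ hQi)
  have h1 : Q ⊓ 𝐂 L = R := sub_Sylow h.sylR (hQ.to_le inf_le_left) (le_inf hRQ h.sylR.1)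
    inf_le_right
  have h2 : R.relIndex Q = p := by
    have e1 := relIndex_mul_card_of_le hRQ
    rw [eq_card_Hall hQs h.sylP, ← relIndex_mul_card_of_le h.le, hi] at e1
    exact Nat.eq_of_mul_eq_mul_right (cardG_gt0 R) e1
  have hco : (Nat.card L).Coprime (Nat.card Q) :=
    (pgroup_coprime_p'group hQ (pi_p'group (pHall_pgroup h.hall) h.notMem)).symm
  have h3 := Coprime.card_commutator_eq_of_relIndex_prime hLQ hco (Or.inl (nilpotent_sol h.nil))
    hp.out (h1 ▸ h2)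
  have h4 : L ≤ 𝐂 ⁅Q, L⁆ := by
    by_contra hc
    have h5 := le_relIndex hc fun s hs hd => h.lt s (h.hall.2.1 s hs hd)
    have : IsCyclic (⁅Q, L⁆ : Subgroup G) := prime_cyclic (h3 ▸ hp.out)
    have h6 : (𝐂 ⁅Q, L⁆).relIndex L ∣ Nat.card (MulAut (⁅Q, L⁆ : Subgroup G)) := by
      have := card_dvd_of_injective _ (QuotientGroup.kerLift_injective
        ((normalizerMonoidHom ⁅Q, L⁆).comp (inclusion (commg_normr Q L))))
      rwa [← MonoidHom.comap_ker, normalizerMonoidHom_ker] at this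
    rw [IsCyclic.card_mulAut, h3, Nat.totient_prime hp.out] at h6
    have := Nat.le_of_dvd (by have := hp.out.two_le; omega) h6
    omega
  have h5 := coprime_commGG1P hLQ hco.symm (commG1P.2 (centsC.1 h4))
  rw [← h1, inf_eq_left.2 (centsC.1 h5), relIndex_self] at h2
  exact hp.out.ne_one h2.symm

theorem bound (h : Step p τ L R P) : p * kPi (insert p τ) G ≤ Nat.card P * Nat.card L := by
  have hLR : L ≤ 𝐍 R := cents_norm (centsC.1 h.sylR.1)
  have hb := h.bound1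
  have hRL : Nat.card ↥(R ⊔ L) ≤ Nat.card R * Nat.card L := by
    rw [← card_sup_mul_card_inf_of_le_normalizer hLR]
    exact Nat.le_mul_of_pos_right _ (cardG_gt0 _)
  have hd := Set.ncard_sdiff_add_ncard_of_subset (s := (R : Set G)) (t := (P : Set G)) h.le
  change _ + Nat.card R = Nat.card P at hd
  have hc := relIndex_mul_card_of_le h.le
  obtain ⟨j, hj⟩ := (Sylow_pgroup h.sylP).index (R.subgroupOf P)
  change R.relIndex P = _ at hj
  have hp2 := hp.out.two_le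
  refine Nat.le_of_mul_le_mul_left ?_ (show 0 < p + 1 by omega)
  rcases j with _ | _ | j
  · exact absurd (le_antisymm h.le (relIndex_eq_one.1 hj)) h.ne
  swap
  · have h1 : p * p ≤ R.relIndex P := by
      rw [hj, ← pow_two]; exact Nat.pow_le_pow_right hp.out.pos (by omega)
    have h2 := (kc_le_card (R ⊔ L)).trans hRL
    have h3 := kc_le_ncard ((P : Set G) \ R)
    have h4 := Nat.mul_le_mul_right (Nat.card R * Nat.card L) h1
    have h5 := Nat.mul_le_mul_left p hb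
    have h6 := Nat.mul_le_mul_left (p * (p + 1)) h2
    have h7 := Nat.mul_le_mul_left (p * Nat.card L) h3
    rw [← hc] at hd ⊢
    have h8 := congrArg (p * Nat.card L * ·) hd
    nlinarith
  rw [zero_add, pow_one] at hj
  have hPR : P ≤ 𝐍 R := (normal_of_subgroupOf h.le
    (PG.normal_of_index_eq_prime (Sylow_pgroup h.sylP) hj)).2
  by_cases hf : ∀ x ∈ P, ∀ u ∈ 𝐍 R, u * x * u⁻¹ ∈ P → x⁻¹ * (u * x * u⁻¹) ∈ R
  · exact Nat.mul_le_mul_left _ (h.caseFocal hPR hf)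
  push Not at hf
  obtain ⟨x, hx, n, hn, hxn, hxR⟩ := hf
  have hnP : ∀ y ∈ P, n * y * n⁻¹ ∈ P := by
    rw [← conj_smul_le_iff]
    conv_lhs => rw [← eq_of_prime_relIndex hp.out hj h.le hx
      fun e => hxR (mul_mem (inv_mem e) ((memJ_norm hn).2 e))]
    rw [conjYg, normP.1 hn, sup_le_iff, conj_smul_le_iff]
    refine ⟨h.le, ?_⟩
    rintro _ ⟨k, rfl⟩
    rw [← conj_zpow]
    exact zpow_mem hxn k
  have h1 := kc_mul_le (X := (P : Set G) \ R) (r := 2) fun y hy => by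
    refine (Set.one_lt_ncard (Set.toFinite _)).2 ⟨y, ⟨hy, IsConj.refl y⟩, n * y * n⁻¹,
      ⟨⟨hnP y hy.1, fun e => hy.2 ((memJ_norm hn).1 e)⟩, isConj_iff.2 ⟨n, rfl⟩⟩, fun e => hxR ?_⟩
    rw [← eq_of_prime_relIndex hp.out hj h.le hy.1 hy.2] at hx
    obtain ⟨r, hr, _, ⟨k, rfl⟩, rfl⟩ :=
      (mem_sup_of_le_normalizer (zpowers_le.2 (hPR hy.1))).1 hx
    have e1 : n * y ^ k * n⁻¹ = y ^ k := by rw [← conj_zpow, ← e]
    have := (memJ_norm' (zpow_mem (hPR hy.1) k)).2 (mul_mem (inv_mem hr) ((memJ_norm hn).2 hr))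
    convert this using 1
    calc _ = (y ^ k)⁻¹ * (r⁻¹ * (n * r * n⁻¹)) * (n * y ^ k * n⁻¹) := by group
      _ = _ := by rw [e1]
  obtain ⟨g, hg, hgC⟩ : ∃ g ∈ 𝐍 L ⊓ 𝐍 R, g ∉ 𝐂 L := by
    by_contra hc
    push Not at hc
    exact h.not_norm_le hj (Frattini_arg (cent_normal L) h.sylR ▸ sup_le le_rfl hc)
  have h2 := kc_subgroup_le (zpowers_le.1 (normsY (zpowers_le.2 hg.2) (zpowers_le.2 hg.1)))
    (r := 2) fun s hs _ => hs.two_le
  have h3 := mul_card_inf_le (A := 𝐂₁ g) (B := R ⊔ L) (r := p + 1)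
    ((le_relIndex (fun e => hgC (le_cent1_iff.1 e)) fun s hs hd =>
      h.lt s (h.hall.2.1 s hs hd)).trans
      (relIndex_le_of_le_right le_sup_right FiniteIndex.index_ne_zero))
  rw [← hc, hj] at hd ⊢
  have h4 := Nat.mul_le_mul_left (2 * p) hb
  have h5 := Nat.mul_le_mul_left (p * (p + 1)) h2
  have h6 := Nat.mul_le_mul_left p h3
  have h7 := Nat.mul_le_mul_left (p * Nat.card L) h1
  have h8 := congrArg (p * Nat.card L * ·) hd
  have h9 := Nat.mul_le_mul_left (p * (p + 2)) hRL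
  nlinarith [Nat.zero_le (p * Nat.card R * Nat.card L)]

end Step

theorem partn_insert (h : p ∉ τ) (n : ℕ) :
    partn (insert p τ) n = partn {p} n * partn τ n := by
  classical
  unfold partn
  rw [← Finset.prod_union (by simp +contextual [Finset.disjoint_left, h]), ← Finset.filter_or]
  congr 1
  ext
  simp

universe u

theorem exists_hall_finset (s : Finset ℕ) : (∀ q ∈ s, q.Prime) → ∀ p : ℕ, 2 ≤ p → (∀ q ∈ s, p ≤ q) →
    ∀ (G : Type u) [Group G] [Finite G], partn s (Nat.card G) < p * kPi s G →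
      ∃ H : Subgroup G, IsPiHall s H ∧ Group.IsNilpotent H := by
  induction s using Finset.induction_on_min with
  | empty => exact fun _ _ _ _ G _ _ _ =>
      ⟨⊥, ⟨by simpa using fun _ => Nat.Prime.ne_one, by simp⟩, inferInstance⟩
  | insert p s hlt ih =>
  intro hs p₀ hp₀ hmin G _ _ hk
  have hp := Fact.mk (hs p (by simp))
  have hp2 := hp.out.two_le
  replace ih := ih (fun q hq => hs q (by simp [hq])) (p + 1) (by omega) hlt
  rw [Finset.coe_insert] at hk ⊢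
  replace hk := hk.trans_le (Nat.mul_le_mul_right _ (hmin p (by simp)))
  have hdis : p ∉ (s : Set ℕ) := fun e => (hlt p e).false
  have hpart : partn (insert p (s : Set ℕ)) (Nat.card G) =
      partn {p} (Nat.card G) * partn s (Nat.card G) := partn_insert hdis _
  obtain ⟨L, hL, hLn⟩ := ih G (by
    have := kPi_le_mul_of_forall (G := G) (insert p (s : Set ℕ)) s {p}
      (fun q hq hq' => hq.resolve_right hq') (partn {p} (Nat.card G)) fun x _ =>
      (kPi_le_partn _).trans (Nat.le_of_dvd (part_gt0 _ _)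
        (partn_dvd _ Nat.card_pos.ne' (card_subgroup_dvd_card _)))
    refine Nat.lt_of_mul_lt_mul_left (a := partn {p} (Nat.card G)) ?_
    have := Nat.mul_le_mul_left p this
    nlinarith)
  obtain ⟨R, hR⟩ := Sylow_exists p (𝐂 L)
  obtain ⟨P, hP, hRP⟩ := Sylow_superset le_top (Sylow_pgroup hR)
  have hL' := pHall_top.2 hL
  have hc : Nat.card P * Nat.card L = partn (insert p (s : Set ℕ)) (Nat.card G) := by
    rw [hpart, card_Hall hP, card_Hall hL', card_top]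
  by_cases hne : R = P
  · subst hne
    refine ⟨R ⊔ L, pHall_top.1 (pHallE.2 ⟨le_top, ?_⟩),
      isNilpotent_sup_of_le_centralizer (pgroup_nil (Sylow_pgroup hR)) hLn hR.1⟩
    rw [card_top, ← hc, ← card_sup_mul_card_inf_of_le_normalizer (cents_norm (centsC.1 hR.1)),
      pgroup_TI (pHall_pgroup hR) (pi_p'group (pHall_pgroup hL') hdis), card_bot, mul_one]
  · have := Step.bound ⟨hlt, hL', hLn, fun C => ih C, hR, hP, hRP, hne⟩
    omega

/-- A group with more than `|G|_π / p` classes of `π`-elements, `p ≤ min π`, has a nilpotent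
Hall `π`-subgroup. -/
theorem exists_hall (π : Set ℕ) {p : ℕ} (hp : 2 ≤ p) (hmin : ∀ q ∈ π, p ≤ q)
    (hk : partn π (Nat.card G) < p * kPi π G) :
    ∃ H : Subgroup G, IsPiHall π H ∧ Group.IsNilpotent H ∧ kPi π G ≤ Nat.card (ConjClasses H) := by
  classical
  have hmem : ∀ r : ℕ, r.Prime → r ∣ Nat.card G →
      (r ∈ ((Nat.card G).primeFactors.filter (· ∈ π) : Set ℕ) ↔ r ∈ π) := fun r hr hd => by
    simp [hr, hd, Nat.card_pos.ne']
  obtain ⟨H, hH, hn⟩ := exists_hall_finset ((Nat.card G).primeFactors.filter (· ∈ π))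
    (fun q hq => Nat.prime_of_mem_primeFactors (Finset.mem_filter.1 hq).1) p hp
    (fun q hq => hmin q (Finset.mem_filter.1 hq).2) G
    ((Nat.le_of_dvd (part_gt0 _ _) (sub_partn_dvd (fun q hq => (Finset.mem_filter.1 hq).2)
      Nat.card_pos.ne')).trans_lt (hk.trans_le (Nat.mul_le_mul_left _
        (kPi_mono fun q hq hd h => (hmem q hq hd).2 h))))
  have hH' := eq_in_pHall (fun r hr hd => hmem r hr (by rwa [card_top] at hd)) (pHall_top.2 hH)
  refine ⟨H, pHall_top.1 hH', hn, ?_⟩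
  rw [← kPi_univ, kPi_eq_kc]
  refine (kc_le_of fun x hx => ?_).trans (kc_le_kPi H)
  obtain ⟨m, -, hm⟩ := exists_conj_mem hH' hn (mem_top x) hx
  exact ⟨m, hm, fun _ _ _ => trivial⟩

end Cfsg.Lib.Solv.Many
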