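import Cfsg.Agent.Solv.PConstrained
import Cfsg.Agent.Solv.CoprimeSylow
import Cfsg.Agent.Solv.ElemLift
import Cfsg.Agent.Solv.MinNormal

/-!
`π`-closed groups and `π'`-homogeneous groups.
-/

set_option autoImplicit false
set_option linter.unusedSectionVars false

namespace Cfsg.Lib.Solv

universe u

variable {G : Type*} [Group G] {π : Set ℕ}

/-- `G` is `π`-closed: `O_π(G)` is a Hall `π`-subgroup. -/
def PiClosed (π : Set ℕ) (G : Type*) [Group G] : Prop := IsPiNum πᶜ (piCore π G).index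

/-- `π`-elements normalising a `q`-subgroup, `q ∉ π`, centralise it. -/
def WeakHom (π : Set ℕ) (G : Type*) [Group G] : Prop :=
  ∀ q : ℕ, q.Prime → q ∉ π → ∀ Q : Subgroup G, IsPGroup q Q →
    ∀ x ∈ Subgroup.normalizer (Q : Set G), IsPiNum π (orderOf x) →
      x ∈ Subgroup.centralizer (Q : Set G)

variable [Finite G]

theorem isPiNum_compl_index_of_forall_mem {K : Subgroup G}
    (h : ∀ x : G, IsPiNum π (orderOf x) → x ∈ K) : IsPiNum πᶜ K.index := fun q hq hd hπ =>
  not_dvd_index_of_forall_mem hq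
    (fun x k hx => h x (by rw [hx]; exact IsPiNum.prime_pow hq hπ k)) hd

theorem piClosed_of_normal {K : Subgroup G} (hK : K.Normal) (h1 : IsPiNum π (Nat.card K))
    (h2 : IsPiNum πᶜ K.index) : PiClosed π G :=
  h2.of_dvd (Subgroup.index_dvd_of_le (le_piCore hK h1))

theorem PiClosed.mem_piCore (h : PiClosed π G) {x : G} (hx : IsPiNum π (orderOf x)) :
    x ∈ piCore π G :=
  le_of_isPiNum_of_index (H := Subgroup.zpowers x) (by rwa [Nat.card_zpowers]) h
    (Subgroup.mem_zpowers x)

theorem piClosed_iff :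
    (∃ K : Subgroup G, ∀ x : G, x ∈ K ↔ ∀ p : ℕ, p.Prime → p ∣ orderOf x → p ∈ π) ↔
      PiClosed π G := by
  constructor
  · rintro ⟨K, hK⟩
    refine piClosed_of_normal (K := K) ⟨fun x hx g => ?_⟩ ?_
      (isPiNum_compl_index_of_forall_mem fun x hx => (hK x).2 hx)
    · rw [hK] at hx ⊢
      have := orderOf_injective (MulAut.conj g).toMonoidHom (MulAut.conj g).injective x
      simp only [MulEquiv.toMonoidHom_eq_coe, MonoidHom.coe_coe, MulAut.conj_apply] at this
      rwa [this]
    · exact isPiNum_card_subgroup_iff_orderOf.2 fun x hx => (hK x).1 hx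
  · intro h
    exact ⟨piCore π G, fun x => ⟨fun hx => (isPiNum_card_piCore π G).orderOf_of_mem hx,
      fun hx => h.mem_piCore hx⟩⟩

theorem piClosed_of_isPiNum (h : IsPiNum π (Nat.card G)) : PiClosed π G :=
  piClosed_of_normal (K := ⊤) inferInstance (by rwa [Subgroup.card_top])
    (by rw [Subgroup.index_top]; exact IsPiNum.one _)

theorem piClosed_of_isPiNum_compl (h : IsPiNum πᶜ (Nat.card G)) : PiClosed π G :=
  h.of_dvd (Subgroup.index_dvd_card _)

theorem piClosed_of_quotient (N : Subgroup G) [N.Normal] (hN : IsPiNum π (Nat.card N))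
    (h : PiClosed π (G ⧸ N)) : PiClosed π G := by
  rw [PiClosed, ← comap_piCore_quotient N hN,
    Subgroup.index_comap_of_surjective _ (QuotientGroup.mk'_surjective N)]
  exact h

theorem PiClosed.mem_centralizer (h : PiClosed π G) {H : Subgroup G}
    (hH : IsPiNum πᶜ (Nat.card H)) {x : G} (hx : x ∈ Subgroup.normalizer (H : Set G))
    (hπ : IsPiNum π (orderOf x)) : x ∈ Subgroup.centralizer (H : Set G) := by
  rw [Subgroup.mem_centralizer_iff]
  intro y hy
  have h1 : x * y * x⁻¹ * y⁻¹ ∈ piCore π G ⊓ H := by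
    refine Subgroup.mem_inf.2 ⟨?_, mul_mem ((Subgroup.mem_normalizer_iff.1 hx y).1 hy) (inv_mem hy)⟩
    have := mul_mem (h.mem_piCore hπ)
      ((inferInstance : (piCore π G).Normal).conj_mem _ (inv_mem (h.mem_piCore hπ)) y)
    simpa [mul_assoc] using this
  rw [inf_eq_bot_of_isPiNum (isPiNum_card_piCore π G) hH, Subgroup.mem_bot] at h1
  calc y * x = (x * y * x⁻¹ * y⁻¹) * (y * x) := by rw [h1, one_mul]
    _ = x * y := by group

theorem PiClosed.isPiNum_relIndex (h : PiClosed π G) {H : Subgroup G}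
    (hH : IsPiNum πᶜ (Nat.card H)) : IsPiNum πᶜ
      ((Subgroup.centralizer (H : Set G)).relIndex (Subgroup.normalizer (H : Set G))) :=
  isPiNum_compl_index_of_forall_mem fun x hx =>
    h.mem_centralizer (x := (x : G)) hH x.2 (by rwa [Subgroup.orderOf_coe])

theorem weakHom_of_hom (h : ∀ H : Subgroup G, H ≠ ⊥ →
      (∀ p : ℕ, p.Prime → p ∣ Nat.card ↥H → p ∉ π) → ∀ p : ℕ, p.Prime →
        p ∣ (Subgroup.centralizer (H : Set G)).relIndex (Subgroup.normalizer (H : Set G)) →
          p ∉ π) : WeakHom π G := by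
  intro q hq hqπ Q hQ x hx hxπ
  by_cases h0 : Q = ⊥
  · rw [h0, Subgroup.mem_centralizer_iff]
    intro y hy
    rw [Subgroup.mem_bot.1 hy, one_mul, mul_one]
  have := Fact.mk hq
  have h1 : IsPiNum πᶜ ((Subgroup.centralizer (Q : Set G)).subgroupOf
      (Subgroup.normalizer (Q : Set G))).index :=
    h Q h0 (isPiNum_card_of_isPGroup (π := πᶜ) hqπ hQ)
  exact le_of_isPiNum_of_index (H := Subgroup.zpowers (⟨x, hx⟩ : Subgroup.normalizer (Q : Set G)))
    (by rwa [Nat.card_zpowers, Subgroup.orderOf_mk]) h1 (Subgroup.mem_zpowers _)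

omit [Finite G] in
theorem WeakHom.subgroup (h : WeakHom π G) (H : Subgroup G) : WeakHom π H := by
  intro q hq hqπ Q hQ x hx hxπ
  have h1 := h q hq hqπ (Q.map H.subtype) (hQ.map _) x
    (Subgroup.le_normalizer_map H.subtype ⟨x, hx, rfl⟩) (by rwa [Subgroup.orderOf_coe])
  rw [Subgroup.mem_centralizer_iff] at h1 ⊢
  intro y hy
  exact Subtype.ext (h1 y ⟨y, hy, rfl⟩)

theorem WeakHom.quotient (h : WeakHom π G) (N : Subgroup G) [N.Normal]
    (hN : IsPiNum π (Nat.card N)) : WeakHom π (G ⧸ N) := by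
  intro q hq hqπ Q hQ x hx hxπ
  have := Fact.mk hq
  have hNq : (Nat.card N).Coprime q := Nat.Coprime.symm
    ((Nat.Prime.coprime_iff_not_dvd hq).2 fun hd => hqπ (hN q hq hd))
  obtain ⟨R⟩ : Nonempty (Sylow q (Q.comap (QuotientGroup.mk' N))) := inferInstance
  have hR : ((R : Subgroup (Q.comap (QuotientGroup.mk' N))).map
      (Q.comap (QuotientGroup.mk' N)).subtype).map (QuotientGroup.mk' N) = Q := by
    have h1 := Subgroup.map_comap_eq_self_of_surjective (QuotientGroup.mk'_surjective N) Q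
    apply le_antisymm
    · exact (Subgroup.map_mono (Subgroup.map_subtype_le _)).trans h1.le
    · obtain ⟨n, hn⟩ := hQ.exists_card_eq
      have h2 := sup_eq_of_relIndex_pow (K := N) (le_comap_mk' N Q) (Subgroup.map_subtype_le
        (R : Subgroup (Q.comap (QuotientGroup.mk' N)))) (by rw [relIndex_comap_mk', hn])
        (Coprime.not_dvd_relIndex_sylow_map R)
      conv_lhs => rw [← h1, ← h2, Subgroup.map_sup,
        (Subgroup.map_eq_bot_iff _).2 (QuotientGroup.ker_mk' N).ge, bot_sup_eq]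
  rw [← hR, ← map_mk'_normalizer_of_isPGroup N hNq (R.isPGroup'.map _)] at hx
  rw [← hR, ← map_mk'_centralizer_of_isPGroup N hNq (R.isPGroup'.map _)]
  obtain ⟨y₀, hy₀, rfl⟩ := hx
  obtain ⟨y, hy, h1, h2⟩ := exists_mem_zpowers_map_eq_of_primes (QuotientGroup.mk' N) y₀
  exact ⟨y, h q hq hqπ _ (R.isPGroup'.map _) y (Subgroup.zpowers_le.2 hy₀ hy)
    (fun r hr hd => hxπ r hr (h2 r hr hd)), h1⟩

theorem WeakHom.mem_centralizer (h : WeakHom π G) {K : Subgroup G}
    (hK : IsPiNum πᶜ (Nat.card K)) {x : G} (hx : x ∈ Subgroup.normalizer (K : Set G))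
    (hπ : IsPiNum π (orderOf x)) : x ∈ Subgroup.centralizer (K : Set G) := by
  have h1 : (Subgroup.centralizer ({x} : Set G)).relIndex K = 1 := by
    by_contra hne
    obtain ⟨q, hq, hd⟩ := Nat.exists_prime_and_dvd hne
    have := Fact.mk hq
    obtain ⟨P, hPK, hP, hi, hA⟩ := Coprime.exists_invariant_sylow' (A := Subgroup.zpowers x)
      (K := K) (Subgroup.zpowers_le.2 hx) (by rw [Nat.card_zpowers]; exact hπ.coprime hK)
      (Or.inl inferInstance) q
    have h2 := h q hq (hK q hq (hd.trans (Subgroup.relIndex_dvd_card _ _))) P hP x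
      (hA (Subgroup.mem_zpowers x)) hπ
    refine hi (hd.trans (Subgroup.relIndex_dvd_of_le_left K fun y hy => ?_))
    rw [Subgroup.mem_centralizer_singleton_iff]
    exact h2 y hy
  rw [Subgroup.relIndex_eq_one] at h1
  rw [Subgroup.mem_centralizer_iff]
  intro y hy
  exact Subgroup.mem_centralizer_singleton_iff.1 (h1 hy)

theorem WeakHom.piClosed_of_compl (h : WeakHom π G) (K : Subgroup G) [K.Normal]
    (hK : IsPiNum πᶜ (Nat.card K)) (hQ : PiClosed π (G ⧸ K)) : PiClosed π G := by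
  set C := Subgroup.centralizer (K : Set G) with hC
  set M := (piCore π (G ⧸ K)).comap (QuotientGroup.mk' K) with hM
  have hmem : ∀ x : G, IsPiNum π (orderOf x) → x ∈ C ⊓ M := fun x hx =>
    ⟨h.mem_centralizer hK (Subgroup.le_normalizer_of_normal (Subgroup.mem_top x)) hx,
      hQ.mem_piCore (hx.of_dvd (orderOf_map_dvd (QuotientGroup.mk' K) x))⟩
  have h1 : IsPiNum πᶜᶜ ((C ⊓ K).relIndex (C ⊓ M)) := by
    rw [compl_compl]
    have h2 : IsPiNum π (K.relIndex M) := by
      rw [hM, relIndex_comap_mk']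
      exact isPiNum_card_piCore π _
    refine h2.of_dvd ?_
    have h3 : (C ⊓ K).relIndex (C ⊓ M) = K.relIndex (C ⊓ M) := by
      rw [← Subgroup.inf_relIndex_right K, ← Subgroup.inf_relIndex_right (C ⊓ K)]
      congr 1
      rw [inf_comm C K, inf_assoc, ← inf_assoc C C, inf_idem]
    rw [h3, ← Subgroup.relIndex_subgroupOf (inf_le_right : C ⊓ M ≤ M)]
    exact Subgroup.relIndex_dvd_index_of_normal _ _
  have h2 := le_sup_piCore_compl_of_central (π := πᶜ) (Z := C ⊓ K) (K := C ⊓ M)
    (inf_le_inf_left C (le_comap_mk' K _)) (hK.card_of_le inf_le_right) h1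
    (inf_le_left.trans (Subgroup.centralizer_le (SetLike.coe_subset_coe.2 inf_le_right)))
  rw [compl_compl] at h2
  have h3 : IsPiNum πᶜ (C ⊓ K ⊔ piCore π G).index :=
    (isPiNum_compl_index_of_forall_mem hmem).of_dvd (Subgroup.index_dvd_of_le h2)
  rw [PiClosed, ← Subgroup.relIndex_mul_index (le_sup_right : piCore π G ≤ C ⊓ K ⊔ piCore π G),
    Subgroup.relIndex_sup_right]
  exact ((hK.card_of_le inf_le_right).of_dvd (Subgroup.relIndex_dvd_card _ _)).mul h3

theorem WeakHom.piClosed_of_ext (h : WeakHom π G) (K : Subgroup G) [K.Normal]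
    (hK : PiClosed π K) (hQ : PiClosed π (G ⧸ K)) : PiClosed π G := by
  set L := (piCore π K).map K.subtype with hL
  have hLK : L ≤ K := Subgroup.map_subtype_le _
  have hLπ : IsPiNum π (Nat.card L) := isPiNum_card_map_piCore π K
  refine piClosed_of_quotient L hLπ
    ((h.quotient L hLπ).piClosed_of_compl (K.map (QuotientGroup.mk' L)) ?_ ?_)
  · rw [← Subgroup.relIndex_ker, QuotientGroup.ker_mk', hL, relIndex_map_subtype]
    exact hK
  · have e := QuotientGroup.quotientQuotientEquivQuotient L K hLK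
    rw [PiClosed, ← map_piCore_equiv e.symm, Subgroup.index_map_equiv]
    exact hQ

theorem WeakHom.piClosed_of_series {G : Type u} [Group G] [Finite G] (h : WeakHom π G)
    (hs : HasPiSeries {π, πᶜ} G) : PiClosed π G := by
  revert h hs
  refine card_induction
    (P := fun G _ _ => WeakHom π G → HasPiSeries {π, πᶜ} G → PiClosed π G) ?_ G
  intro G _ _ ih h hs
  rcases subsingleton_or_nontrivial G with h0 | h0
  · exact piClosed_of_isPiNum (by rw [Nat.card_of_subsingleton (1 : G)]; exact IsPiNum.one _)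
  obtain ⟨N, -, hN⟩ := Finite.exists_le_maximal (p := fun N : Subgroup G => N.Normal ∧ N ≠ ⊤)
    (a := ⊥) ⟨inferInstance, bot_ne_top⟩
  obtain ⟨hNn, hNt⟩ := hN.prop
  obtain ⟨M, hM, hNM, σ, hσ, h1⟩ := hs N hNn hNt
  have hMt : M = ⊤ := by
    by_contra hne
    exact hNM.not_ge (hN.le_of_ge ⟨hM, hne⟩ hNM.le)
  rw [hMt, Subgroup.relIndex_top_right] at h1
  refine h.piClosed_of_ext N (ih N (card_lt_of_ne_top hNt) (h.subgroup N) (hs.subgroup N)) ?_
  rcases hσ with rfl | rfl
  · exact piClosed_of_isPiNum h1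
  · exact piClosed_of_isPiNum_compl h1

end Cfsg.Lib.Solv
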