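import Mathlib.LinearAlgebra.QuadraticForm.Basis
import Mathlib.LinearAlgebra.BilinearForm.Properties
import Mathlib.Algebra.Module.ZMod
import Mathlib.Algebra.Field.ZMod
import Cfsg.Agent.Solv.ExtraTwo

/-!
# The extension `QE β` of an `F₂`-space `U` by `F₂` defined by a bilinear cocycle `β` (helper2)

If the polar form `β u v + β v u` is non-degenerate this is the extraspecial group with squaring map
`u ↦ β u u`; its automorphism group maps onto the isometry group of that quadratic form with kernel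
the inner automorphisms.
-/

set_option autoImplicit false

open scoped commutatorElement
open Subgroup

namespace Cfsg.Lib.QExt

open Trans.ES

variable {U : Type*} [AddCommGroup U] [Module (ZMod 2) U]

theorem add_self (u : U) : u + u = 0 := by
  rw [← two_smul (ZMod 2) u, show (2 : ZMod 2) = 0 from rfl, zero_smul]

theorem z2_add_self (a : ZMod 2) : a + a = 0 := by revert a; decide

theorem z2_cases (a : ZMod 2) : a = 0 ∨ a = 1 := by revert a; decide

/-- The central extension of `U` by `F₂` with cocycle `β`. -/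
@[ext] structure QE (β : LinearMap.BilinForm (ZMod 2) U) where
  u : U
  c : ZMod 2

namespace QE

variable {β : LinearMap.BilinForm (ZMod 2) U}

instance instMulQE : Mul (QE β) := ⟨fun x y => ⟨x.u + y.u, x.c + y.c + β x.u y.u⟩⟩
instance instOneQE : One (QE β) := ⟨⟨0, 0⟩⟩
instance instInvQE : Inv (QE β) := ⟨fun x => ⟨x.u, x.c + β x.u x.u⟩⟩

@[simp] theorem mul_u (x y : QE β) : (x * y).u = x.u + y.u := rfl
@[simp] theorem mul_c (x y : QE β) : (x * y).c = x.c + y.c + β x.u y.u := rfl
@[simp] theorem one_u : (1 : QE β).u = 0 := rfl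
@[simp] theorem one_c : (1 : QE β).c = 0 := rfl
@[simp] theorem inv_u (x : QE β) : x⁻¹.u = x.u := rfl
@[simp] theorem inv_c (x : QE β) : x⁻¹.c = x.c + β x.u x.u := rfl

instance instGroupQE : Group (QE β) :=
  Group.ofLeftAxioms
    (fun x y w => by
      ext
      · simp [add_assoc]
      · simp only [mul_c, mul_u, map_add, LinearMap.add_apply]; ring)
    (fun x => by ext <;> simp)
    (fun x => by
      ext
      · simp [add_self]
      · simp only [mul_c, inv_c, inv_u, one_c]
        linear_combination z2_add_self x.c + z2_add_self (β x.u x.u))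

/-- The underlying set. -/
def equivProd : QE β ≃ U × ZMod 2 where
  toFun x := (x.u, x.c)
  invFun p := ⟨p.1, p.2⟩
  left_inv _ := rfl
  right_inv _ := rfl

theorem card_eq : Nat.card (QE β) = Nat.card U * 2 := by
  rw [Nat.card_congr equivProd, Nat.card_prod, Nat.card_zmod]

instance instFiniteQE [Finite U] : Finite (QE β) := Finite.of_equiv _ equivProd.symm

theorem mul_self_eq (x : QE β) : x * x = ⟨0, β x.u x.u⟩ := by
  ext
  · simp [add_self]
  · simp [z2_add_self]

theorem mul_self_eq_one_iff (x : QE β) : x * x = 1 ↔ β x.u x.u = 0 := by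
  rw [mul_self_eq]
  exact ⟨fun h => congrArg QE.c h, fun h => by rw [h]; rfl⟩

theorem conj_eq (x y : QE β) : x * y * x⁻¹ = ⟨y.u, y.c + (β x.u y.u + β y.u x.u)⟩ := by
  ext
  · simp only [mul_u, inv_u]
    rw [add_right_comm, add_self, zero_add]
  · simp only [mul_c, mul_u, inv_u, inv_c, map_add, LinearMap.add_apply]
    linear_combination z2_add_self x.c + z2_add_self (β x.u x.u)

theorem mul_comm_iff (x y : QE β) : x * y = y * x ↔ β x.u y.u + β y.u x.u = 0 := by
  constructor
  · intro h
    have := congrArg QE.c h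
    simp only [mul_c] at this
    linear_combination this + z2_add_self (β y.u x.u)
  · intro h
    ext
    · simp [add_comm]
    · simp only [mul_c]
      linear_combination h - z2_add_self (β y.u x.u)

/-- The projection onto `U`. -/
def chi (β : LinearMap.BilinForm (ZMod 2) U) : QE β →* Multiplicative U where
  toFun x := Multiplicative.ofAdd x.u
  map_one' := rfl
  map_mul' _ _ := rfl

@[simp] theorem toAdd_chi (x : QE β) : (chi β x).toAdd = x.u := rfl

theorem chi_surjective : Function.Surjective (chi β) := fun u => ⟨⟨u.toAdd, 0⟩, rfl⟩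

theorem mem_center_of_u {x : QE β} (h : x.u = 0) : x ∈ center (QE β) :=
  mem_center_iff.2 fun y => (mul_comm_iff y x).2 (by simp [h])

end QE

open QE

/-- The polar form of `u ↦ β u u` is non-degenerate. -/
def ND (β : LinearMap.BilinForm (ZMod 2) U) : Prop := ∀ u : U, (∀ v, β u v + β v u = 0) → u = 0

variable {β : LinearMap.BilinForm (ZMod 2) U}

theorem ND.mem_center_iff (h : ND β) {x : QE β} : x ∈ center (QE β) ↔ x.u = 0 :=
  ⟨fun hx => h _ fun v => (mul_comm_iff x ⟨v, 0⟩).1 (Subgroup.mem_center_iff.1 hx _).symm,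
    mem_center_of_u⟩

theorem ND.ker_chi (h : ND β) : (chi β).ker = center (QE β) := by
  ext x
  rw [h.mem_center_iff]
  rfl

theorem ND.isPre (h : ND β) : IsPre 2 (QE β) where
  card_center := by
    rw [← Nat.card_zmod 2]
    refine Nat.card_congr ⟨fun x => x.1.c, fun c => ⟨⟨0, c⟩, mem_center_of_u rfl⟩, ?_, fun _ => rfl⟩
    intro x
    apply Subtype.ext
    ext
    · exact (h.mem_center_iff.1 x.2).symm
    · rfl
  classTwo x y := by
    apply mem_center_of_u
    rw [commutatorElement_def, conj_eq]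
    simp [add_self]

theorem ND.isExtraspecial [Finite U] [Nontrivial U] (h : ND β) : IsExtraspecial 2 (QE β) := by
  refine h.isPre.isExtraspecial fun ht => ?_
  obtain ⟨u, hu⟩ := exists_ne (0 : U)
  exact hu (h.mem_center_iff.1 (ht ▸ mem_top (⟨u, 0⟩ : QE β)))

theorem ND.map_center (h : ND β) (α : MulAut (QE β)) (c : ZMod 2) : α ⟨0, c⟩ = ⟨0, c⟩ := by
  have hc : ∀ c, (α ⟨0, c⟩).u = 0 := fun c => by
    rw [← h.mem_center_iff, Subgroup.mem_center_iff]
    intro y
    obtain ⟨y, rfl⟩ := α.surjective y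
    rw [← map_mul, ← map_mul, Subgroup.mem_center_iff.1 (mem_center_of_u rfl) y]
  rcases z2_cases c with rfl | rfl
  · exact map_one α
  · ext
    · exact hc 1
    · rcases z2_cases (α ⟨0, 1⟩).c with h1 | h1
      · have : α ⟨0, 1⟩ = 1 := QE.ext (hc 1) h1
        rw [map_eq_one_iff _ α.injective] at this
        exact absurd (show (1 : ZMod 2) = 0 from congrArg QE.c this) (by decide)
      · exact h1

theorem ND.map_eq (h : ND β) (α : MulAut (QE β)) (x : QE β) :
    α x = ⟨(α ⟨x.u, 0⟩).u, x.c + (α ⟨x.u, 0⟩).c⟩ := by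
  have : x = ⟨0, x.c⟩ * ⟨x.u, 0⟩ := by ext <;> simp
  conv_lhs => rw [this, map_mul, h.map_center]
  ext <;> simp

theorem ND.map_u (h : ND β) (α : MulAut (QE β)) (x : QE β) : (α x).u = (α ⟨x.u, 0⟩).u := by
  rw [h.map_eq]

/-- The linear map induced by an automorphism. -/
def ND.lin (h : ND β) (α : MulAut (QE β)) : U →ₗ[ZMod 2] U :=
  AddMonoidHom.toZModLinearMap 2
    (AddMonoidHom.mk' (fun u => (α ⟨u, 0⟩).u) fun u v => by
      rw [← mul_u, ← map_mul, h.map_u α (⟨u, 0⟩ * ⟨v, 0⟩)]; rfl)

theorem ND.lin_apply (h : ND β) (α : MulAut (QE β)) (x : QE β) : h.lin α x.u = (α x).u :=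
  (h.map_u α x).symm

theorem ND.lin_apply' (h : ND β) (α : MulAut (QE β)) (u : U) : h.lin α u = (α ⟨u, 0⟩).u := rfl

/-- The action of the automorphism group on `U`. -/
def ND.linHom (h : ND β) : MulAut (QE β) →* Module.End (ZMod 2) U where
  toFun := h.lin
  map_one' := by ext u; rfl
  map_mul' α α' := by
    ext u
    change (α (α' ⟨u, 0⟩)).u = h.lin α (α' ⟨u, 0⟩).u
    rw [h.lin_apply]

theorem ND.linHom_apply (h : ND β) (α : MulAut (QE β)) (x : QE β) : h.linHom α x.u = (α x).u :=
  h.lin_apply α x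

theorem ND.quad_linHom (h : ND β) (α : MulAut (QE β)) (u : U) :
    β (h.linHom α u) (h.linHom α u) = β u u := by
  have h1 := congrArg QE.c (map_mul α ⟨u, 0⟩ ⟨u, 0⟩)
  rw [mul_self_eq, mul_self_eq, h.map_center] at h1
  exact h1.symm

/-- An alternating form over `F₂` is the polar form of a function. -/
theorem exists_polar [Module.Finite (ZMod 2) U] (γ : LinearMap.BilinForm (ZMod 2) U)
    (hγ : ∀ u, γ u u = 0) : ∃ f : U → ZMod 2, ∀ u v, f (u + v) = f u + f v + γ u v := by
  classical
  let b := Module.finBasis (ZMod 2) U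
  let δ : LinearMap.BilinForm (ZMod 2) U :=
    b.constr (ZMod 2) fun i => b.constr (ZMod 2) fun j => if i < j then γ (b i) (b j) else 0
  have hs : ∀ u v, γ u v = γ v u := fun u v => by
    have := hγ (u + v)
    simp only [map_add, LinearMap.add_apply, hγ] at this
    linear_combination this - z2_add_self (γ v u)
  have key : δ + δ.flip = γ := by
    refine LinearMap.BilinForm.ext_basis b fun i j => ?_
    simp only [LinearMap.add_apply, LinearMap.BilinForm.flip_apply, δ, Module.Basis.constr_basis]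
    rcases lt_trichotomy i j with hij | rfl | hij
    · simp [hij, hij.not_gt]
    · simp [hγ]
    · simp [hij, hij.not_gt, hs]
  refine ⟨fun u => δ u u, fun u v => ?_⟩
  rw [← key]
  simp only [map_add, LinearMap.add_apply, LinearMap.BilinForm.flip_apply]
  ring

/-- Isometries lift to automorphisms. -/
theorem ND.exists_lift [Module.Finite (ZMod 2) U] (h : ND β) (g : U ≃ₗ[ZMod 2] U)
    (hg : ∀ u, β (g u) (g u) = β u u) : ∃ α : MulAut (QE β), ∀ u, h.linHom α u = g u := by
  obtain ⟨f, hf⟩ := exists_polar (β.comp g.toLinearMap g.toLinearMap + β) fun u => by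
    simp [hg, z2_add_self]
  refine ⟨{ toFun := fun x => ⟨g x.u, x.c + f x.u⟩
            invFun := fun x => ⟨g.symm x.u, x.c + f (g.symm x.u)⟩
            left_inv := fun x => ?_
            right_inv := fun x => ?_
            map_mul' := fun x y => ?_ }, fun u => rfl⟩
  · ext
    · simp
    · simp [add_assoc, z2_add_self]
  · ext
    · simp
    · simp [add_assoc, z2_add_self]
  · ext
    · simp
    · simp only [mul_c, mul_u, hf, LinearMap.add_apply, LinearMap.BilinForm.comp_apply,
        LinearEquiv.coe_coe]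
      linear_combination z2_add_self (β x.u y.u)

theorem ND.nondegenerate (h : ND β) : (β + β.flip).Nondegenerate :=
  ⟨fun u hu => h u fun v => by simpa using hu v, fun u hu => h u fun v => by
    simpa [add_comm] using hu v⟩

theorem ND.exists_repr [Module.Finite (ZMod 2) U] (h : ND β) (f : U →ₗ[ZMod 2] ZMod 2) :
    ∃ w : U, ∀ u, β w u + β u w = f u := by
  obtain ⟨w, hw⟩ := (LinearMap.BilinForm.toDual _ h.nondegenerate).surjective f
  exact ⟨w, fun u => by rw [← hw]; rfl⟩

theorem ND.linHom_conj (h : ND β) (x : QE β) : h.linHom (MulAut.conj x) = 1 := by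
  ext u
  change (x * ⟨u, 0⟩ * x⁻¹).u = u
  rw [conj_eq]

/-- An automorphism acting trivially on `U` is inner. -/
theorem ND.exists_conj [Module.Finite (ZMod 2) U] (h : ND β) {α : MulAut (QE β)}
    (hα : h.linHom α = 1) : ∃ x : QE β, MulAut.conj x = α := by
  have hu : ∀ x, (α x).u = x.u := fun x => by rw [← h.linHom_apply, hα]; rfl
  let f : U →ₗ[ZMod 2] ZMod 2 := AddMonoidHom.toZModLinearMap 2
    (AddMonoidHom.mk' (fun u => (α ⟨u, 0⟩).c) fun u v => by
      have h1 := congrArg QE.c (map_mul α ⟨u, 0⟩ ⟨v, 0⟩)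
      rw [h.map_eq α (⟨u, 0⟩ * ⟨v, 0⟩)] at h1
      simp only [mul_c, mul_u, hu] at h1
      linear_combination h1)
  obtain ⟨w, hw⟩ := h.exists_repr f
  refine ⟨⟨w, 0⟩, ?_⟩
  ext x : 1
  rw [MulAut.conj_apply, conj_eq, h.map_eq α x, hu, hw]
  rfl

/-- Every automorphism agrees with an inner one on the elements it fixes modulo the centre. -/
theorem ND.exists_conj_on [Module.Finite (ZMod 2) U] (h : ND β) (α : MulAut (QE β)) :
    ∃ x : QE β, ∀ a : QE β, (α a).u = a.u → α a = x * a * x⁻¹ := by
  let D : Submodule (ZMod 2) U := LinearMap.ker (h.linHom α - 1)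
  have hD : ∀ u : D, (α ⟨u, 0⟩).u = u := fun u => by
    have := u.2
    rw [LinearMap.mem_ker, LinearMap.sub_apply, sub_eq_zero] at this
    exact this
  let f : D →ₗ[ZMod 2] ZMod 2 := AddMonoidHom.toZModLinearMap 2
    (AddMonoidHom.mk' (fun u => (α ⟨u, 0⟩).c) fun u v => by
      have h1 := congrArg QE.c (map_mul α ⟨u, 0⟩ ⟨v, 0⟩)
      rw [h.map_eq α (⟨u, 0⟩ * ⟨v, 0⟩)] at h1
      simp only [mul_c, mul_u, hD] at h1
      rw [Submodule.coe_add]
      linear_combination h1)
  obtain ⟨g, hg⟩ := LinearMap.exists_extend f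
  obtain ⟨w, hw⟩ := h.exists_repr g
  refine ⟨⟨w, 0⟩, fun a ha => ?_⟩
  have haD : a.u ∈ D := by
    rw [LinearMap.mem_ker, LinearMap.sub_apply, sub_eq_zero, h.linHom_apply, ha]; rfl
  rw [conj_eq, h.map_eq α a, ← h.map_u, ha, hw]
  have := LinearMap.congr_fun hg ⟨a.u, haD⟩
  exact QE.ext rfl (congrArg (a.c + ·) this.symm)

open Classical in
theorem defect_eq [Fintype U] :
    Solv.PG.defect (QE β) = 2 * ∑ u : U, (if β u u = 0 then (1 : ℤ) else -1) := by
  letI : Fintype (QE β) := Fintype.ofEquiv _ equivProd.symm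
  rw [Solv.PG.defect_eq_sum, ← Equiv.sum_comp equivProd.symm, Fintype.sum_prod_type, Finset.mul_sum]
  refine Finset.sum_congr rfl fun u _ => ?_
  have : ∀ c : ZMod 2, Solv.PG.sgnOne ((equivProd.symm (u, c) : QE β) ^ 2) =
      if β u u = 0 then 1 else -1 := fun c => by
    unfold Solv.PG.sgnOne
    rw [sq]
    exact if_congr (mul_self_eq_one_iff _) rfl rfl
  simp [this]

end Cfsg.Lib.QExt
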