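import Cfsg.Agent.Solv.TurNE

/-! # Turull's theorem, part 4: the first level at which the automorphism acts -/

set_option autoImplicit false

namespace Cfsg.Lib.Solv.Tur

open Subgroup Cfsg.Lib.Solv Cfsg.Lib.FT Cfsg.Lib.Solv.FH
open scoped Pointwise commutatorElement

universe u v

variable {G : Type u} [Group G]

/-- The base configuration. -/
structure BLS (p q : ℕ) (P S D A U : Subgroup G) : Prop where
  hP : IsPGroup p P
  hS : IsPGroup q S
  hA : (Nat.card A).Prime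
  cSP : (Nat.card S).Coprime (Nat.card P)
  cAP : (Nat.card A).Coprime (Nat.card P)
  cDA : (Nat.card D).Coprime (Nat.card A)
  cUP : (Nat.card U).Coprime (Nat.card P)
  cUA : (Nat.card U).Coprime (Nat.card A)
  comm : IsMulCommutative U
  SD : S ≤ D
  PU : P ≤ 𝐍 U
  DU : D ≤ 𝐍 U
  AU : A ≤ 𝐍 U
  DP : D ≤ 𝐍 P
  AP : A ≤ 𝐍 P
  DA : D ≤ 𝐂 A
  UP : U ⊓ 𝐂 P = ⊥
  ne : U ≠ ⊥
  cl : ⁅⁅P, P⁆, P⁆ ≤ 𝐂 U
  ZD : ⁅⁅P, P⁆, D⁆ ≤ 𝐂 U
  pow : ∀ x ∈ P, x ^ p ∈ ⁅P, P⁆ ⊔ P ⊓ 𝐂 U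
  PS : ⁅P, S⁆ = P
  PA : ⁅P, A⁆ = P
  fix : U ⊓ 𝐂 A ≤ 𝐂 S

namespace BLS

variable {p q : ℕ} {P S D A U : Subgroup G}

theorem mono (h : BLS p q P S D A U) {V : Subgroup G} (hV : V ≤ U) (h0 : V ≠ ⊥) (hP : P ≤ 𝐍 V)
    (hD : D ≤ 𝐍 V) (hA : A ≤ 𝐍 V) : BLS p q P S D A V :=
  { h with
    cUP := Coprime.hcop_mono h.cUP hV le_rfl
    cUA := Coprime.hcop_mono h.cUA hV le_rfl
    comm := have := h.comm; isMulCommutative_of_le hV
    PU := hP
    DU := hD
    AU := hA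
    UP := le_bot_iff.1 ((inf_le_inf_right _ hV).trans h.UP.le)
    ne := h0
    cl := h.cl.trans (centralizer_anti hV)
    ZD := h.ZD.trans (centralizer_anti hV)
    pow := fun x hx => sup_le_sup_left (inf_le_inf_left _ (centralizer_anti hV)) _ (h.pow x hx)
    fix := (inf_le_inf_right _ hV).trans h.fix }

theorem der_le (_ : BLS p q P S D A U) : ⁅P, P⁆ ≤ P :=
  commutator_le_left_of_le_normalizer le_normalizer

variable [Finite G]

theorem eq_bot (h : BLS p q P S D A U) {V : Subgroup G} (hV : V ≤ U) (hP : P ≤ 𝐍 V)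
    (hS : V ≤ 𝐂 S) : V = ⊥ := by
  rw [eq_bot_iff, ← h.UP]
  refine le_inf hV (le_centralizer_iff.1 ?_)
  rw [← h.PS]
  exact (commutator_mono le_rfl (le_centralizer_iff.1 hS)).trans
    (commutator_le_right_of_le_normalizer (le_normalizer_centralizer hP))

theorem ZA (h : BLS p q P S D A U) : ⁅⁅P, P⁆, A⁆ ≤ 𝐂 U := by
  have := h.comm
  set Z : Subgroup G := ⁅⁅P, P⁆, A⁆ with hZ
  have hAZ₀ : A ≤ 𝐍 ⁅P, P⁆ := le_normalizer_commutator h.AP h.AP
  have hZ₀ : Z ≤ ⁅P, P⁆ := commutator_le_left_of_le_normalizer hAZ₀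
  have hZP : Z ≤ P := hZ₀.trans h.der_le
  have hZU : Z ≤ 𝐍 U := hZP.trans h.PU
  have hAZ : A ≤ 𝐍 Z := right_le_normalizer_commutator _ _
  have cAZ := Coprime.hcop_mono h.cAP le_rfl hZP
  have cUZ := Coprime.hcop_mono h.cUP le_rfl hZP
  set V : Subgroup G := ⁅U, Z⁆ with hV
  have hVU : V ≤ U := commutator_le_left_of_le_normalizer hZU
  have hVZ : V ⊓ 𝐂 Z = ⊥ := by
    have : IsMulCommutative V := isMulCommutative_of_le hVU
    exact Coprime.commutator_inf_centralizer_eq_bot hZU cUZ.symm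
  have hPV : P ≤ 𝐍 V := le_normalizer_commutator_of_mod h.PU hZU (by
    rw [commutator_comm]; exact (commutator_mono hZ₀ le_rfl).trans h.cl)
  have : IsMulCommutative V := isMulCommutative_of_le hVU
  exact commutator_eq_bot_iff_le_centralizer'.1 (h.eq_bot hVU hPV (frob_cent
    (Coprime.isSolvable_of_isMulCommutative V) h.hA hAZ (right_le_normalizer_commutator _ _)
    (le_normalizer_commutator h.AU hAZ) cAZ (Coprime.hcop_mono cUZ hVU le_rfl)
    (Coprime.hcop_mono h.cUA hVU le_rfl)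
    (((commutator_inf_centralizer_le hAZ₀ (Coprime.hcop_mono h.cAP le_rfl h.der_le)).trans
      ((commutator_mono le_rfl h.der_le).trans h.cl)).trans (centralizer_anti hVU)) hVZ
    (((commutator_mono hZ₀ h.SD).trans h.ZD).trans (centralizer_anti hVU)) (h.SD.trans h.DA)
    ((inf_le_inf_right _ hVU).trans h.fix)))

theorem exists_semireg (h : BLS p q P S D A U) : ∃ V ≤ U, BLS p q P S D A V ∧
    ∀ X ≤ ⁅P, P⁆, V ⊓ 𝐂 X ≠ ⊥ → X ≤ 𝐂 V := by
  obtain ⟨K, hK0, hK⟩ := Finite.exists_le_maximal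
    (p := fun K : Subgroup G => K ≤ ⁅P, P⁆ ∧ U ⊓ 𝐂 K ≠ ⊥) (a := ⁅P, P⁆ ⊓ 𝐂 U)
    ⟨inf_le_left, by rw [inf_eq_left.2 (le_centralizer_iff.1 inf_le_right)]; exact h.ne⟩
  have hn : ∀ B : Subgroup G, B ≤ 𝐍 P → B ≤ 𝐍 U → ⁅⁅P, P⁆, B⁆ ≤ 𝐂 U → B ≤ 𝐍 (U ⊓ 𝐂 K) :=
    fun B h1 h2 h3 => le_normalizer_inf_centralizer h2 (le_normalizer_iff_commutator_le.2
      ((commutator_mono hK.prop.1 le_rfl).trans ((le_inf (commutator_le_left_of_le_normalizer
        (le_normalizer_commutator h1 h1)) h3).trans hK0)))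
  refine ⟨U ⊓ 𝐂 K, inf_le_left, h.mono inf_le_left hK.prop.2 (hn P le_normalizer h.PU h.cl)
    (hn D h.DP h.DU h.ZD) (hn A h.AP h.AU h.ZA), fun X hX h1 => ?_⟩
  refine (le_sup_right.trans (hK.le_of_ge (y := K ⊔ X) ⟨sup_le hK.prop.1 hX, ?_⟩
    le_sup_left)).trans (le_centralizer_iff.1 inf_le_right)
  rwa [centralizer_sup', ← inf_assoc]

theorem img [Fact p.Prime] (h : BLS p q P S D A U) {L : Subgroup G} {Γ : Type v} [Group Γ]
    [Finite Γ] (f : L →* Γ) (hP : P ≤ L) (hD : D ≤ L) (hA : A ≤ L) (hU : U ≤ L)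
    (hker : pre f ⊥ ≤ P) :
    BLS p q (FT.img f P) (FT.img f S) (FT.img f D) (FT.img f A) (FT.img f U) := by
  have := h.comm
  have hUs := Coprime.isSolvable_of_isMulCommutative U
  have hS := h.SD.trans hD
  have hZ := h.der_le.trans hP
  refine ⟨isPGroup_img f h.hP, isPGroup_img f h.hS, ?_, coprime_img f h.cSP, coprime_img f h.cAP,
    coprime_img f h.cDA, coprime_img f h.cUP, coprime_img f h.cUA, abelian_img f h.comm,
    img_mono f h.SD, img_norms f h.PU, img_norms f h.DU, img_norms f h.AU, img_norms f h.DP,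
    img_norms f h.AP, img_cents f h.DA, ?_, fun h0 => h.ne ?_, ?_, ?_, ?_, ?_, ?_, ?_⟩
  · rw [card_img_of_coprime hA (Coprime.hcop_mono h.cAP le_rfl hker)]; exact h.hA
  · rw [← img_inf_centralizer f hU hP h.PU h.cUP.symm (Or.inr hUs), h.UP, img_bot]
  · exact le_bot_iff.1 (le_trans (le_inf le_rfl (((img_eq_bot_iff hU).1 h0).trans hker))
      (inf_eq_bot_of_coprime_card h.cUP).le)
  · rw [← img_commutator hP hP, ← img_commutator hZ hP]; exact img_cents f h.cl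
  · rw [← img_commutator hP hP, ← img_commutator hZ hD]; exact img_cents f h.ZD
  · intro x hx
    obtain ⟨y, hyL, hy, rfl⟩ := mem_img'.1 hx
    rw [← map_pow, ← img_commutator hP hP]
    refine sup_le_sup_left (img_subcent_le f P U) _ ?_
    rw [← img_sup hZ (inf_le_left.trans hP)]
    exact mem_img_of_mem f (pow_mem hyL p) (h.pow y hy)
  · rw [← img_commutator hP hS, h.PS]
  · rw [← img_commutator hP hA, h.PA]
  · rw [← img_inf_centralizer f hU hA h.AU h.cUA.symm (Or.inr hUs)]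
    exact img_cents f h.fix

theorem esp [Fact p.Prime] (h : BLS p q P S D A U) (hf : P ⊓ 𝐂 U = ⊥)
    (hsr : ∀ X ≤ ⁅P, P⁆, U ⊓ 𝐂 X ≠ ⊥ → X = ⊥) :
    Esp P ∧ P ⊓ 𝐂 P = ⁅P, P⁆ := by
  have := h.comm
  have hcl : ⁅P, P⁆ ≤ 𝐂 P := commutator_eq_bot_iff_le_centralizer.1 (le_bot_iff.1 (hf ▸ le_inf
    (commutator_le_left_of_le_normalizer (le_normalizer_commutator le_normalizer
      le_normalizer) |>.trans h.der_le) h.cl))
  set Z : Subgroup G := P ⊓ 𝐂 P with hZ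
  have : IsMulCommutative Z :=
    le_centralizer_iff_isMulCommutative.1 (inf_le_right.trans (centralizer_anti inf_le_left))
  have hAZ : A ≤ 𝐍 Z := le_normalizer_inf_centralizer h.AP h.AP
  have hSP := h.SD.trans h.DP
  have hSZ : S ≤ 𝐍 Z := le_normalizer_inf_centralizer hSP hSP
  have hJZ : ⁅Z, A⁆ ≤ Z := commutator_le_left_of_le_normalizer hAZ
  have hJP : ⁅Z, A⁆ ≤ P := hJZ.trans inf_le_left
  have : IsMulCommutative (⁅Z, A⁆ : Subgroup G) := isMulCommutative_of_le hJZ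
  have hSA := h.SD.trans h.DA
  have hSJ : S ≤ 𝐍 ⁅Z, A⁆ := le_normalizer_commutator hSZ (le_normalizer_of_le_centralizer hSA)
  have hJA : ⁅Z, A⁆ ⊓ 𝐂 A = ⊥ := Coprime.commutator_inf_centralizer_eq_bot hAZ
    (Coprime.hcop_mono h.cAP le_rfl inf_le_left)
  have hZA : ⁅P, P⁆ ≤ 𝐂 A := commutator_eq_bot_iff_le_centralizer.1 (le_bot_iff.1 (hf ▸ le_inf
    (commutator_le_left_of_le_normalizer (le_normalizer_commutator h.AP h.AP) |>.trans h.der_le)
    h.ZA))
  have hJ : ⁅Z, A⁆ ≤ 𝐂 U := by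
    refine abel_trick h.hA (right_le_normalizer_commutator _ _) hSJ hSA (hJP.trans h.PU) h.AU
      (h.SD.trans h.DU) (Coprime.hcop_mono h.cAP le_rfl hJP) (Coprime.hcop_mono h.cUP le_rfl hJP)
      h.cUA (Coprime.hcop_mono h.cDA h.SD le_rfl) hJA ?_ h.fix
    conv_lhs => rw [← Coprime.centralizer_sup_commutator_of_comm hSJ
      (Coprime.hcop_mono h.cSP le_rfl hJP)]
    refine sup_le (le_trans (le_inf inf_le_left (le_trans ?_ hZA)) (hJA.le.trans bot_le)) le_rfl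
    exact (inf_le_inf_right _ (hJP.trans h.PS.ge)).trans (commutator_inf_centralizer_le hSP h.cSP)
  have hZZ : Z ≤ ⁅P, P⁆ := le_trans (le_inf (inf_le_left.trans h.PA.ge)
    (commutator_eq_bot_iff_le_centralizer.1 (le_bot_iff.1 (hf ▸ le_inf hJP hJ))))
    (commutator_inf_centralizer_le h.AP h.cAP)
  refine ⟨esp_of h.hP (fun h0 => h.ne ?_) hcl (fun x hx => ?_) hZZ (isCyclic_of_semireg
    (inf_le_left.trans h.PU) (Coprime.hcop_mono h.cUP.symm inf_le_left le_rfl) h.ne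
    fun X hX => hsr X (hX.trans hZZ)), le_antisymm hZZ (le_inf h.der_le hcl)⟩
  · rw [← h.UP, left_eq_inf]
    exact le_centralizer_iff.1 (h0.le.trans bot_le)
  · have := h.pow x hx
    rwa [hf, sup_bot_eq] at this

theorem reduce [Fact p.Prime] (h : BLS p q P S D A U) :
    ∃ (L : Subgroup G) (Γ : Type u) (_ : Group Γ) (_ : Finite Γ) (f : L →* Γ) (V : Subgroup G),
      P ≤ L ∧ D ≤ L ∧ A ≤ L ∧ V ≤ L ∧ V ≤ U ∧ A ≤ 𝐍 V ∧
      BLS p q (FT.img f P) (FT.img f S) (FT.img f D) (FT.img f A) (FT.img f V) ∧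
      Esp (FT.img f P) ∧ FT.img f V ⊓ 𝐂 (FT.img f P ⊓ 𝐂 (FT.img f P)) = ⊥ ∧
      FT.img f A ≤ 𝐂 (FT.img f P ⊓ 𝐂 (FT.img f P)) ∧
      FT.img f D ≤ 𝐂 (FT.img f P ⊓ 𝐂 (FT.img f P)) ∧
      FT.img f P ⊓ 𝐂 (FT.img f A) ≤ 𝐂 (FT.img f P) := by
  obtain ⟨V, hVU, hV, hsr⟩ := h.exists_semireg
  set K : Subgroup G := P ⊓ 𝐂 V with hK
  set L : Subgroup G := 𝐍 K with hL
  have hPL : P ≤ L := le_normalizer_inf_centralizer le_normalizer hV.PU
  have hDL : D ≤ L := le_normalizer_inf_centralizer hV.DP hV.DU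
  have hAL : A ≤ L := le_normalizer_inf_centralizer hV.AP hV.AU
  have hVL : V ≤ L := le_normalizer_of_le_centralizer (le_centralizer_iff.1 inf_le_right)
  have := normal_subgroupOf_of_le (le_refl L)
  set f := qmk L K with hf
  have hker : pre f ⊥ = K := ker_qmk le_normalizer
  have h' := hV.img f hPL hDL hAL hVL (hker.le.trans inf_le_left)
  have hff : FT.img f P ⊓ 𝐂 (FT.img f V) = ⊥ := by
    rw [eq_bot_iff]
    rintro x ⟨hx, hxV⟩
    obtain ⟨y, hyL, hy, rfl⟩ := mem_img'.1 hx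
    have h1 : ⁅zpowers y, V⁆ ≤ K := by
      rw [← hker, ← img_cents_iff (zpowers_le.2 hyL) hVL, img_zpowers hyL]
      exact zpowers_le.2 hxV
    have h2 : ⁅zpowers y, V⁆ = ⊥ := le_bot_iff.1 ((le_inf (commutator_le_right_of_le_normalizer
      (zpowers_le.2 (hV.PU hy))) (h1.trans inf_le_left)).trans
      (inf_eq_bot_of_coprime_card hV.cUP).le)
    exact mem_bot.2 (qmk_eq_one.2
      ⟨hy, commutator_eq_bot_iff_le_centralizer.1 h2 (mem_zpowers y)⟩)
  have hsr' : ∀ X ≤ ⁅FT.img f P, FT.img f P⁆, FT.img f V ⊓ 𝐂 X ≠ ⊥ → X = ⊥ := by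
    intro X hX h1
    rw [← img_commutator hPL hPL] at hX
    have h2 : FT.img f (⁅P, P⁆ ⊓ pre f X) = X := by rw [img_inf_pre, inf_eq_right.2 hX]
    have h3 : ⁅P, P⁆ ⊓ pre f X ≤ P := inf_le_left.trans h.der_le
    have := hV.comm
    rw [← h2, ← img_inf_centralizer f hVL (h3.trans hPL) (h3.trans hV.PU)
      (Coprime.hcop_mono hV.cUP.symm h3 le_rfl)
      (Or.inr (Coprime.isSolvable_of_isMulCommutative V))] at h1
    rw [← h2]
    exact img_eq_bot_of_le ((le_inf h3 (hsr _ inf_le_left fun h0 =>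
      h1 (by rw [h0, img_bot]))).trans hker.ge)
  obtain ⟨h1, h2⟩ := h'.esp hff hsr'
  have hc : ∀ B : Subgroup (L ⧸ K.subgroupOf L), B ≤ 𝐍 (FT.img f P) →
      ⁅⁅FT.img f P, FT.img f P⁆, B⁆ ≤ 𝐂 (FT.img f V) →
      B ≤ 𝐂 (FT.img f P ⊓ 𝐂 (FT.img f P)) := fun B hB h3 => by
    rw [h2]
    exact commutator_eq_bot_iff_le_centralizer'.1 (le_bot_iff.1 (hff ▸ le_inf
      (commutator_le_left_of_le_normalizer (le_normalizer_commutator hB hB) |>.trans h'.der_le)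
      h3))
  refine ⟨L, _, inferInstance, inferInstance, f, V, hPL, hDL, hAL, hVL, hVU, hV.AU, h', h1, ?_,
    hc _ h'.AP h'.ZA, hc _ h'.DP h'.ZD, ?_⟩
  · by_contra h3
    exact PG.inf_centralizer_ne_bot h'.hP h'.hP le_normalizer (fun h0 => by
      have := h1.prime
      rw [h0, bot_inf_eq, Subgroup.card_bot] at this
      exact Nat.not_prime_one this) (hsr' _ h2.le h3)
  · exact ((inf_le_inf_right _ h'.PA.ge).trans
      (commutator_inf_centralizer_le h'.AP h'.cAP)).trans h1.der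

theorem not_le_cent (h : BLS p q P S D A U) : ¬ S ≤ 𝐂 P := fun h0 => h.ne (by
  rw [← h.UP, left_eq_inf, ← h.PS, commutator_eq_bot_iff_le_centralizer'.2 h0]
  exact le_centralizer_iff.1 bot_le)

theorem fix_ne_bot [Fact p.Prime] [Fact q.Prime] (h : BLS p q P S D A U) : U ⊓ 𝐂 A ≠ ⊥ := by
  intro h0
  obtain ⟨L, Γ, _, _, f, V, hP, hD, hA, hV, hVU, hAV, h', h1, h2, h3, h4, h5⟩ := h.reduce
  have := h.comm
  have := h'.comm
  have hs := Coprime.isSolvable_of_isPGroup h'.hP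
  obtain ⟨-, d, hd, hdr⟩ := esp_count h1 h'.hA h'.AP h'.cAP h'.PU h'.AU
    (Coprime.isSolvable_of_isMulCommutative _) h'.cUP h'.cUA (by
      have : IsMulCommutative V := isMulCommutative_of_le hVU
      rw [← img_inf_centralizer f hV hA hAV (Coprime.hcop_mono h.cUA hVU le_rfl).symm
        (Or.inr (Coprime.isSolvable_of_isMulCommutative V)),
        le_bot_iff.1 ((inf_le_inf_right _ hVU).trans h0.le), img_bot])
    (fun h6 => h'.ne (by rw [← h2, inf_eq_left.2 h6]))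
  refine h'.not_le_cent (cent_of_count h1 hs h'.hA h'.AP h3 h'.cAP h5 h'.hS (h'.SD.trans h'.DP)
    (h'.SD.trans h4) (h'.SD.trans h'.DA) h'.cSP (Coprime.hcop_mono h'.cDA h'.SD le_rfl)
    (d := d) ?_ hdr)
  rw [← hd, h'.PA, inf_comm, inf_relIndex_right]

theorem false [Fact p.Prime] [Fact q.Prime] (h : BLS p q P S D A U) (hDS : D ≤ 𝐍 S)
    {T : Subgroup G} (hTD : T ≤ D) (cUT : (Nat.card U).Coprime (Nat.card T))
    (hfix : U ⊓ 𝐂 A ≤ 𝐂 T) (hST : T = S ∨ S ≤ ⁅S, T⁆) (hSD : S ≤ ⁅S, D⁆) : False := by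
  obtain ⟨L, Γ, _, _, f, V, hP, hD, hA, hV, hVU, hAV, h', h1, h2, h3, h4, h5⟩ := h.reduce
  have := h.comm
  have := h'.comm
  have : IsMulCommutative V := isMulCommutative_of_le hVU
  have hs := Coprime.isSolvable_of_isPGroup h'.hP
  have hSL := h.SD.trans hD
  obtain ⟨N, hN⟩ := sympl_sq h1.prime h1.der
  rw [← inf_relIndex_right, inf_comm] at hN
  obtain ⟨b1, b2⟩ := deg_bound h1 hs h'.hA h'.AP h3 h'.cAP h5 h'.hS (h'.SD.trans h'.DP)
    (h'.SD.trans h4) (h'.SD.trans h'.DA) h'.cSP (Coprime.hcop_mono h'.cDA h'.SD le_rfl)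
    h'.not_le_cent h'.DP (img_norms f hDS)
    (by rw [← img_commutator hSL hD]; exact img_mono f hSD) hN
  set E := FT.img f P
  set Z := E ⊓ 𝐂 E
  have hT' : FT.img f T ≤ FT.img f D := img_mono f hTD
  have hDZ : FT.img f D ≤ 𝐍 Z := le_normalizer_of_le_centralizer h4
  have hne : ¬ FT.img f T ≤ commLe E Z := by
    intro h6
    have h7 : FT.img f S ≤ commLe E Z := by
      rcases hST with rfl | hST
      · exact h6
      · refine (img_mono f hST).trans ?_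
        rw [img_commutator hSL (hTD.trans hD)]
        exact (commutator_mono le_rfl h6).trans (commutator_le_right_of_le_normalizer
          (le_normalizer_commLe (h'.SD.trans h'.DP) (h'.SD.trans hDZ)))
    have h8 := (le_commLe_iff.1 h7).2
    rw [commutator_comm, h'.PS] at h8
    exact h'.not_le_cent ((h'.SD.trans h4).trans (centralizer_anti h8))
  obtain ⟨t, ht, ht'⟩ := SetLike.not_le_iff_exists.1 hne
  have ho := (FT.img f T).orderOf_dvd_natCard ht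
  refine char_bound h1 h'.hA h'.AP h3 h'.cAP h5 (h'.DP (hT' ht)) (h4 (hT' ht)) (h'.DA (hT' ht))
    ((Coprime.hcop_mono h'.cDA hT' le_rfl).coprime_dvd_left ho) (fun h6 => ht' ?_) h'.PU h'.AU
    (h'.DU (hT' ht)) (Coprime.isSolvable_of_isMulCommutative _) h'.cUP h'.cUA
    ((coprime_img f (Coprime.hcop_mono cUT hVU le_rfl)).coprime_dvd_right ho) h'.ne h2 ?_ hN b1 b2
  · rw [commutator_comm] at h6
    exact le_commLe_iff.2 ⟨zpowers_le.2 (hDZ (hT' ht)), h6⟩ (mem_zpowers t)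
  · rw [← img_inf_centralizer f hV hA hAV (Coprime.hcop_mono h.cUA hVU le_rfl).symm
        (Or.inr (Coprime.isSolvable_of_isMulCommutative V))]
    exact (img_cents f ((inf_le_inf_right _ hVU).trans hfix)).trans
      (centralizer_anti (zpowers_le.2 ht))

theorem false' [Fact p.Prime] [Fact q.Prime] (h : BLS p q P S S A U) {T : Subgroup G}
    (hTU : T ≤ 𝐍 U) (hTP : T ≤ 𝐍 P) (hTS : T ≤ 𝐍 S) (hTA : T ≤ 𝐂 A)
    (cTA : (Nat.card T).Coprime (Nat.card A)) (hST : S ≤ ⁅S, T⁆)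
    (hY : U ⊓ 𝐂 A ≤ 𝐂 ⁅P ⊓ 𝐂 A, T⁆)
    (hc : (Nat.card U).Coprime (Nat.card S) ∨
      ((Nat.card U).Coprime (Nat.card T) ∧ U ⊓ 𝐂 A ≤ 𝐂 T)) : False := by
  set Y : Subgroup G := ⁅P ⊓ 𝐂 A, T⁆ with hYdef
  have hTZ : T ≤ 𝐍 ⁅P, P⁆ := le_normalizer_commutator hTP hTP
  have hYZ : Y ≤ ⁅P, P⁆ := (commutator_mono ((inf_le_inf_right _ h.PA.ge).trans
    (commutator_inf_centralizer_le h.AP h.cAP)) le_rfl).trans
    (commutator_le_left_of_le_normalizer hTZ)
  set K : Subgroup G := Y ⊔ ⁅P, P⁆ ⊓ 𝐂 U with hK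
  have hKZ : K ≤ ⁅P, P⁆ := sup_le hYZ inf_le_left
  have hn : ∀ B : Subgroup G, B ≤ 𝐍 P → B ≤ 𝐍 U → ⁅⁅P, P⁆, B⁆ ≤ 𝐂 U → B ≤ 𝐍 (U ⊓ 𝐂 K) :=
    fun B h1 h2 h3 => le_normalizer_inf_centralizer h2 (le_normalizer_iff_commutator_le.2
      ((commutator_mono hKZ le_rfl).trans ((le_inf (commutator_le_left_of_le_normalizer
        (le_normalizer_commutator h1 h1)) h3).trans le_sup_right)))
  have hTV : T ≤ 𝐍 (U ⊓ 𝐂 K) := le_normalizer_inf_centralizer hTU (le_normalizer_sup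
    (right_le_normalizer_commutator _ _) (le_normalizer_inf_centralizer hTZ hTU))
  have h1 := h.mono (V := U ⊓ 𝐂 K) inf_le_left (fun h0 => h.fix_ne_bot (le_bot_iff.1 (by
      rw [← h0, hK, centralizer_sup']
      exact le_inf inf_le_left (le_inf hY (inf_le_left.trans
        (le_centralizer_iff.1 inf_le_right))))))
    (hn P le_normalizer h.PU h.cl) (hn S h.DP h.DU h.ZD) (hn A h.AP h.AU h.ZA)
  set V : Subgroup G := U ⊓ 𝐂 K with hV
  have hAZ : A ≤ 𝐍 ⁅P, P⁆ := le_normalizer_commutator h.AP h.AP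
  have hZV : ⁅P, P⁆ ≤ 𝐍 (𝐂 V) := le_normalizer_centralizer (h.der_le.trans h1.PU)
  have h2 : BLS p q P S (S ⊔ T) A V :=
    { h1 with
      cDA := (coprime_card_sup hTS h.cDA.symm cTA.symm).symm
      SD := le_sup_left
      DU := sup_le h1.DU hTV
      DP := sup_le h.DP hTP
      DA := sup_le h.DA hTA
      ZD := by
        refine commutator_sup_right_le_of_le_normalizer (le_normalizer_centralizer h1.DU)
          (le_normalizer_centralizer hTV) h1.ZD ?_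
        rw [← Coprime.commutator_sup_centralizer hAZ (Coprime.hcop_mono h.cAP le_rfl h.der_le)
          (Or.inr (Coprime.isSolvable_of_isPGroup (h.hP.to_le h.der_le)))]
        refine commutator_sup_left_le_of_le_normalizer
          ((commutator_le_left_of_le_normalizer hAZ).trans hZV) (inf_le_left.trans hZV)
          ((commutator_le_left_of_le_normalizer (le_normalizer_commutator hTZ
            (le_normalizer_of_le_centralizer hTA))).trans h1.ZA) ?_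
        exact ((commutator_mono (inf_le_inf_right _ h.der_le) le_rfl).trans le_sup_left).trans
          (le_centralizer_iff.1 (inf_le_right : V ≤ 𝐂 K)) }
  have hSD : S ≤ ⁅S, S ⊔ T⁆ := hST.trans (commutator_mono le_rfl le_sup_right)
  rcases hc with hc | ⟨hc, hc'⟩
  · exact h2.false (sup_le le_normalizer hTS) le_sup_left
      (Coprime.hcop_mono hc inf_le_left le_rfl) h2.fix (Or.inl rfl) hSD
  · exact h2.false (sup_le le_normalizer hTS) le_sup_right
      (Coprime.hcop_mono hc inf_le_left le_rfl) ((inf_le_inf_right _ inf_le_left).trans hc')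
      (Or.inr hST) hSD

end BLS

end Cfsg.Lib.Solv.Tur
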