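import Cfsg.Agent.Solv.TurStep

/-! # Turull's theorem, part 8: the first level and the dual module -/

set_option autoImplicit false

namespace Cfsg.Lib.Solv.Tur

open Subgroup Cfsg.Lib.Solv Cfsg.Lib.FT Cfsg.Lib.Solv.FH Cfsg.Lib.Solv.Act
open scoped Pointwise commutatorElement

universe u

section base

variable {Γ : Type u} {W : Type u} [Group Γ] [CommGroup W] {φ : Γ →* MulAut W}

/-- The configuration at the first level at which `A` acts. -/
structure BS (φ : Γ →* MulAut W) (p : ℕ) (P D A N : Subgroup Γ) (W₀ : Subgroup W) : Prop where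
  hP : IsPGroup p P
  hA : (Nat.card A).Prime
  cA : (Nat.card A).Coprime (Nat.card (P ⊔ D : Subgroup Γ))
  cWP : (Nat.card W).Coprime (Nat.card P)
  cWA : (Nat.card W).Coprime (Nat.card A)
  DP : D ≤ 𝐍 P
  AP : A ≤ 𝐍 P
  DA : D ≤ 𝐂 A
  PA : ⁅P, A⁆ = P
  NP : N ≤ P
  GW : Inv φ (P ⊔ D) W₀
  AW : Inv φ A W₀
  WN : W₀ ≤ fix φ N
  WP : W₀ ⊓ fix φ P = ⊥

variable [Finite Γ]

theorem Inp.mono {G A H : Subgroup Γ} {F F' U₀ : Subgroup W} (i : Inp φ G A H F U₀)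
    (h : F ≤ F') : Inp φ G A H F' U₀ :=
  { i with hT := fun g hg h1 u hu => h (i.hT g hg h1 u hu) }

namespace BS

variable [Finite W] {p : ℕ} [Fact p.Prime] {P D A N H : Subgroup Γ} {W₀ F U₀ : Subgroup W}

omit [Finite Γ] [Finite W] [Fact p.Prime] in
theorem cAP (h : BS φ p P D A N W₀) : (Nat.card A).Coprime (Nat.card P) :=
  h.cA.coprime_dvd_right (card_dvd_of_le le_sup_left)

omit [Finite Γ] [Finite W] [Fact p.Prime] in
theorem AG (h : BS φ p P D A N W₀) : A ≤ 𝐍 (P ⊔ D) :=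
  le_normalizer_sup h.AP (le_normalizer_of_le_centralizer (le_centralizer_iff.1 h.DA))

omit [Finite W] [Fact p.Prime] in
theorem sp (h : BS φ p P D A N W₀) (i : Inp φ (P ⊔ D) A H F U₀) (hU : U₀ ≤ W₀) :
    BS φ p P D A N (sp φ (P ⊔ D : Subgroup Γ) U₀) :=
  have h1 : Tur.sp φ (P ⊔ D : Subgroup Γ) U₀ ≤ W₀ :=
    sp_le fun g hg u hu => h.GW g hg u (hU hu)
  { h with
    GW := inv_sp' fun _ hb _ hg => mul_mem hb hg
    AW := inv_sp i.AU fun _ hb _ hg => conj_mem_of_mem_normalizer (h.AG hb) hg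
    WN := h1.trans h.WN
    WP := le_bot_iff.1 ((inf_le_inf_right _ h1).trans h.WP.le) }

theorem fix_le (h : BS φ p P D A N W₀) (i : Inp φ (P ⊔ D) A H F U₀)
    (hF : Inv φ ((P ⊔ D) ⊓ 𝐂 A) F)
    (hS : F = ⊥ ∨ ∃ S ≤ D, P ≤ ⁅P, S⁆ ∧ F ≤ fix φ S) :
    Tur.sp φ (P ⊔ D : Subgroup Γ) U₀ ⊓ fix φ A ≤ F := by
  have hPP : ⁅P, P⁆ ≤ P := commutator_le_left_of_le_normalizer le_normalizer
  have hAH : A ≤ 𝐍 (H ⊓ P) := le_normalizer_inf i.AH h.AP
  have hdec : ∀ g ∈ P ⊔ D, ∃ c ∈ D, ∃ y ∈ P, c * y = g := fun g hg =>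
    (mem_sup_of_le_normalizer' h.DP).1 (sup_comm P D ▸ hg)
  have hfx : ∀ y ∈ P, Fx A H y → ∃ z ∈ H ⊓ P, y * z ∈ 𝐂 A := fun y hy h1 =>
    (h1.inf h.AP hy).exists h.hA hAH (h.cAP.coprime_dvd_right (card_dvd_of_le inf_le_right))
  have hC : P ⊓ 𝐂 A ≤ ⁅P, P⁆ :=
    (inf_le_inf_right _ h.PA.ge).trans (commutator_inf_centralizer_le h.AP h.cAP)
  have hQP : H ⊓ P ⊔ ⁅P, P⁆ ≤ P := sup_le inf_le_right hPP
  have hpq : PQ P (H ⊓ P ⊔ ⁅P, P⁆) A := ⟨h.hA, h.cAP, hQP,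
    le_normalizer_iff_commutator_le.2 ((commutator_mono hQP le_rfl).trans le_sup_right),
    le_normalizer_sup hAH (le_normalizer_commutator h.AP h.AP), h.AP, hC.trans le_sup_right⟩
  have hne : ¬ P ≤ H ⊓ P ⊔ ⁅P, P⁆ := fun h1 => by
    have h2 := le_of_le_sup_der h.hP inf_le_right h1
    obtain ⟨g, hg, h3⟩ := i.ex
    obtain ⟨c, hc, y, hy, rfl⟩ := hdec g hg
    exact h3 ((Fx.of_cent (h.DA hc)).mul_mem i.AH (h2 hy).1)
  have h1 : ∀ u ∈ U₀, nm φ A u ∈ F := fun u hu =>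
    hpq.base hne h.cWA i.AU (fun y hy hyQ => i.hT y (mem_sup_left hy) fun h2 => hyQ (by
      obtain ⟨z, hz, h3⟩ := hfx y hy h2
      have := mul_mem (mem_sup_right (S := H ⊓ P) (hC ⟨P.mul_mem hy hz.2, h3⟩))
        (mem_sup_left (inv_mem hz))
      rwa [mul_inv_cancel_right] at this))
      (hS.imp_right fun ⟨S, h2, h3, h4⟩ => ⟨S, h2.trans h.DP, h2.trans h.DA,
        (h.cA.coprime_dvd_right (card_dvd_of_le (h2.trans le_sup_right))).symm, h3, h4⟩) hu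
  refine fix_le_of_nm h.cWA fun w hw => map_sp _ (fun g hg u hu => ?_) hw
  by_cases h2 : Fx A H g
  · obtain ⟨c, hc, y, hy, rfl⟩ := hdec g hg
    obtain ⟨z, hz, h3⟩ := hfx y hy ((Fx.cent_mul (h.DA hc)).1 h2)
    have h4 : c * (y * z) ∈ 𝐂 A := mul_mem (h.DA hc) h3
    have := hF _ ⟨mul_mem (mem_sup_right hc) (mem_sup_left (mul_mem hy hz.2)), h4⟩ _
      (h1 _ (i.HU _ (inv_mem hz.1) u hu))
    rwa [phi_nm h4, phi_mul, mul_assoc, mul_inv_cancel_right] at this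
  · exact i.hT g hg h2 u hu

theorem false0 (h : BS φ p P D A N W₀) (i : Inp φ (P ⊔ D) A H ⊥ U₀) (hU : U₀ ≤ W₀)
    (hC : P ⊓ 𝐂 A ≤ N) : False := by
  have h1 := h.fix_le i (inv_bot _) (Or.inl rfl)
  have h' := h.sp i hU
  set V := Tur.sp φ (P ⊔ D : Subgroup Γ) U₀
  have h2 := wielandt_mod_cent (K := R φ P) (R := R φ A) (M := L φ V) (R_le_normalizer_R.2 h.AP)
    (by rw [card_R, card_R]; exact h.cAP) ?_ (isSolvable_L.2 inferInstance)
    (R_le_normalizer_L.2 fun b hb => h'.GW b (mem_sup_left hb)) (R_le_normalizer_L.2 h'.AW)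
    (by rw [card_L, card_R]; exact h.cWP.coprime_dvd_left (card_subgroup_dvd_card V))
    (by rw [card_L, card_R]; exact h.cWA.coprime_dvd_left (card_subgroup_dvd_card V))
    (by rw [L_inf_centralizer_R, le_bot_iff.1 h1, L_eq_bot_iff])
  · refine i.ne (le_bot_iff.1 ((le_sp (φ := φ) (P ⊔ D).one_mem).trans (le_trans ?_ h'.WP.le)))
    exact le_inf le_rfl (R_le_centralizer_L.1 h2)
  · rintro _ ⟨a, ha, rfl⟩ ha1 _ ⟨⟨y, hy, rfl⟩, h3⟩
    refine R_le_centralizer_L.2 h'.WN (inr_mem_R.2 (hC ⟨hy, ?_⟩))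
    rw [← eq_of_ne_bot_of_prime h.hA (zpowers_le.2 ha)
      (zpowers_ne_bot.2 fun h4 => ha1 (by rw [h4, map_one]))]
    refine le_centralizer_iff.1 (zpowers_le.2 ?_) (mem_zpowers y)
    refine le_centralizer_iff.1 (zpowers_le.2 (mem_centralizer_iff.2 ?_)) (mem_zpowers a)
    rintro _ ⟨k, rfl⟩
    have h4 : Commute a y := SemidirectProduct.inr_injective (φ := φ) (by
      rw [map_mul, map_mul]; exact mem_centralizer_iff.1 h3 _ rfl)
    exact h4.zpow_left k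

omit [Finite W] [Fact p.Prime] in
theorem bls {q : ℕ} (h : BS φ p P D A N W₀) {S : Subgroup Γ} (hS : IsPGroup q S) (hSD : S ≤ D)
    (cSP : (Nat.card S).Coprime (Nat.card P)) (h0 : W₀ ≠ ⊥) (cl : ⁅⁅P, P⁆, P⁆ ≤ N)
    (ZD : ⁅⁅P, P⁆, S⁆ ≤ N) (pow : ∀ x ∈ P, x ^ p ∈ ⁅P, P⁆ ⊔ N) (PS : ⁅P, S⁆ = P)
    (hf : W₀ ⊓ fix φ A ≤ fix φ S) : BLS p q (R φ P) (R φ S) (R φ S) (R φ A) (L φ W₀) where
  hP := isPGroup_R.2 h.hP
  hS := isPGroup_R.2 hS
  hA := by rw [card_R]; exact h.hA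
  cSP := by rw [card_R, card_R]; exact cSP
  cAP := by rw [card_R, card_R]; exact h.cAP
  cDA := by
    rw [card_R, card_R]
    exact (h.cA.coprime_dvd_right (card_dvd_of_le (hSD.trans le_sup_right))).symm
  cUP := by rw [card_L, card_R]; exact h.cWP.coprime_dvd_left (card_subgroup_dvd_card W₀)
  cUA := by rw [card_L, card_R]; exact h.cWA.coprime_dvd_left (card_subgroup_dvd_card W₀)
  comm := inferInstance
  SD := le_rfl
  PU := R_le_normalizer_L.2 fun b hb => h.GW b (mem_sup_left hb)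
  DU := R_le_normalizer_L.2 fun b hb => h.GW b (mem_sup_right (hSD hb))
  AU := R_le_normalizer_L.2 h.AW
  DP := R_le_normalizer_R.2 (hSD.trans h.DP)
  AP := R_le_normalizer_R.2 h.AP
  DA := by
    rw [← commutator_eq_bot_iff_le_centralizer, ← map_commutator,
      commutator_eq_bot_iff_le_centralizer.2 (hSD.trans h.DA), Subgroup.map_bot]
  UP := by rw [L_inf_centralizer_R, h.WP, L_eq_bot_iff]
  ne := fun h1 => h0 (L_eq_bot_iff.1 h1)
  cl := by
    rw [← map_commutator, ← map_commutator]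
    exact (R_le_R.2 cl).trans (R_le_centralizer_L.2 h.WN)
  ZD := by
    rw [← map_commutator, ← map_commutator]
    exact (R_le_R.2 ZD).trans (R_le_centralizer_L.2 h.WN)
  pow := by
    rintro _ ⟨x, hx, rfl⟩
    rw [← map_commutator, ← map_pow]
    refine sup_le_sup_left (le_inf (R_le_R.2 h.NP) (R_le_centralizer_L.2 h.WN)) _ ?_
    rw [← R_sup]
    exact inr_mem_R.2 (pow x hx)
  PS := by rw [← map_commutator, PS]
  PA := by rw [← map_commutator, h.PA]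
  fix := by rw [L_inf_centralizer_R]; exact L_le_centralizer_R.2 hf

theorem false1 {q : ℕ} [Fact q.Prime] (h : BS φ p P D A N W₀) (i : Inp φ (P ⊔ D) A H ⊥ U₀)
    (hU : U₀ ≤ W₀) {S : Subgroup Γ} (hS : IsPGroup q S) (hSD : S ≤ D)
    (cSP : (Nat.card S).Coprime (Nat.card P)) (cl : ⁅⁅P, P⁆, P⁆ ≤ N)
    (ZD : ⁅⁅P, P⁆, S⁆ ≤ N) (pow : ∀ x ∈ P, x ^ p ∈ ⁅P, P⁆ ⊔ N) (PS : ⁅P, S⁆ = P) : False := by
  have h1 := h.fix_le i (inv_bot _) (Or.inl rfl)
  refine ((h.sp i hU).bls hS hSD cSP (fun h0 => i.ne (le_bot_iff.1 (h0 ▸ le_sp (one_mem _))))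
    cl ZD pow PS (h1.trans bot_le)).fix_ne_bot ?_
  rw [L_inf_centralizer_R, le_bot_iff.1 h1, L_eq_bot_iff]

theorem false2 {q : ℕ} [Fact q.Prime] (h : BS φ p P D A N W₀) (i : Inp φ (P ⊔ D) A H F U₀)
    (hU : U₀ ≤ W₀) (hF : Inv φ ((P ⊔ D) ⊓ 𝐂 A) F) {S T : Subgroup Γ} (hS : IsPGroup q S)
    (hSD : S ≤ D) (cSP : (Nat.card S).Coprime (Nat.card P)) (cl : ⁅⁅P, P⁆, P⁆ ≤ N)
    (ZD : ⁅⁅P, P⁆, S⁆ ≤ N) (pow : ∀ x ∈ P, x ^ p ∈ ⁅P, P⁆ ⊔ N) (PS : ⁅P, S⁆ = P)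
    (hFS : F ≤ fix φ S) (hTD : T ≤ D) (hTS : T ≤ 𝐍 S) (hST : S ≤ ⁅S, T⁆)
    (hY : F ≤ fix φ ⁅P ⊓ 𝐂 A, T⁆) (hc : (Nat.card W).Coprime (Nat.card S) ∨
      ((Nat.card W).Coprime (Nat.card T) ∧ F ≤ fix φ T)) : False := by
  have h1 := h.fix_le i hF (Or.inr ⟨S, hSD, PS.ge, hFS⟩)
  have h' := h.sp i hU
  have hc' : ∀ X : Subgroup Γ, X ≤ 𝐂 A → R φ X ≤ 𝐂 (R φ A) := fun X hX => by
    rw [← commutator_eq_bot_iff_le_centralizer, ← map_commutator,
      commutator_eq_bot_iff_le_centralizer.2 hX, Subgroup.map_bot]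
  refine (h'.bls hS hSD cSP (fun h0 => i.ne (le_bot_iff.1 (h0 ▸ le_sp (one_mem _))))
    cl ZD pow PS (h1.trans hFS)).false' (T := R φ T)
    (R_le_normalizer_L.2 fun b hb => h'.GW b (mem_sup_right (hTD hb)))
    (R_le_normalizer_R.2 (hTD.trans h.DP)) (R_le_normalizer_R.2 hTS) (hc' _ (hTD.trans h.DA))
    (by
      rw [card_R, card_R]
      exact (h.cA.coprime_dvd_right (card_dvd_of_le (hTD.trans le_sup_right))).symm)
    (by rw [← map_commutator]; exact R_le_R.2 hST) ?_ (hc.imp (fun h2 => ?_) fun h2 => ⟨?_, ?_⟩)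
  · have e : R φ P ⊓ 𝐂 (R φ A) = R φ (P ⊓ 𝐂 A) := by
      refine le_antisymm ?_ (le_inf (R_le_R.2 inf_le_left) (hc' _ inf_le_right))
      rintro _ ⟨⟨y, hy, rfl⟩, h2⟩
      refine inr_mem_R.2 ⟨hy, mem_centralizer_iff.2 fun a ha => SemidirectProduct.inr_injective
        (φ := φ) ?_⟩
      rw [map_mul, map_mul]
      exact mem_centralizer_iff.1 h2 _ (inr_mem_R.2 ha)
    rw [L_inf_centralizer_R, e, ← map_commutator]
    exact L_le_centralizer_R.2 (h1.trans hY)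
  · rw [card_L, card_R]; exact h2.coprime_dvd_left (card_subgroup_dvd_card _)
  · rw [card_L, card_R]; exact h2.1.coprime_dvd_left (card_subgroup_dvd_card _)
  · rw [L_inf_centralizer_R]; exact L_le_centralizer_R.2 (h1.trans h2.2)

end BS

end base

section dual

variable {X : Type u} [Group X] (M : Type u) [CommGroup M]

/-- The conjugation action on functions. -/
def cf : X →* MulAut (X → M) where
  toFun g :=
    { toFun := fun f x => f (g⁻¹ * x * g)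
      invFun := fun f x => f (g * x * g⁻¹)
      left_inv := fun f => funext fun x => by simp [mul_assoc]
      right_inv := fun f => funext fun x => by simp [mul_assoc]
      map_mul' := fun _ _ => rfl }
  map_one' := MulEquiv.ext fun f => funext fun x => by simp
  map_mul' a b := MulEquiv.ext fun f => funext fun x => by simp [mul_assoc]

/-- Homomorphisms from `P` to `M` trivial on `K`, as functions on the whole group. -/
def dual (P K : Subgroup X) : Subgroup (X → M) where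
  carrier := {f | (∀ x, x ∉ P → f x = 1) ∧ (∀ x ∈ P, ∀ y ∈ P, f (x * y) = f x * f y) ∧
    ∀ x ∈ K, f x = 1}
  one_mem' := ⟨fun _ _ => rfl, fun _ _ _ _ => (mul_one _).symm, fun _ _ => rfl⟩
  mul_mem' := fun {f g} hf hg => ⟨fun x hx => by rw [Pi.mul_apply, hf.1 x hx, hg.1 x hx, mul_one],
    fun x hx y hy => by
      rw [Pi.mul_apply, Pi.mul_apply, Pi.mul_apply, hf.2.1 x hx y hy, hg.2.1 x hx y hy,
        mul_mul_mul_comm],
    fun x hx => by rw [Pi.mul_apply, hf.2.2 x hx, hg.2.2 x hx, mul_one]⟩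
  inv_mem' := fun {f} hf => ⟨fun x hx => by rw [Pi.inv_apply, hf.1 x hx, inv_one],
    fun x hx y hy => by
      rw [Pi.inv_apply, Pi.inv_apply, Pi.inv_apply, hf.2.1 x hx y hy, mul_inv],
    fun x hx => by rw [Pi.inv_apply, hf.2.2 x hx, inv_one]⟩

variable {M} {P K K' B : Subgroup X}

theorem cf_apply (g : X) (f : X → M) (x : X) : cf M g f x = f (g⁻¹ * x * g) := rfl

theorem dual_anti (h : K ≤ K') : dual M P K' ≤ dual M P K := fun _ hf =>
  ⟨hf.1, hf.2.1, fun x hx => hf.2.2 x (h hx)⟩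

theorem cf_mem {g : X} (hg : g ∈ 𝐍 P) (h : ∀ t ∈ K', g⁻¹ * t * g ∈ K) {f : X → M}
    (hf : f ∈ dual M P K) : cf M g f ∈ dual M P K' :=
  ⟨fun x hx => hf.1 _ fun h1 => hx (by
      have := conj_mem_of_mem_normalizer hg h1
      simpa [mul_assoc] using this),
    fun x hx y hy => by
      rw [cf_apply, cf_apply, cf_apply, ← hf.2.1 _ (inv_conj_mem_of_mem_normalizer hg hx) _
        (inv_conj_mem_of_mem_normalizer hg hy)]
      congr 1
      group,
    fun x hx => hf.2.2 _ (h x hx)⟩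

theorem inv_dual (hP : B ≤ 𝐍 P) (hK : B ≤ 𝐍 K) : Inv (cf M) B (dual M P K) := fun _ hb _ hf =>
  cf_mem (hP hb) (fun _ ht => inv_conj_mem_of_mem_normalizer (hK hb) ht) hf

theorem dual_le_fix (hP : B ≤ 𝐍 P) (h : ⁅P, B⁆ ≤ K) : dual M P K ≤ fix (cf M) B := by
  intro f hf b hb
  funext x
  rw [cf_apply]
  by_cases hx : x ∈ P
  · have h1 : ⁅x⁻¹, b⁻¹⁆ ∈ ⁅P, B⁆ := commutator_mem_commutator (inv_mem hx) (inv_mem hb)
    have := hf.2.1 x hx _ (commutator_le_left_of_le_normalizer hP h1)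
    rw [hf.2.2 _ (h h1), mul_one] at this
    rw [← this, commutatorElement_def]
    congr 1
    group
  · rw [hf.1 x hx]
    exact hf.1 _ fun h1 => hx (by
      have := conj_mem_of_mem_normalizer (hP hb) h1
      simpa [mul_assoc] using this)

/-- The kernel of an element of the dual. -/
def kerf {f : X → M} (hf : f ∈ dual M P K) : Subgroup X where
  carrier := {x | x ∈ P ∧ f x = 1}
  one_mem' := ⟨P.one_mem, hf.2.2 1 K.one_mem⟩
  mul_mem' := fun {a b} ha hb => ⟨P.mul_mem ha.1 hb.1, by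
    rw [hf.2.1 a ha.1 b hb.1, ha.2, hb.2, mul_one]⟩
  inv_mem' := fun {a} ha => ⟨P.inv_mem ha.1, by
    have := hf.2.1 a ha.1 _ (P.inv_mem ha.1)
    rwa [mul_inv_cancel, hf.2.2 1 K.one_mem, ha.2, one_mul, eq_comm] at this⟩

theorem mem_dual_sup (hK : K ≤ P) (hK' : K' ≤ P) {f : X → M} (hf : f ∈ dual M P K)
    (hf' : f ∈ dual M P K') : f ∈ dual M P (K ⊔ K') :=
  ⟨hf.1, hf.2.1, fun _ hx => (sup_le (c := kerf hf) (fun y hy => ⟨hK hy, hf.2.2 y hy⟩)
    (fun y hy => ⟨hK' hy, hf'.2.2 y hy⟩) hx).2⟩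

theorem mem_dual_comm (hP : B ≤ 𝐍 P) {f : X → M} (hf : f ∈ dual M P K)
    (h : f ∈ fix (cf M) B) : f ∈ dual M P ⁅P, B⁆ :=
  ⟨hf.1, hf.2.1, fun _ hx => ((commutator_le (H₃ := kerf hf)).2 (fun y hy b hb => by
    have h1 : b * y⁻¹ * b⁻¹ ∈ P := conj_mem_of_mem_normalizer (hP hb) (inv_mem hy)
    have e : ⁅y, b⁆ = y * (b * y⁻¹ * b⁻¹) := by rw [commutatorElement_def]; group
    have h2 := congrFun (h _ (inv_mem hb)) y⁻¹
    rw [cf_apply, inv_inv] at h2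
    rw [e]
    exact ⟨P.mul_mem hy h1, by
      rw [hf.2.1 y hy _ h1, h2, ← hf.2.1 y hy _ (inv_mem hy), mul_inv_cancel,
        hf.2.2 1 K.one_mem]⟩) hx).2⟩

theorem dual_eq_bot (h : P ≤ K) : dual M P K = ⊥ := eq_bot_iff.2 fun f hf => funext fun x => by
  by_cases hx : x ∈ P
  · exact hf.2.2 x (h hx)
  · exact hf.1 x hx

theorem dual_inf_fix (hP : B ≤ 𝐍 P) (h : P ≤ ⁅P, B⁆) : dual M P K ⊓ fix (cf M) B = ⊥ :=
  eq_bot_iff.2 fun _ hf => (dual_eq_bot (M := M) h).le (mem_dual_comm hP hf.1 hf.2)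

theorem exists_dual [Finite X] {p : ℕ} (hP : IsPGroup p P) (h1 : ⁅P, P⁆ ≤ K) (h2 : ¬ P ≤ K) :
    ∃ (M : Type u) (_ : CommGroup M) (_ : Finite M), IsPGroup p M ∧ dual M P K ≠ ⊥ := by
  classical
  let M := Abelianization P ⧸ (K.subgroupOf P).map Abelianization.of
  let f : P →* M := (QuotientGroup.mk' _).comp Abelianization.of
  have hf : Function.Surjective f :=
    (QuotientGroup.mk'_surjective _).comp (QuotientGroup.mk'_surjective _)
  have hk : ∀ x : P, f x = 1 ↔ (x : X) ∈ K := fun x => by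
    change QuotientGroup.mk' _ (Abelianization.of x) = 1 ↔ _
    rw [QuotientGroup.mk'_apply, QuotientGroup.eq_one_iff, ← mem_comap, comap_map_eq,
      Abelianization.ker_of, sup_eq_left.2, mem_subgroupOf]
    rw [← map_le_map_iff_of_injective P.subtype_injective, map_subtype_commutator,
      subgroupOf_map_subtype]
    exact le_inf h1 (commutator_le_left_of_le_normalizer le_normalizer)
  obtain ⟨y, hy, hyK⟩ := SetLike.not_le_iff_exists.1 h2
  refine ⟨M, inferInstance, Finite.of_surjective f hf, hP.of_surjective f hf,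
    ne_bot_of_mem (u := fun x => if hx : x ∈ P then f ⟨x, hx⟩ else 1)
      ⟨fun x hx => dif_neg hx, fun x hx z hz => ?_, fun x hx => ?_⟩ fun h3 => hyK ?_⟩
  · simp only [dif_pos hx, dif_pos hz, dif_pos (P.mul_mem hx hz)]
    exact map_mul f ⟨x, hx⟩ ⟨z, hz⟩
  · by_cases hxP : x ∈ P
    · simp only [dif_pos hxP]; exact (hk _).2 hx
    · exact dif_neg hxP
  · have := congrFun h3 y
    simp only [dif_pos hy] at this
    exact (hk _).1 this

theorem coprime_fun [Finite X] [Finite M] {p n : ℕ} [Fact p.Prime] (hM : IsPGroup p M)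
    (h : p.Coprime n) : (Nat.card (X → M)).Coprime n := by
  obtain ⟨k, hk⟩ := IsPGroup.iff_card.1 hM
  rw [Nat.card_fun, hk, ← pow_mul]
  exact h.pow_left _

theorem Small.inp [Finite X] {p : ℕ} {A D Φ T : Subgroup X} (h : Small A D P Φ T)
    (hP : IsPGroup p P) (hΦ : ⁅P, P⁆ ≤ Φ) (hD : D ≤ 𝐍 P) (hAP : A ≤ 𝐍 P) (hAD : A ≤ 𝐍 D)
    (hT : T ≤ P ⊓ 𝐂 A) :
    ∃ (M : Type u) (_ : CommGroup M) (_ : Finite M) (H : Subgroup X) (U₀ : Subgroup (X → M)),
      IsPGroup p M ∧ U₀ ≤ dual M P Φ ∧ Inp (cf M) D A H (dual M P (⁅P, A⁆ ⊔ T)) U₀ := by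
  obtain ⟨H, K₀, h1, h2, h3, h4, h5, ⟨g, hg, h6⟩, h7⟩ := h
  obtain ⟨M, _, _, hM, h8⟩ := exists_dual hP (hΦ.trans h4) h5
  refine ⟨M, inferInstance, inferInstance, H ⊓ D, dual M P K₀, hM, dual_anti h4,
    le_normalizer_inf h1 hAD, h8, inv_dual (inf_le_right.trans hD) (inf_le_left.trans h2),
    inv_dual hAP h3, ⟨g, hg, fun h9 => h6 (h9.mono inf_le_left)⟩, fun g hg h9 u hu => ?_⟩
  have h10 := nm_mem (inv_dual hAP (le_normalizer_of_le_centralizer
    (le_centralizer_iff.1 (hT.trans inf_le_right))))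
    (cf_mem (hD hg) (h7 g hg fun h10 => h9 (h10.inf hAD hg)) hu)
  exact mem_dual_sup (commutator_le_left_of_le_normalizer hAP) (hT.trans inf_le_left)
    (mem_dual_comm hAP h10 (nm_mem_fix _ _)) h10

theorem dual_le_fix' [Finite X] {p : ℕ} [Fact p.Prime] {A T : Subgroup X} (hP : IsPGroup p P)
    (hAP : A ≤ 𝐍 P) (c : (Nat.card A).Coprime (Nat.card P)) (hB : B ≤ 𝐍 P) (hBA : B ≤ 𝐂 A)
    (h : ⁅P ⊓ 𝐂 A, B⁆ ≤ T) : dual M P (⁅P, A⁆ ⊔ T) ≤ fix (cf M) B := by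
  refine dual_le_fix hB (commutator_le.2 fun x hx b hb => ?_)
  rw [← Coprime.commutator_sup_centralizer hAP c
    (Or.inr (Coprime.isSolvable_of_isPGroup hP))] at hx
  obtain ⟨y, hy, z, hz, rfl⟩ := (mem_sup_of_le_normalizer
    (inf_le_left.trans (left_le_normalizer_commutator P A))).1 hx
  have := mul_mem (mul_mem (mem_sup_left (T := T) hy)
    (mem_sup_right (h (commutator_mem_commutator hz hb)))) (mem_sup_left
      (conj_mem_of_mem_normalizer (le_normalizer_commutator hB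
        (hBA.trans (centralizer_le_normalizer _)) hb) (inv_mem hy)))
  convert this using 1
  simp only [commutatorElement_def]; group

end dual

end Cfsg.Lib.Solv.Tur
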