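import Cfsg.Agent.Solv.TurMod

/-! # Turull's theorem, part 6: maximal kernels -/

set_option autoImplicit false

namespace Cfsg.Lib.Solv.Tur

open Subgroup Cfsg.Lib.Solv Cfsg.Lib.FT Cfsg.Lib.Solv.FH Cfsg.Lib.Solv.Act
open scoped Pointwise commutatorElement

universe u

variable {Γ : Type u} {W : Type u} [Group Γ] [CommGroup W]

/-- Smallness of `T` at a level of a tower. -/
def Small (A D P Φ T : Subgroup Γ) : Prop :=
  ∃ H K₀ : Subgroup Γ, A ≤ 𝐍 H ∧ H ≤ 𝐍 K₀ ∧ A ≤ 𝐍 K₀ ∧ Φ ≤ K₀ ∧ ¬ P ≤ K₀ ∧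
    (∃ g ∈ D, ¬ Fx A H g) ∧ ∀ g ∈ D, ¬ Fx A H g → ∀ t ∈ T, g⁻¹ * t * g ∈ K₀

/-- A maximal normal subgroup of `P` with fixed points on `W₀`. -/
structure MaxK (φ : Γ →* MulAut W) (P : Subgroup Γ) (W₀ : Subgroup W) (K : Subgroup Γ) :
    Prop where
  le : K ≤ P
  nor : P ≤ 𝐍 K
  ne : W₀ ⊓ fix φ K ≠ ⊥
  max : ∀ K', K ≤ K' → K' ≤ P → P ≤ 𝐍 K' → W₀ ⊓ fix φ K' ≠ ⊥ → K' ≤ K

variable {φ : Γ →* MulAut W}

theorem ne_bot_of_mem {U : Subgroup W} {u : W} (hu : u ∈ U) (h1 : u ≠ 1) : U ≠ ⊥ :=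
  fun h => h1 (mem_bot.1 (h ▸ hu))

theorem exists_of_ne_bot {U : Subgroup W} (h : U ≠ ⊥) : ∃ u ∈ U, u ≠ 1 :=
  (U.bot_or_exists_ne_one).resolve_left h

theorem phi_ne_one {x : Γ} {u : W} (h : u ≠ 1) : φ x u ≠ 1 := fun h0 =>
  h ((φ x).injective (h0.trans (map_one _).symm))

theorem conj_le_normalizer {P K : Subgroup Γ} {x : Γ} (hx : x ∈ 𝐍 P) (h : P ≤ 𝐍 K) :
    P ≤ 𝐍 (MulAut.conj x • K) := by
  rw [← conj_smul_normalizer, ← conj_smul_eq_of_mem_normalizer hx]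
  exact conj_smul_mono x h

theorem conj_fix_ne {B K : Subgroup Γ} {W₀ : Subgroup W} (hW : Inv φ B W₀) {x : Γ} (hx : x ∈ B)
    (h : W₀ ⊓ fix φ K ≠ ⊥) : W₀ ⊓ fix φ (MulAut.conj x • K) ≠ ⊥ := by
  obtain ⟨u, hu, h1⟩ := exists_of_ne_bot h
  exact ne_bot_of_mem (u := φ x u) ⟨hW x hx u hu.1, fix_conj.2 hu.2⟩ (phi_ne_one h1)

theorem fix_sup {K K' : Subgroup Γ} {u : W} (h : u ∈ fix φ K) (h' : u ∈ fix φ K') :
    u ∈ fix φ (K ⊔ K') := fun x hx =>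
  (sup_le (c := cen φ (zpowers u))
    (fun y hy v hv => by
      obtain ⟨i, rfl⟩ := mem_zpowers_iff.1 hv; rw [map_zpow, h y hy])
    (fun y hy v hv => by
      obtain ⟨i, rfl⟩ := mem_zpowers_iff.1 hv; rw [map_zpow, h' y hy]) hx) u (mem_zpowers u)

namespace MaxK

variable {P K : Subgroup Γ} {W₀ : Subgroup W}

theorem conj (h : MaxK φ P W₀ K) {B : Subgroup Γ} (hB : B ≤ 𝐍 P) (hW : Inv φ B W₀) {x : Γ}
    (hx : x ∈ B) : MaxK φ P W₀ (MulAut.conj x • K) where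
  le := conj_smul_eq_of_mem_normalizer (hB hx) ▸ conj_smul_mono x h.le
  nor := conj_le_normalizer (hB hx) h.nor
  ne := conj_fix_ne hW hx h.ne
  max K' h1 h2 h3 h4 := by
    have := h.max (MulAut.conj x⁻¹ • K') (conj_smul_le_iff_le_conj_inv_smul.1 h1)
      (conj_smul_eq_of_mem_normalizer (hB (B.inv_mem hx)) ▸ conj_smul_mono x⁻¹ h2)
      (conj_le_normalizer (hB (B.inv_mem hx)) h3) (conj_fix_ne hW (B.inv_mem hx) h4)
    rwa [conj_smul_le_iff_le_conj_inv_smul, inv_inv] at this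

theorem le_of_fix (h : MaxK φ P W₀ K) {K' : Subgroup Γ} (h1 : K' ≤ P) (h2 : P ≤ 𝐍 K') {u : W}
    (hu : u ∈ W₀) (h3 : u ∈ fix φ K) (h4 : u ∈ fix φ K') (h5 : u ≠ 1) : K' ≤ K :=
  le_sup_right.trans (h.max (K ⊔ K') le_sup_left (sup_le h.le h1) (le_normalizer_sup h.nor h2)
    (ne_bot_of_mem ⟨hu, fix_sup h3 h4⟩ h5))

theorem mem_of_fixes [Finite Γ] (h : MaxK φ P W₀ K) {X : Subgroup W} (h0 : X ≠ ⊥)
    (hX : X ≤ W₀ ⊓ fix φ K) (hP : Inv φ P X) {t : Γ} (ht : t ∈ P) (h1 : ∀ u ∈ X, φ t u = u) :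
    t ∈ K := by
  obtain ⟨u, hu, hu1⟩ := exists_of_ne_bot h0
  refine h.le_of_fix (K' := P ⊓ cen φ X) inf_le_left (fun y hy => mem_normalizer_of_conj_mem
    fun z hz => ⟨P.mul_mem (P.mul_mem hy hz.1) (P.inv_mem hy), fun v hv => ?_⟩)
    (hX hu).1 (hX hu).2 (fun z hz => hz.2 u hu) hu1 ⟨ht, h1⟩
  rw [← phi_mul, ← phi_mul, hz.2 _ (hP _ (P.inv_mem hy) v hv), phi_mul, mul_inv_cancel, phi_one]

end MaxK

theorem exists_maxK [Finite Γ] (P : Subgroup Γ) {W₀ : Subgroup W} (h : W₀ ≠ ⊥) :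
    ∃ K, MaxK φ P W₀ K := by
  obtain ⟨K, hK, hmax⟩ := Set.Finite.exists_maximal
    (s := {K : Subgroup Γ | K ≤ P ∧ P ≤ 𝐍 K ∧ W₀ ⊓ fix φ K ≠ ⊥}) (Set.toFinite _)
    ⟨⊥, bot_le, le_normalizer_of_normal, by
      obtain ⟨u, hu, h1⟩ := exists_of_ne_bot h
      exact ne_bot_of_mem ⟨hu, fun b hb => by rw [mem_bot.1 hb, phi_one]⟩ h1⟩
  exact ⟨K, hK.1, hK.2.1, hK.2.2, fun K' h1 h2 h3 h4 => hmax ⟨h2, h3, h4⟩ h1⟩

/-- The configuration of the inductive step. -/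
structure SLS (φ : Γ →* MulAut W) (p q : ℕ) (P S D A N T : Subgroup Γ) (W₀ : Subgroup W) :
    Prop where
  hP : IsPGroup p P
  hS : IsPGroup q S
  hA : (Nat.card A).Prime
  cSP : (Nat.card S).Coprime (Nat.card P)
  cA : (Nat.card A).Coprime (Nat.card (P ⊔ D : Subgroup Γ))
  cWP : (Nat.card W).Coprime (Nat.card P)
  cWA : (Nat.card W).Coprime (Nat.card A)
  DP : D ≤ 𝐍 P
  AP : A ≤ 𝐍 P
  AD : A ≤ 𝐍 D
  DS : D ≤ 𝐍 S
  AS : A ≤ 𝐍 S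
  SR : S ≤ ⁅D, A⁆
  SRA : S ≤ ⁅S, ⁅D, A⁆ ⊔ A⁆
  PS : ⁅P, S⁆ = P
  NP : N ≤ P
  GN : P ⊔ D ≤ 𝐍 N
  AN : A ≤ 𝐍 N
  cl : ⁅⁅P, P⁆, P⁆ ≤ N
  pow : ∀ x ∈ P, x ^ p ∈ ⁅P, P⁆ ⊔ N
  GW : Inv φ (P ⊔ D) W₀
  AW : Inv φ A W₀
  WN : W₀ ≤ fix φ N
  WP : W₀ ⊓ fix φ P = ⊥
  TP : T ≤ P ⊓ 𝐂 A
  CT : (P ⊔ D) ⊓ 𝐂 A ≤ 𝐍 T

/-- The property of a kernel which the argument establishes. -/
def Good (G A T K : Subgroup Γ) : Prop := (A ≤ 𝐍 K → ⁅G, A⁆ ≤ 𝐍 K) → T ≤ K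

namespace SLS

variable {p q : ℕ} {P S D A N T K : Subgroup Γ} {W₀ : Subgroup W}

theorem AG (h : SLS φ p q P S D A N T W₀) : A ≤ 𝐍 (P ⊔ D) := le_normalizer_sup h.AP h.AD

theorem GP (h : SLS φ p q P S D A N T W₀) : P ⊔ D ≤ 𝐍 P := sup_le le_normalizer h.DP

theorem cAP (h : SLS φ p q P S D A N T W₀) : (Nat.card A).Coprime (Nat.card P) :=
  h.cA.coprime_dvd_right (card_dvd_of_le le_sup_left)

theorem PW (h : SLS φ p q P S D A N T W₀) : Inv φ P W₀ := fun b hb => h.GW b (mem_sup_left hb)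

theorem N_le (h : SLS φ p q P S D A N T W₀) (hK : MaxK φ P W₀ K) : N ≤ K := by
  obtain ⟨u, hu, h1⟩ := exists_of_ne_bot hK.ne
  exact hK.le_of_fix h.NP (le_sup_left.trans h.GN) hu.1 hu.2 (h.WN hu.1) h1

variable [Finite Γ] [Finite W]

theorem GAW (h : SLS φ p q P S D A N T W₀) : Inv φ (P ⊔ D ⊔ A) W₀ := inv_sup h.GW h.AW

omit [Finite W] in
theorem not_le [Fact p.Prime] (h : SLS φ p q P S D A N T W₀) (hK : MaxK φ P W₀ K) :
    ¬ P ≤ K ⊔ (N ⊔ ⁅P, P⁆) := fun h1 => by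
  rw [← sup_assoc, sup_eq_left.2 (h.N_le hK)] at h1
  exact hK.ne (le_bot_iff.1 ((inf_le_inf_left _ (fix_anti
    (le_of_le_sup_der h.hP hK.le h1))).trans h.WP.le))

theorem le_of_not_inv (h : SLS φ p q P S D A N T W₀) (hK : MaxK φ P W₀ K) (hA : ¬ A ≤ 𝐍 K)
    {X : Subgroup W} (h0 : X ≠ ⊥) (hX : X ≤ W₀ ⊓ fix φ K) (hP : Inv φ P X)
    (hT : ∀ u ∈ X, nm φ A u ∈ fix φ T) : T ≤ K := by
  classical
  have := Fintype.ofFinite A
  have key : ∀ a : A, a ≠ 1 → ∀ t ∈ P, ∀ u ∈ X, nm φ K (φ t (φ a u)) = 1 := by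
    intro a ha t ht u hu
    by_contra h1
    have hK' := hK.conj h.AP h.AW a.2
    have h2 : φ t (φ a u) ∈ W₀ ⊓ fix φ (MulAut.conj (a : Γ) • K) :=
      inv_inf h.PW (inv_fix hK'.nor) t ht _ ⟨h.AW a a.2 u (hX hu).1, fix_conj.2 (hX hu).2⟩
    have h3 := nm_mem (K := K) (inv_inf (fun b hb => h.PW b (hK.le hb))
      (inv_fix (hK.le.trans hK'.nor))) h2
    have h4 := hK.le_of_fix hK'.le hK'.nor h3.1 (nm_mem_fix K _) h3.2 h1
    have h5 : (a : Γ) ∈ 𝐍 K := mem_normalizer_of_conj_mem (conj_smul_le_iff.1 h4)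
    exact hA ((eq_of_ne_bot_of_prime h.hA (zpowers_le.2 a.2)
      (zpowers_ne_bot.2 fun h6 => ha (Subtype.ext h6))).ge.trans (zpowers_le.2 h5))
  have key2 : ∀ t ∈ P, ∀ u ∈ X, nm φ K (φ t (nm φ A u)) = φ t u ^ Nat.card K := by
    intro t ht u hu
    rw [nm_apply A, map_prod, map_prod, Finset.prod_eq_single (1 : A) (fun a _ ha =>
      key a ha t ht u hu) (by simp), OneMemClass.coe_one, phi_one,
      nm_of_fix (hX (hP t ht u hu)).2]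
  intro t ht
  refine hK.mem_of_fixes h0 hX hP (h.TP ht).1 fun u hu => ?_
  have e := key2 t (h.TP ht).1 u hu
  rw [hT u hu t ht, ← phi_one φ (nm φ A u), key2 1 P.one_mem u hu, phi_one] at e
  exact ((h.cWP.coprime_dvd_right (card_dvd_of_le hK.le)).pow_left_bijective.1 e).symm

theorem le_of_inv [Fact p.Prime] [Fact q.Prime] (h : SLS φ p q P S D A N T W₀)
    (hK : MaxK φ P W₀ K) (hA : A ≤ 𝐍 K) (hR : ⁅D, A⁆ ≤ 𝐍 K)
    {X : Subgroup W} (h0 : X ≠ ⊥) (hX : X ≤ W₀ ⊓ fix φ K) (hP : Inv φ P X) (hAX : Inv φ A X)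
    (hT : X ⊓ fix φ A ≤ fix φ T) : T ≤ K := by
  have hD : ⁅D, A⁆ ≤ D := commutator_le_left_of_le_normalizer h.AD
  have cAD : (Nat.card A).Coprime (Nat.card D) :=
    h.cA.coprime_dvd_right (card_dvd_of_le le_sup_right)
  have hA' : (Nat.card (R φ A)).Prime := by rw [card_R]; exact h.hA
  have cAP : (Nat.card (R φ A)).Coprime (Nat.card (R φ P)) := by
    rw [card_R, card_R]; exact h.cAP
  have cUP : (Nat.card (L φ X)).Coprime (Nat.card (R φ P)) := by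
    rw [card_L, card_R]; exact h.cWP.coprime_dvd_left (card_subgroup_dvd_card X)
  have cUA : (Nat.card (L φ X)).Coprime (Nat.card (R φ A)) := by
    rw [card_L, card_R]; exact h.cWA.coprime_dvd_left (card_subgroup_dvd_card X)
  have hU : Group.IsSolvable (L φ X) := isSolvable_L.2 inferInstance
  have hKU : R φ K ≤ 𝐂 (L φ X) := R_le_centralizer_L.2 (hX.trans inf_le_right)
  have hmax : ∀ K', R φ K ≤ K' → K' ≤ R φ P → R φ P ≤ 𝐍 K' → L φ X ⊓ 𝐂 K' ≠ ⊥ →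
      K' ≤ R φ K := by
    intro K' h1 h2 h3 h4
    obtain ⟨K', h5, rfl⟩ := exists_R_eq h2
    rw [L_inf_centralizer_R, Ne, L_eq_bot_iff] at h4
    exact R_le_R.2 (hK.max K' (R_le_R.1 h1) h5 (R_le_normalizer_R.1 h3) fun h6 => h4
      (le_bot_iff.1 ((inf_le_inf_right _ (hX.trans inf_le_left)).trans h6.le)))
  have hcl : ⁅⁅R φ P, R φ P⁆, R φ P⁆ ≤ R φ K := by
    rw [← map_commutator, ← map_commutator]; exact R_le_R.2 (h.cl.trans (h.N_le hK))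
  have h1 := ne_amb (p := p) (q := q) (P := R φ P) (K := R φ K) (S := R φ S) (R := R φ ⁅D, A⁆)
    (A := R φ A) (U := L φ X) (isPGroup_R.2 h.hP) (isPGroup_R.2 h.hS) hA'
    (by rw [card_R, card_R]; exact h.cSP) cAP
    (by rw [card_R, card_R]; exact (cAD.coprime_dvd_right (card_dvd_of_le (h.SR.trans hD))).symm)
    cUP cUA hU (fun h2 => h0 (L_eq_bot_iff.1 h2)) (R_le_normalizer_L.2 hP)
    (R_le_normalizer_L.2 hAX) (R_le_R.2 hK.le) hKU (R_le_normalizer_R.2 hK.nor)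
    (fun h2 => h.not_le hK ((R_le_R.1 h2).trans le_sup_left)) hmax (R_le_normalizer_R.2 hR)
    (R_le_normalizer_R.2 (hD.trans h.DP)) (R_le_normalizer_R.2 (hD.trans h.DS))
    (by rw [← map_commutator]; exact R_le_R.2 (Coprime.commutator_commutator h.AD cAD).ge)
    (R_le_R.2 h.SR) (R_le_normalizer_R.2 hA) (R_le_normalizer_R.2 h.AP)
    (R_le_normalizer_R.2 h.AS) (by rw [← R_sup, ← map_commutator]; exact R_le_R.2 h.SRA)
    (by rw [← map_commutator, h.PS]) hcl (by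
      rintro _ ⟨x, hx, rfl⟩
      rw [← map_commutator, ← R_sup, ← map_pow]
      exact inr_mem_R.2 (sup_le_sup_left (h.N_le hK) _ (h.pow x hx)))
  refine R_le_R.1 (le_of_fix hA' cAP cUP cUA hU (R_le_normalizer_L.2 hP)
    (R_le_normalizer_L.2 hAX) (R_le_R.2 hK.le) hKU (R_le_normalizer_R.2 hK.nor) hmax
    (R_le_normalizer_R.2 hA) (R_le_normalizer_R.2 h.AP) hcl h1
    (le_inf (R_le_R.2 (h.TP.trans inf_le_left)) ?_) ?_)
  · rw [← commutator_eq_bot_iff_le_centralizer, ← map_commutator,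
      commutator_eq_bot_iff_le_centralizer.2 (h.TP.trans inf_le_right), Subgroup.map_bot]
  · rw [L_inf_centralizer_R]
    exact L_le_centralizer_R.2 hT

theorem good [Fact p.Prime] [Fact q.Prime] (h : SLS φ p q P S D A N T W₀)
    (hK : MaxK φ P W₀ K) {X : Subgroup W} (h0 : X ≠ ⊥) (hX : X ≤ W₀ ⊓ fix φ K) (hP : Inv φ P X)
    (hT : ∀ u ∈ X, nm φ A u ∈ fix φ T) : Good (P ⊔ D) A T K := by
  intro h1
  by_cases hA : A ≤ 𝐍 K
  · have h2 : X ≤ sp φ A X := le_sp A.one_mem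
    refine h.le_of_inv hK hA ((commutator_mono le_sup_right le_rfl).trans (h1 hA))
      (X := sp φ A X) (fun h3 => h0 (le_bot_iff.1 (h3 ▸ h2)))
      (sp_le fun a ha u hu => inv_inf h.AW (inv_fix hA) a ha u (hX hu))
      (fun y hy w hw => phi_sp y (fun a ha u hu => ?_) hw)
      (inv_sp' fun b hb a ha => A.mul_mem hb ha)
      (fix_le_of_nm h.cWA fun w hw => map_sp _ (fun a ha u hu => ?_) hw)
    · have := mem_sp (φ := φ) (X := A) ha (hP _ (inv_conj_mem_of_mem_normalizer (h.AP ha) hy) u hu)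
      rwa [phi_mul, ← mul_assoc, ← mul_assoc, mul_inv_cancel, one_mul] at this
    · have := isMulCommutative_of_prime h.hA
      rw [← phi_nm (le_centralizer A ha), nm_mem_fix A u a ha]
      exact hT u hu
  · exact h.le_of_not_inv hK hA h0 hX hP hT

end SLS

end Cfsg.Lib.Solv.Tur
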