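import Cfsg.Agent.Solv.TurBL
import Cfsg.Agent.Solv.ActionTransport

/-! # Turull's theorem, part 5: norm maps and the trace computation -/

set_option autoImplicit false

namespace Cfsg.Lib.Solv.Tur

open Subgroup Cfsg.Lib.Solv Cfsg.Lib.FT Cfsg.Lib.Solv.FH Cfsg.Lib.Solv.Act
open scoped Pointwise commutatorElement

universe u

theorem le_of_le_sup_der {G : Type*} [Group G] [Finite G] {p : ℕ} [Fact p.Prime]
    {P H : Subgroup G} (hP : IsPGroup p P) (hH : H ≤ P) (h : P ≤ H ⊔ ⁅P, P⁆) : P ≤ H := by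
  by_contra hne
  obtain ⟨M, h1, h2, -, h3, -⟩ := Coprime.exists_maximal_invariant (A := ⊥) hP.isNilpotent bot_le
    (lt_of_le_of_ne hH fun h0 => hne h0.ge) bot_le
  exact h2.not_ge (h.trans (sup_le h1 h3))

/-- The coset `g H` is fixed by `A`. -/
def Fx {Γ : Type*} [Group Γ] (A H : Subgroup Γ) (g : Γ) : Prop :=
  ∀ a ∈ A, g⁻¹ * (a * g * a⁻¹) ∈ H

variable {Γ : Type u} {W : Type u} [Group Γ] [CommGroup W] (φ : Γ →* MulAut W)

theorem phi_mul (a b : Γ) (w : W) : φ a (φ b w) = φ (a * b) w := by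
  rw [map_mul, MulAut.mul_apply]

theorem phi_one (w : W) : φ 1 w = w := by rw [map_one, MulAut.one_apply]

/-- The subgroup generated by the images of `U` under the elements of `X`. -/
def sp (X : Set Γ) (U : Subgroup W) : Subgroup W := closure {w | ∃ g ∈ X, ∃ u ∈ U, φ g u = w}

/-- The pointwise stabilizer. -/
def cen (U : Subgroup W) : Subgroup Γ where
  carrier := {g | ∀ u ∈ U, φ g u = u}
  one_mem' := fun u _ => phi_one φ u
  mul_mem' := fun ha hb u hu => by rw [← phi_mul, hb u hu, ha u hu]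
  inv_mem' := fun {a} ha u hu => by
    conv_lhs => rw [← ha u hu]
    rw [phi_mul, inv_mul_cancel, phi_one]

variable [Finite Γ]

/-- The norm map. -/
noncomputable def nm (K : Subgroup Γ) : W →* W :=
  haveI := Fintype.ofFinite K
  ∏ k : K, (φ k).toMonoidHom

variable {φ}

omit [Finite Γ] in
theorem mem_sp {X : Set Γ} {U : Subgroup W} {g : Γ} {u : W} (hg : g ∈ X) (hu : u ∈ U) :
    φ g u ∈ sp φ X U := subset_closure ⟨g, hg, u, hu, rfl⟩

omit [Finite Γ] in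
theorem sp_le {X : Set Γ} {U V : Subgroup W} (h : ∀ g ∈ X, ∀ u ∈ U, φ g u ∈ V) :
    sp φ X U ≤ V := (closure_le _).2 (by rintro _ ⟨g, hg, u, hu, rfl⟩; exact h g hg u hu)

omit [Finite Γ] in
theorem map_sp {X : Set Γ} {U V : Subgroup W} (f : W →* W)
    (h : ∀ g ∈ X, ∀ u ∈ U, f (φ g u) ∈ V) {w : W} (hw : w ∈ sp φ X U) : f w ∈ V :=
  sp_le (V := V.comap f) h hw

omit [Finite Γ] in
theorem phi_sp {X : Set Γ} {U V : Subgroup W} (x : Γ)
    (h : ∀ g ∈ X, ∀ u ∈ U, φ (x * g) u ∈ V) {w : W} (hw : w ∈ sp φ X U) : φ x w ∈ V :=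
  map_sp (φ x).toMonoidHom (fun g hg u hu => by
    have := h g hg u hu
    rwa [← phi_mul] at this) hw

omit [Finite Γ] in
theorem inv_sp {X : Set Γ} {U : Subgroup W} {B : Subgroup Γ} (hU : Inv φ B U)
    (hX : ∀ b ∈ B, ∀ g ∈ X, b * g * b⁻¹ ∈ X) : Inv φ B (sp φ X U) := fun b hb _ hw =>
  phi_sp b (fun g hg u hu => by
    have := mem_sp (φ := φ) (hX b hb g hg) (hU b hb u hu)
    rwa [phi_mul, inv_mul_cancel_right] at this) hw

omit [Finite Γ] in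
theorem inv_sp' {X : Set Γ} {U : Subgroup W} {B : Subgroup Γ}
    (hX : ∀ b ∈ B, ∀ g ∈ X, b * g ∈ X) : Inv φ B (sp φ X U) := fun b hb _ hw =>
  phi_sp b (fun g hg _ hu => mem_sp (hX b hb g hg) hu) hw

omit [Finite Γ] in
theorem le_sp {X : Set Γ} {U : Subgroup W} (h : (1 : Γ) ∈ X) : U ≤ sp φ X U := fun u hu =>
  phi_one φ u ▸ mem_sp h hu

omit [Finite Γ] in
theorem inv_inf {B : Subgroup Γ} {U V : Subgroup W} (hU : Inv φ B U) (hV : Inv φ B V) :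
    Inv φ B (U ⊓ V) := fun b hb w hw => ⟨hU b hb w hw.1, hV b hb w hw.2⟩

omit [Finite Γ] in
theorem inv_sup {B C : Subgroup Γ} {U : Subgroup W} [Finite Γ] [Finite W] (hB : Inv φ B U)
    (hC : Inv φ C U) : Inv φ (B ⊔ C) U :=
  R_le_normalizer_L.1 (by
    rw [R_sup]; exact sup_le (R_le_normalizer_L.2 hB) (R_le_normalizer_L.2 hC))

omit [Finite Γ] in
theorem fix_conj {K : Subgroup Γ} {x : Γ} {w : W} :
    φ x w ∈ fix φ (MulAut.conj x • K) ↔ w ∈ fix φ K := by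
  constructor
  · intro h k hk
    have := h _ (conj_mem_conj_smul x hk)
    rw [phi_mul, inv_mul_cancel_right, ← phi_mul] at this
    exact (φ x).injective this
  · intro h k hk
    have := h _ (mem_conj_smul.1 hk)
    conv_rhs => rw [← this]
    rw [phi_mul, phi_mul]
    congr 2
    group

omit [Finite Γ] in
theorem inv_fix {B K : Subgroup Γ} (h : B ≤ 𝐍 K) : Inv φ B (fix φ K) := fun b hb w hw => by
  rw [← conj_smul_eq_of_mem_normalizer (h hb)]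
  exact fix_conj.2 hw

theorem nm_apply (K : Subgroup Γ) [Fintype K] (w : W) : nm φ K w = ∏ k : K, φ k w := by
  rw [nm, MonoidHom.finset_prod_apply]
  convert rfl
  rfl

theorem nm_mem_fix (K : Subgroup Γ) (w : W) : nm φ K w ∈ fix φ K := fun b hb => by
  have := Fintype.ofFinite K
  rw [nm_apply, map_prod]
  exact Fintype.prod_equiv (Equiv.mulLeft (⟨b, hb⟩ : K)) _ _ fun y => phi_mul _ _ _ _

theorem nm_of_fix {K : Subgroup Γ} {w : W} (h : w ∈ fix φ K) : nm φ K w = w ^ Nat.card K := by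
  have := Fintype.ofFinite K
  rw [nm_apply, Finset.prod_congr (g := fun _ => w) rfl fun (k : K) _ => h k k.2, Finset.prod_const, Finset.card_univ,
    Nat.card_eq_fintype_card]

theorem nm_mem {K : Subgroup Γ} {U : Subgroup W} (h : Inv φ K U) {w : W} (hw : w ∈ U) :
    nm φ K w ∈ U := by
  have := Fintype.ofFinite K
  rw [nm_apply]
  exact U.prod_mem fun k _ => h k k.2 w hw

theorem phi_nm {K : Subgroup Γ} {x : Γ} (hx : x ∈ 𝐂 K) (w : W) :
    φ x (nm φ K w) = nm φ K (φ x w) := by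
  have := Fintype.ofFinite K
  rw [nm_apply, nm_apply, map_prod]
  exact Finset.prod_congr rfl fun k _ => by
    rw [phi_mul, phi_mul, mem_centralizer_iff.1 hx k k.2]

theorem mem_of_pow [Finite W] {U : Subgroup W} {w : W} {n : ℕ} (hn : (Nat.card W).Coprime n)
    (h : w ^ n ∈ U) : w ∈ U :=
  mem_of_pow_mem_of_coprime (hn.coprime_dvd_left (orderOf_dvd_natCard w)) h

theorem fix_le_of_nm [Finite W] {A : Subgroup Γ} (c : (Nat.card W).Coprime (Nat.card A))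
    {U F : Subgroup W} (h : ∀ u ∈ U, nm φ A u ∈ F) : U ⊓ fix φ A ≤ F := fun u hu =>
  mem_of_pow c (nm_of_fix hu.2 ▸ h u hu.1)

omit [Finite Γ] in
theorem Fx.of_mul {A H H' : Subgroup Γ} {g y : Γ} (hH : H ≤ H') (hA : A ≤ 𝐍 H') (hy : y ∈ H')
    (h : Fx A H (g * y)) : Fx A H' g := fun a ha => by
  have := H'.mul_mem (H'.mul_mem hy (hH (h a ha)))
    (H'.inv_mem (conj_mem_of_mem_normalizer (hA ha) hy))
  convert this using 1
  group

omit [Finite Γ] in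
theorem Fx.cent_mul {A H : Subgroup Γ} {g c : Γ} (hc : c ∈ 𝐂 A) :
    Fx A H (c * g) ↔ Fx A H g := by
  refine forall₂_congr fun a ha => ?_
  have e : (c * g)⁻¹ * (a * (c * g) * a⁻¹) = g⁻¹ * (a * g * a⁻¹) := by
    rw [← mul_assoc a, mem_centralizer_iff.1 hc a ha]; group
  rw [e]

omit [Finite Γ] in
theorem Fx.conj {A H : Subgroup Γ} [IsMulCommutative A] (hA : A ≤ 𝐍 H) {g b : Γ} (hb : b ∈ A)
    (h : Fx A H (b * g * b⁻¹)) : Fx A H g := by
  rw [mul_assoc, Fx.cent_mul (le_centralizer A hb)] at h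
  intro a ha
  have := inv_conj_mem_of_mem_normalizer (hA hb) (h a ha)
  have e : a⁻¹ * b = b * a⁻¹ := setLike_mul_comm (s := A) (A.inv_mem ha) hb
  have e2 : g⁻¹ * (a * g * a⁻¹) = b⁻¹ * ((g * b⁻¹)⁻¹ * (a * (g * b⁻¹) * a⁻¹)) * b := by
    calc _ = g⁻¹ * a * g * b⁻¹ * (b * a⁻¹) := by group
      _ = _ := by rw [← e]; group
  rwa [e2]

theorem Fx.exists {A H : Subgroup Γ} (hA : (Nat.card A).Prime) (hAH : A ≤ 𝐍 H)
    (c : (Nat.card A).Coprime (Nat.card H)) {g : Γ} (h : Fx A H g) :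
    ∃ y ∈ H, g * y ∈ 𝐂 A :=
  have := isMulCommutative_of_prime hA
  Coprime.exists_mul_mem_centralizer hAH c (Or.inl (Coprime.isSolvable_of_isMulCommutative A)) h

/-- A proper `A`-invariant normal subgroup `Q` of `P` containing `C_P(A)`. -/
structure PQ (P Q A : Subgroup Γ) : Prop where
  hA : (Nat.card A).Prime
  c : (Nat.card A).Coprime (Nat.card P)
  le : Q ≤ P
  nQ : P ≤ 𝐍 Q
  AQ : A ≤ 𝐍 Q
  AP : A ≤ 𝐍 P
  cf : P ⊓ 𝐂 A ≤ Q

namespace PQ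

variable {P Q A : Subgroup Γ}

theorem mem_of_fx (h : PQ P Q A) {y : Γ} (hy : y ∈ P) (h1 : Fx A Q y) : y ∈ Q := by
  obtain ⟨z, hz, h2⟩ := h1.exists h.hA h.AQ (Coprime.hcop_mono h.c le_rfl h.le)
  have := Q.mul_mem (h.cf ⟨P.mul_mem hy (h.le hz), h2⟩) (Q.inv_mem hz)
  rwa [mul_inv_cancel_right] at this

theorem mem_of_comm (h : PQ P Q A) {y a : Γ} (hy : y ∈ P) (ha : a ∈ A) (ha1 : a ≠ 1)
    (h1 : ⁅a, y⁆ ∈ Q) : y ∈ Q := by
  refine h.mem_of_fx hy fun b hb => ?_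
  obtain ⟨i, rfl⟩ := exists_nat_pow
    ((eq_of_ne_bot_of_prime h.hA (zpowers_le.2 ha) (zpowers_ne_bot.2 ha1)).ge hb)
  have := inv_conj_mem_of_mem_normalizer (h.nQ hy) (PG.commutator_pow_mem (h.AQ ha) h1 i)
  convert this using 1
  rw [commutatorElement_def]; group

theorem not_mem (h : PQ P Q A) {x y a : Γ} (hy : y ∈ P) (hyQ : y ∉ Q) (hxy : x * y ∈ Q)
    (ha : a ∈ A) (ha1 : a ≠ 1) : x * (a * y * a⁻¹) ∉ Q := fun h1 => hyQ (by
  refine h.mem_of_comm hy ha ha1 ?_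
  have := conj_mem_of_mem_normalizer (h.nQ hy) (Q.mul_mem (Q.inv_mem hxy) h1)
  convert this using 1
  rw [commutatorElement_def]; group)

omit [Finite Γ] in
theorem inv_A (h : PQ P Q A) {U : Subgroup W} (hU : Inv φ A U) :
    Inv φ A (sp φ {y | y ∈ P ∧ y ∉ Q} U) :=
  inv_sp hU fun b hb g hg => ⟨conj_mem_of_mem_normalizer (h.AP hb) hg.1, fun h1 => hg.2 (by
    have := inv_conj_mem_of_mem_normalizer (h.AQ hb) h1
    simpa [mul_assoc] using this)⟩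

theorem nm_mem (h : PQ P Q A) {U : Subgroup W} (hU : Inv φ A U) {x y : Γ} (hx : x ∈ P)
    (hy : y ∈ P) (hxy : ∀ a ∈ A, x * (a * y * a⁻¹) ∉ Q) {u : W} (hu : u ∈ U) :
    φ x (nm φ A (φ y u)) ∈ sp φ {y | y ∈ P ∧ y ∉ Q} U := by
  have := Fintype.ofFinite A
  rw [nm_apply, map_prod]
  refine Subgroup.prod_mem _ fun a _ => ?_
  have := mem_sp (φ := φ) (X := {y | y ∈ P ∧ y ∉ Q})
    ⟨P.mul_mem hx (conj_mem_of_mem_normalizer (h.AP a.2) hy), hxy a a.2⟩ (hU a a.2 u hu)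
  rw [phi_mul] at this
  rw [phi_mul, phi_mul]
  convert this using 3
  group

theorem nm_split (h : PQ P Q A) {U : Subgroup W} (hU : Inv φ A U) {x y : Γ} (hx : x ∈ P)
    (hy : y ∈ P) (hyQ : y ∉ Q) (hxy : x * y ∈ Q) {u : W} (hu : u ∈ U) :
    ∃ w ∈ sp φ {y | y ∈ P ∧ y ∉ Q} U, φ x (nm φ A (φ y u)) = φ (x * y) u * w := by
  classical
  have := Fintype.ofFinite A
  rw [nm_apply, map_prod, ← Finset.mul_prod_erase _ _ (Finset.mem_univ (1 : A)),
    OneMemClass.coe_one, phi_one, phi_mul]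
  refine ⟨_, Subgroup.prod_mem _ fun a ha => ?_, rfl⟩
  have := mem_sp (φ := φ) (X := {y | y ∈ P ∧ y ∉ Q})
    ⟨P.mul_mem hx (conj_mem_of_mem_normalizer (h.AP a.2) hy), h.not_mem hy hyQ hxy a.2
      fun h0 => (Finset.mem_erase.1 ha).1 (Subtype.ext h0)⟩ (hU a a.2 u hu)
  rw [phi_mul] at this
  rw [phi_mul, phi_mul]
  convert this using 3
  group

theorem exists_pair (h : PQ P Q A) (hne : ¬ P ≤ Q) {S : Subgroup Γ} (hSP : S ≤ 𝐍 P)
    (hSA : S ≤ 𝐂 A) (cSA : (Nat.card S).Coprime (Nat.card A)) (hPS : P ≤ ⁅P, S⁆) :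
    ∃ g ∈ P, ∃ s ∈ S, s * g * s⁻¹ ∉ Q ∧ ∀ a ∈ A, g * (a * (s * g * s⁻¹)⁻¹ * a⁻¹) ∉ Q := by
  by_contra hcon
  push Not at hcon
  have hSQ : S ≤ 𝐍 Q := fun s hs => mem_normalizer_of_conj_mem fun g hg => by
    by_contra h1
    obtain ⟨a, ha, h2⟩ := hcon g (h.le hg) s hs h1
    have := Q.inv_mem (inv_conj_mem_of_mem_normalizer (h.AQ ha)
      ((Q.mul_mem_cancel_left hg).1 h2))
    exact h1 (by simpa [mul_assoc] using this)
  refine hne (hPS.trans (commutator_le.2 fun g hg s hs => ?_))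
  by_cases hgQ : g ∈ Q
  · exact commutator_le_left_of_le_normalizer hSQ (commutator_mem_commutator hgQ hs)
  obtain ⟨a, ha, h2⟩ := hcon g hg s hs fun h1 => hgQ (by
    have := inv_conj_mem_of_mem_normalizer (hSQ hs) h1
    simpa [mul_assoc] using this)
  have h3 : ⁅a * s, g⁆ ∈ Q := by
    have := Q.inv_mem h2
    convert this using 1
    rw [commutatorElement_def]; group
  by_cases ha1 : a = 1
  · rw [ha1, one_mul] at h3
    rw [← commutatorElement_inv]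
    exact Q.inv_mem h3
  have hc : Commute a s := mem_centralizer_iff.1 (hSA hs) a ha
  have h4 := PG.commutator_pow_mem (mul_mem (h.AQ ha) (hSQ hs)) h3 (orderOf s)
  rw [hc.mul_pow, pow_orderOf_eq_one, mul_one] at h4
  exact absurd (h.mem_of_comm hg (pow_mem ha _) (fun h0 => ha1 (orderOf_eq_one_iff.1
    (Nat.eq_one_of_dvd_coprimes cSA ((orderOf_dvd_of_pow_eq_one h0).trans
      (S.orderOf_dvd_natCard hs)) (A.orderOf_dvd_natCard ha)))) h4) hgQ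

/-- The trace computation at the first level. -/
theorem base [Finite W] (h : PQ P Q A) (hne : ¬ P ≤ Q) (c : (Nat.card W).Coprime (Nat.card A))
    {U F : Subgroup W} (hU : Inv φ A U) (hF : ∀ y ∈ P, y ∉ Q → ∀ u ∈ U, nm φ A (φ y u) ∈ F)
    (hS : F = ⊥ ∨ ∃ S : Subgroup Γ, S ≤ 𝐍 P ∧ S ≤ 𝐂 A ∧ (Nat.card S).Coprime (Nat.card A) ∧
      P ≤ ⁅P, S⁆ ∧ F ≤ fix φ S) {u : W} (hu : u ∈ U) : nm φ A u ∈ F := by
  have h1 : ∀ w ∈ sp φ {y | y ∈ P ∧ y ∉ Q} U, nm φ A w ∈ F := fun w hw =>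
    map_sp _ (fun y hy u hu => hF y hy.1 hy.2 u hu) hw
  rcases hS with rfl | ⟨S, hSP, hSA, cSA, hPS, hFS⟩
  · obtain ⟨y, hy, hyQ⟩ := SetLike.not_le_iff_exists.1 hne
    obtain ⟨w, hw, e⟩ := h.nm_split hU (P.inv_mem hy) hy hyQ (by simp) hu
    rw [mem_bot.1 (hF y hy hyQ u hu), map_one, inv_mul_cancel, phi_one] at e
    rw [eq_inv_of_mul_eq_one_left e.symm]
    exact h1 _ (inv_mem hw)
  obtain ⟨g, hg, s, hs, h2, h3⟩ := h.exists_pair hne hSP hSA cSA hPS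
  have hk : s * g * s⁻¹ ∈ P := conj_mem_of_mem_normalizer (hSP hs) hg
  have h2' : (s * g * s⁻¹)⁻¹ ∉ Q := fun h0 => h2 (inv_mem_iff.1 h0)
  have h4 := h.nm_mem hU hg (P.inv_mem hk) h3 hu
  obtain ⟨w, hw, e⟩ := h.nm_split hU hk (P.inv_mem hk) h2' (by simp) hu
  rw [mul_inv_cancel, phi_one] at e
  have h5 := hFS (hF _ (P.inv_mem hk) h2' u hu) s hs
  set x := nm φ A (φ (s * g * s⁻¹)⁻¹ u)
  have h6 := hFS (h1 _ h4) s hs
  have e2 : φ s (φ g x) = u * w := by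
    rw [← e]
    conv_rhs => rw [← h5]
    rw [phi_mul, phi_mul, inv_mul_cancel_right]
  rw [phi_nm (hSA hs), e2, map_mul] at h6
  have h7 : nm φ A u ∈ sp φ {y | y ∈ P ∧ y ∉ Q} U := by
    rw [eq_mul_inv_of_mul_eq h6]
    exact mul_mem (Tur.nm_mem (h.inv_A hU) h4) (inv_mem (Tur.nm_mem (h.inv_A hU) hw))
  exact mem_of_pow c (nm_of_fix (nm_mem_fix (φ := φ) A u) ▸ h1 _ h7)

/-- The trace computation at the later levels. -/
theorem step (h : PQ P Q A) (hne : ¬ P ≤ Q) {N T : Subgroup Γ} {U : Subgroup W}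
    (hU : Inv φ A U) (hUQ : Inv φ Q U) (hN : U ≤ fix φ N) (hcl : ⁅⁅P, P⁆, P⁆ ≤ N)
    (hT : T ≤ P ⊓ 𝐂 A) (hF : ∀ y ∈ P, y ∉ Q → ∀ u ∈ U, nm φ A (φ y u) ∈ fix φ T) :
    ∃ V ≤ sp φ {y | y ∈ P ∧ y ∉ Q} U, Inv φ P V ∧ Inv φ A V ∧
      ∀ t ∈ T, ∀ w ∈ sp φ P U, φ t w * w⁻¹ ∈ V := by
  set U₁ := sp φ {y | y ∈ P ∧ y ∉ Q} U with hU₁
  have hQ₁ : Inv φ Q U₁ := inv_sp' fun b hb g hg =>
    ⟨P.mul_mem (h.le hb) hg.1, fun h0 => hg.2 ((Q.mul_mem_cancel_left hb).1 h0)⟩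
  set V := sp φ P (U ⊓ U₁) with hV
  have hPV : Inv φ P V := inv_sp' fun b hb g hg => P.mul_mem hb hg
  refine ⟨V, sp_le fun x hx u hu => ?_, hPV, inv_sp (inv_inf hU (h.inv_A hU))
    fun b hb g hg => conj_mem_of_mem_normalizer (h.AP hb) hg, ?_⟩
  · by_cases hxQ : x ∈ Q
    · exact hQ₁ x hxQ u hu.2
    · exact mem_sp ⟨hx, hxQ⟩ hu.1
  let J : Subgroup Γ :=
    { carrier := {x | x ∈ P ∧ ∀ u ∈ U, φ x u * u⁻¹ ∈ V}
      one_mem' := ⟨P.one_mem, fun u _ => by rw [phi_one, mul_inv_cancel]; exact V.one_mem⟩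
      mul_mem' := fun {a b} ha hb => ⟨P.mul_mem ha.1 hb.1, fun u hu => by
        have := V.mul_mem (hPV a ha.1 _ (hb.2 u hu)) (ha.2 u hu)
        rwa [map_mul, map_inv, phi_mul, mul_assoc, inv_mul_cancel_left] at this⟩
      inv_mem' := fun {a} ha => ⟨P.inv_mem ha.1, fun u hu => by
        have := V.inv_mem (hPV _ (P.inv_mem ha.1) _ (ha.2 u hu))
        rwa [map_mul (φ a⁻¹), map_inv (φ a⁻¹), phi_mul, inv_mul_cancel, phi_one, mul_inv_rev,
          inv_inv] at this⟩ }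
  have hPP : ⁅P, P⁆ ≤ P := commutator_le_left_of_le_normalizer le_normalizer
  have hNJ : ∀ x ∈ ⁅P, P⁆, ∀ y ∈ P, ⁅x, y⁆ ∈ J := fun x hx y hy =>
    ⟨hPP (commutator_mem_commutator (hPP hx) hy), fun u hu => by
      rw [hN hu _ (hcl (commutator_mem_commutator hx hy)), mul_inv_cancel]; exact V.one_mem⟩
  intro t ht
  have htP : t ∈ P := (hT ht).1
  have htQ : t ∈ Q := h.cf (hT ht)
  have h1 : ∀ y ∈ P, y ∉ Q → y⁻¹ * t * y ∈ J := by
    intro y hy hyQ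
    have h2 : y⁻¹ * t * y ∈ Q := inv_conj_mem_of_mem_normalizer (h.nQ hy) htQ
    refine ⟨h.le h2, fun u hu => le_sp P.one_mem ⟨U.mul_mem (hUQ _ h2 u hu) (U.inv_mem hu), ?_⟩⟩
    obtain ⟨w, hw, e⟩ := h.nm_split hU (P.inv_mem hy) hy hyQ (by simp) hu
    obtain ⟨w', hw', e'⟩ := h.nm_split hU (P.inv_mem hy) (P.mul_mem htP hy)
      (fun h0 => hyQ ((Q.mul_mem_cancel_left htQ).1 h0)) (by rwa [← mul_assoc]) hu
    rw [← phi_mul φ t y, ← phi_nm (hT ht).2, hF y hy hyQ u hu t ht, e, inv_mul_cancel, phi_one,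
      ← mul_assoc] at e'
    have e3 : φ (y⁻¹ * t * y) u * u⁻¹ = w * w'⁻¹ := by
      rw [eq_mul_inv_of_mul_eq e'.symm, mul_assoc u, mul_comm u, mul_inv_cancel_right]
    rw [e3]
    exact U₁.mul_mem hw (U₁.inv_mem hw')
  have h2 : ∀ y ∈ P, ∀ z ∈ P, y ∉ Q → y * z ∉ Q → ⁅t⁻¹, z⁻¹⁆ ∈ J := by
    intro y hy z hz h3 h4
    have c1 : ⁅t⁻¹, y⁻¹⁆ ∈ ⁅P, P⁆ := commutator_mem_commutator (P.inv_mem htP) (P.inv_mem hy)
    have c2 : ⁅t⁻¹, z⁻¹⁆ ∈ ⁅P, P⁆ := commutator_mem_commutator (P.inv_mem htP) (P.inv_mem hz)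
    have := J.mul_mem (J.inv_mem (hNJ _ (inv_mem c1) _ (hPP c2)))
      (J.mul_mem (J.mul_mem (J.inv_mem (h1 y hy h3))
      (h1 _ (P.mul_mem hy hz) h4)) (J.inv_mem (hNJ _ (inv_mem c1) _ (P.inv_mem hz))))
    convert this using 1
    simp only [commutatorElement_def]; group
  obtain ⟨y, hy, hyQ⟩ := SetLike.not_le_iff_exists.1 hne
  obtain ⟨a, ha, ha1⟩ := (A.bot_or_exists_ne_one).resolve_left
    ((one_lt_card_iff_ne_bot A).1 h.hA.one_lt)
  have hya : a * y * a⁻¹ ∈ P := conj_mem_of_mem_normalizer (h.AP ha) hy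
  have h3 : y⁻¹ * (a * y * a⁻¹) ∉ Q := h.not_mem hy hyQ (by simp) ha ha1
  have h4 : y⁻¹ * (a * y * a⁻¹) ∈ P := P.mul_mem (P.inv_mem hy) hya
  have htJ : t ∈ J := by
    have := J.mul_mem (h1 _ h4 h3) (J.inv_mem (h2 y hy _ h4 hyQ (by
      rw [mul_inv_cancel_left]
      exact fun h0 => hyQ (by
        have := inv_conj_mem_of_mem_normalizer (h.AQ ha) h0
        simpa [mul_assoc] using this))))
    convert this using 1
    rw [commutatorElement_def]; group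
  have h5 : ∀ z ∈ P, z⁻¹ * t * z ∈ J := by
    intro z hz
    by_cases hzQ : z ∈ Q
    · have := J.mul_mem htJ (h2 y hy z hz hyQ fun h0 => hyQ ((Q.mul_mem_cancel_right hzQ).1 h0))
      convert this using 1
      rw [commutatorElement_def]; group
    · exact h1 z hz hzQ
  intro w hw
  refine map_sp ((φ t).toMonoidHom * (MonoidHom.id W)⁻¹) (fun z hz u hu => ?_) hw
  have := hPV z hz _ ((h5 z hz).2 u hu)
  rw [map_mul, map_inv, phi_mul, ← mul_assoc, ← mul_assoc, mul_inv_cancel, one_mul,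
    ← phi_mul] at this
  exact this

end PQ

end Cfsg.Lib.Solv.Tur
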