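import Cfsg.Agent.Solv.TurMax

/-! # Turull's theorem, part 7: the inductive step -/

set_option autoImplicit false

namespace Cfsg.Lib.Solv.Tur

open Subgroup Cfsg.Lib.Solv Cfsg.Lib.FT Cfsg.Lib.Solv.FH Cfsg.Lib.Solv.Act
open scoped Pointwise commutatorElement

universe u

variable {Γ : Type u} {W : Type u} [Group Γ] [CommGroup W] {φ : Γ →* MulAut W}

theorem Fx.mul_mem {A H : Subgroup Γ} {g y : Γ} (hA : A ≤ 𝐍 H) (hy : y ∈ H) (h : Fx A H g) :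
    Fx A H (g * y) :=
  Fx.of_mul le_rfl hA (H.inv_mem hy) (by rwa [mul_inv_cancel_right])

theorem Fx.of_cent {A H : Subgroup Γ} {c : Γ} (hc : c ∈ 𝐂 A) : Fx A H c := fun a ha => by
  rw [mem_centralizer_iff.1 hc a ha, mul_inv_cancel_right, inv_mul_cancel]; exact H.one_mem

theorem Fx.mono {A H H' : Subgroup Γ} {g : Γ} (h : H ≤ H') (hg : Fx A H g) : Fx A H' g :=
  fun a ha => h (hg a ha)

theorem Fx.inf {A H G : Subgroup Γ} {g : Γ} (hA : A ≤ 𝐍 G) (hg : g ∈ G) (h : Fx A H g) :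
    Fx A (H ⊓ G) g := fun a ha =>
  ⟨h a ha, G.mul_mem (G.inv_mem hg) (conj_mem_of_mem_normalizer (hA ha) hg)⟩

theorem comm_le_of_fx {A H G : Subgroup Γ} (h : ∀ g ∈ G, Fx A H g) : ⁅G, A⁆ ≤ H :=
  commutator_le.2 fun g hg a ha => by
    have := h _ (G.inv_mem hg) a ha
    rwa [inv_inv, ← mul_assoc, ← mul_assoc] at this

/-- `φ g U` meets the fixed points of `K`. -/
def Th (φ : Γ →* MulAut W) (U : Subgroup W) (g : Γ) (K : Subgroup Γ) : Prop :=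
  ∃ u ∈ U, u ≠ 1 ∧ φ g u ∈ fix φ K

theorem Th.left {U : Subgroup W} {g : Γ} {K : Subgroup Γ} (h : Th φ U g K) (x : Γ) :
    Th φ U (x * g) (MulAut.conj x • K) := by
  obtain ⟨u, hu, h1, h2⟩ := h
  exact ⟨u, hu, h1, phi_mul φ x g u ▸ fix_conj.2 h2⟩

theorem Th.right {U : Subgroup W} {g : Γ} {K B : Subgroup Γ} (h : Th φ U g K) (hB : Inv φ B U)
    {z : Γ} (hz : z ∈ B) : Th φ U (g * z) K := by
  obtain ⟨u, hu, h1, h2⟩ := h
  exact ⟨φ z⁻¹ u, hB _ (B.inv_mem hz) u hu, phi_ne_one h1, by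
    rwa [phi_mul, mul_inv_cancel_right]⟩

theorem inv_map {U : Subgroup W} {P : Subgroup Γ} (h : Inv φ P U) {g : Γ} (hg : g ∈ 𝐍 P) :
    Inv φ P (U.map (φ g).toMonoidHom) := by
  rintro y hy _ ⟨u, hu, rfl⟩
  refine ⟨_, h _ (inv_conj_mem_of_mem_normalizer hg hy) u hu, ?_⟩
  change φ g _ = φ y (φ g u)
  rw [phi_mul, phi_mul, ← mul_assoc, ← mul_assoc, mul_inv_cancel, one_mul]

theorem Good.conj {G A T K : Subgroup Γ} (h : Good G A T K) {c : Γ} (hG : c ∈ G) (hA : c ∈ 𝐂 A)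
    (hT : c ∈ 𝐍 T) : Good G A T (MulAut.conj c • K) := fun h1 => by
  have hA' : c ∈ 𝐍 A := centralizer_le_normalizer _ hA
  have hR : c ∈ 𝐍 ⁅G, A⁆ := left_le_normalizer_commutator G A hG
  rw [← conj_smul_eq_of_mem_normalizer hT]
  refine conj_smul_mono c (h fun h2 => ?_)
  have := conj_le_normalizer (inv_mem hR) (h1 (conj_le_normalizer hA' h2))
  rwa [conj_inv_smul_conj_smul] at this

namespace SLS

variable [Finite Γ] [Finite W] {p q : ℕ} [Fact p.Prime] {P S D A N T K : Subgroup Γ}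
  {W₀ : Subgroup W}

omit [Finite Γ] [Finite W] [Fact p.Prime] in
theorem GAP (h : SLS φ p q P S D A N T W₀) : P ⊔ D ⊔ A ≤ 𝐍 P := sup_le h.GP h.AP

omit [Fact p.Prime] in
theorem conj (h : SLS φ p q P S D A N T W₀) (hK : MaxK φ P W₀ K) {x : Γ} (hx : x ∈ P ⊔ D ⊔ A) :
    MaxK φ P W₀ (MulAut.conj x • K) := hK.conj h.GAP h.GAW hx

omit [Finite Γ] [Finite W] [Fact p.Prime] in
theorem exists_D (h : SLS φ p q P S D A N T W₀) {H : Subgroup Γ} (hA : A ≤ 𝐍 H) (hP : P ≤ H)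
    (h1 : ∃ g ∈ P ⊔ D, ¬ Fx A H g) : ∃ g ∈ D, ¬ Fx A H g := by
  obtain ⟨g, hg, h2⟩ := h1
  obtain ⟨d, hd, y, hy, rfl⟩ := (mem_sup_of_le_normalizer' h.DP).1 (sup_comm P D ▸ hg)
  exact ⟨d, hd, fun h3 => h2 (h3.mul_mem hA (hP hy))⟩

theorem small_of (h : SLS φ p q P S D A N T W₀) (hK : MaxK φ P W₀ K) {H : Subgroup Γ}
    (hA : A ≤ 𝐍 H) (hH : H ≤ P ⊔ D) {Z : Set Γ} {x₀ : Γ} (hx₀ : x₀ ∈ Z) (hx : x₀ ∈ P ⊔ D ⊔ A)
    (hZ : ∀ b ∈ H ⊔ A, ∀ x ∈ Z, b * x ∈ Z) (h1 : ∃ g ∈ D, ¬ Fx A H g)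
    (h2 : ∀ g ∈ D, ¬ Fx A H g → ∀ x ∈ Z, T ≤ MulAut.conj (g * x) • K) :
    Small A D P (N ⊔ ⁅P, P⁆) T := by
  set K₁ : Subgroup Γ := ⨅ x ∈ Z, MulAut.conj x • K with hK₁
  have hm : ∀ y, y ∈ K₁ ↔ ∀ x ∈ Z, x⁻¹ * y * x ∈ K := fun y => by
    simp only [hK₁, mem_iInf, mem_conj_smul]
  have h3 : H ⊔ A ≤ 𝐍 (K₁ ⊔ (N ⊔ ⁅P, P⁆)) := by
    refine le_normalizer_sup (fun b hb => mem_normalizer_of_conj_mem fun y hy =>
      (hm _).2 fun x hx => ?_) (le_normalizer_sup (sup_le (hH.trans h.GN) h.AN)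
        (le_normalizer_commutator ?_ ?_))
    · have := (hm y).1 hy _ (hZ _ (inv_mem hb) x hx)
      simpa [mul_assoc] using this
    all_goals exact sup_le (hH.trans h.GP) h.AP
  refine ⟨H, K₁ ⊔ (N ⊔ ⁅P, P⁆), hA, le_sup_left.trans h3, le_sup_right.trans h3, le_sup_right,
    fun h4 => h.not_le (h.conj hK hx) (h4.trans (sup_le_sup_right (iInf₂_le x₀ hx₀) _)), h1,
    fun g hg h4 t ht => mem_sup_left ((hm _).2 fun x hx => ?_)⟩
  have := mem_conj_smul.1 (h2 g hg h4 x hx ht)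
  simpa [mul_assoc] using this

theorem fin (h : SLS φ p q P S D A N T W₀) (hK : MaxK φ P W₀ K)
    (hg : ∀ x ∈ P ⊔ D ⊔ A, Good (P ⊔ D) A T (MulAut.conj x • K)) :
    Small A D P (N ⊔ ⁅P, P⁆) T := by
  by_cases hall : ∀ x ∈ P ⊔ D ⊔ A, T ≤ MulAut.conj x • K
  · refine h.small_of hK (H := ⊥) le_normalizer_of_normal bot_le (Z := (P ⊔ D ⊔ A : Subgroup Γ))
      (one_mem _) (one_mem _) (fun b hb x hx => mul_mem (mem_sup_right (by rwa [bot_sup_eq] at hb)) hx) ?_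
      fun g hg _ x hx => hall _ (mul_mem (mem_sup_left (mem_sup_right hg)) hx)
    by_contra h1
    push Not at h1
    have h2 : S = ⊥ := le_bot_iff.1 (h.SR.trans (comm_le_of_fx h1))
    refine h.not_le hK (h.PS.ge.trans ?_)
    rw [h2, commutator_bot_right]
    exact bot_le
  push Not at hall
  obtain ⟨x₀, hx₀, h1⟩ := hall
  have hK₀ := h.conj hK hx₀
  have h2 := hg x₀ hx₀
  set K₀ := MulAut.conj x₀ • K with hK₀def
  have h3 : A ≤ 𝐍 K₀ ∧ ¬ ⁅P ⊔ D, A⁆ ≤ 𝐍 K₀ := by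
    by_contra h3
    exact h1 (h2 fun h4 => by_contra fun h5 => h3 ⟨h4, h5⟩)
  have hAH : A ≤ 𝐍 (𝐍 K₀ ⊓ (P ⊔ D) : Subgroup Γ) :=
    le_normalizer_inf (h3.1.trans le_normalizer) h.AG
  refine h.small_of hK₀ hAH inf_le_right (Z := 𝐍 K₀) (one_mem _) (one_mem _)
    (fun b hb x hx => mul_mem (sup_le inf_le_left h3.1 hb) hx)
    (h.exists_D hAH (le_inf hK₀.nor le_sup_left) ?_) fun g hgD h4 x hx => ?_
  · by_contra h4
    push Not at h4
    exact h3.2 ((comm_le_of_fx h4).trans inf_le_left)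
  · have h5 := hg (g * x₀) (mul_mem (mem_sup_left (mem_sup_right hgD)) hx₀)
    rw [conj_mul_smul, ← hK₀def] at h5
    rw [conj_mul_smul, conj_smul_eq_of_mem_normalizer hx]
    refine h5 fun h6 => absurd (Fx.inf h.AG (mem_sup_right hgD) fun a ha => ?_) h4
    have h7 := h6 ha
    rw [← conj_smul_normalizer, mem_conj_smul] at h7
    have := mul_mem h7 (inv_mem (h3.1 ha))
    simpa [mul_assoc] using this

omit [Fact p.Prime] in
theorem exists_th (h : SLS φ p q P S D A N T W₀) (hK : MaxK φ P W₀ K) {U : Subgroup W}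
    (hU : Inv φ P U) (hW : W₀ ≤ sp φ (P ⊔ D : Subgroup Γ) U) : ∃ g ∈ P ⊔ D, Th φ U g K := by
  by_contra h1
  obtain ⟨w, hw, hw1⟩ := exists_of_ne_bot hK.ne
  have h2 : nm φ K w ∈ (⊥ : Subgroup W) := map_sp _ (fun g hg u hu => by
    obtain ⟨v, hv, e⟩ := nm_mem (K := K) (fun b hb => inv_map hU (h.GP hg) b (hK.le hb))
      (mem_map_of_mem (φ g).toMonoidHom hu)
    by_contra h3
    refine h1 ⟨g, hg, v, hv, fun h4 => h3 ?_, ?_⟩
    · change nm φ K ((φ g).toMonoidHom u) ∈ _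
      rw [← e, h4, map_one]; exact one_mem _
    · exact (show φ g v = nm φ K (φ g u) from e) ▸ nm_mem_fix K _) (hW hw.1)
  rw [nm_of_fix hw.2] at h2
  exact hw1 (mem_bot.1 (mem_of_pow (h.cWP.coprime_dvd_right (card_dvd_of_le hK.le)) h2))

end SLS

/-- The input of the inductive step. -/
structure Inp (φ : Γ →* MulAut W) [Finite Γ] (G A H : Subgroup Γ) (F U₀ : Subgroup W) :
    Prop where
  AH : A ≤ 𝐍 H
  ne : U₀ ≠ ⊥
  HU : Inv φ H U₀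
  AU : Inv φ A U₀
  ex : ∃ g ∈ G, ¬ Fx A H g
  hT : ∀ g ∈ G, ¬ Fx A H g → ∀ u ∈ U₀, nm φ A (φ g u) ∈ F

namespace SLS

variable [Finite Γ] [Finite W] {p q : ℕ} [Fact p.Prime] [Fact q.Prime]
  {P S D A N T K H : Subgroup Γ} {U₀ : Subgroup W}

theorem case1 (h : SLS φ p q P S D A N T (sp φ (P ⊔ D : Subgroup Γ) U₀))
    (i : Inp φ (P ⊔ D) A H (fix φ T) U₀) (hH : H ≤ P ⊔ D) (hex : ∃ g ∈ P ⊔ D, ¬ Fx A (P ⊔ H) g) :
    Small A D P (N ⊔ ⁅P, P⁆) T := by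
  have := isMulCommutative_of_prime h.hA
  set W₀ := sp φ (P ⊔ D : Subgroup Γ) U₀ with hW₀
  set U := sp φ P U₀ with hU
  have hAH : A ≤ 𝐍 (P ⊔ H) := le_normalizer_sup h.AP i.AH
  have hH' : P ⊔ H ≤ P ⊔ D := sup_le le_sup_left hH
  have hPU : Inv φ P U := inv_sp' fun b hb g hg => P.mul_mem hb hg
  have hHU : Inv φ (P ⊔ H) U := inv_sup hPU (inv_sp i.HU fun b hb g hg =>
    conj_mem_of_mem_normalizer (h.GP (hH hb)) hg)
  have hAU : Inv φ A U := inv_sp i.AU fun b hb g hg => conj_mem_of_mem_normalizer (h.AP hb) hg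
  have hUW : U ≤ W₀ := sp_le fun g hg u hu => mem_sp (mem_sup_left hg) hu
  have hWU : W₀ ≤ sp φ (P ⊔ D : Subgroup Γ) U := sp_le fun g hg u hu =>
    mem_sp hg (le_sp P.one_mem hu)
  have key : ∀ K, MaxK φ P W₀ K → ∀ g ∈ P ⊔ D, ¬ Fx A (P ⊔ H) g → Th φ U g K →
      Good (P ⊔ D) A T K := by
    rintro K hK g hg h1 ⟨u, hu, h2, h3⟩
    refine h.good hK (X := U.map (φ g).toMonoidHom ⊓ fix φ K)
      (ne_bot_of_mem ⟨mem_map_of_mem _ hu, h3⟩ (phi_ne_one h2))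
      (inf_le_inf_right _ (map_le_iff_le_comap.2 fun v hv => h.GW g hg v (hUW hv)))
      (inv_inf (inv_map hPU (h.GP hg)) (inv_fix hK.nor)) ?_
    rintro _ ⟨⟨v, hv, rfl⟩, -⟩
    refine map_sp ((nm φ A).comp (φ g).toMonoidHom) (fun y hy w hw => ?_) hv
    have := i.hT (g * y) (mul_mem hg (mem_sup_left hy))
      (fun h4 => h1 (h4.of_mul le_sup_right hAH (mem_sup_left hy))) w hw
    rwa [← phi_mul] at this
  obtain ⟨K, hK⟩ := exists_maxK (φ := φ) P (W₀ := W₀) fun h0 => i.ne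
    (le_bot_iff.1 (h0 ▸ le_sp (one_mem _)))
  by_cases h1 : ∀ g ∈ D, ¬ Fx A (P ⊔ H) g → ∀ x ∈ P ⊔ D ⊔ A, Th φ U 1 (MulAut.conj x • K) →
      T ≤ MulAut.conj (g * x) • K
  · obtain ⟨g, hg, h2⟩ := h.exists_th hK hPU hWU
    have h3 := h2.left g⁻¹
    rw [inv_mul_cancel] at h3
    refine h.small_of hK hAH hH' (Z := {x | x ∈ P ⊔ D ⊔ A ∧ Th φ U 1 (MulAut.conj x • K)})
      ⟨mem_sup_left (inv_mem hg), h3⟩ (mem_sup_left (inv_mem hg)) (fun b hb x hx => ⟨mul_mem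
        (sup_le_sup_right hH' _ hb) hx.1, ?_⟩) (h.exists_D hAH le_sup_left hex)
      fun g hg h4 x hx => h1 g hg h4 x hx.1 hx.2
    have := (hx.2.left b).right (inv_sup hHU hAU) (inv_mem hb)
    rwa [mul_one, mul_inv_cancel, ← conj_mul_smul] at this
  push Not at h1
  obtain ⟨g₀, hg₀, h1, x₀, hx₀, h2, h3⟩ := h1
  have hg₀' : g₀ ∈ P ⊔ D := mem_sup_right hg₀
  have hK₀ := h.conj hK (mul_mem (mem_sup_left hg₀') hx₀)
  replace h2 := h2.left g₀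
  rw [mul_one, ← conj_mul_smul] at h2
  set K₀ := MulAut.conj (g₀ * x₀) • K
  have h4 : A ≤ 𝐍 K₀ ∧ ¬ ⁅P ⊔ D, A⁆ ≤ 𝐍 K₀ := by
    by_contra h5
    exact h3 (key K₀ hK₀ g₀ hg₀' h1 h2 fun h4 => by_contra fun h6 => h5 ⟨h4, h6⟩)
  refine h.fin hK₀ fun x' hx' => ?_
  obtain ⟨x, hx, a₀, ha₀, rfl⟩ := (mem_sup_of_le_normalizer h.AG).1 hx'
  rw [conj_mul_smul, conj_smul_eq_of_mem_normalizer (h4.1 ha₀)]
  by_contra h5
  have hK' := h.conj hK₀ (mem_sup_left hx)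
  set Z : Set Γ := {g | g ∈ P ⊔ D ∧ Th φ U g K₀} with hZ
  have hZA : ∀ a ∈ A, ∀ g ∈ Z, a * g * a⁻¹ ∈ Z := fun a ha g hg =>
    ⟨conj_mem_of_mem_normalizer (h.AG ha) hg.1, by
      have := (hg.2.left a).right hAU (inv_mem ha)
      rwa [conj_smul_eq_of_mem_normalizer (h4.1 ha)] at this⟩
  set J : Subgroup Γ := MulAction.stabilizer Γ Z ⊓ (P ⊔ D) with hJ
  have hJm : ∀ s, s ∈ J ↔ (∀ g ∈ Z, s * g ∈ Z) ∧ s ∈ P ⊔ D := fun s => by
    rw [hJ, mem_inf, MulAction.mem_stabilizer_set_iff_smul_set_subset (Set.toFinite Z),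
      Set.smul_set_subset_iff_subset_inv_smul_set]
    exact and_congr_left fun _ => forall₂_congr fun g _ => Set.mem_inv_smul_set_iff
  have hAJ : A ≤ 𝐍 J := fun a ha => mem_normalizer_of_conj_mem fun s hs => (hJm _).2
    ⟨fun g hg => by
      have := hZA a ha _ (((hJm s).1 hs).1 _ (hZA _ (inv_mem ha) g hg))
      simpa [mul_assoc] using this,
    conj_mem_of_mem_normalizer (h.AG ha) ((hJm s).1 hs).2⟩
  have h6 : Fx A J x := fun a ha => (hJm _).2 ⟨fun g hg => by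
    have h7 := hZA _ (inv_mem ha) g hg
    have h8 := h7.2.left x
    have h9 : Fx A (P ⊔ H) (x * (a⁻¹ * g * a⁻¹⁻¹)) := by_contra fun h9 =>
      h5 (key _ hK' _ (mul_mem hx h7.1) h9 h8)
    have h10 := ((h8.right hHU (h9 a ha)).left x⁻¹)
    rw [conj_inv_smul_conj_smul] at h10
    refine ⟨mul_mem (mul_mem (inv_mem hx) (conj_mem_of_mem_normalizer (h.AG ha) hx)) hg.1, ?_⟩
    convert h10 using 1
    group, mul_mem (inv_mem hx) (conj_mem_of_mem_normalizer (h.AG ha) hx)⟩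
  obtain ⟨s, hs, h7⟩ := h6.exists h.hA hAJ (h.cA.coprime_dvd_right (card_dvd_of_le inf_le_right))
  have h8 := (((hJm s).1 hs).1 g₀ ⟨hg₀', h2⟩).2.left x
  refine h5 (key _ hK' _ (mul_mem hx (mul_mem ((hJm s).1 hs).2 hg₀')) (fun h9 => h1 ?_) h8)
  rwa [← mul_assoc, Fx.cent_mul h7] at h9

theorem case2 (h : SLS φ p q P S D A N T (sp φ (P ⊔ D : Subgroup Γ) U₀))
    (i : Inp φ (P ⊔ D) A H (fix φ T) U₀) (hH : H ≤ P ⊔ D) (hall : ∀ g ∈ P ⊔ D, Fx A (P ⊔ H) g) :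
    Small A D P (N ⊔ ⁅P, P⁆) T := by
  set W₀ := sp φ (P ⊔ D : Subgroup Γ) U₀ with hW₀
  set U := sp φ P U₀ with hU
  have hAH : A ≤ 𝐍 (P ⊔ H) := le_normalizer_sup h.AP i.AH
  have hH' : P ⊔ H ≤ P ⊔ D := sup_le le_sup_left hH
  have hHP : H ≤ 𝐍 P := hH.trans h.GP
  have hPU : Inv φ P U := inv_sp' fun b hb g hg => P.mul_mem hb hg
  have hHU : Inv φ (P ⊔ H) U := inv_sup hPU (inv_sp i.HU fun b hb g hg =>
    conj_mem_of_mem_normalizer (h.GP (hH hb)) hg)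
  have hU₀ : U₀ ≤ U := le_sp P.one_mem
  have hUW : U ≤ W₀ := sp_le fun g hg u hu => mem_sp (mem_sup_left hg) hu
  have hWU : W₀ ≤ sp φ (P ⊔ D : Subgroup Γ) U := sp_le fun g hg u hu => mem_sp hg (hU₀ hu)
  have hPP : ⁅P, P⁆ ≤ P := commutator_le_left_of_le_normalizer le_normalizer
  have hdec : ∀ g ∈ P ⊔ D, ∃ c ∈ (P ⊔ D) ⊓ 𝐂 A, ∃ z ∈ P ⊔ H, g = c * z := fun g hg => by
    obtain ⟨z, hz, h1⟩ := (hall g hg).exists h.hA hAH
      (h.cA.coprime_dvd_right (card_dvd_of_le hH'))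
    exact ⟨_, ⟨mul_mem hg (hH' hz), h1⟩, _, inv_mem hz, (mul_inv_cancel_right _ _).symm⟩
  suffices key : ∀ K, MaxK φ P W₀ K → U ⊓ fix φ K ≠ ⊥ → Good (P ⊔ D) A T K by
    obtain ⟨K, hK⟩ := exists_maxK (φ := φ) P (W₀ := W₀) fun h0 => i.ne
      (le_bot_iff.1 (h0 ▸ le_sp (one_mem _)))
    refine h.fin hK fun x hx => ?_
    have hK' := h.conj hK hx
    obtain ⟨g, hg, h1⟩ := h.exists_th hK' hPU hWU
    obtain ⟨c, hc, z, hz, rfl⟩ := hdec g hg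
    obtain ⟨u, hu, h2, h3⟩ := (h1.right hHU (inv_mem hz)).left c⁻¹
    rw [mul_inv_cancel_right, inv_mul_cancel, phi_one] at h3
    have := (key _ (h.conj hK' (mem_sup_left (inv_mem hc.1))) (ne_bot_of_mem ⟨hu, h3⟩ h2)).conj
      hc.1 hc.2 (h.CT hc)
    rwa [conj_smul_conj_inv_smul] at this
  intro K hK h0
  set Q : Subgroup Γ := (H ⊓ P ⊔ (N ⊔ ⁅P, P⁆)) ⊔ P ⊓ 𝐂 A with hQ
  have hnor : ∀ X : Subgroup Γ, X ≤ P → ⁅P, P⁆ ≤ X → P ≤ 𝐍 X := fun X h1 h2 =>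
    le_normalizer_iff_commutator_le.2 ((commutator_mono h1 le_rfl).trans h2)
  have hQ₁P : H ⊓ P ⊔ (N ⊔ ⁅P, P⁆) ≤ P := sup_le inf_le_right (sup_le h.NP hPP)
  have hAQ₁ : A ≤ 𝐍 (H ⊓ P ⊔ (N ⊔ ⁅P, P⁆) : Subgroup Γ) := le_normalizer_sup
    (le_normalizer_inf i.AH h.AP) (le_normalizer_sup h.AN (le_normalizer_commutator h.AP h.AP))
  have hPQ₁ := hnor _ hQ₁P (le_sup_right.trans le_sup_right)
  have hfx : ∀ y ∈ P, Fx A H y → y ∈ Q := fun y hy h1 => by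
    obtain ⟨z, hz, h2⟩ := (h1.inf h.AP hy).exists h.hA (le_normalizer_inf i.AH h.AP)
      (h.cAP.coprime_dvd_right (card_dvd_of_le inf_le_right))
    have := Q.mul_mem (mem_sup_right ⟨P.mul_mem hy hz.2, h2⟩)
      (Q.inv_mem (mem_sup_left (mem_sup_left hz)))
    rwa [mul_inv_cancel_right] at this
  by_cases hPQ : P ≤ Q
  · have h1 : A ≤ commLe P (H ⊓ P ⊔ (N ⊔ ⁅P, P⁆)) := le_commLe_iff.2 ⟨hAQ₁, by
      rw [commutator_comm]
      refine (commutator_mono hPQ le_rfl).trans ((commutator_sup_left_le_of_le_normalizer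
        le_normalizer ((inf_le_left.trans hPQ₁)) (commutator_le_left_of_le_normalizer hAQ₁) ?_))
      rw [commutator_eq_bot_iff_le_centralizer.2 inf_le_right]
      exact bot_le⟩
    have h2 : P ⊔ H ≤ 𝐍 (commLe P (H ⊓ P ⊔ (N ⊔ ⁅P, P⁆))) := le_normalizer_commLe
      (sup_le le_normalizer hHP) (sup_le hPQ₁ (le_normalizer_sup (le_normalizer_inf le_normalizer
        hHP) (le_normalizer_sup (hH.trans h.GN) (le_normalizer_commutator hHP hHP))))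
    have h3 : ⁅D, A⁆ ≤ commLe P (H ⊓ P ⊔ (N ⊔ ⁅P, P⁆)) := comm_le_of_fx fun g hg => by
      obtain ⟨c, hc, z, hz, rfl⟩ := hdec g (mem_sup_right hg)
      rw [Fx.cent_mul hc.2]
      intro a ha
      have := mul_mem (inv_conj_mem_of_mem_normalizer (h2 hz) (h1 ha)) (inv_mem (h1 ha))
      simpa [mul_assoc] using this
    have h4 : P ≤ H ⊓ P ⊔ N := le_of_le_sup_der h.hP (sup_le inf_le_right h.NP) (by
      rw [sup_assoc]
      exact h.PS.ge.trans ((commutator_comm _ _).le.trans (le_commLe_iff.1 (h.SR.trans h3)).2))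
    have h5 : Inv φ P U₀ := fun y hy => inv_sup (B := H ⊓ P) (C := N)
      (fun b hb => i.HU b hb.1) (fun b hb u hu => by
        rwa [h.WN (hUW (hU₀ hu)) b hb]) y (h4 hy)
    have h6 : U ≤ U₀ := sp_le h5
    obtain ⟨g, hg, h7⟩ := i.ex
    obtain ⟨c, hc, z, hz, rfl⟩ := hdec g hg
    refine h.good hK h0 (inf_le_inf_right _ hUW) (inv_inf hPU (inv_fix hK.nor)) fun u hu => ?_
    have h8 := i.hT _ hg h7 _ (h6 (hHU _ (inv_mem hz) u hu.1))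
    rw [phi_mul, mul_inv_cancel_right, ← phi_nm hc.2] at h8
    have := inv_fix (φ := φ) h.CT _ (inv_mem hc) _ h8
    rwa [phi_mul, inv_mul_cancel, phi_one] at this
  have hQP : Q ≤ P := sup_le hQ₁P inf_le_left
  have hpq : PQ P Q A := ⟨h.hA, h.cAP, hQP, hnor _ hQP
    ((le_sup_right.trans le_sup_right).trans le_sup_left), le_normalizer_sup hAQ₁
    (le_normalizer_inf_centralizer h.AP le_normalizer), h.AP, le_sup_right⟩
  have h1 : sp φ Q U₀ ≤ U := sp_le fun g hg u hu => mem_sp (hQP hg) hu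
  have hF : ∀ y ∈ P, y ∉ Q → ∀ u ∈ sp φ Q U₀, nm φ A (φ y u) ∈ fix φ T := fun y hy hyQ u hu =>
    map_sp ((nm φ A).comp (φ y).toMonoidHom) (fun z hz w hw => by
      have := i.hT (y * z) (mem_sup_left (mul_mem hy (hQP hz))) (fun h2 => hyQ
        ((Q.mul_mem_cancel_right hz).1 (hfx _ (mul_mem hy (hQP hz)) h2))) w hw
      rwa [← phi_mul] at this) hu
  obtain ⟨V, hV, hPV, -, h2⟩ := hpq.step hPQ (U := sp φ Q U₀)
    (inv_sp i.AU fun b hb g hg => conj_mem_of_mem_normalizer (hpq.AQ hb) hg)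
    (inv_sp' fun b hb g hg => Q.mul_mem hb hg) ((h1.trans hUW).trans h.WN) h.cl h.TP hF
  by_cases h3 : V ⊓ fix φ K = ⊥
  · intro _ t ht
    refine hK.mem_of_fixes h0 (inf_le_inf_right _ hUW) (inv_inf hPU (inv_fix hK.nor))
      (h.TP ht).1 fun u hu => mul_inv_eq_one.1 (mem_bot.1 (h3 ▸ ⟨h2 t ht u ?_, (fix φ K).mul_mem
        (inv_fix hK.nor t (h.TP ht).1 u hu.2) ((fix φ K).inv_mem hu.2)⟩))
    exact sp_le (V := sp φ P (sp φ Q U₀)) (fun g hg v hv => mem_sp hg (le_sp Q.one_mem hv)) hu.1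
  · refine h.good hK h3 (inf_le_inf_right _ (hV.trans (sp_le fun g hg u hu =>
      hUW (hPU g hg.1 u (h1 hu))))) (inv_inf hPV (inv_fix hK.nor)) fun u hu =>
      map_sp _ (fun y hy v hv => hF y hy.1 hy.2 v hv) (hV hu.1)

theorem step {W₀ : Subgroup W} (h : SLS φ p q P S D A N T W₀)
    (i : Inp φ (P ⊔ D) A H (fix φ T) U₀) (hU : U₀ ≤ W₀) : Small A D P (N ⊔ ⁅P, P⁆) T := by
  have h1 : sp φ (P ⊔ D : Subgroup Γ) U₀ ≤ W₀ := sp_le fun g hg u hu => h.GW g hg u (hU hu)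
  have h' : SLS φ p q P S D A N T (sp φ (P ⊔ D : Subgroup Γ) U₀) :=
    { h with
      GW := inv_sp' fun b hb g hg => mul_mem hb hg
      AW := inv_sp i.AU fun b hb g hg => conj_mem_of_mem_normalizer (h.AG hb) hg
      WN := h1.trans h.WN
      WP := le_bot_iff.1 ((inf_le_inf_right _ h1).trans h.WP.le) }
  have i' : Inp φ (P ⊔ D) A (H ⊓ (P ⊔ D)) (fix φ T) U₀ :=
    { i with
      AH := le_normalizer_inf i.AH h.AG
      HU := fun b hb => i.HU b hb.1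
      ex := by
        obtain ⟨g, hg, h2⟩ := i.ex
        exact ⟨g, hg, fun h3 => h2 (h3.mono inf_le_left)⟩
      hT := fun g hg h2 => i.hT g hg fun h3 => h2 (h3.inf h.AG hg) }
  by_cases h2 : ∀ g ∈ P ⊔ D, Fx A (P ⊔ H ⊓ (P ⊔ D)) g
  · exact h'.case2 i' inf_le_right h2
  · push Not at h2
    exact h'.case1 i' inf_le_right h2

end SLS

end Cfsg.Lib.Solv.Tur
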